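import Cfsg.Agent.Helper25.BRDefs

/-!
# (EXPa) for S0999 / S4701: a non-identity `p`-regular element normalizing a Sylow `p`-subgroup
of order `p` which is its own centralizer fixes at most `n + 1` of the `1 + n p` Sylow
`p`-subgroups.
-/

set_option autoImplicit false
set_option linter.style.haveILetI false
set_option linter.unusedSectionVars false
set_option linter.unusedVariables false

namespace Cfsg.Agent.Helper41.BREXPa

open Cfsg Cfsg.Agent.Helper25.BR

universe u

variable {G : Type u} [Group G] [Finite G] {p : ℕ} [Fact p.Prime]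

/-- all Sylow subgroups have order `p` -/
theorem card_sylow_eq {P : Sylow p G} (hP : Nat.card P = p) (R : Sylow p G) : Nat.card R = p := by
  rw [Sylow.card_eq_multiplicity R, ← Sylow.card_eq_multiplicity P, hP]

/-- a non-identity element generates the Sylow subgroup of order `p` containing it -/
theorem zpowers_eq {Q : Sylow p G} (hQ : Nat.card Q = p) {c : G} (hc : c ∈ (Q : Subgroup G))
    (hc1 : c ≠ 1) : Subgroup.zpowers c = (Q : Subgroup G) := by
  have hp : p.Prime := Fact.out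
  have hle : Subgroup.zpowers c ≤ (Q : Subgroup G) := Subgroup.zpowers_le.mpr hc
  have hdvd : orderOf c ∣ p := by
    have := Subgroup.orderOf_dvd_natCard (Q : Subgroup G) hc
    rwa [hQ] at this
  have hord : orderOf c = p := by
    rcases (Nat.dvd_prime hp).mp hdvd with h | h
    · exact absurd (orderOf_eq_one_iff.mp h) hc1
    · exact h
  apply Subgroup.eq_of_le_of_card_ge hle
  rw [Nat.card_zpowers, hord, hQ]

/-- two Sylow subgroups of order `p` sharing a non-identity element are equal -/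
theorem sylow_eq_of_mem {Q R : Sylow p G} (hQ : Nat.card Q = p) (hR : Nat.card R = p) {c : G}
    (hcQ : c ∈ (Q : Subgroup G)) (hcR : c ∈ (R : Subgroup G)) (hc1 : c ≠ 1) : Q = R := by
  apply Sylow.ext
  rw [← zpowers_eq hQ hcQ hc1, zpowers_eq hR hcR hc1]

theorem mem_smul_iff (P : Sylow p G) (x v : G) :
    v ∈ ((x • P : Sylow p G) : Subgroup G) ↔ x⁻¹ * v * x ∈ (P : Subgroup G) := by
  rw [Sylow.smul_def, Sylow.pointwise_smul_def, Subgroup.mem_pointwise_smul_iff_inv_smul_mem,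
    ← map_inv, MulAut.smul_def, MulAut.conj_apply, inv_inv]

/-- an element commuting with a non-identity element of a Sylow subgroup lies in it -/
theorem mem_of_commute {P : Sylow p G} (hP : Nat.card P = p)
    (hcent : Subgroup.centralizer ((P : Subgroup G) : Set G) = (P : Subgroup G))
    (R : Sylow p G) {u g : G} (hu : u ∈ (R : Subgroup G)) (hu1 : u ≠ 1) (hgu : Commute g u) :
    g ∈ (R : Subgroup G) := by
  obtain ⟨x, rfl⟩ := MulAction.exists_smul_eq G P R
  rw [mem_smul_iff] at hu ⊢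
  have hu01 : x⁻¹ * u * x ≠ 1 := by
    intro h
    apply hu1
    have : u = x * (x⁻¹ * u * x) * x⁻¹ := by group
    rw [this, h]; group
  have hcomm : Commute (x⁻¹ * g * x) (x⁻¹ * u * x) := by
    unfold Commute SemiconjBy
    have h1 : g * u = u * g := hgu
    calc x⁻¹ * g * x * (x⁻¹ * u * x) = x⁻¹ * (g * u) * x := by group
      _ = x⁻¹ * (u * g) * x := by rw [h1]
      _ = x⁻¹ * u * x * (x⁻¹ * g * x) := by group
  have hz := zpowers_eq hP hu hu01
  rw [← hcent, Subgroup.mem_centralizer_iff]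
  intro v hv
  have hv' : v ∈ Subgroup.zpowers (x⁻¹ * u * x) := by rw [hz]; exact hv
  obtain ⟨k, rfl⟩ := Subgroup.mem_zpowers_iff.mp hv'
  exact ((hcomm.zpow_right k).eq).symm

/-- the key injectivity -/
theorem key_inj {P : Sylow p G} (hP : Nat.card P = p)
    (hcent : Subgroup.centralizer ((P : Subgroup G) : Set G) = (P : Subgroup G))
    {g : G} (hg1 : g ≠ 1) (hg : ¬ p ∣ orderOf g) {Q : Sylow p G} (hgQ : g • Q = Q)
    {R R' : Sylow p G} (hR : g • R = R) (hRQ : R ≠ Q) (hR' : g • R' = R')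
    {w : G} (hw : w ∈ (Q : Subgroup G)) (hwR : w • R = R') : w = 1 := by
  have hp : p.Prime := Fact.out
  have hQc := card_sylow_eq hP Q
  have hRc := card_sylow_eq hP R
  by_contra hw1
  -- `c = g⁻¹ w⁻¹ g w`
  have hgN : g ∈ Subgroup.normalizer ((Q : Subgroup G) : Set G) :=
    Sylow.smul_eq_iff_mem_normalizer.mp hgQ
  have hgN' : g⁻¹ ∈ Subgroup.normalizer ((Q : Subgroup G) : Set G) := inv_mem hgN
  have hcQ : g⁻¹ * w⁻¹ * g * w ∈ (Q : Subgroup G) := by
    have h1 : g⁻¹ * w⁻¹ * g⁻¹⁻¹ ∈ (Q : Subgroup G) :=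
      (Subgroup.mem_normalizer_iff.mp hgN' w⁻¹).mp (inv_mem hw)
    rw [inv_inv] at h1
    exact mul_mem h1 hw
  have hcR : (g⁻¹ * w⁻¹ * g * w) • R = R := by
    rw [mul_smul, hwR, mul_smul, hR', mul_smul, ← hwR, inv_smul_smul]
    conv_lhs => rw [← hR, inv_smul_smul]
  have hc1 : g⁻¹ * w⁻¹ * g * w = 1 := by
    by_contra hc
    have hcN : g⁻¹ * w⁻¹ * g * w ∈ Subgroup.normalizer ((R : Subgroup G) : Set G) :=
      Sylow.smul_eq_iff_mem_normalizer.mp hcR
    have h2 : g⁻¹ * w⁻¹ * g * w ∈ (Q : Subgroup G) ⊓ Subgroup.normalizer ((R : Subgroup G) : Set G) :=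
      ⟨hcQ, hcN⟩
    have h3 : g⁻¹ * w⁻¹ * g * w ∈ (Q : Subgroup G) ⊓ (R : Subgroup G) := by
      rw [← IsPGroup.inf_normalizer_sylow Q.isPGroup' R]; exact h2
    exact hRQ (sylow_eq_of_mem hQc hRc hcQ h3.2 hc).symm
  have hcomm : Commute g w := by
    unfold Commute SemiconjBy
    have : g * w = w * g * (g⁻¹ * w⁻¹ * g * w) := by group
    rw [this, hc1, mul_one]
  have hgQ' : g ∈ (Q : Subgroup G) := mem_of_commute hP hcent Q hw hw1 hcomm
  have hdvd : orderOf g ∣ p := by
    have := Subgroup.orderOf_dvd_natCard (Q : Subgroup G) hgQ'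
    rwa [hQc] at this
  rcases (Nat.dvd_prime hp).mp hdvd with h | h
  · exact hg1 (orderOf_eq_one_iff.mp h)
  · exact hg (h ▸ dvd_rfl)

/-- (EXPa) -/
theorem fx_le {G : Type u} [Group G] [Finite G] {p : ℕ} [Fact p.Prime] (P : Sylow p G)
    (hP : Nat.card P = p)
    (hcent : Subgroup.centralizer ((P : Subgroup G) : Set G) = (P : Subgroup G)) (n : ℕ)
    (hsyl : Nat.card (Sylow p G) = 1 + n * p) (g : G) (hg1 : g ≠ 1) (hg : ¬ p ∣ orderOf g)
    (hfp : HasFP p g) : fx p g ≤ n + 1 := by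
  have hp : p.Prime := Fact.out
  obtain ⟨Q, hgQ⟩ := hfp
  have hQc := card_sylow_eq hP Q
  set S : Set (Sylow p G) := MulAction.fixedBy (Sylow p G) g with hS
  have hfx : fx p g = S.ncard := by unfold fx; rw [Nat.card_coe_set_eq]
  have hQS : Q ∈ S := hgQ
  have hT : (S \ {Q}).ncard + 1 = S.ncard :=
    Set.ncard_sdiff_singleton_add_one hQS (Set.toFinite _)
  set U : Set G := ((Q : Subgroup G) : Set G) with hUdef
  have hU : U.ncard = p := by rw [← Nat.card_coe_set_eq]; exact hQc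
  let F : Sylow p G × G → Sylow p G := fun x => x.2 • x.1
  have hinj : Set.InjOn F ((S \ {Q}) ×ˢ U) := by
    rintro ⟨R, u⟩ ⟨⟨hR, hRQ⟩, hu⟩ ⟨R', u'⟩ ⟨⟨hR', hR'Q⟩, hu'⟩ h
    have h' : u • R = u' • R' := h
    have hw : (u'⁻¹ * u) • R = R' := by rw [mul_smul, h', inv_smul_smul]
    have hw1 := key_inj hP hcent hg1 hg hgQ hR hRQ hR' (mul_mem (inv_mem hu') hu) hw
    have huu : u' = u := by rw [inv_mul_eq_one] at hw1; exact hw1
    rw [hw1, one_smul] at hw
    rw [hw, huu]
  have himg : F '' ((S \ {Q}) ×ˢ U) ⊆ ({Q} : Set (Sylow p G))ᶜ := by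
    rintro _ ⟨⟨R, u⟩, ⟨⟨hR, hRQ⟩, hu⟩, rfl⟩
    intro hQ'
    apply hRQ
    have h1 : u • R = Q := hQ'
    have hu' : u⁻¹ • Q = Q :=
      Sylow.smul_eq_iff_mem_normalizer.mpr (Subgroup.le_normalizer (inv_mem hu))
    have h2 : R = u⁻¹ • Q := by rw [← h1, inv_smul_smul]
    rw [Set.mem_singleton_iff, h2, hu']
  have hcompl : (({Q} : Set (Sylow p G))ᶜ).ncard = n * p := by
    have := Set.ncard_add_ncard_compl ({Q} : Set (Sylow p G))
    rw [Set.ncard_singleton, hsyl] at this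
    omega
  have hle : (S \ {Q}).ncard * p ≤ n * p := by
    calc (S \ {Q}).ncard * p = ((S \ {Q}) ×ˢ U).ncard := by rw [Set.ncard_prod, hU]
      _ = (F '' ((S \ {Q}) ×ˢ U)).ncard := (hinj.ncard_image).symm
      _ ≤ (({Q} : Set (Sylow p G))ᶜ).ncard := Set.ncard_le_ncard himg (Set.toFinite _)
      _ = n * p := hcompl
  have := Nat.le_of_mul_le_mul_right hle hp.pos
  rw [hfx, ← hT]
  omega

end Cfsg.Agent.Helper41.BREXPa
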