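import Mathlib
import Cfsg.Agent.Helper1.MinDeg.Defs
import Cfsg.Agent.Helper1.MinDeg.CaseADefs

/-!
# (A2) for S2140: the algebraic closure properties of `SRel`
-/

set_option autoImplicit false
set_option linter.unusedSectionVars false

namespace Cfsg.Agent.Helper41.MinDeg

open Matrix Cfsg.Agent.Helper14.AutPSL Cfsg.Agent.Helper1.MinDeg

variable {F : Type*} [Field F] {n : ℕ}

/-- the matrix `1 + e0 aᵀ + b elᵀ + γ e0 elᵀ` -/
def Mx (i0 il : Fin n) (a b : Fin n → F) (γ : F) : Matrix (Fin n) (Fin n) F :=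
  1 + vecMulVec (Pi.single i0 1) a + vecMulVec b (Pi.single il 1) +
    γ • vecMulVec (Pi.single i0 (1 : F)) (Pi.single il (1 : F))

theorem el_dot_e0 {i0 il : Fin n} (h0l : i0 ≠ il) :
    (Pi.single il 1 : Fin n → F) ⬝ᵥ (Pi.single i0 1 : Fin n → F) = 0 := by
  rw [single_dotProduct, one_mul, Pi.single_eq_of_ne (Ne.symm h0l)]

theorem mid_dot_e0 {i0 il : Fin n} {a : Fin n → F} (ha : IsMid i0 il a) :
    a ⬝ᵥ (Pi.single i0 1 : Fin n → F) = 0 := by
  rw [dotProduct_single, mul_one, ha.1]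

theorem el_dot_mid {i0 il : Fin n} {b : Fin n → F} (hb : IsMid i0 il b) :
    (Pi.single il 1 : Fin n → F) ⬝ᵥ b = 0 := by
  rw [single_dotProduct, one_mul, hb.2]

theorem hel_coe (i0 il : Fin n) (h0l : i0 ≠ il) (a b : Fin n → F) (c : F) (ha : IsMid i0 il a)
    (hb : IsMid i0 il b) : (hel i0 il h0l a b c ha hb).1 = Mx i0 il a b (c + a ⬝ᵥ b) := by
  unfold hel Mx
  rw [Matrix.SpecialLinearGroup.coe_mul, tv_coe, tv_coe, Matrix.add_mul, Matrix.one_mul,
    Matrix.mul_add, Matrix.mul_one, vecMulVec_mul_vecMulVec, add_dotProduct, smul_dotProduct,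
    el_dot_mid hb, smul_zero, add_zero, vecMulVec_add, vecMulVec_smul, vecMulVec_smul, add_smul]
  abel

theorem Mx_mul {i0 il : Fin n} (h0l : i0 ≠ il) {a b a' b' : Fin n → F} (γ γ' : F)
    (ha : IsMid i0 il a) (hb' : IsMid i0 il b') :
    Mx i0 il a b γ * Mx i0 il a' b' γ' = Mx i0 il (a + a') (b + b') (γ + γ' + a ⬝ᵥ b') := by
  unfold Mx
  simp only [Matrix.add_mul, Matrix.mul_add, Matrix.one_mul, Matrix.mul_one, Matrix.smul_mul,
    Matrix.mul_smul, vecMulVec_mul_vecMulVec, mid_dot_e0 ha, el_dot_e0 h0l, el_dot_mid hb',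
    zero_smul, smul_zero, vecMulVec_zero, add_zero, vecMulVec_add, add_vecMulVec, vecMulVec_smul,
    add_smul]
  abel

theorem Mx_zero (i0 il : Fin n) : Mx i0 il (0 : Fin n → F) 0 0 = 1 := by
  unfold Mx
  rw [vecMulVec_zero, zero_vecMulVec, zero_smul, add_zero, add_zero, add_zero]

/-- membership of `K` -/
def InK (K : Subgroup (SpecialLinearGroup (Fin n) F)) (i0 il : Fin n) (a b : Fin n → F) (γ : F) :
    Prop := ∃ g ∈ K, g.1 = Mx i0 il a b γ

theorem sRel_iff (K : Subgroup (SpecialLinearGroup (Fin n) F)) (i0 il : Fin n) (h0l : i0 ≠ il)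
    (a b : Fin n → F) :
    SRel K i0 il h0l a b ↔ IsMid i0 il a ∧ IsMid i0 il b ∧ ∃ γ, InK K i0 il a b γ := by
  constructor
  · rintro ⟨ha, hb, c, hc⟩
    exact ⟨ha, hb, c + a ⬝ᵥ b, _, hc, hel_coe i0 il h0l a b c ha hb⟩
  · rintro ⟨ha, hb, γ, g, hg, hgγ⟩
    refine ⟨ha, hb, γ - a ⬝ᵥ b, ?_⟩
    have : hel i0 il h0l a b (γ - a ⬝ᵥ b) ha hb = g := by
      apply Subtype.ext
      rw [hel_coe, hgγ, sub_add_cancel]
    rw [this]; exact hg

theorem InK.mul {K : Subgroup (SpecialLinearGroup (Fin n) F)} {i0 il : Fin n} (h0l : i0 ≠ il)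
    {a b a' b' : Fin n → F} {γ γ' : F} (ha : IsMid i0 il a) (hb' : IsMid i0 il b')
    (h : InK K i0 il a b γ) (h' : InK K i0 il a' b' γ') :
    InK K i0 il (a + a') (b + b') (γ + γ' + a ⬝ᵥ b') := by
  obtain ⟨g, hg, hgγ⟩ := h
  obtain ⟨g', hg', hgγ'⟩ := h'
  refine ⟨g * g', mul_mem hg hg', ?_⟩
  rw [Matrix.SpecialLinearGroup.coe_mul, hgγ, hgγ', Mx_mul h0l γ γ' ha hb']

theorem InK.inv {K : Subgroup (SpecialLinearGroup (Fin n) F)} {i0 il : Fin n} (h0l : i0 ≠ il)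
    {a b : Fin n → F} {γ : F} (ha : IsMid i0 il a) (hb : IsMid i0 il b)
    (h : InK K i0 il a b γ) : InK K i0 il (-a) (-b) (a ⬝ᵥ b - γ) := by
  obtain ⟨g, hg, hgγ⟩ := h
  refine ⟨g⁻¹, inv_mem hg, ?_⟩
  have h1 : g.1 * Mx i0 il (-a) (-b) (a ⬝ᵥ b - γ) = 1 := by
    rw [hgγ, Mx_mul h0l _ _ ha hb.neg]
    have e1 : a + -a = 0 := add_neg_cancel a
    have e2 : b + -b = 0 := add_neg_cancel b
    have e3 : γ + (a ⬝ᵥ b - γ) + a ⬝ᵥ (-b) = 0 := by rw [dotProduct_neg]; ring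
    rw [e1, e2, e3, Mx_zero]
  calc (g⁻¹).1 = (g⁻¹).1 * (g.1 * Mx i0 il (-a) (-b) (a ⬝ᵥ b - γ)) := by rw [h1, Matrix.mul_one]
    _ = ((g⁻¹ * g).1) * Mx i0 il (-a) (-b) (a ⬝ᵥ b - γ) := by
        rw [Matrix.SpecialLinearGroup.coe_mul, Matrix.mul_assoc]
    _ = Mx i0 il (-a) (-b) (a ⬝ᵥ b - γ) := by
        rw [inv_mul_cancel, Matrix.SpecialLinearGroup.coe_one, Matrix.one_mul]

/-- the key uniqueness: an element `1 + β elᵀ + γ e0 elᵀ` of `K` is trivial -/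
theorem InK.zero_left {K : Subgroup (SpecialLinearGroup (Fin n) F)}
    (hK : ∀ x : Fin n → F, x ≠ 0 → K ⊓ Qc x = ⊥) {i0 il : Fin n} (h0l : i0 ≠ il)
    {β : Fin n → F} {γ : F} (hβ : IsMid i0 il β) (h : InK K i0 il 0 β γ) : β = 0 ∧ γ = 0 := by
  obtain ⟨g, hg, hgγ⟩ := h
  have hx : (Pi.single il 1 : Fin n → F) ⬝ᵥ (γ • (Pi.single i0 1 : Fin n → F) + β) = 0 := by
    rw [dotProduct_add, dotProduct_smul, el_dot_e0 h0l, smul_zero, el_dot_mid hβ, add_zero]
  have hgt : g = tv (γ • (Pi.single i0 1 : Fin n → F) + β) (Pi.single il 1) hx := by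
    apply Subtype.ext
    rw [hgγ, tv_coe]
    unfold Mx
    rw [vecMulVec_zero, add_zero, add_vecMulVec, smul_vecMulVec]
    abel
  have hx0 : γ • (Pi.single i0 1 : Fin n → F) + β = 0 := by
    by_contra hne
    have hmem : g ∈ K ⊓ Qc (γ • (Pi.single i0 1 : Fin n → F) + β) :=
      ⟨hg, by rw [hgt]; exact tv_mem_Qc _ _ _⟩
    rw [hK _ hne, Subgroup.mem_bot] at hmem
    rw [hmem] at hgt
    rcases (tv_eq_one_iff _ _ hx).mp hgt.symm with h1 | h1
    · exact hne h1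
    · have := congrFun h1 il
      rw [Pi.single_eq_same, Pi.zero_apply] at this
      exact one_ne_zero this
  have hγ : γ = 0 := by
    have := congrFun hx0 i0
    rw [Pi.add_apply, Pi.smul_apply, Pi.single_eq_same, hβ.1, add_zero, smul_eq_mul, mul_one,
      Pi.zero_apply] at this
    exact this
  refine ⟨?_, hγ⟩
  rw [hγ, zero_smul, zero_add] at hx0
  exact hx0

/-- uniqueness of `b` and `γ` -/
theorem InK.unique {K : Subgroup (SpecialLinearGroup (Fin n) F)}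
    (hK : ∀ x : Fin n → F, x ≠ 0 → K ⊓ Qc x = ⊥) {i0 il : Fin n} (h0l : i0 ≠ il)
    {a b b' : Fin n → F} {γ γ' : F} (ha : IsMid i0 il a) (hb : IsMid i0 il b)
    (hb' : IsMid i0 il b') (h : InK K i0 il a b γ) (h' : InK K i0 il a b' γ') :
    b = b' ∧ γ = γ' := by
  have h1 := (h.inv h0l ha hb).mul h0l ha.neg hb' h'
  have e1 : -a + a = 0 := neg_add_cancel a
  rw [e1] at h1
  obtain ⟨h2, h3⟩ := InK.zero_left hK h0l (hb.neg.add hb') h1
  have hbb : b = b' := by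
    have : b' = b := by rw [← sub_eq_zero, ← h2]; abel
    exact this.symm
  refine ⟨hbb, ?_⟩
  rw [← hbb, neg_dotProduct] at h3
  linear_combination -h3

/-- (A2) the algebraic closure properties of `SRel` (need only `K ∩ Qc x = 1`). -/
theorem SRel_props [Fintype F] (K : Subgroup (SpecialLinearGroup (Fin n) F)) (hK : ∀ x : Fin n → F, x ≠ 0 → K ⊓ Qc x = ⊥) (i0 il : Fin n) (h0l : i0 ≠ il) :
    (∀ a b b', SRel K i0 il h0l a b → SRel K i0 il h0l a b' → b = b') ∧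
    (∀ a, SRel K i0 il h0l a 0 → a = 0) ∧
    (∀ a b a' b', SRel K i0 il h0l a b → SRel K i0 il h0l a' b' →
      SRel K i0 il h0l (a + a') (b + b')) ∧
    (∀ a b, SRel K i0 il h0l a b → SRel K i0 il h0l (-a) (-b)) ∧
    (∀ a b a' b', SRel K i0 il h0l a b → SRel K i0 il h0l a' b' → a ⬝ᵥ b' = a' ⬝ᵥ b) ∧
    ((2 : F) = 0 → ∀ a b, SRel K i0 il h0l a b → a ⬝ᵥ b = 0) := by
  simp only [sRel_iff]
  refine ⟨?_, ?_, ?_, ?_, ?_, ?_⟩
  · rintro a b b' ⟨ha, hb, γ, h⟩ ⟨-, hb', γ', h'⟩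
    exact (InK.unique hK h0l ha hb hb' h h').1
  · rintro a ⟨ha, -, γ, g, hg, hgγ⟩
    have hx : (a + γ • (Pi.single il 1 : Fin n → F)) ⬝ᵥ (Pi.single i0 1 : Fin n → F) = 0 :=
      hel_aux1 h0l ha γ
    have hgt : g = tv (Pi.single i0 1) (a + γ • (Pi.single il 1 : Fin n → F)) hx := by
      apply Subtype.ext
      rw [hgγ, tv_coe]
      unfold Mx
      rw [zero_vecMulVec, add_zero, vecMulVec_add, vecMulVec_smul]
      abel
    have he0 : (Pi.single i0 1 : Fin n → F) ≠ 0 := by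
      intro h
      have := congrFun h i0
      rw [Pi.single_eq_same, Pi.zero_apply] at this
      exact one_ne_zero this
    have hmem : g ∈ K ⊓ Qc (Pi.single i0 1 : Fin n → F) :=
      ⟨hg, by rw [hgt]; exact tv_mem_Qc _ _ _⟩
    rw [hK _ he0, Subgroup.mem_bot] at hmem
    rw [hmem] at hgt
    rcases (tv_eq_one_iff _ _ hx).mp hgt.symm with h1 | h1
    · exact absurd h1 he0
    · ext k
      by_cases hk : k = il
      · rw [hk, ha.2, Pi.zero_apply]
      · have := congrFun h1 k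
        rw [Pi.add_apply, Pi.smul_apply, Pi.single_eq_of_ne hk, smul_zero, add_zero,
          Pi.zero_apply] at this
        rw [this, Pi.zero_apply]
  · rintro a b a' b' ⟨ha, hb, γ, h⟩ ⟨ha', hb', γ', h'⟩
    exact ⟨ha.add ha', hb.add hb', _, h.mul h0l ha hb' h'⟩
  · rintro a b ⟨ha, hb, γ, h⟩
    exact ⟨ha.neg, hb.neg, _, h.inv h0l ha hb⟩
  · rintro a b a' b' ⟨ha, hb, γ, h⟩ ⟨ha', hb', γ', h'⟩
    have h1 := h.mul h0l ha hb' h'
    have h2 := h'.mul h0l ha' hb h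
    rw [add_comm a' a, add_comm b' b] at h2
    have := (InK.unique hK h0l (ha.add ha') (hb.add hb') (hb.add hb') h1 h2).2
    linear_combination this
  · rintro h2 a b ⟨ha, hb, γ, h⟩
    have h1 := h.mul h0l ha hb h
    have ea : a + a = 0 := by rw [← two_smul F a, h2, zero_smul]
    have eb : b + b = 0 := by rw [← two_smul F b, h2, zero_smul]
    have eγ : γ + γ = 0 := by rw [← two_mul, h2, zero_mul]
    rw [ea, eb, eγ, zero_add] at h1
    exact (InK.zero_left hK h0l (IsMid.zero i0 il) h1).2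

end Cfsg.Agent.Helper41.MinDeg
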