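import Mathlib
import Cfsg.Agent.Helper52.PQDefs

/-!
Helper41: piece (FB) of helper52's S4306 (nonabelian `pq` acting fixed-point-freely):
the group `⟨σ, τ⟩` of a `FrobPair` has order `s t`, is solvable, and its subgroups are known.
-/

set_option autoImplicit false

namespace Cfsg.Agent.Helper41.PQ

open Subgroup Cfsg.Agent.Helper1.Shult Cfsg.Agent.Helper52.PQ

variable {H : Type*} [Group H] [Finite H]

section Basic

variable {s t : ℕ} {σ τ : H}

/-- `τ` normalizes `⟨σ⟩` -/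
theorem tau_mem_normalizer (h : FrobPair s t σ τ) : τ ∈ normalizer ((zpowers σ : Subgroup H) : Set H) := by
  apply mem_normalizer_fintype
  intro n hn
  obtain ⟨k, rfl⟩ := mem_zpowers_iff.mp hn
  have : τ * σ ^ k * τ⁻¹ = (τ * σ * τ⁻¹) ^ k := by
    rw [conj_zpow]
  rw [this]
  exact zpow_mem h.norm k

/-- `⟨σ, τ⟩` normalizes `⟨σ⟩` -/
theorem closure_le_normalizer (h : FrobPair s t σ τ) :
    closure ({σ, τ} : Set H) ≤ normalizer ((zpowers σ : Subgroup H) : Set H) := by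
  rw [closure_le]
  intro x hx
  rcases hx with rfl | rfl
  · exact le_normalizer (mem_zpowers x)
  · exact tau_mem_normalizer h

/-- `⟨σ⟩ ∩ ⟨τ⟩ = 1` -/
theorem disjoint_zpowers (h : FrobPair s t σ τ) : Disjoint (zpowers σ) (zpowers τ) := by
  rw [disjoint_iff]
  have hcard : Nat.card (zpowers τ) = t := by rw [Nat.card_zpowers, h.oτ]
  haveI : Fact t.Prime := ⟨h.ht⟩
  by_contra hne
  -- a nontrivial subgroup of `⟨τ⟩` is `⟨τ⟩`
  have hle : (zpowers σ ⊓ zpowers τ) ≤ zpowers τ := inf_le_right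
  have hdvd : Nat.card ↥(zpowers σ ⊓ zpowers τ) ∣ t := by
    rw [← hcard]
    exact card_dvd_of_le hle
  rcases (Nat.dvd_prime h.ht).mp hdvd with h1 | h1
  · exact hne (card_eq_one.mp h1)
  · have : zpowers σ ⊓ zpowers τ = zpowers τ := by
      apply eq_of_le_of_card_ge hle
      rw [h1, hcard]
    have hτ : τ ∈ zpowers σ := by
      have : τ ∈ zpowers σ ⊓ zpowers τ := by rw [this]; exact mem_zpowers τ
      exact this.1
    obtain ⟨k, hk⟩ := mem_zpowers_iff.mp hτ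
    apply h.ncomm
    rw [← hk, ← zpow_add_one, ← zpow_one_add, add_comm]

/-- every element of `⟨σ, τ⟩` is `x * y` with `x ∈ ⟨σ⟩`, `y ∈ ⟨τ⟩` -/
theorem exists_mul_of_mem_closure (h : FrobPair s t σ τ) (g : H) (hg : g ∈ closure ({σ, τ} : Set H)) :
    ∃ x ∈ zpowers σ, ∃ y ∈ zpowers τ, g = x * y := by
  have hN := tau_mem_normalizer h
  have hS : zpowers σ ⊔ zpowers τ = closure ({σ, τ} : Set H) := by
    rw [zpowers_eq_closure, zpowers_eq_closure, ← Subgroup.closure_union]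
    rfl
  have hle : zpowers τ ≤ normalizer ((zpowers σ : Subgroup H) : Set H) := by
    rw [zpowers_le]
    exact hN
  rw [← hS] at hg
  have hcoe := coe_mul_of_right_le_normalizer_left (zpowers σ) (zpowers τ) hle
  have : g ∈ ((zpowers σ ⊔ zpowers τ : Subgroup H) : Set H) := hg
  rw [hcoe] at this
  obtain ⟨x, hx, y, hy, rfl⟩ := Set.mem_mul.mp this
  exact ⟨x, hx, y, hy, rfl⟩

/-- a nontrivial element of `⟨g⟩`, `g` of prime order, generates `g` -/
theorem mem_zpowers_of_prime_order {g b : H} {p : ℕ} (hp : p.Prime) (hg : orderOf g = p)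
    (hb : b ∈ zpowers g) (hb1 : b ≠ 1) : g ∈ zpowers b := by
  haveI : Fact p.Prime := ⟨hp⟩
  have hcard : Nat.card (zpowers g) = p := by rw [Nat.card_zpowers, hg]
  have hne : (⟨b, hb⟩ : zpowers g) ≠ 1 := by
    intro e
    apply hb1
    exact congrArg Subtype.val e
  have := mem_zpowers_of_prime_card (G := zpowers g) hcard (g := ⟨b, hb⟩) (g' := ⟨g, mem_zpowers g⟩) hne
  obtain ⟨k, hk⟩ := mem_zpowers_iff.mp this
  refine mem_zpowers_iff.mpr ⟨k, ?_⟩
  have := congrArg Subtype.val hk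
  simpa using this

/-- the order of `⟨σ, τ⟩` -/
theorem frob_card_closure (h : FrobPair s t σ τ) :
    Nat.card (closure ({σ, τ} : Set H)) = s * t := by
  have hinj := mul_injective_of_disjoint (disjoint_zpowers h)
  have hσK : zpowers σ ≤ closure ({σ, τ} : Set H) := by
    rw [zpowers_le]; exact subset_closure (by simp)
  have hτK : zpowers τ ≤ closure ({σ, τ} : Set H) := by
    rw [zpowers_le]; exact subset_closure (by simp)
  let f : zpowers σ × zpowers τ → closure ({σ, τ} : Set H) :=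
    fun p => ⟨(p.1 : H) * (p.2 : H), mul_mem (hσK p.1.2) (hτK p.2.2)⟩
  have hf : Function.Bijective f := by
    constructor
    · intro p q hpq
      apply hinj
      exact congrArg Subtype.val hpq
    · rintro ⟨g, hg⟩
      obtain ⟨x, hx, y, hy, rfl⟩ := exists_mul_of_mem_closure h g hg
      exact ⟨(⟨x, hx⟩, ⟨y, hy⟩), rfl⟩
  rw [← Nat.card_congr (Equiv.ofBijective f hf), Nat.card_prod, Nat.card_zpowers, Nat.card_zpowers,
    h.oσ, h.oτ]

/-- `⟨σ, τ⟩` is solvable -/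
theorem frob_isSolvable_closure (h : FrobPair s t σ τ) :
    Group.IsSolvable (closure ({σ, τ} : Set H)) := by
  have hSK : zpowers σ ≤ closure ({σ, τ} : Set H) := by
    rw [zpowers_le]; exact subset_closure (by simp)
  haveI hn : ((zpowers σ).subgroupOf (closure ({σ, τ} : Set H))).Normal :=
    (normal_subgroupOf_iff_le_normalizer hSK).mpr (closure_le_normalizer h)
  have hcS : Nat.card ((zpowers σ).subgroupOf (closure ({σ, τ} : Set H))) = s := by
    rw [Nat.card_congr (subgroupOfEquivOfLe hSK).toEquiv, Nat.card_zpowers, h.oσ]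
  have hcQ : Nat.card (closure ({σ, τ} : Set H) ⧸
      (zpowers σ).subgroupOf (closure ({σ, τ} : Set H))) = t := by
    have := card_eq_card_quotient_mul_card_subgroup
      ((zpowers σ).subgroupOf (closure ({σ, τ} : Set H)))
    rw [frob_card_closure h, hcS, mul_comm s t] at this
    exact (Nat.eq_of_mul_eq_mul_right h.hs.pos this).symm
  haveI : Fact t.Prime := ⟨h.ht⟩
  haveI : IsCyclic (closure ({σ, τ} : Set H) ⧸
      (zpowers σ).subgroupOf (closure ({σ, τ} : Set H))) := isCyclic_of_prime_card hcQ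
  haveI : Group.IsSolvable (closure ({σ, τ} : Set H) ⧸
      (zpowers σ).subgroupOf (closure ({σ, τ} : Set H))) := by
    letI := IsCyclic.commGroup (α := closure ({σ, τ} : Set H) ⧸
      (zpowers σ).subgroupOf (closure ({σ, τ} : Set H)))
    infer_instance
  haveI : Group.IsSolvable ((zpowers σ).subgroupOf (closure ({σ, τ} : Set H))) := by
    apply Group.isSolvable_of_comm
    rintro ⟨⟨a, haK⟩, ha⟩ ⟨⟨b, hbK⟩, hb⟩
    have ha' : a ∈ zpowers σ := ha
    have hb' : b ∈ zpowers σ := hb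
    obtain ⟨i, rfl⟩ := mem_zpowers_iff.mp ha'
    obtain ⟨j, rfl⟩ := mem_zpowers_iff.mp hb'
    apply Subtype.ext
    apply Subtype.ext
    exact zpow_mul_comm σ i j
  exact (Group.isSolvable_iff_subgroup_quotient
    ((zpowers σ).subgroupOf (closure ({σ, τ} : Set H)))).mpr ⟨inferInstance, inferInstance⟩

/-- an element of `⟨σ, τ⟩` outside `⟨σ⟩` lies in some `⟨τ_i⟩` -/
theorem exists_mem_zpowers_conj (h : FrobPair s t σ τ) (b : H) (hb : b ∈ closure ({σ, τ} : Set H))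
    (hbS : b ∉ zpowers σ) : ∃ i : ℕ, b ∈ zpowers (σ ^ i * τ * (σ ^ i)⁻¹) := by
  obtain ⟨x, hx, y, hy, rfl⟩ := exists_mul_of_mem_closure h b hb
  have hy1 : y ≠ 1 := by
    rintro rfl
    apply hbS
    simpa using hx
  have hyN : y ∈ normalizer ((zpowers σ : Subgroup H) : Set H) :=
    (zpowers_le.mpr (tau_mem_normalizer h)) hy
  -- elements of `⟨σ⟩` commute
  have hcomm : ∀ a ∈ zpowers σ, ∀ c ∈ zpowers σ, a * c = c * a := by
    intro a ha c hc
    obtain ⟨i, rfl⟩ := mem_zpowers_iff.mp ha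
    obtain ⟨j, rfl⟩ := mem_zpowers_iff.mp hc
    exact zpow_mul_comm σ i j
  -- the map `z ↦ z⁻¹ (y z y⁻¹)` on `⟨σ⟩`
  let ψ : zpowers σ → zpowers σ := fun z =>
    ⟨(z : H)⁻¹ * (y * z * y⁻¹), mul_mem (inv_mem z.2) ((mem_normalizer_iff.mp hyN _).mp z.2)⟩
  have hψ : Function.Injective ψ := by
    intro z z' hzz
    have e : (z : H)⁻¹ * (y * z * y⁻¹) = (z' : H)⁻¹ * (y * z' * y⁻¹) := congrArg Subtype.val hzz
    -- `w = z z'⁻¹` commutes with `y`
    have hw : (z : H) * (z' : H)⁻¹ ∈ zpowers σ := mul_mem z.2 (inv_mem z'.2)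
    have ha : y * z * y⁻¹ ∈ zpowers σ := (mem_normalizer_iff.mp hyN _).mp z.2
    have ha' : y * z' * y⁻¹ ∈ zpowers σ := (mem_normalizer_iff.mp hyN _).mp z'.2
    have e2 : y * ((z : H) * (z' : H)⁻¹) * y⁻¹ = (z : H) * (z' : H)⁻¹ := by
      have e3 : y * ((z : H) * (z' : H)⁻¹) * y⁻¹ = (y * z * y⁻¹) * (y * z' * y⁻¹)⁻¹ := by group
      rw [e3]
      have e4 : y * z * y⁻¹ = (z : H) * ((z' : H)⁻¹ * (y * z' * y⁻¹)) := by
        rw [← e]; group
      rw [e4, mul_assoc, mul_assoc, mul_inv_cancel, mul_one]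
    by_contra hne
    have hw1 : (z : H) * (z' : H)⁻¹ ≠ 1 := by
      intro e5
      apply hne
      apply Subtype.ext
      exact mul_inv_eq_one.mp e5
    -- `σ` is a power of `w`, `τ` is a power of `y`
    have hσw := mem_zpowers_of_prime_order h.hs h.oσ hw hw1
    have hτy := mem_zpowers_of_prime_order h.ht h.oτ hy hy1
    obtain ⟨i, hi⟩ := mem_zpowers_iff.mp hσw
    obtain ⟨j, hj⟩ := mem_zpowers_iff.mp hτy
    have hcw : Commute y ((z : H) * (z' : H)⁻¹) := by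
      have : y * ((z : H) * (z' : H)⁻¹) = (z : H) * (z' : H)⁻¹ * y := by
        calc y * ((z : H) * (z' : H)⁻¹) = y * ((z : H) * (z' : H)⁻¹) * y⁻¹ * y := by group
          _ = (z : H) * (z' : H)⁻¹ * y := by rw [e2]
      exact this
    have : Commute τ σ := by
      rw [← hi, ← hj]
      exact (hcw.zpow_left j).zpow_right i
    exact h.ncomm this
  have hψs : Function.Surjective ψ := Finite.injective_iff_surjective.mp hψ
  obtain ⟨z, hz⟩ := hψs ⟨x, hx⟩
  have hz' : (z : H)⁻¹ * (y * z * y⁻¹) = x := congrArg Subtype.val hz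
  -- `z (x y) z⁻¹ = y`
  obtain ⟨i, hi⟩ : ∃ i : ℕ, σ ^ i = (z : H)⁻¹ := by
    have : (z : H)⁻¹ ∈ Submonoid.powers σ := mem_powers_iff_mem_zpowers.mpr (inv_mem z.2)
    exact Submonoid.mem_powers_iff _ _ |>.mp this
  obtain ⟨m, hm⟩ := mem_zpowers_iff.mp hy
  refine ⟨i, mem_zpowers_iff.mpr ⟨m, ?_⟩⟩
  rw [hi, conj_zpow, hm, inv_inv, ← hz']
  group

/-- every subgroup of `⟨σ, τ⟩` contains `σ`, or is trivial, or is some `⟨τ_i⟩`. -/
theorem frob_subgroup_cases (h : FrobPair s t σ τ) (B : Subgroup H)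
    (hB : B ≤ closure ({σ, τ} : Set H)) :
    σ ∈ B ∨ B = ⊥ ∨ ∃ i : ℕ, B = zpowers (σ ^ i * τ * (σ ^ i)⁻¹) := by
  by_cases hσ : σ ∈ B
  · exact Or.inl hσ
  right
  rcases B.bot_or_exists_ne_one with hB1 | ⟨b, hbB, hb1⟩
  · exact Or.inl hB1
  right
  -- `B ∩ ⟨σ⟩ = 1`
  have hBS : ∀ c ∈ B, c ∈ zpowers σ → c = 1 := by
    intro c hcB hcS
    by_contra hc1
    have := mem_zpowers_of_prime_order h.hs h.oσ hcS hc1
    exact hσ ((zpowers_le.mpr hcB) this)
  -- each nonidentity element of `B` puts some `τ_i` in `B`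
  have hstep : ∀ c ∈ B, c ≠ 1 → ∃ i : ℕ, c ∈ zpowers (σ ^ i * τ * (σ ^ i)⁻¹) ∧
      σ ^ i * τ * (σ ^ i)⁻¹ ∈ B := by
    intro c hcB hc1
    have hcS : c ∉ zpowers σ := fun hh => hc1 (hBS c hcB hh)
    obtain ⟨i, hi⟩ := exists_mem_zpowers_conj h c (hB hcB) hcS
    refine ⟨i, hi, ?_⟩
    have ho : orderOf (σ ^ i * τ * (σ ^ i)⁻¹) = t := by
      rw [← h.oτ]
      exact ((SemiconjBy.conj_mk (σ ^ i) τ).orderOf_eq (σ ^ i)).symm
    have := mem_zpowers_of_prime_order h.ht ho hi hc1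
    exact (zpowers_le.mpr hcB) this
  obtain ⟨i, hi, hiB⟩ := hstep b hbB hb1
  refine ⟨i, le_antisymm ?_ (zpowers_le.mpr hiB)⟩
  intro c hcB
  by_cases hc1 : c = 1
  · rw [hc1]; exact one_mem _
  obtain ⟨i', hi', hi'B⟩ := hstep c hcB hc1
  -- `τ_i' τ_i⁻¹ ∈ B ∩ ⟨σ⟩`
  have hN := tau_mem_normalizer h
  have hmem : (σ ^ i' * τ * (σ ^ i')⁻¹) * (σ ^ i * τ * (σ ^ i)⁻¹)⁻¹ ∈ zpowers σ := by
    have e : (σ ^ i' * τ * (σ ^ i')⁻¹) * (σ ^ i * τ * (σ ^ i)⁻¹)⁻¹ =
        σ ^ i' * (τ * ((σ ^ i')⁻¹ * σ ^ i) * τ⁻¹) * (σ ^ i)⁻¹ := by group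
    rw [e]
    have h1 : (σ ^ i')⁻¹ * σ ^ i ∈ zpowers σ :=
      mul_mem (inv_mem (pow_mem (mem_zpowers σ) _)) (pow_mem (mem_zpowers σ) _)
    exact mul_mem (mul_mem (pow_mem (mem_zpowers σ) _) ((mem_normalizer_iff.mp hN _).mp h1))
      (inv_mem (pow_mem (mem_zpowers σ) _))
  have := hBS _ (mul_mem hi'B (inv_mem hiB)) hmem
  rw [mul_inv_eq_one] at this
  rw [← this]
  exact hi'

end Basic

end Cfsg.Agent.Helper41.PQ
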