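import Mathlib

set_option autoImplicit false

namespace Cfsg.Agent.Helper41

open Matrix Polynomial

variable {F : Type*} [Field F]

/-- The determinant condition of an element of `SL₂`, spelled out. -/
theorem sl2_det (A : Matrix.SpecialLinearGroup (Fin 2) F) :
    (A : Matrix (Fin 2) (Fin 2) F) 0 0 * (A : Matrix (Fin 2) (Fin 2) F) 1 1 -
      (A : Matrix (Fin 2) (Fin 2) F) 0 1 * (A : Matrix (Fin 2) (Fin 2) F) 1 0 = 1 := by
  have := A.det_coe
  rwa [Matrix.det_fin_two] at this

/-- Cayley–Hamilton for `SL₂`. -/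
theorem sl2_cayley_hamilton (A : Matrix.SpecialLinearGroup (Fin 2) F) :
    (A : Matrix (Fin 2) (Fin 2) F) * (A : Matrix (Fin 2) (Fin 2) F) =
      (Matrix.trace (A : Matrix (Fin 2) (Fin 2) F)) • (A : Matrix (Fin 2) (Fin 2) F) - 1 := by
  have hdet := sl2_det A
  rw [Matrix.trace_fin_two]
  ext i j
  fin_cases i <;> fin_cases j <;>
    simp [Matrix.mul_apply, Fin.sum_univ_two] <;>
    first | linear_combination hdet | linear_combination -hdet | ring

/-- An element of `SL₂` lies in the centre iff it is `±1`-scalar; we only need: scalar `r` with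
`r ^ 2 = 1` gives a central element. -/
theorem sl2_mem_center_of_eq_scalar (A : Matrix.SpecialLinearGroup (Fin 2) F) (r : F) (hr : r ^ 2 = 1)
    (h : (A : Matrix (Fin 2) (Fin 2) F) = Matrix.scalar (Fin 2) r) :
    A ∈ Subgroup.center (Matrix.SpecialLinearGroup (Fin 2) F) := by
  rw [Matrix.SpecialLinearGroup.mem_center_iff]
  exact ⟨r, by simpa using hr, h.symm⟩

theorem sl2_mem_center_iff (A : Matrix.SpecialLinearGroup (Fin 2) F) :
    A ∈ Subgroup.center (Matrix.SpecialLinearGroup (Fin 2) F) ↔
      ∃ r : F, r ^ 2 = 1 ∧ (A : Matrix (Fin 2) (Fin 2) F) = Matrix.scalar (Fin 2) r := by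
  rw [Matrix.SpecialLinearGroup.mem_center_iff]
  constructor
  · rintro ⟨r, hr, h⟩
    exact ⟨r, by simpa using hr, h.symm⟩
  · rintro ⟨r, hr, h⟩
    exact ⟨r, by simpa using hr, h.symm⟩

/-- A non-central element of `SL₂` whose square is central has trace zero. -/
theorem sl2_trace_eq_zero_of_sq_mem_center
    (K : Matrix.SpecialLinearGroup (Fin 2) F)
    (h2 : K ^ 2 ∈ Subgroup.center (Matrix.SpecialLinearGroup (Fin 2) F))
    (h1 : K ∉ Subgroup.center (Matrix.SpecialLinearGroup (Fin 2) F)) :
    Matrix.trace (K : Matrix (Fin 2) (Fin 2) F) = 0 := by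
  rw [Matrix.trace_fin_two]
  rw [Matrix.SpecialLinearGroup.mem_center_iff] at h1 h2
  obtain ⟨r, -, hr⟩ := h2
  have hdet := sl2_det K
  rw [Matrix.SpecialLinearGroup.coe_pow, pow_two] at hr
  have e01 := congr_fun (congr_fun hr 0) 1
  have e10 := congr_fun (congr_fun hr 1) 0
  have e00 := congr_fun (congr_fun hr 0) 0
  have e11 := congr_fun (congr_fun hr 1) 1
  simp [Matrix.mul_apply, Fin.sum_univ_two, Matrix.scalar_apply] at e01 e10 e00 e11
  set a := (K : Matrix (Fin 2) (Fin 2) F) 0 0
  set b := (K : Matrix (Fin 2) (Fin 2) F) 0 1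
  set c := (K : Matrix (Fin 2) (Fin 2) F) 1 0
  set d := (K : Matrix (Fin 2) (Fin 2) F) 1 1
  by_contra hne
  apply h1
  have hb : b = 0 := by
    have : b * (a + d) = 0 := by linear_combination -e01
    rcases mul_eq_zero.mp this with h | h
    · exact h
    · exact absurd h hne
  have hc : c = 0 := by
    have : c * (a + d) = 0 := by linear_combination -e10
    rcases mul_eq_zero.mp this with h | h
    · exact h
    · exact absurd h hne
  have had : a = d := by
    have : (a - d) * (a + d) = 0 := by linear_combination e11 - e00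
    rcases mul_eq_zero.mp this with h | h
    · exact sub_eq_zero.mp h
    · exact absurd h hne
  refine ⟨a, ?_, ?_⟩
  · simp only [Fintype.card_fin]
    rw [hb, hc, ← had] at hdet
    linear_combination hdet
  · ext i j
    fin_cases i <;> fin_cases j <;> simp [Matrix.scalar_apply, a] <;>
      first | exact hb.symm | exact hc.symm | exact had

/-- In characteristic different from 2, an element of `SL₂` with square one is central. -/
theorem sl2_mem_center_of_sq_eq_one (h2 : (2 : F) ≠ 0)
    (B : Matrix.SpecialLinearGroup (Fin 2) F) (hB : B ^ 2 = 1) :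
    B ∈ Subgroup.center (Matrix.SpecialLinearGroup (Fin 2) F) := by
  by_contra hcen
  have htr := sl2_trace_eq_zero_of_sq_mem_center B (by rw [hB]; exact Subgroup.one_mem _) hcen
  have hch := sl2_cayley_hamilton B
  rw [htr, zero_smul, zero_sub] at hch
  have h1 : ((B ^ 2 : Matrix.SpecialLinearGroup (Fin 2) F) : Matrix (Fin 2) (Fin 2) F) = 1 := by
    rw [hB]; rfl
  rw [Matrix.SpecialLinearGroup.coe_pow, pow_two, hch] at h1
  have := congr_fun (congr_fun h1 0) 0
  simp at this
  apply h2
  linear_combination -this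


section Finite

/-- Unipotent-times-sign case: if `tr A ^ 2 = 4` then `A ^ p` is central. -/
theorem sl2_pow_char_mem_center (p : ℕ) [Fact p.Prime] [CharP F p] (A : Matrix.SpecialLinearGroup (Fin 2) F)
    (ht : (Matrix.trace (A : Matrix (Fin 2) (Fin 2) F)) ^ 2 = 4) :
    A ^ p ∈ Subgroup.center (Matrix.SpecialLinearGroup (Fin 2) F) := by
  have hpp : p.Prime := Fact.out
  set M := (A : Matrix (Fin 2) (Fin 2) F) with hM
  set t := Matrix.trace M with htdef
  have hch : M * M = t • M - 1 := sl2_cayley_hamilton A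
  obtain ⟨ε, hε, htε⟩ : ∃ ε : F, ε ^ 2 = 1 ∧ t = 2 * ε := by
    have : (t - 2) * (t + 2) = 0 := by linear_combination ht
    rcases mul_eq_zero.mp this with h | h
    · exact ⟨1, by ring, by linear_combination h⟩
    · exact ⟨-1, by ring, by linear_combination h⟩
  have hcomm : Commute M (Matrix.scalar (Fin 2) ε) :=
    (Matrix.scalar_commute ε (fun r => Commute.all ε r) M).symm
  have hsq : (M - Matrix.scalar (Fin 2) ε) ^ 2 = 0 := by
    rw [pow_two, sub_mul, mul_sub, mul_sub, hch, htε]
    have h1 : Matrix.scalar (Fin 2) ε * M = ε • M := by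
      ext i j; simp [Matrix.scalar_apply, Matrix.diagonal_mul]
    have h2 : M * Matrix.scalar (Fin 2) ε = ε • M := by
      rw [hcomm.eq, h1]
    have h3 : Matrix.scalar (Fin 2) ε * Matrix.scalar (Fin 2) ε = 1 := by
      rw [← map_mul, ← pow_two, hε, map_one]
    rw [h1, h2, h3]
    module
  have hp0 : (M - Matrix.scalar (Fin 2) ε) ^ p = 0 := by
    obtain ⟨k, hk⟩ : ∃ k, p = 2 + k := ⟨p - 2, by have := hpp.two_le; omega⟩
    rw [hk, pow_add, hsq, zero_mul]
  rw [sub_pow_char_of_commute p hcomm, sub_eq_zero] at hp0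
  refine sl2_mem_center_of_eq_scalar (A ^ p) (ε ^ p) ?_ ?_
  · rw [← pow_mul, mul_comm, pow_mul, hε, one_pow]
  · rw [Matrix.SpecialLinearGroup.coe_pow, ← hM, hp0, map_pow]


variable [Fintype F]

theorem prod_X_sub_C_eq_X_pow_card_sub_X :
    ∏ c : F, (X - C c) = (X ^ Fintype.card F - X : F[X]) := by
  have hq : 1 < Fintype.card F := Fintype.one_lt_card
  have hmonic : (X ^ Fintype.card F - X : F[X]).Monic := by
    apply Polynomial.monic_X_pow_sub
    rw [degree_X]
    exact_mod_cast hq
  have hroots := FiniteField.roots_X_pow_card_sub_X F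
  have hcard : Multiset.card (X ^ Fintype.card F - X : F[X]).roots =
      (X ^ Fintype.card F - X : F[X]).natDegree := by
    rw [hroots, FiniteField.X_pow_card_sub_X_natDegree_eq F hq]
    simp
  have := Polynomial.prod_multiset_X_sub_C_of_monic_of_roots_card_eq hmonic hcard
  rw [hroots] at this
  exact this

/-- Split semisimple case: if the characteristic polynomial of `A` has a root in `F` and
`tr A ^ 2 ≠ 4`, then `A ^ q = A`. -/
theorem sl2_pow_card_eq_self (A : Matrix.SpecialLinearGroup (Fin 2) F)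
    (ht : (Matrix.trace (A : Matrix (Fin 2) (Fin 2) F)) ^ 2 ≠ 4) (a : F)
    (ha : a ^ 2 - Matrix.trace (A : Matrix (Fin 2) (Fin 2) F) * a + 1 = 0) :
    A ^ Fintype.card F = A := by
  set M := (A : Matrix (Fin 2) (Fin 2) F) with hM
  set t := Matrix.trace M with htdef
  have hch : M * M = t • M - 1 := sl2_cayley_hamilton A
  set b := t - a with hb
  have hab : a ≠ b := by
    intro h
    apply ht
    have : t = 2 * a := by rw [hb] at h; linear_combination -h
    rw [this] at ha ⊢
    linear_combination -4 * ha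
  -- (X - a)(X - b) divides X^q - X
  have hdvd : (X - C a) * (X - C b) ∣ (X ^ Fintype.card F - X : F[X]) := by
    apply IsCoprime.mul_dvd
    · exact Polynomial.isCoprime_X_sub_C_of_isUnit_sub (sub_ne_zero.mpr hab).isUnit
    · rw [Polynomial.dvd_iff_isRoot]; simp [FiniteField.pow_card]
    · rw [Polynomial.dvd_iff_isRoot]; simp [FiniteField.pow_card]
  obtain ⟨g, hg⟩ := hdvd
  have hval : Polynomial.aeval M ((X - C a) * (X - C b)) = 0 := by
    simp only [map_mul, map_sub, aeval_X, aeval_C]
    rw [sub_mul, mul_sub, mul_sub, hch]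
    simp only [Algebra.algebraMap_eq_smul_one, smul_mul_assoc, one_mul, mul_smul_comm, mul_one]
    have : a * b = 1 := by rw [hb]; linear_combination -ha
    rw [smul_smul, mul_comm b a, this, hb]
    module
  have h2 := congrArg (Polynomial.aeval M) hg
  rw [map_mul, hval, zero_mul] at h2
  simp only [map_sub, map_pow, aeval_X] at h2
  apply Subtype.ext
  rw [Matrix.SpecialLinearGroup.coe_pow]
  exact sub_eq_zero.mp h2

/-- Non-split semisimple case: if the characteristic polynomial of `A` has no root in `F`,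
then `A ^ (q + 1) = 1`. -/
theorem sl2_pow_card_add_one_eq_one (p : ℕ) [Fact p.Prime] [CharP F p]
    (A : Matrix.SpecialLinearGroup (Fin 2) F)
    (hroot : ∀ a : F, a ^ 2 - Matrix.trace (A : Matrix (Fin 2) (Fin 2) F) * a + 1 ≠ 0) :
    A ^ (Fintype.card F + 1) = 1 := by
  set M := (A : Matrix (Fin 2) (Fin 2) F) with hM
  set t := Matrix.trace M with htdef
  have hch : M * M = t • M - 1 := sl2_cayley_hamilton A
  obtain ⟨⟨f, hfpos⟩, -, hf⟩ := FiniteField.card F p
  simp only [PNat.mk_coe] at hf
  set N := M ^ Fintype.card F with hN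
  -- det (M^q - M) ≠ 0
  have hdet : (N - M).det ≠ 0 := by
    have h1 : N - M = Polynomial.aeval M (∏ c : F, (X - C c)) := by
      rw [prod_X_sub_C_eq_X_pow_card_sub_X]
      simp [hN]
    let φ : F[X] →* F := (Matrix.detMonoidHom).comp
      ((Polynomial.aeval M : F[X] →ₐ[F] Matrix (Fin 2) (Fin 2) F) : F[X] →* Matrix (Fin 2) (Fin 2) F)
    have h2 : (Polynomial.aeval M (∏ c : F, (X - C c))).det = ∏ c : F, φ (X - C c) := by
      rw [← map_prod]; rfl
    rw [h1, h2, Finset.prod_ne_zero_iff]
    intro c _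
    have hdet : M 0 0 * M 1 1 - M 0 1 * M 1 0 = 1 := sl2_det A
    change (Polynomial.aeval M (X - C c)).det ≠ 0
    simp only [map_sub, aeval_X, aeval_C]
    rw [Matrix.det_fin_two]
    simp only [Matrix.sub_apply, Matrix.algebraMap_matrix_apply]
    simp only [Fin.isValue, ↓reduceIte, zero_ne_one, one_ne_zero, sub_zero]
    have := hroot c
    rw [htdef, Matrix.trace_fin_two] at this
    intro h
    apply this
    simp at h
    linear_combination h - hdet
  have hunit : IsUnit (N - M) := by
    rw [Matrix.isUnit_iff_isUnit_det]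
    exact isUnit_iff_ne_zero.mpr hdet
  -- N satisfies the characteristic equation
  have hNN : N * N = t • N - 1 := by
    have h1 : N * N = (M * M) ^ Fintype.card F := by
      rw [hN, ← pow_two, ← pow_two, ← pow_mul, ← pow_mul, mul_comm]
    rw [h1, hch, hf]
    have hc : Commute (t • M) (1 : Matrix (Fin 2) (Fin 2) F) := Commute.one_right _
    rw [sub_pow_char_pow_of_commute p f hc, one_pow, _root_.smul_pow, ← hf, FiniteField.pow_card]
  have hcomm : N * M = M * N := by
    rw [hN, ← pow_succ, ← pow_succ']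
  have hprod : (N - M) * (N - (t • 1 - M)) = 0 := by
    rw [sub_mul, mul_sub, mul_sub, mul_sub, mul_sub, hNN, hcomm, hch]
    simp only [mul_smul_comm, mul_one]
    module
  have hN2 : N = t • 1 - M := by
    have := hunit.mul_right_eq_zero.mp hprod
    exact sub_eq_zero.mp this
  have hMN : M * N = 1 := by
    rw [hN2, mul_sub, hch]
    simp only [mul_smul_comm, mul_one]
    module
  apply Subtype.ext
  rw [Matrix.SpecialLinearGroup.coe_pow, pow_succ', ← hM, ← hN, hMN]
  rfl

end Finite

end Cfsg.Agent.Helper41
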