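import Cfsg.Agent.Helper41.SL2

set_option autoImplicit false

namespace Cfsg.Agent.Helper41

open Matrix Polynomial

variable {F : Type*} [Field F]

/-- The upper unitriangular element. -/
def sl2Unip (x : F) : Matrix.SpecialLinearGroup (Fin 2) F :=
  ⟨!![1, x; 0, 1], by simp [Matrix.det_fin_two]⟩

theorem sl2Unip_zero : sl2Unip (0 : F) = 1 := by
  apply Subtype.ext
  rw [Matrix.SpecialLinearGroup.coe_one]
  simp [sl2Unip, Matrix.one_fin_two]

theorem sl2Unip_mul (x y : F) : sl2Unip x * sl2Unip y = sl2Unip (x + y) := by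
  apply Subtype.ext
  rw [Matrix.SpecialLinearGroup.coe_mul]
  simp [sl2Unip, add_comm]

theorem sl2Unip_pow (x : F) (n : ℕ) : sl2Unip x ^ n = sl2Unip (n * x) := by
  induction n with
  | zero => simp [sl2Unip_zero]
  | succ n ih =>
    rw [pow_succ, ih, sl2Unip_mul]
    congr 1
    push_cast
    ring

/-- The diagonal element. -/
def sl2Diag (a : Fˣ) : Matrix.SpecialLinearGroup (Fin 2) F :=
  ⟨!![(a : F), 0; 0, ((a⁻¹ : Fˣ) : F)], by simp [Matrix.det_fin_two]⟩

theorem sl2Diag_one : sl2Diag (1 : Fˣ) = 1 := by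
  apply Subtype.ext
  rw [Matrix.SpecialLinearGroup.coe_one]
  simp [sl2Diag, Matrix.one_fin_two]

theorem sl2Diag_mul (a b : Fˣ) : sl2Diag a * sl2Diag b = sl2Diag (a * b) := by
  apply Subtype.ext
  rw [Matrix.SpecialLinearGroup.coe_mul]
  simp [sl2Diag, mul_comm]

theorem sl2Diag_pow (a : Fˣ) (n : ℕ) : sl2Diag a ^ n = sl2Diag (a ^ n) := by
  induction n with
  | zero => simp [sl2Diag_one]
  | succ n ih => rw [pow_succ, ih, sl2Diag_mul, pow_succ]

theorem sl2Diag_mem_center_iff (a : Fˣ) :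
    sl2Diag a ∈ Subgroup.center (Matrix.SpecialLinearGroup (Fin 2) F) ↔ a ^ 2 = 1 := by
  rw [sl2_mem_center_iff]
  constructor
  · rintro ⟨r, hr, h⟩
    have h00 := congr_fun (congr_fun h 0) 0
    simp [sl2Diag, Matrix.scalar_apply] at h00
    apply Units.ext
    rw [Units.val_pow_eq_pow_val, h00, hr]; rfl
  · intro ha
    have ha' : (a : F) ^ 2 = 1 := by
      rw [← Units.val_pow_eq_pow_val, ha]; rfl
    refine ⟨(a : F), ha', ?_⟩
    have hinv : ((a⁻¹ : Fˣ) : F) = (a : F) := by
      have : a⁻¹ = a := by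
        rw [inv_eq_iff_mul_eq_one, ← pow_two, ha]
      rw [this]
    ext i j
    fin_cases i <;> fin_cases j <;> simp [sl2Diag, Matrix.scalar_apply, hinv]

section Finite

variable [Fintype F]

omit [Fintype F] in
theorem psl2_exists_orderOf_eq_char (p : ℕ) [Fact p.Prime] [CharP F p] :
    ∃ g : Matrix.ProjectiveSpecialLinearGroup (Fin 2) F, orderOf g = p := by
  refine ⟨QuotientGroup.mk (sl2Unip 1), ?_⟩
  apply orderOf_eq_prime
  · rw [← QuotientGroup.mk_pow, sl2Unip_pow, mul_one, CharP.cast_eq_zero]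
    rw [QuotientGroup.eq_one_iff]
    rw [sl2Unip_zero]
    exact Subgroup.one_mem _
  · rw [Ne, QuotientGroup.eq_one_iff, sl2_mem_center_iff]
    rintro ⟨r, -, h⟩
    have h01 := congr_fun (congr_fun h 0) 1
    simp [sl2Unip, Matrix.scalar_apply] at h01

theorem psl2_exists_orderOf_eq_split :
    ∃ g : Matrix.ProjectiveSpecialLinearGroup (Fin 2) F,
      orderOf g = (Fintype.card F - 1) / Nat.gcd 2 (Fintype.card F - 1) := by
  classical
  obtain ⟨a, ha⟩ := IsCyclic.exists_ofOrder_eq_natCard (α := Fˣ)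
  rw [Nat.card_eq_fintype_card, Fintype.card_units] at ha
  refine ⟨QuotientGroup.mk (sl2Diag a), ?_⟩
  have h1 : orderOf (QuotientGroup.mk (sl2Diag a) : Matrix.ProjectiveSpecialLinearGroup (Fin 2) F) =
      orderOf (a ^ 2) := by
    rw [orderOf_eq_orderOf_iff]
    intro n
    rw [← QuotientGroup.mk_pow, QuotientGroup.eq_one_iff, sl2Diag_pow, sl2Diag_mem_center_iff,
      ← pow_mul, ← pow_mul, mul_comm]
  rw [h1, orderOf_pow, ha, Nat.gcd_comm]

end Finite


section Finite2

variable [Fintype F]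

/-- Arithmetic of `q = |F|`: in characteristic 2, `gcd 2 (q - 1) = 1`; otherwise it is 2 and
`q` is odd. -/
theorem card_field_gcd_two (p : ℕ) [Fact p.Prime] [CharP F p] :
    (p = 2 ∧ Nat.gcd 2 (Fintype.card F - 1) = 1) ∨
      (p ≠ 2 ∧ (2 : F) ≠ 0 ∧ Nat.gcd 2 (Fintype.card F - 1) = 2 ∧ Odd (Fintype.card F) ∧
        3 ≤ Fintype.card F) := by
  have hpp : p.Prime := Fact.out
  obtain ⟨⟨f, hfpos⟩, -, hf⟩ := FiniteField.card F p
  simp only [PNat.mk_coe] at hf
  by_cases hp : p = 2
  · left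
    refine ⟨hp, ?_⟩
    subst hp
    have heven : Even (Fintype.card F) := by
      rw [hf]; exact (Nat.even_pow.mpr ⟨even_two, by omega⟩)
    have hpos : 0 < Fintype.card F := Fintype.card_pos
    obtain ⟨k, hk⟩ := heven
    have : ¬ 2 ∣ (Fintype.card F - 1) := by omega
    exact (Nat.Prime.coprime_iff_not_dvd Nat.prime_two).mpr this
  · right
    have hodd : Odd (Fintype.card F) := by
      rw [hf]; exact (hpp.odd_of_ne_two hp).pow
    have h1 : 1 < Fintype.card F := Fintype.one_lt_card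
    obtain ⟨k, hk⟩ := hodd
    refine ⟨hp, ?_, ?_, ⟨k, hk⟩, by omega⟩
    · intro h2
      have : ((2 : ℕ) : F) = 0 := by exact_mod_cast h2
      rw [CharP.cast_eq_zero_iff F p 2] at this
      exact hp ((Nat.prime_dvd_prime_iff_eq hpp Nat.prime_two).mp this)
    · have : Fintype.card F - 1 = 2 * k := by omega
      rw [this]
      simp

/-- Element orders of `PSL₂(q)` divide `p`, `(q - 1)/d` or `(q + 1)/d`. -/
theorem psl2_orderOf_dvd (p : ℕ) [Fact p.Prime] [CharP F p]
    (g : Matrix.ProjectiveSpecialLinearGroup (Fin 2) F) :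
    orderOf g ∣ p ∨ orderOf g ∣ (Fintype.card F - 1) / Nat.gcd 2 (Fintype.card F - 1) ∨
      orderOf g ∣ (Fintype.card F + 1) / Nat.gcd 2 (Fintype.card F - 1) := by
  obtain ⟨A, rfl⟩ := QuotientGroup.mk_surjective g
  have h1 : 1 < Fintype.card F := Fintype.one_lt_card
  -- key reduction: if `A ^ n = 1` with `n` even (or char 2), then `g ^ (n / d) = 1`
  have key : ∀ n : ℕ, Even n → A ^ n = 1 →
      (QuotientGroup.mk A : Matrix.ProjectiveSpecialLinearGroup (Fin 2) F) ^
        (n / Nat.gcd 2 (Fintype.card F - 1)) = 1 := by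
    intro n hn hA
    rcases card_field_gcd_two (F := F) p with ⟨-, hd⟩ | ⟨-, h2, hd, -, -⟩
    · rw [hd, Nat.div_one, ← QuotientGroup.mk_pow, hA]; rfl
    · rw [hd, ← QuotientGroup.mk_pow, QuotientGroup.eq_one_iff]
      apply sl2_mem_center_of_sq_eq_one h2
      obtain ⟨k, hk⟩ := hn
      rw [← pow_mul, hk, ← two_mul, Nat.mul_div_cancel_left _ (by decide : 0 < 2), mul_comm,
        two_mul, ← hk, hA]
  by_cases ht : (Matrix.trace (A : Matrix (Fin 2) (Fin 2) F)) ^ 2 = 4
  · left
    apply orderOf_dvd_of_pow_eq_one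
    rw [← QuotientGroup.mk_pow, QuotientGroup.eq_one_iff]
    exact sl2_pow_char_mem_center p A ht
  · right
    have hparity : Even (Fintype.card F - 1) ↔ Even (Fintype.card F + 1) := by
      rw [Nat.even_sub (by omega), Nat.even_add]
    by_cases hr : ∃ a : F, a ^ 2 - Matrix.trace (A : Matrix (Fin 2) (Fin 2) F) * a + 1 = 0
    · left
      obtain ⟨a, ha⟩ := hr
      have hq := sl2_pow_card_eq_self A ht a ha
      have hA : A ^ (Fintype.card F - 1) = 1 := by
        have : A ^ (Fintype.card F - 1) * A = 1 * A := by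
          rw [← pow_succ, Nat.sub_add_cancel (by omega), hq, one_mul]
        exact mul_right_cancel this
      apply orderOf_dvd_of_pow_eq_one
      rcases card_field_gcd_two (F := F) p with ⟨-, hd⟩ | ⟨-, h2, hd, hodd, -⟩
      · rw [hd, Nat.div_one, ← QuotientGroup.mk_pow, hA]; rfl
      · apply key _ _ hA
        obtain ⟨k, hk⟩ := hodd
        exact ⟨k, by omega⟩
    · right
      push Not at hr
      have hA := sl2_pow_card_add_one_eq_one p A hr
      apply orderOf_dvd_of_pow_eq_one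
      rcases card_field_gcd_two (F := F) p with ⟨-, hd⟩ | ⟨-, h2, hd, hodd, -⟩
      · rw [hd, Nat.div_one, ← QuotientGroup.mk_pow, hA]; rfl
      · apply key _ _ hA
        obtain ⟨k, hk⟩ := hodd
        exact ⟨k + 1, by omega⟩

theorem psl2_exists_orderOf_eq_nonsplit (p : ℕ) [Fact p.Prime] [CharP F p] :
    ∃ g : Matrix.ProjectiveSpecialLinearGroup (Fin 2) F,
      orderOf g = (Fintype.card F + 1) / Nat.gcd 2 (Fintype.card F - 1) := by
  classical
  have hq1 : 1 < Fintype.card F := Fintype.one_lt_card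
  let K := FiniteField.Extension F p 2
  have hfin : Module.finrank F K = 2 := FiniteField.finrank_extension F p 2
  let b : Module.Basis (Fin 2) F K := Module.finBasisOfFinrankEq F K hfin
  have : Fintype K := Fintype.ofFinite K
  have hcardK : Nat.card K = Fintype.card F ^ 2 := by
    rw [FiniteField.natCard_extension F p 2, Nat.card_eq_fintype_card]
  obtain ⟨ζ, hζ⟩ := IsCyclic.exists_ofOrder_eq_natCard (α := Kˣ)
  rw [Nat.card_units, hcardK] at hζ
  have hfac : Fintype.card F ^ 2 - 1 = (Fintype.card F - 1) * (Fintype.card F + 1) := by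
    obtain ⟨k, hk⟩ : ∃ k, Fintype.card F = k + 1 := ⟨Fintype.card F - 1, by omega⟩
    rw [hk]
    have : (k + 1) ^ 2 = k * (k + 2) + 1 := by ring
    rw [this]; simp
  set μ : Kˣ := ζ ^ (Fintype.card F - 1) with hμdef
  have hμ : orderOf μ = Fintype.card F + 1 := by
    rw [hμdef, orderOf_pow, hζ, hfac, Nat.gcd_mul_right_left,
      Nat.mul_div_cancel_left _ (by omega : 0 < Fintype.card F - 1)]
  let M := Algebra.leftMulMatrix b (μ : K)
  have hdet : M.det = 1 := by
    rw [← Algebra.norm_eq_matrix_det b]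
    apply (algebraMap F K).injective
    rw [FiniteField.algebraMap_norm_eq_pow, map_one, hcardK, Nat.card_eq_fintype_card, hfac,
      Nat.mul_div_cancel_left _ (by omega : 0 < Fintype.card F - 1)]
    rw [← hμ, ← Units.val_pow_eq_pow_val, pow_orderOf_eq_one]; rfl
  let A : Matrix.SpecialLinearGroup (Fin 2) F := ⟨M, hdet⟩
  refine ⟨QuotientGroup.mk A, ?_⟩
  have hApow : ∀ n : ℕ, ((A ^ n : Matrix.SpecialLinearGroup (Fin 2) F) : Matrix (Fin 2) (Fin 2) F) =
      Algebra.leftMulMatrix b (((μ ^ n : Kˣ) : K)) := by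
    intro n
    rw [Matrix.SpecialLinearGroup.coe_pow, Units.val_pow_eq_pow_val, map_pow]
  have hscalar : ∀ r : F, Matrix.scalar (Fin 2) r = Algebra.leftMulMatrix b (algebraMap F K r) := by
    intro r
    rw [AlgHom.commutes]
    rfl
  have h1 : orderOf (QuotientGroup.mk A : Matrix.ProjectiveSpecialLinearGroup (Fin 2) F) =
      orderOf (μ ^ 2) := by
    rw [orderOf_eq_orderOf_iff]
    intro n
    rw [← QuotientGroup.mk_pow, QuotientGroup.eq_one_iff, sl2_mem_center_iff]
    constructor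
    · rintro ⟨r, hr, h⟩
      rw [hApow, hscalar] at h
      have h2 := Algebra.leftMulMatrix_injective b h
      apply Units.ext
      rw [← pow_mul, mul_comm, pow_mul, Units.val_pow_eq_pow_val, h2, ← map_pow, hr, map_one]; rfl
    · intro h
      have h2 : ((μ ^ n : Kˣ) : K) ^ 2 = 1 := by
        rw [← Units.val_pow_eq_pow_val, ← pow_mul, mul_comm, pow_mul, h]; rfl
      have h3 : ((μ ^ n : Kˣ) : K) = 1 ∨ ((μ ^ n : Kˣ) : K) = -1 := by
        rw [pow_two] at h2
        exact mul_self_eq_one_iff.mp h2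
      rcases h3 with h3 | h3
      · refine ⟨1, one_pow 2, ?_⟩
        rw [hApow, hscalar, h3]
        simp
      · refine ⟨-1, by ring, ?_⟩
        rw [hApow, hscalar, h3]
        simp
  rw [h1, orderOf_pow, hμ]
  congr 1
  -- gcd (q+1) 2 = gcd 2 (q-1)
  rw [Nat.gcd_comm]
  obtain ⟨k, hk⟩ : ∃ k, Fintype.card F = k + 1 := ⟨Fintype.card F - 1, by omega⟩
  rw [hk]
  simp

end Finite2

end Cfsg.Agent.Helper41
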