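import Cfsg.Agent.Helper41.SL2

set_option autoImplicit false

namespace Cfsg.Agent.Helper41

open Matrix Polynomial

variable {F : Type*} [Field F]

/-- The companion matrix of `X ^ 2 - s X + 1`. -/
def companion2 (s : F) : Matrix (Fin 2) (Fin 2) F := !![0, -1; 1, s]

theorem companion2_det (s : F) : (companion2 s).det = 1 := by
  simp [companion2, Matrix.det_fin_two]

theorem companion2_trace (s : F) : (companion2 s).trace = s := by
  simp [companion2, Matrix.trace_fin_two]

/-- Solutions of quadratic equations in two variables over a finite field of odd order. -/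
theorem exists_quadratic_sol [Fintype F] (hodd : Fintype.card F % 2 = 1) (α β γ δ : F)
    (hα : α ≠ 0) (hδ : δ ≠ 0) : ∃ x y : F, α * x ^ 2 + β * x + γ + δ * y ^ 2 = 0 := by
  have hf : (C α * X ^ 2 + C β * X + C γ : F[X]).degree = 2 := Polynomial.degree_quadratic hα
  have hg : (C δ * X ^ 2 : F[X]).degree = 2 := by
    rw [Polynomial.degree_C_mul_X_pow 2 hδ]; rfl
  obtain ⟨x, y, h⟩ := FiniteField.exists_root_sum_quadratic hf hg hodd
  refine ⟨x, y, ?_⟩
  simpa using h

/-- A non-scalar `2 × 2` matrix of determinant one is conjugate (by an invertible matrix) to the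
companion matrix of its characteristic polynomial. -/
theorem exists_conj_companion2 (G : Matrix (Fin 2) (Fin 2) F) (hdet : G.det = 1)
    (hns : ∀ r : F, G ≠ Matrix.scalar (Fin 2) r) :
    ∃ P : Matrix (Fin 2) (Fin 2) F, P.det ≠ 0 ∧ G * P = P * companion2 G.trace := by
  rw [Matrix.det_fin_two] at hdet
  -- P = [v | G v]
  have key : ∀ v : Fin 2 → F, (!![v 0, (G *ᵥ v) 0; v 1, (G *ᵥ v) 1]).det ≠ 0 →
      ∃ P : Matrix (Fin 2) (Fin 2) F, P.det ≠ 0 ∧ G * P = P * companion2 G.trace := by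
    intro v hv
    refine ⟨_, hv, ?_⟩
    rw [Matrix.trace_fin_two]
    ext i j
    fin_cases i <;> fin_cases j <;>
      simp [companion2, Matrix.mul_apply, Fin.sum_univ_two, Matrix.mulVec, dotProduct] <;>
      first
        | ring1
        | linear_combination (-(v 0)) * hdet
        | linear_combination (-(v 1)) * hdet
  by_cases h10 : G 1 0 = 0
  · by_cases h01 : G 0 1 = 0
    · -- diagonal, distinct entries
      have hne : G 0 0 ≠ G 1 1 := by
        intro h
        apply hns (G 0 0)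
        ext i j
        fin_cases i <;> fin_cases j <;> simp [Matrix.scalar_apply, h10, h01, h]
      apply key ![1, 1]
      simp [Matrix.det_fin_two, Matrix.mulVec, dotProduct, Fin.sum_univ_two, h10, h01]
      intro h
      apply hne
      linear_combination -h
    · apply key ![0, 1]
      simp [Matrix.det_fin_two, Matrix.mulVec, dotProduct, Fin.sum_univ_two]
      exact h01
  · apply key ![1, 0]
    simp [Matrix.det_fin_two, Matrix.mulVec, dotProduct, Fin.sum_univ_two]
    exact h10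

/-- Two non-scalar determinant-one `2 × 2` matrices with the same trace `t` are conjugate under a
determinant-one matrix, provided the norm form `α² + t α β + β²` represents every nonzero element. -/
theorem exists_sl2_conj_of_trace_eq (X Y : Matrix (Fin 2) (Fin 2) F) (hX : X.det = 1) (hY : Y.det = 1)
    (htr : Y.trace = X.trace) (hXns : ∀ r : F, X ≠ Matrix.scalar (Fin 2) r)
    (hYns : ∀ r : F, Y ≠ Matrix.scalar (Fin 2) r)
    (hnorm : ∀ e : F, e ≠ 0 → ∃ α β : F, α ^ 2 + X.trace * α * β + β ^ 2 = e) :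
    ∃ S : Matrix (Fin 2) (Fin 2) F, S.det = 1 ∧ S * X = Y * S := by
  obtain ⟨P1, hP1, h1⟩ := exists_conj_companion2 X hX hXns
  obtain ⟨P2, hP2, h2⟩ := exists_conj_companion2 Y hY hYns
  rw [htr] at h2
  set C := companion2 X.trace with hC
  have hu1 : IsUnit P1.det := isUnit_iff_ne_zero.mpr hP1
  -- P1⁻¹ X = C P1⁻¹
  have h3 : P1⁻¹ * X = C * P1⁻¹ := by
    calc P1⁻¹ * X = P1⁻¹ * X * (P1 * P1⁻¹) := by rw [Matrix.mul_nonsing_inv _ hu1, Matrix.mul_one]
      _ = P1⁻¹ * (X * P1) * P1⁻¹ := by simp only [Matrix.mul_assoc]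
      _ = P1⁻¹ * (P1 * C) * P1⁻¹ := by rw [h1]
      _ = (P1⁻¹ * P1) * C * P1⁻¹ := by simp only [Matrix.mul_assoc]
      _ = C * P1⁻¹ := by rw [Matrix.nonsing_inv_mul _ hu1, Matrix.one_mul]
  set R := P2 * P1⁻¹ with hR
  have hYR : Y * R = R * X := by
    rw [hR, ← Matrix.mul_assoc, h2, Matrix.mul_assoc, Matrix.mul_assoc, h3]
  have hRdet : R.det ≠ 0 := by
    rw [hR, Matrix.det_mul, Matrix.det_nonsing_inv, Ring.inverse_eq_inv']
    exact mul_ne_zero hP2 (inv_ne_zero hP1)
  obtain ⟨α, β, hαβ⟩ := hnorm (R.det)⁻¹ (inv_ne_zero hRdet)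
  set W := α • (1 : Matrix (Fin 2) (Fin 2) F) + β • X with hW
  have hWdet : W.det = (R.det)⁻¹ := by
    rw [← hαβ, hW, Matrix.det_fin_two, Matrix.trace_fin_two]
    rw [Matrix.det_fin_two] at hX
    simp
    linear_combination (β ^ 2) * hX
  have hWX : W * X = X * W := by
    rw [hW, Matrix.add_mul, Matrix.mul_add]
    simp
  refine ⟨R * W, ?_, ?_⟩
  · rw [Matrix.det_mul, hWdet, mul_inv_cancel₀ hRdet]
  · rw [Matrix.mul_assoc, hWX, ← Matrix.mul_assoc, ← hYR, Matrix.mul_assoc]

/-- The conic solvability condition for writing `companion2 s` as a product of two matrices of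
trace `t`. -/
def ConicSolvable (s t : F) : Prop :=
  ∃ a b : F, a ^ 2 - (t + b * s) * a + b ^ 2 + b * t + 1 = 0

theorem companion2_eq_mul (s t a b : F) (h : a ^ 2 - (t + b * s) * a + b ^ 2 + b * t + 1 = 0) :
    (!![a, b; b - a * s + t, t - a] : Matrix (Fin 2) (Fin 2) F).det = 1 ∧
    (!![-b, a - t - b * s; a, b + t] : Matrix (Fin 2) (Fin 2) F).det = 1 ∧
    (!![a, b; b - a * s + t, t - a] : Matrix (Fin 2) (Fin 2) F).trace = t ∧
    (!![-b, a - t - b * s; a, b + t] : Matrix (Fin 2) (Fin 2) F).trace = t ∧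
    (!![a, b; b - a * s + t, t - a] : Matrix (Fin 2) (Fin 2) F) * !![-b, a - t - b * s; a, b + t] =
      companion2 s := by
  refine ⟨?_, ?_, ?_, ?_, ?_⟩
  · rw [Matrix.det_fin_two]; simp; linear_combination -h
  · rw [Matrix.det_fin_two]; simp; linear_combination -h
  · rw [Matrix.trace_fin_two]; simp
  · rw [Matrix.trace_fin_two]; simp
  · ext i j
    fin_cases i <;> fin_cases j <;> simp [companion2, Matrix.mul_apply, Fin.sum_univ_two]
    · ring
    · linear_combination h
    · linear_combination -h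
    · linear_combination (-s) * h

theorem conicSolvable_of_root (s t l : F) (hl : l ^ 2 - t * l + 1 = 0) : ConicSolvable s t :=
  ⟨l, 0, by linear_combination hl⟩

section Finite

variable [Fintype F]

theorem conicSolvable_of_odd (hodd : Fintype.card F % 2 = 1) (h2 : (2 : F) ≠ 0) (s t : F)
    (hs : s ≠ 2) (ht : t ≠ 0) : ConicSolvable s t := by
  by_cases hs2 : s = -2
  · subst hs2
    have h8 : (8 : F) ≠ 0 := by
      have : (8 : F) = 2 ^ 3 := by norm_num
      rw [this]; exact pow_ne_zero 3 h2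
    refine ⟨(t - 2 * ((t ^ 2 - 4) / (8 * t))) / 2, (t ^ 2 - 4) / (8 * t), ?_⟩
    field_simp
    ring
  · have hα : s ^ 2 - 4 ≠ 0 := by
      intro h
      have : (s - 2) * (s + 2) = 0 := by linear_combination h
      rcases mul_eq_zero.mp this with h | h
      · exact hs (by linear_combination h)
      · exact hs2 (by linear_combination h)
    obtain ⟨b, e, hbe⟩ := exists_quadratic_sol hodd (s ^ 2 - 4) (2 * t * s - 4 * t) (t ^ 2 - 4) (-1)
      hα (by simp)
    refine ⟨(t + b * s + e) / 2, b, ?_⟩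
    field_simp
    linear_combination -hbe

theorem normForm_surjective_of_odd (hodd : Fintype.card F % 2 = 1) (h2 : (2 : F) ≠ 0) (t : F)
    (ht : t ^ 2 ≠ 4) (e : F) : ∃ α β : F, α ^ 2 + t * α * β + β ^ 2 = e := by
  have h4 : (4 : F) ≠ 0 := by
    have : (4 : F) = 2 ^ 2 := by norm_num
    rw [this]; exact pow_ne_zero 2 h2
  have hδ : 1 - t ^ 2 / 4 ≠ 0 := by
    intro h
    apply ht
    field_simp at h
    linear_combination -h
  obtain ⟨x, y, hxy⟩ := exists_quadratic_sol hodd 1 0 (-e) (1 - t ^ 2 / 4) one_ne_zero hδ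
  refine ⟨x - t * y / 2, y, ?_⟩
  field_simp at hxy ⊢
  linear_combination hxy

end Finite

theorem normForm_surjective_of_root (t l : F) (hl : l ^ 2 - t * l + 1 = 0) (ht : t ^ 2 ≠ 4) (e : F) :
    ∃ α β : F, α ^ 2 + t * α * β + β ^ 2 = e := by
  have hl0 : l ≠ 0 := by
    rintro rfl
    simp at hl
  -- the other root is l⁻¹ = t - l
  have hne : l - (t - l) ≠ 0 := by
    intro h
    apply ht
    have : t = 2 * l := by linear_combination -h
    rw [this] at hl ⊢
    linear_combination -4 * hl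
  -- solve α + l β = e, α + (t - l) β = 1
  refine ⟨1 - (t - l) * ((e - 1) / (l - (t - l))), (e - 1) / (l - (t - l)), ?_⟩
  field_simp
  linear_combination (e - 1) * (e - 1) * hl

theorem not_scalar_of_trace_sq_ne_four (M : Matrix (Fin 2) (Fin 2) F) (hdet : M.det = 1)
    (ht : M.trace ^ 2 ≠ 4) : ∀ r : F, M ≠ Matrix.scalar (Fin 2) r := by
  intro r h
  apply ht
  rw [h] at hdet ⊢
  rw [Matrix.det_fin_two] at hdet
  rw [Matrix.trace_fin_two]
  simp [Matrix.scalar_apply] at hdet ⊢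
  linear_combination 4 * hdet

theorem sl2_not_scalar_of_not_mem_center (G : Matrix.SpecialLinearGroup (Fin 2) F)
    (hG : G ∉ Subgroup.center (Matrix.SpecialLinearGroup (Fin 2) F)) :
    ∀ r : F, (G : Matrix (Fin 2) (Fin 2) F) ≠ Matrix.scalar (Fin 2) r := by
  intro r h
  apply hG
  rw [sl2_mem_center_iff]
  refine ⟨r, ?_, h⟩
  have := G.det_coe
  rw [h, Matrix.det_fin_two] at this
  simp [Matrix.scalar_apply] at this
  linear_combination this

/-- Main product theorem: a non-central `G` is a product of two `SL₂`-conjugates of `X`. -/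
theorem sl2_eq_mul_conj (X G : Matrix.SpecialLinearGroup (Fin 2) F)
    (ht : (Matrix.trace (X : Matrix (Fin 2) (Fin 2) F)) ^ 2 ≠ 4)
    (hG : G ∉ Subgroup.center (Matrix.SpecialLinearGroup (Fin 2) F))
    (hnorm : ∀ e : F, e ≠ 0 → ∃ α β : F,
      α ^ 2 + (Matrix.trace (X : Matrix (Fin 2) (Fin 2) F)) * α * β + β ^ 2 = e)
    (hsolv : ConicSolvable (Matrix.trace (G : Matrix (Fin 2) (Fin 2) F))
      (Matrix.trace (X : Matrix (Fin 2) (Fin 2) F))) :
    ∃ U V : Matrix.SpecialLinearGroup (Fin 2) F, G = (U * X * U⁻¹) * (V * X * V⁻¹) := by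
  set t := Matrix.trace (X : Matrix (Fin 2) (Fin 2) F) with htdef
  set s := Matrix.trace (G : Matrix (Fin 2) (Fin 2) F) with hsdef
  have hGns := sl2_not_scalar_of_not_mem_center G hG
  obtain ⟨P, hP, hGP⟩ := exists_conj_companion2 (G : Matrix (Fin 2) (Fin 2) F) G.det_coe hGns
  obtain ⟨a, b, hab⟩ := hsolv
  obtain ⟨hY0det, hZ0det, hY0tr, hZ0tr, hYZ0⟩ := companion2_eq_mul s t a b hab
  set Y0 : Matrix (Fin 2) (Fin 2) F := !![a, b; b - a * s + t, t - a]
  set Z0 : Matrix (Fin 2) (Fin 2) F := !![-b, a - t - b * s; a, b + t]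
  have hu : IsUnit P.det := isUnit_iff_ne_zero.mpr hP
  have hPP : P * P⁻¹ = 1 := Matrix.mul_nonsing_inv _ hu
  have hPP' : P⁻¹ * P = 1 := Matrix.nonsing_inv_mul _ hu
  have hdetconj : ∀ M : Matrix (Fin 2) (Fin 2) F, (P * M * P⁻¹).det = M.det := by
    intro M
    rw [Matrix.det_mul, Matrix.det_mul, Matrix.det_nonsing_inv, Ring.inverse_eq_inv']
    field_simp
  have htrconj : ∀ M : Matrix (Fin 2) (Fin 2) F, (P * M * P⁻¹).trace = M.trace := by
    intro M
    rw [Matrix.trace_mul_comm, ← Matrix.mul_assoc, hPP', Matrix.one_mul]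
  have hYZ : (P * Y0 * P⁻¹) * (P * Z0 * P⁻¹) = (G : Matrix (Fin 2) (Fin 2) F) := by
    calc (P * Y0 * P⁻¹) * (P * Z0 * P⁻¹) = P * Y0 * (P⁻¹ * P) * Z0 * P⁻¹ := by
          simp only [Matrix.mul_assoc]
      _ = P * (Y0 * Z0) * P⁻¹ := by rw [hPP', Matrix.mul_one]; simp only [Matrix.mul_assoc]
      _ = (G : Matrix (Fin 2) (Fin 2) F) * (P * P⁻¹) := by
          rw [hYZ0, ← hGP]; simp only [Matrix.mul_assoc]
      _ = (G : Matrix (Fin 2) (Fin 2) F) := by rw [hPP, Matrix.mul_one]
  have hXns := not_scalar_of_trace_sq_ne_four (X : Matrix (Fin 2) (Fin 2) F) X.det_coe ht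
  have hYns := not_scalar_of_trace_sq_ne_four (P * Y0 * P⁻¹)
    (by rw [hdetconj, hY0det]) (by rw [htrconj, hY0tr]; exact ht)
  have hZns := not_scalar_of_trace_sq_ne_four (P * Z0 * P⁻¹)
    (by rw [hdetconj, hZ0det]) (by rw [htrconj, hZ0tr]; exact ht)
  obtain ⟨S1, hS1det, hS1⟩ := exists_sl2_conj_of_trace_eq (X : Matrix (Fin 2) (Fin 2) F)
    (P * Y0 * P⁻¹) X.det_coe (by rw [hdetconj, hY0det]) (by rw [htrconj, hY0tr]) hXns hYns hnorm
  obtain ⟨S2, hS2det, hS2⟩ := exists_sl2_conj_of_trace_eq (X : Matrix (Fin 2) (Fin 2) F)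
    (P * Z0 * P⁻¹) X.det_coe (by rw [hdetconj, hZ0det]) (by rw [htrconj, hZ0tr]) hXns hZns hnorm
  let U : Matrix.SpecialLinearGroup (Fin 2) F := ⟨S1, hS1det⟩
  let V : Matrix.SpecialLinearGroup (Fin 2) F := ⟨S2, hS2det⟩
  let Ysl : Matrix.SpecialLinearGroup (Fin 2) F := ⟨P * Y0 * P⁻¹, by rw [hdetconj, hY0det]⟩
  let Zsl : Matrix.SpecialLinearGroup (Fin 2) F := ⟨P * Z0 * P⁻¹, by rw [hdetconj, hZ0det]⟩
  have hU : U * X = Ysl * U := Subtype.ext hS1
  have hV : V * X = Zsl * V := Subtype.ext hS2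
  have hGYZ : G = Ysl * Zsl := Subtype.ext hYZ.symm
  refine ⟨U, V, ?_⟩
  rw [hU, hV, mul_inv_cancel_right, mul_inv_cancel_right, hGYZ]

end Cfsg.Agent.Helper41
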