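import Mathlib
import Cfsg.Agent.Helper99.QSpDefs

/-!
# (QE1) for S5974 (helper99): the number of hyperbolic pairs of a nondegenerate quadratic space of
dimension `2 g` and type `ε`, in arbitrary characteristic.

Characteristic-free port of helper94's `Tn.card_partners` / `Tn.card_hpairs`.
-/

set_option autoImplicit false
set_option linter.unusedSectionVars false
set_option linter.style.haveILetI false
set_option linter.unusedSimpArgs false

namespace Cfsg.Agent.Helper41.QSp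

open Module Polynomial
open Cfsg.Agent.Helper59.InvChain Cfsg.Agent.Helper59.Elusive
open Cfsg.Agent.Helper99.SpStruct Cfsg.Agent.Helper99.RDecomp
open Cfsg.Agent.Helper44 Cfsg.Agent.Helper44.QType
open Cfsg.Agent.Helper99.QSp

universe u v

section general

variable {F : Type u} [Field F]
variable {V : Type v} [AddCommGroup V] [Module F V]

theorem q_add (Q : QuadraticForm F V) (x y : V) : Q (x + y) = Q x + Q y + pB Q x y := by
  rw [pB_apply]
  unfold QuadraticMap.polar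
  ring

theorem q_smul (Q : QuadraticForm F V) (c : F) (x : V) : Q (c • x) = c * c * Q x := by
  rw [QuadraticMap.map_smul, smul_eq_mul]

theorem q_sub (Q : QuadraticForm F V) (x y : V) : Q (x - y) = Q x + Q y - pB Q x y := by
  rw [sub_eq_add_neg, q_add, QuadraticMap.map_neg, map_neg]
  ring

/-- a singular hyperbolic partner of a nonzero singular vector -/
theorem exists_qpartner (Q : QuadraticForm F V) {X : Submodule F V} (hX : Nd (pB Q) X)
    {u : V} (huX : u ∈ X) (hu0 : u ≠ 0) (hQu : Q u = 0) :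
    ∃ v₀ ∈ X, Q v₀ = 0 ∧ pB Q u v₀ = 1 := by
  have hex : ∃ w ∈ X, pB Q w u ≠ 0 := by
    by_contra hcon
    push Not at hcon
    exact hu0 (nd_iff.mp hX u huX hcon)
  obtain ⟨w, hw, hwu⟩ := hex
  have huw : pB Q u w ≠ 0 := by rwa [(pB_symm Q).eq]
  obtain ⟨w', hw'X, huw'⟩ : ∃ w' ∈ X, pB Q u w' = 1 :=
    ⟨(pB Q u w)⁻¹ • w, X.smul_mem _ hw, by rw [map_smul, smul_eq_mul, inv_mul_cancel₀ huw]⟩
  have hw'u : pB Q w' u = 1 := by rw [(pB_symm Q).eq]; exact huw'
  have huu : pB Q u u = 0 := by rw [pB_self, hQu, mul_zero]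
  refine ⟨w' - (Q w') • u, X.sub_mem hw'X (X.smul_mem _ huX), ?_, ?_⟩
  · rw [q_sub, q_smul, hQu, map_smul, smul_eq_mul, hw'u]
    ring
  · rw [map_sub, map_smul, huu, huw']
    simp

end general

variable {F : Type u} [Field F] [Fintype F]
variable {V : Type v} [AddCommGroup V] [Module F V] [FiniteDimensional F V]

/-- the number of singular hyperbolic partners of a nonzero singular vector -/
theorem card_qpartners (Q : QuadraticForm F V) {X : Submodule F V} (hX : Nd (pB Q) X)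
    {n' : ℕ} (hdim : finrank F ↥X = n' + 2) {u : V} (huX : u ∈ X) (hu0 : u ≠ 0)
    (hQu : Q u = 0) :
    Nat.card {v : V // v ∈ X ∧ Q v = 0 ∧ pB Q u v = 1} = Fintype.card F ^ n' := by
  classical
  haveI : Finite V := Module.finite_of_finite F
  have hB : (pB Q).IsSymm := pB_symm Q
  obtain ⟨v₀, hv₀X, hQv₀, huv₀⟩ := exists_qpartner Q hX huX hu0 hQu
  have hv₀u : pB Q v₀ u = 1 := by rw [hB.eq]; exact huv₀
  have huu : pB Q u u = 0 := by rw [pB_self, hQu, mul_zero]
  have hv₀v₀ : pB Q v₀ v₀ = 0 := by rw [pB_self, hQv₀, mul_zero]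
  obtain ⟨hPnd, hPdim, -⟩ := Cfsg.Agent.Helper94.Tn.hpair_plane hB huu hv₀v₀ huv₀
  have hPX : Submodule.span F {u, v₀} ≤ X := by
    rw [Submodule.span_le]
    rintro x hx
    rcases hx with rfl | rfl
    · exact huX
    · exact hv₀X
  have hYdim := hPnd.finrank_inf_orth hB.isRefl hPX
  rw [hPdim, hdim] at hYdim
  set Y := X ⊓ (pB Q).orthogonal (Submodule.span F {u, v₀}) with hY
  have hYdim' : finrank F ↥Y = n' := by omega
  have hmemY : ∀ x : V, x ∈ Y ↔ x ∈ X ∧ pB Q u x = 0 ∧ pB Q v₀ x = 0 := by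
    intro x
    rw [hY, Submodule.mem_inf, Cfsg.Agent.Helper94.Tn.mem_orthogonal_pair]
  have e1 : ↥Y ≃ {v : V // v ∈ X ∧ Q v = 0 ∧ pB Q u v = 1} :=
    { toFun := fun z => ⟨v₀ - (Q (z : V)) • u + z, by
        obtain ⟨hzX, huz, hv₀z⟩ := (hmemY z.1).mp z.2
        have hzu : pB Q (z : V) u = 0 := by rw [hB.eq]; exact huz
        have hzv₀ : pB Q (z : V) v₀ = 0 := by rw [hB.eq]; exact hv₀z
        refine ⟨X.add_mem (X.sub_mem hv₀X (X.smul_mem _ huX)) hzX, ?_, ?_⟩
        · rw [q_add, q_sub, q_smul, hQu, hQv₀]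
          simp only [map_sub, map_smul, LinearMap.sub_apply, LinearMap.smul_apply, smul_eq_mul,
            huv₀, hv₀u, huz, hv₀z, hzu, hzv₀]
          ring
        · simp only [map_add, map_sub, map_smul, smul_eq_mul, huu, huv₀, huz]
          ring⟩
      invFun := fun v => ⟨v.1 - v₀ - (pB Q (v.1 - v₀) v₀) • u, by
        obtain ⟨hvX, hvv, huv⟩ := v.2
        rw [hmemY]
        refine ⟨X.sub_mem (X.sub_mem hvX hv₀X) (X.smul_mem _ huX), ?_, ?_⟩
        · simp only [map_sub, map_smul, smul_eq_mul, huu, huv₀, huv]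
          ring
        · have hv₀v : pB Q v₀ v.1 = pB Q v.1 v₀ := hB.eq _ _
          simp only [map_sub, map_smul, LinearMap.sub_apply, smul_eq_mul, hv₀v₀, hv₀u, hv₀v]
          ring⟩
      left_inv := fun z => by
        obtain ⟨hzX, huz, hv₀z⟩ := (hmemY z.1).mp z.2
        have hzv₀ : pB Q (z : V) v₀ = 0 := by rw [hB.eq]; exact hv₀z
        apply Subtype.ext
        show v₀ - (Q (z : V)) • u + z - v₀ -
          (pB Q (v₀ - (Q (z : V)) • u + z - v₀) v₀) • u = z
        simp only [map_add, map_sub, map_smul, LinearMap.add_apply, LinearMap.sub_apply,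
          LinearMap.smul_apply, smul_eq_mul, hv₀v₀, huv₀, hzv₀]
        module
      right_inv := fun v => by
        obtain ⟨hvX, hvv, huv⟩ := v.2
        have hvu : pB Q v.1 u = 1 := by rw [hB.eq]; exact huv
        have hv₀v : pB Q v₀ v.1 = pB Q v.1 v₀ := hB.eq _ _
        apply Subtype.ext
        show v₀ - (Q (v.1 - v₀ - (pB Q (v.1 - v₀) v₀) • u)) • u
          + (v.1 - v₀ - (pB Q (v.1 - v₀) v₀) • u) = v.1
        have hnorm : Q (v.1 - v₀ - (pB Q (v.1 - v₀) v₀) • u) = - pB Q v.1 v₀ := by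
          rw [q_sub, q_sub, q_smul, hQu, hvv, hQv₀]
          simp only [map_sub, map_smul, LinearMap.sub_apply, LinearMap.smul_apply, smul_eq_mul,
            huu, hv₀v₀, huv₀, hv₀u, huv, hvu, hv₀v]
          ring
        rw [hnorm]
        have h3 : pB Q (v.1 - v₀) v₀ = pB Q v.1 v₀ := by
          rw [map_sub, LinearMap.sub_apply, hv₀v₀, sub_zero]
        rw [h3]
        module }
  rw [← Nat.card_congr e1, Module.natCard_eq_pow_finrank (K := F) (V := ↥Y), hYdim',
    Nat.card_eq_fintype_card]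

/-- the number of nonzero singular vectors of a nondegenerate `2g`-space of type `ε` -/
theorem card_singular_ne_zero (Q : QuadraticForm F V) {X : Submodule F V} (hX : Nd (pB Q) X)
    {g : ℕ} (hg : 0 < g) (hdim : finrank F ↥X = 2 * g) {ε : ℤ} (hε : QType Q X g ε) :
    (Nat.card {u : V // (u ∈ X ∧ Q u = 0) ∧ u ≠ 0} : ℤ) =
      ((Fintype.card F : ℤ) ^ g - ε) * ((Fintype.card F : ℤ) ^ (g - 1) + ε) := by
  classical
  haveI : Finite V := Module.finite_of_finite F
  obtain ⟨ε', hε', hT'⟩ := exists_qType Q hX hdim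
  have hεε : ε = ε' := QType.unique hε hT'
  have hsq : ε * ε = 1 := by
    rw [hεε]
    rcases hε' with h | h <;> rw [h] <;> norm_num
  have h1 : Nat.card {u : V // (u ∈ X ∧ Q u = 0) ∧ u ≠ 0} =
      ({v : V | v ∈ X ∧ Q v = 0} \ {0}).ncard := by
    rw [← Nat.card_coe_set_eq]
    rfl
  have h0 : (0 : V) ∈ {v : V | v ∈ X ∧ Q v = 0} := ⟨X.zero_mem, map_zero _⟩
  have e2 : {v : ↥X // (qSub Q X) v = 0} ≃ ↥{v : V | v ∈ X ∧ Q v = 0} :=
    { toFun := fun v => ⟨v.1.1, v.1.2, v.2⟩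
      invFun := fun v => ⟨⟨v.1, v.2.1⟩, v.2.2⟩
      left_inv := fun v => rfl
      right_inv := fun v => rfl }
  have hfc : fc (⇑(qSub Q X)) 0 = ({v : V | v ∈ X ∧ Q v = 0}).ncard := by
    unfold fc
    rw [← Nat.card_coe_set_eq]
    exact Nat.card_congr e2
  have hpos : 0 < ({v : V | v ∈ X ∧ Q v = 0}).ncard := by
    rw [Set.ncard_pos]
    exact ⟨0, h0⟩
  rw [h1, Set.ncard_sdiff_singleton_of_mem h0, ← hfc] at *
  have hT : (fc (⇑(qSub Q X)) 0 : ℤ) * (Nat.card F : ℤ) =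
      (Nat.card F : ℤ) ^ (2 * g) + ε * ((Nat.card F : ℤ) ^ (g + 1) - (Nat.card F : ℤ) ^ g) := hε
  rw [Nat.card_eq_fintype_card] at hT
  have hq0 : (Fintype.card F : ℤ) ≠ 0 := by
    have : 0 < Fintype.card F := Fintype.card_pos
    exact_mod_cast this.ne'
  obtain ⟨k, rfl⟩ : ∃ k, g = k + 1 := ⟨g - 1, by omega⟩
  rw [Nat.cast_sub hpos]
  apply mul_right_cancel₀ hq0
  have hexp : (Fintype.card F : ℤ) ^ (2 * (k + 1)) =
      (Fintype.card F : ℤ) ^ k * (Fintype.card F : ℤ) ^ k * (Fintype.card F : ℤ) ^ 2 := by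
    rw [← pow_add, ← pow_add]
    congr 1
    ring
  rw [Nat.add_sub_cancel]
  rw [hexp] at hT
  linear_combination hT + (Fintype.card F : ℤ) * hsq

/-- (QE1) the number of hyperbolic pairs of a nondegenerate `2g`-space of type `ε` -/
theorem card_qpairs (Q : QuadraticForm F V) {X : Submodule F V} (hX : Nd (pB Q) X) {g : ℕ}
    (hg : 0 < g) (hdim : finrank F ↥X = 2 * g) {ε : ℤ} (hε : QType Q X g ε) :
    (Nat.card {p : V × V // IsQPair Q p ∧ p.1 ∈ X ∧ p.2 ∈ X} : ℤ) =
      ((Fintype.card F : ℤ) ^ g - ε) * ((Fintype.card F : ℤ) ^ (g - 1) + ε) *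
        (Fintype.card F : ℤ) ^ (2 * g - 2) := by
  classical
  haveI : Finite V := Module.finite_of_finite F
  let e1 : {p : V × V // IsQPair Q p ∧ p.1 ∈ X ∧ p.2 ∈ X} ≃
      Σ u : {u : V // (u ∈ X ∧ Q u = 0) ∧ u ≠ 0},
        {v : V // v ∈ X ∧ Q v = 0 ∧ pB Q u.1 v = 1} :=
    { toFun := fun p => ⟨⟨p.1.1, ⟨p.2.2.1, p.2.1.1⟩, by
          intro h0
          have := p.2.1.2.2
          rw [h0, map_zero, LinearMap.zero_apply] at this
          exact zero_ne_one this⟩, ⟨p.1.2, p.2.2.2, p.2.1.2.1, p.2.1.2.2⟩⟩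
      invFun := fun x => ⟨(x.1.1, x.2.1), ⟨x.1.2.1.2, x.2.2.2.1, x.2.2.2.2⟩, x.1.2.1.1, x.2.2.1⟩
      left_inv := fun p => rfl
      right_inv := fun x => rfl }
  haveI : Fintype {u : V // (u ∈ X ∧ Q u = 0) ∧ u ≠ 0} := Fintype.ofFinite _
  rw [Nat.card_congr e1, Nat.card_sigma]
  have hfib : ∀ u : {u : V // (u ∈ X ∧ Q u = 0) ∧ u ≠ 0},
      Nat.card {v : V // v ∈ X ∧ Q v = 0 ∧ pB Q u.1 v = 1} = Fintype.card F ^ (2 * g - 2) := by
    intro u
    exact card_qpartners Q hX (by omega) u.2.1.1 u.2.2 u.2.1.2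
  rw [Finset.sum_congr rfl (fun u _ => hfib u), Finset.sum_const, Finset.card_univ,
    ← Nat.card_eq_fintype_card, smul_eq_mul, Nat.cast_mul, card_singular_ne_zero Q hX hg hdim hε,
    Nat.cast_pow]

end Cfsg.Agent.Helper41.QSp
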