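import Mathlib
import Cfsg.Agent.Helper99.QSpDefs

/-!
# (QH1c) for S5974 (helper99): an isometry `y` with `y * y = -1` of a quadratic space over a finite
field in which `-1` is not a square: every `y`-invariant nondegenerate subspace `X` contains, for
each `2 t ≤ dim X`, a `y`-invariant nondegenerate subspace of dimension `2 t` and type `(-1) ^ t`
(an orthogonal sum of `t` anisotropic `y`-invariant planes).
-/

set_option autoImplicit false
set_option linter.unusedSectionVars false
set_option linter.style.haveILetI false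
set_option linter.unusedSimpArgs false
set_option linter.unusedVariables false

namespace Cfsg.Agent.Helper41.QSp

open Module Polynomial
open Cfsg.Agent.Helper59.InvChain Cfsg.Agent.Helper59.Elusive
open Cfsg.Agent.Helper99.SpStruct Cfsg.Agent.Helper99.RDecomp
open Cfsg.Agent.Helper44 Cfsg.Agent.Helper44.QType
open Cfsg.Agent.Helper99.QSp

universe u v

variable {F : Type u} [Field F] [Fintype F]
variable {V : Type v} [AddCommGroup V] [Module F V] [FiniteDimensional F V]

/-- the anisotropic `y`-invariant plane through a nonsingular vector -/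
theorem nonsplit_plane (Q : QuadraticForm F V) (h2 : (2 : F) ≠ 0) (y : Module.End F V)
    (hiso : ∀ v, Q (y v) = Q v) (hy : y * y = -1) (hns : ∀ a : F, a * a ≠ -1) {v : V}
    (hv : Q v ≠ 0) :
    Inv y (Submodule.span F {v, y v}) ∧ Nd (pB Q) (Submodule.span F {v, y v}) ∧
      finrank F ↥(Submodule.span F {v, y v}) = 2 ∧ QType Q (Submodule.span F {v, y v}) 1 (-1) := by
  classical
  haveI : Finite V := Module.finite_of_finite F
  have hyy : ∀ x : V, y (y x) = -x := by
    intro x
    have := congrArg (fun f : Module.End F V => f x) hy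
    simpa using this
  have hvyv : pB Q v (y v) = 0 := by
    have h1 : pB Q (y v) (y (y v)) = pB Q v (y v) := isom_pB hiso v (y v)
    rw [hyy, map_neg, (pB_symm Q).eq (y v) v] at h1
    have h3 : (2 : F) * pB Q v (y v) = 0 := by linear_combination -h1
    rcases mul_eq_zero.mp h3 with h | h
    · exact absurd h h2
    · exact h
  have hQ : ∀ a b : F, Q (a • v + b • y v) = (a * a + b * b) * Q v := by
    intro a b
    rw [Cfsg.Agent.Helper99.QSp.pB_apply] at hvyv
    have : Q (a • v + b • y v) = Q (a • v) + Q (b • y v) + pB Q (a • v) (b • y v) := by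
      rw [pB_apply]
      unfold QuadraticMap.polar
      ring
    rw [this, QuadraticMap.map_smul, QuadraticMap.map_smul, hiso, map_smul, map_smul,
      LinearMap.smul_apply, pB_apply, hvyv]
    simp only [smul_eq_mul, mul_zero, add_zero]
    ring
  have hzero : ∀ a b : F, Q (a • v + b • y v) = 0 → a = 0 ∧ b = 0 := by
    intro a b h
    rw [hQ] at h
    have h3 : a * a + b * b = 0 := by
      rcases mul_eq_zero.mp h with h | h
      · exact h
      · exact absurd h hv
    by_cases hb : b = 0
    · rw [hb, mul_zero, add_zero] at h3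
      exact ⟨mul_self_eq_zero.mp h3, hb⟩
    · exfalso
      apply hns (a / b)
      field_simp
      linear_combination h3
  have hli : LinearIndependent F ![v, y v] := by
    rw [LinearIndependent.pair_iff]
    intro s t hst
    apply hzero s t
    rw [hst, map_zero]
  have hrange : Set.range ![v, y v] = {v, y v} := by
    ext x
    simp only [Set.mem_range, Set.mem_insert_iff, Set.mem_singleton_iff]
    constructor
    · rintro ⟨j, rfl⟩
      fin_cases j
      · left; rfl
      · right; rfl
    · rintro (rfl | rfl)
      · exact ⟨0, rfl⟩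
      · exact ⟨1, rfl⟩
  have hdim : finrank F ↥(Submodule.span F {v, y v}) = 2 := by
    rw [← hrange, finrank_span_eq_card hli, Fintype.card_fin]
  have hL0 : ∀ x ∈ Submodule.span F {v, y v}, Q x = 0 → x = 0 := by
    intro x hx hQx
    obtain ⟨a, b, rfl⟩ := Submodule.mem_span_pair.mp hx
    obtain ⟨ha, hb⟩ := hzero a b hQx
    rw [ha, hb, zero_smul, zero_smul, add_zero]
  refine ⟨?_, ?_, hdim, ?_⟩
  · rw [inv_iff]
    intro x hx
    obtain ⟨a, b, rfl⟩ := Submodule.mem_span_pair.mp hx
    rw [map_add, map_smul, map_smul, hyy]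
    apply Submodule.mem_span_pair.mpr
    exact ⟨-b, a, by module⟩
  · rw [nd_iff]
    intro x hx hx'
    apply hL0 x hx
    have h3 := hx' x hx
    rw [pB_self] at h3
    rcases mul_eq_zero.mp h3 with h | h
    · exact absurd h h2
    · exact h
  · unfold QType HasType fc
    have h1 : Nat.card {w : ↥(Submodule.span F {v, y v}) //
        (qSub Q (Submodule.span F {v, y v})) w = 0} = 1 := by
      haveI : Unique {w : ↥(Submodule.span F {v, y v}) //
          (qSub Q (Submodule.span F {v, y v})) w = 0} :=
        { default := ⟨0, map_zero _⟩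
          uniq := fun a => by
            apply Subtype.ext
            apply Subtype.ext
            exact hL0 a.1.1 a.1.2 a.2 }
      exact Nat.card_unique
    rw [h1]
    ring

/-- (QH1c) -/
theorem exists_inv_typed_of_sq_neg_one_nonsplit (Q : QuadraticForm F V)
    (hnd : (pB Q).Nondegenerate) (h2 : (2 : F) ≠ 0) (y : Module.End F V)
    (hiso : ∀ v, Q (y v) = Q v) (hy : y * y = -1) (hns : ∀ a : F, a * a ≠ -1) :
    ∀ t : ℕ, ∀ X : Submodule F V, Inv y X → Nd (pB Q) X → 2 * t ≤ finrank F ↥X →
      ∃ W : Submodule F V, W ≤ X ∧ Inv y W ∧ Nd (pB Q) W ∧ finrank F ↥W = 2 * t ∧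
        QType Q W t ((-1) ^ t) := by
  classical
  have hB : (pB Q).IsSymm := pB_symm Q
  have hyy : ∀ x : V, y (y x) = -x := by
    intro x
    have := congrArg (fun f : Module.End F V => f x) hy
    simpa using this
  intro t
  induction t with
  | zero =>
    intro X _ _ _
    refine ⟨⊥, bot_le, inv_bot y, nd_bot, by simp, ?_⟩
    rw [pow_zero]
    exact qType_bot Q
  | succ t ih =>
    intro X hXinv hXnd hXdim
    -- a nonsingular vector of `X`
    have hex : ∃ v ∈ X, Q v ≠ 0 := by
      by_contra hcon
      push Not at hcon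
      have hbot : X = ⊥ := by
        rw [eq_bot_iff]
        intro u hu
        rw [Submodule.mem_bot]
        apply nd_iff.mp hXnd u hu
        intro w hw
        rw [pB_apply]
        unfold QuadraticMap.polar
        rw [hcon _ (X.add_mem hw hu), hcon w hw, hcon u hu]
        simp
      rw [hbot, finrank_bot] at hXdim
      omega
    obtain ⟨v, hvX, hv⟩ := hex
    obtain ⟨hLinv, hLnd, hLdim, hLT⟩ := nonsplit_plane Q h2 y hiso hy hns hv
    set L := Submodule.span F {v, y v} with hL
    have hLX : L ≤ X := by
      rw [hL, Submodule.span_le]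
      rintro x hx
      rcases hx with rfl | rfl
      · exact hvX
      · exact hXinv.apply_mem hvX
    -- the orthogonal complement of `L` is invariant
    have hLoinv : Inv y ((pB Q).orthogonal L) := by
      rw [inv_iff]
      intro x hx
      rw [LinearMap.BilinForm.mem_orthogonal_iff] at hx ⊢
      intro w hw
      have h1 : pB Q (y (-(y w))) (y x) = pB Q (-(y w)) x := isom_pB hiso _ _
      rw [map_neg, hyy, neg_neg] at h1
      show pB Q w (y x) = 0
      rw [h1]
      exact hx _ (L.neg_mem (hLinv.apply_mem hw))
    have hX'inv : Inv y (X ⊓ (pB Q).orthogonal L) := inv_inf hXinv hLoinv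
    have hX'nd : Nd (pB Q) (X ⊓ (pB Q).orthogonal L) := hLnd.inf_orth hB.isRefl hLX hXnd
    have hX'dim := hLnd.finrank_inf_orth hB.isRefl hLX
    rw [hLdim] at hX'dim
    obtain ⟨W', hW'X', hW'inv, hW'nd, hW'dim, hW'T⟩ :=
      ih (X ⊓ (pB Q).orthogonal L) hX'inv hX'nd (by omega)
    have hLW' : Orth (pB Q) L W' := orth_iff_le.mpr (le_trans hW'X' inf_le_right)
    have hdis : Disjoint L W' := hLW'.disjoint hLnd
    refine ⟨L ⊔ W', sup_le hLX (le_trans hW'X' inf_le_left), inv_sup hLinv hW'inv,
      hLnd.sup hB.isRefl hW'nd hLW', ?_, ?_⟩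
    · rw [finrank_sup_of_disjoint hdis, hLdim, hW'dim]
      ring
    · have h := qType_sup Q hLnd hW'nd hLW' (e₁ := 1) (e₂ := t) (by rw [hLdim]) hW'dim hLT hW'T
      have h1 : 1 + t = t + 1 := Nat.add_comm 1 t
      have h3 : (-1 : ℤ) * (-1) ^ t = (-1) ^ (t + 1) := by ring
      rw [h1, h3] at h
      exact h

end Cfsg.Agent.Helper41.QSp
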