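import Cfsg.Agent.Helper36.TorD.Defs
import Cfsg.Agent.Helper18.Ree.DiagChar

/-!
helper41, piece (TC) of helper36's farm #13634 (TorData for `F₄`, `E₈`; S2372/S2375): the torus acts on the root
groups through the characters.
-/

set_option autoImplicit false

namespace Cfsg.Agent.Helper41.TorD

open Cfsg Cfsg.Lie Cfsg.Agent.Helper18 Cfsg.Agent.Helper19.Cox Cfsg.Agent.Helper19.Poinc
  Cfsg.Agent.Helper80.Tor Cfsg.Agent.Helper36.TorD

section Fields

variable {F K : Type*} [Field F] [Fintype F] [Field K] [Fintype K] [Algebra F K]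

variable (D : ChevalleyDatum)
  (hD : D ∈ [chevG2, chevB2, chevD4, chevF4, chevE6, chevE7, chevE8])
include hD

/-- (TC) the torus acts on the root groups through the characters -/
theorem torusHom_conj (c : Fin D.rank → Kˣ) (s : ℕ) (hs : s < D.nroots) (t : K) :
    torusHom D K c * xGL D K s t * (torusHom D K c)⁻¹ = xGL D K s (((chrD D s c : Kˣ) : K) * t) := by
  obtain ⟨χ, -, hd, hc, -⟩ := Cfsg.Agent.Helper18.Ree.diag_char_neg D hD _ (torusHom_mem D hD (F := K) c)
  have h1 := hc s hs t
  rw [mul_inv_eq_iff_eq_mul]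
  have h2 : χ s = ((chrD D s c : Kˣ) : K) := by
    have h3 := congrFun (congrFun hd (Sum.inr ⟨s, hs⟩)) (Sum.inr ⟨s, hs⟩)
    rw [Matrix.diagonal_apply_eq] at h3
    simp only [Sum.elim_inr] at h3
    rw [← h3]
    rw [torusHom_val, Matrix.diagonal_apply_eq]
    simp only [torusChar, MonoidHom.coe_mk, OneHom.coe_mk, Sum.elim_inr]
    rfl
  rw [← h2]
  exact h1

end Fields

end Cfsg.Agent.Helper41.TorD
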