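import Cfsg.Agent.Helper36.TorD.Defs

/-!
helper41, piece (TE) of helper36's farm #13634 (TorData for `F₄`, `E₈`; S2372/S2375): torus elements are determined
by the values of the roots.
-/

set_option autoImplicit false

namespace Cfsg.Agent.Helper41.TorD

open Cfsg Cfsg.Lie Cfsg.Agent.Helper18 Cfsg.Agent.Helper19.Cox Cfsg.Agent.Helper19.Poinc
  Cfsg.Agent.Helper80.Tor Cfsg.Agent.Helper36.TorD

section Fields

variable {F K : Type*} [Field F] [Fintype F] [Field K] [Fintype K] [Algebra F K]

variable (D : ChevalleyDatum)
  (hD : D ∈ [chevG2, chevB2, chevD4, chevF4, chevE6, chevE7, chevE8])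
include hD

/-- the diagonal entry of `torusHom D K c` at the root `s` -/
theorem torusHom_entry_inr (c : Fin D.rank → Kˣ) (s : ℕ) (hs : s < D.nroots) :
    ((torusHom D K c : GL D.Idx K) : Matrix D.Idx D.Idx K) (Sum.inr ⟨s, hs⟩) (Sum.inr ⟨s, hs⟩) =
      ((chrD D s c : Kˣ) : K) := by
  rw [torusHom_val, Matrix.diagonal_apply_eq]
  simp only [torusChar, MonoidHom.coe_mk, OneHom.coe_mk, Sum.elim_inr]
  rfl

/-- (TE) torus elements are determined by the values of the roots -/
theorem torusHom_eq_iff (c c' : Fin D.rank → Kˣ) :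
    torusHom D K c = torusHom D K c' ↔ ∀ s < D.nroots, chrD D s c = chrD D s c' := by
  constructor
  · intro h s hs
    apply Units.ext
    rw [← torusHom_entry_inr D hD c s hs, ← torusHom_entry_inr D hD c' s hs, h]
  · intro h
    apply Units.ext
    rw [torusHom_val, torusHom_val]
    congr 1
    funext j
    rcases j with a | s
    · simp [torusChar]
    · have := h s.val s.2
      simp only [torusChar, MonoidHom.coe_mk, OneHom.coe_mk, Sum.elim_inr]
      exact congrArg Units.val this

end Fields

end Cfsg.Agent.Helper41.TorD
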