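import Mathlib
import Cfsg.Agent.Helper13.FExtDefs
import Cfsg.Agent.Helper43.SpOrthA
import Cfsg.Agent.Helper43.SpSSM
import Cfsg.Agent.Helper43.InvConj

/-!
# (E2g) of #7889 for helper13 (S5975): symplectic involutions with supports of the same dimension
are `Sp`-conjugate (helper41)
-/

set_option autoImplicit false

namespace Cfsg.Agent.Helper41.FExtE2g

open Matrix Cfsg Cfsg.Geo
open Cfsg.Agent.Helper13.FExt

variable {F : Type*} [Field F]

/-- involutions (any finite index type `ι ≃ Fin N`) with `rank (A - 1) = rank (B - 1)` have the same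
characteristic polynomial -/
theorem charpoly_eq_of_invol {ι : Type*} [Fintype ι] [DecidableEq ι] (h2 : (2 : F) ≠ 0)
    (A B : Matrix ι ι F) (hA : A * A = 1) (hB : B * B = 1) (hr : (A - 1).rank = (B - 1).rank) :
    A.charpoly = B.charpoly := by
  classical
  set N := Fintype.card ι
  let e : ι ≃ Fin N := Fintype.equivFin ι
  let R : Matrix ι ι F ≃ₐ[F] Matrix (Fin N) (Fin N) F := Matrix.reindexAlgEquiv F F e
  have hRA : R A * R A = 1 := by rw [← map_mul, hA, map_one]
  have hRB : R B * R B = 1 := by rw [← map_mul, hB, map_one]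
  let gA : GL (Fin N) F := ⟨R A, R A, hRA, hRA⟩
  let gB : GL (Fin N) F := ⟨R B, R B, hRB, hRB⟩
  have hrank : ((gA : Matrix (Fin N) (Fin N) F) - 1).rank =
      ((gB : Matrix (Fin N) (Fin N) F) - 1).rank := by
    show (R A - 1).rank = (R B - 1).rank
    have h1 : R A - 1 = R (A - 1) := by rw [map_sub, map_one]
    have h2' : R B - 1 = R (B - 1) := by rw [map_sub, map_one]
    rw [h1, h2']
    show ((Matrix.reindexAlgEquiv F F e) (A - 1)).rank = ((Matrix.reindexAlgEquiv F F e) (B - 1)).rank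
    rw [Matrix.coe_reindexAlgEquiv, Matrix.rank_reindex, Matrix.rank_reindex, hr]
  have hconj := Cfsg.Agent.Helper43.Inv.isConj_of_invol h2 gA gB hRA hRB hrank
  obtain ⟨c, hc⟩ := isConj_iff.mp hconj
  have hcp : (R A).charpoly = (R B).charpoly := by
    have h3 : (gB : Matrix (Fin N) (Fin N) F) =
        (c : Matrix (Fin N) (Fin N) F) * (gA : Matrix (Fin N) (Fin N) F) *
          ((c⁻¹ : GL (Fin N) F) : Matrix (Fin N) (Fin N) F) := by
      rw [← hc]; simp
    show (gA : Matrix (Fin N) (Fin N) F).charpoly = (gB : Matrix (Fin N) (Fin N) F).charpoly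
    rw [h3, Matrix.coe_units_inv]
    exact (Matrix.charpoly_units_conj c _).symm
  have hRAc : (R A).charpoly = A.charpoly := by
    show ((Matrix.reindexAlgEquiv F F e) A).charpoly = A.charpoly
    rw [Matrix.coe_reindexAlgEquiv, Matrix.charpoly_reindex]
  have hRBc : (R B).charpoly = B.charpoly := by
    show ((Matrix.reindexAlgEquiv F F e) B).charpoly = B.charpoly
    rw [Matrix.coe_reindexAlgEquiv, Matrix.charpoly_reindex]
  rw [← hRAc, ← hRBc, hcp]

/-- (E2g) involutions with supports of the same dimension are conjugate -/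
theorem conj_of_sq_one [Fintype F] (h2 : (2 : F) ≠ 0) (d : ℕ) (x y : GL (Fin d ⊕ Fin d) F)
    (hx : x ∈ spGL d F) (hy : y ∈ spGL d F) (hx2 : x ^ 2 = 1) (hy2 : y ^ 2 = 1)
    (hxy : Module.finrank F (supp (x : Matrix (Fin d ⊕ Fin d) (Fin d ⊕ Fin d) F)) =
      Module.finrank F (supp (y : Matrix (Fin d ⊕ Fin d) (Fin d ⊕ Fin d) F))) :
    ∃ g ∈ spGL d F, g⁻¹ * x * g = y := by
  have hxs := (Cfsg.Agent.Helper43.SpOrth.mem_spGL_iff_mem_symp x).mp hx
  have hys := (Cfsg.Agent.Helper43.SpOrth.mem_spGL_iff_mem_symp y).mp hy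
  have hxm : (x : Matrix (Fin d ⊕ Fin d) (Fin d ⊕ Fin d) F) ^ 2 = 1 := by
    rw [← Units.val_pow_eq_pow_val, hx2, Units.val_one]
  have hym : (y : Matrix (Fin d ⊕ Fin d) (Fin d ⊕ Fin d) F) ^ 2 = 1 := by
    rw [← Units.val_pow_eq_pow_val, hy2, Units.val_one]
  have hcp : (y : Matrix (Fin d ⊕ Fin d) (Fin d ⊕ Fin d) F).charpoly =
      (x : Matrix (Fin d ⊕ Fin d) (Fin d ⊕ Fin d) F).charpoly := by
    apply charpoly_eq_of_invol h2
    · rw [← sq]; exact hym
    · rw [← sq]; exact hxm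
    · exact hxy.symm
  have h2F : ((2 : ℕ) : F) ≠ 0 := by exact_mod_cast h2
  obtain ⟨C, hC, hCc⟩ := Cfsg.Agent.Helper43.SpSS.exists_symp_conj_of_charpoly hys hxs 2 2 h2F h2F
    hym hxm hcp
  refine ⟨Cfsg.Agent.Helper43.SpOrth.sympToGL ⟨C, hC⟩, Cfsg.Agent.Helper43.SpOrth.sympToGL_mem _, ?_⟩
  rw [mul_assoc, inv_mul_eq_iff_eq_mul]
  apply Units.ext
  rw [Units.val_mul, Units.val_mul, Cfsg.Agent.Helper43.SpOrth.sympToGL_coe]
  exact hCc.symm

end Cfsg.Agent.Helper41.FExtE2g
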