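import Mathlib
import Cfsg.Agent.Helper13.FExtDefs
import Cfsg.Agent.Helper13.Symp
import Cfsg.Agent.Helper13.SpMax1
import Cfsg.Agent.Helper43.SpOrthA

/-!
# (S1b) of #7889 for helper13 (S5975): the block embedding `Sp_{2m}(F) → Sp_{2d}(F)` (helper41)
-/

set_option autoImplicit false

namespace Cfsg.Agent.Helper41.FExtS1b

open Matrix Cfsg Cfsg.Geo
open Cfsg.Agent.Helper13.FExt

/-- the index embedding -/
def emb {m d : ℕ} (hmd : m ≤ d) : Fin m ⊕ Fin m → Fin d ⊕ Fin d :=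
  Sum.map (Fin.castLE hmd) (Fin.castLE hmd)

theorem emb_injective {m d : ℕ} (hmd : m ≤ d) : Function.Injective (emb hmd) :=
  Sum.map_injective.mpr ⟨Fin.castLE_injective hmd, Fin.castLE_injective hmd⟩

/-- the `0/1` matrix of the coordinate embedding -/
def EE (F : Type*) [Field F] {m d : ℕ} (hmd : m ≤ d) : Matrix (Fin d ⊕ Fin d) (Fin m ⊕ Fin m) F :=
  fun k j => if k = emb hmd j then 1 else 0

variable {F : Type*} [Field F]

theorem EEt_mul_EE {m d : ℕ} (hmd : m ≤ d) :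
    (EE F hmd)ᵀ * EE F hmd = 1 := by
  ext i j
  simp only [Matrix.mul_apply, Matrix.transpose_apply, EE, Matrix.one_apply]
  simp only [mul_ite, mul_one, mul_zero, Finset.sum_ite_eq', Finset.mem_univ, if_true]
  by_cases h : i = j
  · subst h; simp
  · have : emb hmd j ≠ emb hmd i := fun h' => h ((emb_injective hmd) h').symm
    simp [h, this]

theorem J_mul_EE {m d : ℕ} (hmd : m ≤ d) :
    Matrix.J (Fin d) F * EE F hmd = EE F hmd * Matrix.J (Fin m) F := by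
  ext k j
  simp only [Matrix.mul_apply, EE]
  simp only [mul_ite, mul_one, mul_zero, Finset.sum_ite_eq', Finset.mem_univ, if_true, ite_mul,
    one_mul, zero_mul]
  rcases k with a | a <;> rcases j with b | b <;>
    simp [Matrix.J, emb, Fintype.sum_sum_type, Matrix.one_apply, Fin.ext_iff, eq_comm]
  · rw [Finset.sum_eq_single b]
    · split_ifs <;> simp_all
    · intro x _ hx
      have : ¬ ((b : ℕ) = (x : ℕ)) := fun h => hx (Fin.ext h.symm)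
      simp [this]
    · intro h; exact absurd (Finset.mem_univ b) h
  · rw [Finset.sum_eq_single b]
    · split_ifs <;> simp_all
    · intro x _ hx
      have : ¬ ((b : ℕ) = (x : ℕ)) := fun h => hx (Fin.ext h.symm)
      simp [this]
    · intro h; exact absurd (Finset.mem_univ b) h

theorem EEt_mul_J {m d : ℕ} (hmd : m ≤ d) :
    (EE F hmd)ᵀ * Matrix.J (Fin d) F
      = Matrix.J (Fin m) F * (EE F hmd)ᵀ := by
  have h := congrArg Matrix.transpose (J_mul_EE (F := F) hmd)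
  rw [Matrix.transpose_mul, Matrix.transpose_mul, Matrix.J_transpose, Matrix.J_transpose] at h
  rw [Matrix.mul_neg, Matrix.neg_mul] at h
  exact neg_injective h

/-- the block embedding on matrices -/
def Phi {m d : ℕ} (hmd : m ≤ d) (Y : Matrix (Fin m ⊕ Fin m) (Fin m ⊕ Fin m) F) :
    Matrix (Fin d ⊕ Fin d) (Fin d ⊕ Fin d) F :=
  1 + EE F hmd * (Y - 1) * (EE F hmd)ᵀ

theorem Phi_one {m d : ℕ} (hmd : m ≤ d) : Phi (F := F) hmd 1 = 1 := by
  simp [Phi]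

theorem Phi_mul {m d : ℕ} (hmd : m ≤ d) (Y Z : Matrix (Fin m ⊕ Fin m) (Fin m ⊕ Fin m) F) :
    Phi hmd (Y * Z) = Phi hmd Y * Phi hmd Z := by
  unfold Phi
  have h1 : (EE F hmd) * (Y - 1) * (EE F hmd)ᵀ *
      (EE F hmd * (Z - 1) * (EE F hmd)ᵀ) = EE F hmd * ((Y - 1) * (Z - 1)) * (EE F hmd)ᵀ := by
    calc (EE F hmd) * (Y - 1) * (EE F hmd)ᵀ *
          (EE F hmd * (Z - 1) * (EE F hmd)ᵀ)
        = EE F hmd * (Y - 1) * ((EE F hmd)ᵀ * EE F hmd) * (Z - 1) * (EE F hmd)ᵀ := by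
          simp only [Matrix.mul_assoc]
      _ = EE F hmd * ((Y - 1) * (Z - 1)) * (EE F hmd)ᵀ := by
          rw [EEt_mul_EE, Matrix.mul_one]; simp only [Matrix.mul_assoc]
  rw [mul_add, add_mul, add_mul, one_mul, one_mul, mul_one, h1]
  have h2 : Y * Z - 1 = (Y - 1) + (Z - 1) + (Y - 1) * (Z - 1) := by noncomm_ring
  rw [h2, Matrix.mul_add, Matrix.mul_add, Matrix.add_mul, Matrix.add_mul]
  abel

/-- the block embedding as a monoid homomorphism -/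
def PhiHom {m d : ℕ} (hmd : m ≤ d) :
    Matrix (Fin m ⊕ Fin m) (Fin m ⊕ Fin m) F →* Matrix (Fin d ⊕ Fin d) (Fin d ⊕ Fin d) F where
  toFun := Phi hmd
  map_one' := Phi_one hmd
  map_mul' := Phi_mul hmd

theorem Phi_transpose {m d : ℕ} (hmd : m ≤ d) (Y : Matrix (Fin m ⊕ Fin m) (Fin m ⊕ Fin m) F) :
    (Phi hmd Y)ᵀ = Phi hmd Yᵀ := by
  unfold Phi
  rw [Matrix.transpose_add, Matrix.transpose_one, Matrix.transpose_mul, Matrix.transpose_mul,
    Matrix.transpose_transpose, Matrix.transpose_sub, Matrix.transpose_one, Matrix.mul_assoc]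

theorem Phi_symp {m d : ℕ} (hmd : m ≤ d) (Y : Matrix (Fin m ⊕ Fin m) (Fin m ⊕ Fin m) F)
    (hY : Yᵀ * Matrix.J (Fin m) F * Y = Matrix.J (Fin m) F) :
    (Phi hmd Y)ᵀ * Matrix.J (Fin d) F * Phi hmd Y = Matrix.J (Fin d) F := by
  rw [Phi_transpose]
  unfold Phi
  have hE := EEt_mul_EE (F := F) hmd
  have h1 := J_mul_EE (F := F) hmd
  have h2 := EEt_mul_J (F := F) hmd
  -- abbreviations
  set E : Matrix (Fin d ⊕ Fin d) (Fin m ⊕ Fin m) F := EE F hmd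
  set Jd := Matrix.J (Fin d) F
  set Jm := Matrix.J (Fin m) F
  have e1 : E * (Yᵀ - 1) * Eᵀ * Jd = E * ((Yᵀ - 1) * Jm) * Eᵀ := by
    rw [Matrix.mul_assoc (E * (Yᵀ - 1)), h2]; simp only [Matrix.mul_assoc]
  have e2 : Jd * (E * (Y - 1) * Eᵀ) = E * (Jm * (Y - 1)) * Eᵀ := by
    rw [← Matrix.mul_assoc, ← Matrix.mul_assoc, h1]; simp only [Matrix.mul_assoc]
  have e3 : E * (Yᵀ - 1) * Eᵀ * Jd * (E * (Y - 1) * Eᵀ) =
      E * ((Yᵀ - 1) * Jm * (Y - 1)) * Eᵀ := by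
    rw [e1]
    calc E * ((Yᵀ - 1) * Jm) * Eᵀ * (E * (Y - 1) * Eᵀ)
        = E * ((Yᵀ - 1) * Jm) * (Eᵀ * E) * (Y - 1) * Eᵀ := by simp only [Matrix.mul_assoc]
      _ = E * ((Yᵀ - 1) * Jm * (Y - 1)) * Eᵀ := by
          rw [hE, Matrix.mul_one]; simp only [Matrix.mul_assoc]
  have hsum : (Yᵀ - 1) * Jm + Jm * (Y - 1) + (Yᵀ - 1) * Jm * (Y - 1) = 0 := by
    have : (Yᵀ - 1) * Jm + Jm * (Y - 1) + (Yᵀ - 1) * Jm * (Y - 1) = Yᵀ * Jm * Y - Jm := by
      noncomm_ring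
    rw [this, hY, sub_self]
  calc (1 + E * (Yᵀ - 1) * Eᵀ) * Jd * (1 + E * (Y - 1) * Eᵀ)
      = Jd + (E * (Yᵀ - 1) * Eᵀ * Jd + Jd * (E * (Y - 1) * Eᵀ)
          + E * (Yᵀ - 1) * Eᵀ * Jd * (E * (Y - 1) * Eᵀ)) := by noncomm_ring
    _ = Jd + E * ((Yᵀ - 1) * Jm + Jm * (Y - 1) + (Yᵀ - 1) * Jm * (Y - 1)) * Eᵀ := by
        rw [e3, e1, e2]
        simp only [Matrix.mul_add, Matrix.add_mul]
    _ = Jd := by rw [hsum, Matrix.mul_zero, Matrix.zero_mul, add_zero]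

theorem rank_Phi_sub_one {m d : ℕ} (hmd : m ≤ d)
    (Y : Matrix (Fin m ⊕ Fin m) (Fin m ⊕ Fin m) F) :
    (Phi hmd Y - 1).rank = (Y - 1).rank := by
  have h0 : Phi hmd Y - 1 = EE F hmd * (Y - 1) * (EE F hmd)ᵀ := by
    unfold Phi; abel
  rw [h0]
  apply le_antisymm
  · exact (Matrix.rank_mul_le_left _ _).trans (Matrix.rank_mul_le_right _ _)
  · have h1 : Y - 1 = (EE F hmd)ᵀ * (EE F hmd * (Y - 1) * (EE F hmd)ᵀ) * EE F hmd := by
      calc Y - 1 = ((EE F hmd)ᵀ * EE F hmd) * (Y - 1) *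
            ((EE F hmd)ᵀ * EE F hmd) := by rw [EEt_mul_EE, Matrix.one_mul, Matrix.mul_one]
        _ = _ := by simp only [Matrix.mul_assoc]
    conv_lhs => rw [h1]
    exact (Matrix.rank_mul_le_left _ _).trans (Matrix.rank_mul_le_right _ _)

/-- (S1b) the block embedding `Sp_{2m}(F) → Sp_{2d}(F)` -/
theorem exists_embed (m d : ℕ) (hmd : m ≤ d) (y : GL (Fin m ⊕ Fin m) F) (hy : y ∈ spGL m F) :
    ∃ x ∈ spGL d F, (∀ n : ℕ, y ^ n = 1 → x ^ n = 1) ∧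
      Module.finrank F (supp (x : Matrix (Fin d ⊕ Fin d) (Fin d ⊕ Fin d) F)) =
        Module.finrank F (supp (y : Matrix (Fin m ⊕ Fin m) (Fin m ⊕ Fin m) F)) := by
  refine ⟨Units.map (PhiHom hmd) y, ?_, ?_, ?_⟩
  · rw [Cfsg.Agent.Helper43.SpOrth.mem_spGL_iff_mem_symp, SymplecticGroup.mem_iff']
    rw [Cfsg.Agent.Helper43.SpOrth.mem_spGL_iff_mem_symp, SymplecticGroup.mem_iff'] at hy
    exact Phi_symp hmd _ hy
  · intro n hn
    rw [← map_pow, hn, map_one]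
  · exact rank_Phi_sub_one hmd _

end Cfsg.Agent.Helper41.FExtS1b
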