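import Mathlib
import Cfsg.Agent.Helper19.SpBN.Defs

/-!
# (P9) of #8100 for helper19 (S2545): `U` is a `p`-group (helper41)

Only `Cfsg.Agent.Helper19.SpBN.Defs` is needed (the unitriangularity of `U` is
`Cfsg.Agent.Helper38.StCU.phi_UC_unitri` at `φ = id`).
-/

set_option autoImplicit false

namespace Cfsg.Agent.Helper41.SpBNP9

open Matrix Cfsg.Agent.Helper96.StN Cfsg.Agent.Helper96.StC Cfsg.Agent.Helper29.StCM
open Cfsg.Agent.Helper19.SpBN

universe u

variable {K : Type u} [Field K] {m : ℕ}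

/-- powers of a matrix that is strictly upper triangular with respect to `rk` -/
theorem P9_pow_apply_ne_zero (A : Matrix (Fin m ⊕ Fin m) (Fin m ⊕ Fin m) K)
    (hA : ∀ r k, A r k ≠ 0 → rk r < rk k) :
    ∀ j : ℕ, ∀ r k, (A ^ j) r k ≠ 0 → rk r + j ≤ rk k := by
  intro j
  induction j with
  | zero =>
    intro r k h
    rw [pow_zero, Matrix.one_apply] at h
    by_cases hrk : r = k
    · rw [hrk]; omega
    · rw [if_neg hrk] at h; exact absurd rfl h
  | succ j ih =>
    intro r k h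
    rw [pow_succ, Matrix.mul_apply] at h
    obtain ⟨l, -, hl⟩ := Finset.exists_ne_zero_of_sum_ne_zero h
    have h1 : (A ^ j) r l ≠ 0 := left_ne_zero_of_mul hl
    have h2 : A l k ≠ 0 := right_ne_zero_of_mul hl
    have := ih r l h1
    have := hA l k h2
    omega

/-- (P9) `U` is a `p`-group -/
theorem U_isPGroup (p : ℕ) [Fact p.Prime] [CharP K p] : IsPGroup p (U K m) := by
  have hp : p.Prime := Fact.out
  intro g
  obtain ⟨u, hu⟩ := g
  rcases Nat.eq_zero_or_pos m with hm | hm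
  · subst hm
    refine ⟨0, ?_⟩
    apply Subtype.ext
    apply Subtype.ext
    exact Subsingleton.elim _ _
  have : Nonempty (Fin m ⊕ Fin m) := ⟨Sum.inl ⟨0, hm⟩⟩
  obtain ⟨hup, hdiag⟩ := Cfsg.Agent.Helper38.StCU.phi_UC_unitri (MonoidHom.id _) id_coe u hu
  set A : Matrix (Fin m ⊕ Fin m) (Fin m ⊕ Fin m) K := u.1 - 1 with hAdef
  have hA : ∀ r k, A r k ≠ 0 → rk r < rk k := by
    intro r k h
    by_contra hlt
    apply h
    rw [hAdef, Matrix.sub_apply]
    rcases Nat.lt_or_ge (rk k) (rk r) with h1 | h1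
    · have hne : r ≠ k := by
        intro e; rw [e] at h1; exact lt_irrefl _ h1
      have h2 : u.1 r k = 0 := hup r k h1
      rw [h2, Matrix.one_apply_ne hne, sub_zero]
    · have hrk : r = k := rk_injective (by omega)
      subst hrk
      have h2 : u.1 r r = 1 := hdiag r
      rw [h2, Matrix.one_apply_eq, sub_self]
  have hA0 : A ^ (2 * m) = 0 := by
    ext r k
    by_contra h
    have h1 := P9_pow_apply_ne_zero A hA (2 * m) r k h
    have h2 := rk_lt k
    omega
  obtain ⟨e, he⟩ : ∃ e : ℕ, 2 * m ≤ p ^ e :=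
    ⟨2 * m, (Nat.lt_pow_self hp.one_lt).le⟩
  have hApe : A ^ (p ^ e) = 0 := by
    rw [← Nat.sub_add_cancel he, pow_add, hA0, mul_zero]
  refine ⟨e, ?_⟩
  apply Subtype.ext
  apply Subtype.ext
  show ((u ^ p ^ e : SpG K m) : Matrix (Fin m ⊕ Fin m) (Fin m ⊕ Fin m) K) = 1
  rw [SubmonoidClass.coe_pow]
  have hu1 : (u.1 : Matrix (Fin m ⊕ Fin m) (Fin m ⊕ Fin m) K) = 1 + A := by
    rw [hAdef]; abel
  rw [hu1, add_pow_char_pow_of_commute p e (Commute.one_left A), one_pow, hApe, add_zero]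

end Cfsg.Agent.Helper41.SpBNP9
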