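import Mathlib
import Cfsg.Agent.Helper13.SubOddDefs
import Cfsg.Agent.Helper43.SSExist

/-!
# (B1a) for S5965: a block matrix `diag(C, 1)` of order `r` in `SL_n(F)` whose characteristic
polynomial is `g * (X - 1) ^ s` with `g` an irreducible factor of the `r`-th cyclotomic polynomial.
-/

set_option autoImplicit false

namespace Cfsg.Agent.Helper41.SubOddB1a

open Matrix Polynomial Cfsg Cfsg.Geo
open Cfsg.Agent.Helper43.PGLPrime (zp mult)
open Cfsg.Agent.Helper13.SubInv (subH)
open Cfsg.Agent.Helper13.SubOdd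

variable {F : Type*} [Field F] {n : ℕ}

theorem fromBlocks_diag_pow {R : Type*} [CommRing R] {l m : Type*} [Fintype l] [Fintype m]
    [DecidableEq l] [DecidableEq m] (C : Matrix l l R) (k : ℕ) :
    (fromBlocks C 0 0 (1 : Matrix m m R)) ^ k = fromBlocks (C ^ k) 0 0 1 := by
  induction k with
  | zero => simp [fromBlocks_one]
  | succ k ih =>
    rw [pow_succ, ih, fromBlocks_multiply, pow_succ]
    simp

/-- (B1a) -/
theorem exists_block_matrix [Fintype F] (p : ℕ) [Fact p.Prime] [CharP F p] (r : ℕ) [Fact r.Prime]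
    (hrp : r ≠ p) (h1 : ¬ r ∣ Fintype.card F - 1)
    (hjn : ∃ j, 0 < j ∧ j ≤ n ∧ r ∣ Fintype.card F ^ j - 1) :
    ∃ (x : Matrix.SpecialLinearGroup (Fin n) F) (g : F[X]) (s : ℕ),
      (x : Matrix (Fin n) (Fin n) F) ^ r = 1 ∧ g.Monic ∧ Irreducible g ∧ g ∣ cyclotomic r F ∧
        (x : Matrix (Fin n) (Fin n) F).charpoly = g * (X - 1) ^ s := by
  classical
  have hr : r.Prime := Fact.out
  have hp : p.Prime := Fact.out
  obtain ⟨j, hj0, hjn, hjr⟩ := hjn
  obtain ⟨f, -, hcard⟩ := FiniteField.card F p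
  -- an irreducible factor of the cyclotomic polynomial
  have hnu : ¬ IsUnit (cyclotomic r F) := by
    intro hu
    have hd := degree_cyclotomic r F
    rw [degree_eq_zero_of_isUnit hu, Nat.totient_prime hr] at hd
    have : r - 1 = 0 := by exact_mod_cast hd.symm
    have := hr.two_le
    omega
  obtain ⟨g, hgm, hgi, hgc⟩ := exists_monic_irreducible_factor (cyclotomic r F) hnu
  have hgX : g ∣ X ^ r - 1 := hgc.trans (cyclotomic.dvd_X_pow_sub_one r F)
  -- its degree
  have hcop : p.Coprime r := (Nat.coprime_primes hp hr).mpr (Ne.symm hrp)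
  have hdeg := natDegree_of_dvd_cyclotomic_of_irreducible hcard hcop hgc hgi
  have hdj : g.natDegree ≤ j := by
    rw [hdeg]
    apply Nat.le_of_dvd hj0
    apply orderOf_dvd_of_pow_eq_one
    apply Units.ext
    rw [Units.val_pow_eq_pow_val, ZMod.coe_unitOfCoprime, Units.val_one]
    have h1le : 1 ≤ Fintype.card F ^ j := Nat.one_le_pow _ _ Fintype.card_pos
    have := (ZMod.natCast_eq_zero_iff _ _).mpr hjr
    rw [Nat.cast_sub h1le, Nat.cast_pow, Nat.cast_one, sub_eq_zero, hcard] at this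
    exact this
  have hdn : g.natDegree ≤ n := hdj.trans hjn
  -- constant coefficient
  have hg0 : g.coeff 0 ≠ 0 := by
    intro h0
    have hXg : (X : F[X]) ∣ g := X_dvd_iff.mpr h0
    have hX1 : (X : F[X]) ∣ X ^ r - 1 := hXg.trans hgX
    have := X_dvd_iff.mp hX1
    rw [coeff_sub, coeff_X_pow, if_neg (Ne.symm hr.ne_zero), coeff_one_zero] at this
    simp at this
  obtain ⟨d, hd⟩ : ∃ d, g.natDegree = d := ⟨_, rfl⟩
  rw [hd] at hdn
  obtain ⟨C, hC, -⟩ := Cfsg.Agent.Helper43.SS.exists_matrix_charpoly (F := F) p d g hgm hd hg0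
  have hCr : C ^ r = 1 := by
    obtain ⟨w, hw⟩ := hgX
    have h0 : aeval C g = 0 := by
      have := aeval_self_charpoly C
      rwa [hC] at this
    have h2 : aeval C (X ^ r - 1 : F[X]) = 0 := by rw [hw, map_mul, h0, zero_mul]
    rw [map_sub, map_pow, aeval_X, map_one, sub_eq_zero] at h2
    exact h2
  have hsum : d + (n - d) = n := by omega
  let e : Fin d ⊕ Fin (n - d) ≃ Fin n := finSumFinEquiv.trans (finCongr hsum)
  set B : Matrix (Fin d ⊕ Fin (n - d)) (Fin d ⊕ Fin (n - d)) F := fromBlocks C 0 0 1 with hB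
  set A : Matrix (Fin n) (Fin n) F := reindex e e B with hA
  have hBr : B ^ r = 1 := by rw [hB, fromBlocks_diag_pow, hCr, fromBlocks_one]
  have hAr : A ^ r = 1 := by
    have := map_pow (reindexAlgEquiv F F e) B r
    rw [hBr, map_one, coe_reindexAlgEquiv] at this
    rw [hA]; exact this.symm
  have hAch : A.charpoly = g * (X - 1) ^ (n - d) := by
    rw [hA, charpoly_reindex, hB, charpoly_fromBlocks_zero₁₂, hC, charpoly_one, Fintype.card_fin]
  have hdet : A.det = 1 := by
    have hdr : A.det ^ r = 1 := by rw [← det_pow, hAr, det_one]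
    have hne : A.det ≠ 0 := by
      intro h0; rw [h0, zero_pow hr.ne_zero] at hdr; exact zero_ne_one hdr
    have hdq : A.det ^ (Fintype.card F - 1) = 1 := FiniteField.pow_card_sub_one_eq_one _ hne
    have ho1 : orderOf A.det ∣ r := orderOf_dvd_of_pow_eq_one hdr
    have ho2 : orderOf A.det ∣ Fintype.card F - 1 := orderOf_dvd_of_pow_eq_one hdq
    have hcop' : Nat.Coprime r (Fintype.card F - 1) := (Nat.Prime.coprime_iff_not_dvd hr).mpr h1
    have : orderOf A.det = 1 := Nat.eq_one_of_dvd_coprimes hcop' ho1 ho2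
    exact orderOf_eq_one_iff.mp this
  exact ⟨⟨A, hdet⟩, g, n - d, hAr, hgm, hgi, hgc, hAch⟩

end Cfsg.Agent.Helper41.SubOddB1a
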