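import Mathlib
import Cfsg.Agent.Helper13.SubOddDefs

/-!
# (DETM) for S5965: the determinant of a matrix with `A ^ r = 1` as the moment of its
eigenvalue multiplicity function.
-/

set_option autoImplicit false

namespace Cfsg.Agent.Helper41.SubOddDETM

open Matrix Polynomial Cfsg Cfsg.Geo
open Cfsg.Agent.Helper43.PGLPrime (zp mult)
open Cfsg.Agent.Helper13.SubInv (subH)
open Cfsg.Agent.Helper13.SubOdd

variable {F : Type*} [Field F] {n : ℕ}

theorem zp_pow_eq {ζ : F} {r : ℕ} [NeZero r] (hζ : ζ ^ r = 1) (m : ℕ) (j : ZMod r) :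
    zp ζ r j ^ m = zp ζ r ((m : ZMod r) * j) := by
  induction m with
  | zero => simp [Cfsg.Agent.Helper43.PGLPrime.zp_zero]
  | succ m ih =>
    rw [pow_succ, ih, Nat.cast_succ, add_mul, one_mul, Cfsg.Agent.Helper43.PGLPrime.zp_add hζ]

theorem prod_zp {ζ : F} {r : ℕ} [NeZero r] (hζ : ζ ^ r = 1) {ι : Type*} (s : Finset ι)
    (a : ι → ZMod r) : ∏ i ∈ s, zp ζ r (a i) = zp ζ r (∑ i ∈ s, a i) := by
  classical
  induction s using Finset.induction_on with
  | empty => simp [Cfsg.Agent.Helper43.PGLPrime.zp_zero]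
  | insert i s hi ih =>
    rw [Finset.prod_insert hi, Finset.sum_insert hi, ih, Cfsg.Agent.Helper43.PGLPrime.zp_add hζ]

/-- (DETM) -/
theorem det_eq_zp_moment (r : ℕ) [Fact r.Prime] (hrF : (r : F) ≠ 0) (ζ : F) (hζ : orderOf ζ = r)
    (A : Matrix (Fin n) (Fin n) F) (hA : A ^ r = 1) :
    A.det = zp ζ r (∑ j : ZMod r, (mult ζ r A j : ZMod r) * j) := by
  have hr : r.Prime := Fact.out
  have : NeZero r := ⟨hr.ne_zero⟩
  have hζr : ζ ^ r = 1 := by rw [← hζ]; exact pow_orderOf_eq_one ζ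
  obtain ⟨hch, hsum⟩ := Cfsg.Agent.Helper43.PGLPrime.charpoly_eq_prod hr hζ hrF A hA
  rw [Matrix.det_eq_sign_charpoly_coeff, Polynomial.coeff_zero_eq_eval_zero, hch,
    Polynomial.eval_prod, Fintype.card_fin]
  simp only [eval_pow, eval_sub, eval_X, eval_C, zero_sub]
  have key : ∀ j : ZMod r, (-(zp ζ r j)) ^ mult ζ r A j =
      (-1) ^ mult ζ r A j * zp ζ r ((mult ζ r A j : ZMod r) * j) := by
    intro j; rw [neg_pow, zp_pow_eq hζr]
  simp only [key]
  rw [Finset.prod_mul_distrib, Finset.prod_pow_eq_pow_sum, hsum, prod_zp hζr, ← mul_assoc,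
    ← pow_add, ← two_mul, pow_mul]
  simp

end Cfsg.Agent.Helper41.SubOddDETM
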