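import Mathlib
import Cfsg.Agent.Helper13.SubOddDefs
import Cfsg.Agent.Helper41.SubOddDETM

/-!
# (K3') for S5965: a multiplicity function invariant under `j ↦ q₀ j` gives an `F₀`-rational
characteristic polynomial.
-/

set_option autoImplicit false

namespace Cfsg.Agent.Helper41.SubOddK3p

open Matrix Polynomial Cfsg Cfsg.Geo
open Cfsg.Agent.Helper43.PGLPrime (zp mult)
open Cfsg.Agent.Helper13.SubInv (subH)
open Cfsg.Agent.Helper13.SubOdd

variable {F : Type*} [Field F] {n : ℕ}

/-- an element fixed by `x ↦ x ^ q₀` lies in the subfield of order `q₀` -/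
theorem mem_of_pow_eq [Fintype F] (F₀ : Subfield F) (q₀ : ℕ) (hF₀ : Nat.card ↥F₀ = q₀) (a : F)
    (ha : a ^ q₀ = a) : a ∈ F₀ := by
  classical
  have hq1 : 1 < q₀ := by
    rw [← hF₀]; exact Finite.one_lt_card
  set P : F[X] := X ^ q₀ - X with hP
  have hPne : P ≠ 0 := by
    rw [hP]; exact FiniteField.X_pow_card_sub_X_ne_zero F hq1
  have hPdeg : P.natDegree = q₀ := FiniteField.X_pow_card_sub_X_natDegree_eq F hq1
  set T : Finset F := Finset.univ.filter (fun x : F => x ^ q₀ = x) with hT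
  set S : Finset F := Finset.univ.filter (fun x : F => x ∈ F₀) with hS
  have hTsub : T ⊆ P.roots.toFinset := by
    intro x hx
    rw [hT, Finset.mem_filter] at hx
    rw [Multiset.mem_toFinset, mem_roots hPne, IsRoot.def, hP]
    simp [hx.2]
  have hTcard : T.card ≤ q₀ := by
    calc T.card ≤ P.roots.toFinset.card := Finset.card_le_card hTsub
      _ ≤ Multiset.card P.roots := Multiset.toFinset_card_le _
      _ ≤ P.natDegree := Polynomial.card_roots' P
      _ = q₀ := hPdeg
  have hScard : S.card = q₀ := by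
    rw [← hF₀, hS, Nat.card_eq_fintype_card, Fintype.card_subtype]
  have hST : S ⊆ T := by
    intro x hx
    rw [hS, Finset.mem_filter] at hx
    rw [hT, Finset.mem_filter]
    refine ⟨Finset.mem_univ _, ?_⟩
    have := FiniteField.pow_card (⟨x, hx.2⟩ : ↥F₀)
    rw [← Nat.card_eq_fintype_card, hF₀] at this
    have h2 := congrArg (Subtype.val) this
    simpa using h2
  have hEq : S = T := Finset.eq_of_subset_of_card_le hST (by rw [hScard]; exact hTcard)
  have : a ∈ T := by rw [hT, Finset.mem_filter]; exact ⟨Finset.mem_univ _, ha⟩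
  rw [← hEq, hS, Finset.mem_filter] at this
  exact this.2

/-- (K3') -/
theorem rational_of_mult_invariant [Fintype F] (F₀ : Subfield F) (q₀ : ℕ)
    (hF₀ : Nat.card ↥F₀ = q₀) (r : ℕ) [Fact r.Prime] (hrF : (r : F) ≠ 0) (ζ : F)
    (hζ : orderOf ζ = r) (A : Matrix (Fin n) (Fin n) F) (hA : A ^ r = 1)
    (h : ∀ j : ZMod r, mult ζ r A ((q₀ : ZMod r) * j) = mult ζ r A j) :
    ∀ i, A.charpoly.coeff i ∈ F₀ := by
  classical
  have hr : r.Prime := Fact.out
  have : NeZero r := ⟨hr.ne_zero⟩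
  have hζr : ζ ^ r = 1 := by rw [← hζ]; exact pow_orderOf_eq_one ζ
  obtain ⟨p, hp⟩ := CharP.exists F
  have hpp : p.Prime := CharP.char_is_prime F p
  have : Fact p.Prime := ⟨hpp⟩
  have : CharP ↥F₀ p := Subfield.charP F₀ p
  obtain ⟨a, -, hcard⟩ := FiniteField.card ↥F₀ p
  have hq₀ : q₀ = p ^ (a : ℕ) := by rw [← hF₀, Nat.card_eq_fintype_card, hcard]
  -- `r ≠ p`
  have hrp : r ≠ p := by
    intro hrp
    apply hrF
    rw [hrp]; exact CharP.cast_eq_zero F p
  have hcop : Nat.Coprime q₀ r := by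
    rw [hq₀]
    exact Nat.Coprime.pow_left _ ((Nat.coprime_primes hpp hr).mpr (Ne.symm hrp))
  set σ : F →+* F := iterateFrobenius F p a with hσ
  have hσx : ∀ x : F, σ x = x ^ q₀ := by
    intro x; rw [hσ, iterateFrobenius_def, hq₀]
  obtain ⟨hch, -⟩ := Cfsg.Agent.Helper43.PGLPrime.charpoly_eq_prod hr hζ hrF A hA
  have hmap : A.charpoly.map σ = A.charpoly := by
    conv_lhs => rw [hch]
    rw [Polynomial.map_prod]
    simp only [Polynomial.map_pow, Polynomial.map_sub, Polynomial.map_X, Polynomial.map_C, hσx,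
      Cfsg.Agent.Helper41.SubOddDETM.zp_pow_eq hζr]
    conv_rhs => rw [hch]
    refine Fintype.prod_equiv (Units.mulLeft (ZMod.unitOfCoprime q₀ hcop)) _ _ fun j => ?_
    rw [Units.mulLeft_apply, ZMod.coe_unitOfCoprime, h]
  intro i
  apply mem_of_pow_eq F₀ q₀ hF₀
  rw [← hσx, ← Polynomial.coeff_map, hmap]

end Cfsg.Agent.Helper41.SubOddK3p
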