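import Mathlib
import Cfsg.Agent.Helper13.USubDefs
import Cfsg.Agent.Helper13.SubOddB1b

/-!
# (UB1b) for S5982: the block matrix of (B1a) is not conjugate into the similarity group of the
standard hermitian form when some `j` has `r ∣ q ^ j - 1` but `r ∤ q₀ ^ j - (-1) ^ j`.
-/

set_option autoImplicit false
set_option linter.unusedVariables false

namespace Cfsg.Agent.Helper41.USubUB1b

open Matrix Polynomial Cfsg Cfsg.Geo
open Cfsg.Agent.Helper43.PGLPrime (zp mult)
open Cfsg.Agent.Helper43.GUPrime (utilde)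
open Cfsg.Agent.Helper13.SubOdd
open Cfsg.Agent.Helper13.USub

variable {F : Type*} [Field F] {n : ℕ}

/-- the matrix form of the similitude condition -/
theorem transpose_mul_map_of_mem_sim {q₀ : ℕ} (hq₀ : 0 < q₀) (bar : F →+* F)
    (hbar : ∀ a, bar a = a ^ q₀) {w : GL (Fin n) F} (hw : w ∈ SimH n F q₀) :
    ∃ c : F, (w : Matrix (Fin n) (Fin n) F)ᵀ * (w : Matrix (Fin n) (Fin n) F).map bar =
      c • (1 : Matrix (Fin n) (Fin n) F) := by
  obtain ⟨c, hc⟩ := hw
  refine ⟨(c : F), ?_⟩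
  ext i j
  have h := hc (Pi.single i 1) (Pi.single j 1)
  rw [Matrix.mulVec_single_one, Matrix.mulVec_single_one] at h
  rw [Matrix.mul_apply, Matrix.smul_apply, smul_eq_mul]
  have e1 : ∑ k, (w : Matrix (Fin n) (Fin n) F)ᵀ i k * ((w : Matrix (Fin n) (Fin n) F).map bar) k j =
      Cfsg.hermForm n F q₀ ((w : Matrix (Fin n) (Fin n) F).col i)
        ((w : Matrix (Fin n) (Fin n) F).col j) := by
    unfold Cfsg.hermForm
    refine Finset.sum_congr rfl fun k _ => ?_
    rw [Matrix.transpose_apply, Matrix.map_apply, hbar]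
    rfl
  have e2 : Cfsg.hermForm n F q₀ (Pi.single i 1) (Pi.single j 1) =
      (1 : Matrix (Fin n) (Fin n) F) i j := by
    unfold Cfsg.hermForm
    rw [Matrix.one_apply]
    by_cases hij : i = j
    · subst hij
      rw [if_pos rfl, Finset.sum_eq_single i]
      · rw [Pi.single_eq_same, one_pow, mul_one]
      · intro k _ hk
        rw [Pi.single_eq_of_ne hk, zero_mul]
      · intro h; exact absurd (Finset.mem_univ _) h
    · rw [if_neg hij]
      apply Finset.sum_eq_zero
      intro k _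
      by_cases hk : k = i
      · subst hk
        rw [Pi.single_eq_of_ne hij, zero_pow hq₀.ne', mul_zero]
      · rw [Pi.single_eq_of_ne hk, zero_mul]
  rw [e1, h, e2]

/-- (UB1b) -/
theorem not_conj_of_block_unitary [Fintype F] (p : ℕ) [Fact p.Prime] [CharP F p] (q₀ : ℕ)
    (hF : Fintype.card F = q₀ ^ 2) (r : ℕ) [Fact r.Prime] (hr2 : r ≠ 2) (hrp : r ≠ p)
    (h1 : ¬ r ∣ Fintype.card F - 1)
    (hB : ∃ j, 0 < j ∧ r ∣ Fintype.card F ^ j - 1 ∧
      ¬ r ∣ (if Even j then q₀ ^ j - 1 else q₀ ^ j + 1))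
    (x : GL (Fin n) F) (g : F[X]) (s : ℕ)
    (hxr : (x : Matrix (Fin n) (Fin n) F) ^ r = 1) (hg : g.Monic) (hgi : Irreducible g)
    (hgc : g ∣ cyclotomic r F)
    (hch : (x : Matrix (Fin n) (Fin n) F).charpoly = g * (X - 1) ^ s)
    (y : GL (Fin n) F) : y⁻¹ * x * y ∉ SimH n F q₀ := by
  classical
  intro hmem
  have hr : r.Prime := Fact.out
  have hp : p.Prime := Fact.out
  have : NeZero r := ⟨hr.ne_zero⟩
  -- `n > 0`
  have hn : 0 < n := by
    rcases Nat.eq_zero_or_pos n with rfl | h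
    · exfalso
      rw [Matrix.charpoly_isEmpty] at hch
      exact hgi.not_isUnit (IsUnit.of_mul_eq_one _ hch.symm)
    · exact h
  obtain ⟨m, hq₀⟩ := Cfsg.Agent.Helper43.GUPrime.exists_pow_eq p hF
  have hq₀pos : 0 < q₀ := by rw [hq₀]; exact Nat.pow_pos hp.pos
  set bar : F →+* F := iterateFrobenius F p m with hbardef
  have hbar : ∀ a, bar a = a ^ q₀ := by
    intro a; rw [hbardef, iterateFrobenius_def, hq₀]
  have hrF : (r : F) ≠ 0 := by
    intro h0
    have := (CharP.cast_eq_zero_iff F p r).mp h0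
    exact hrp ((Nat.prime_dvd_prime_iff_eq hp hr).mp this).symm
  -- the conjugate
  have hx1 : x ^ r = 1 := Units.ext (by rw [Units.val_pow_eq_pow_val, hxr]; rfl)
  have hc : (y⁻¹ * x * y) ^ r = 1 := by
    have := conj_pow (a := y⁻¹) (b := x) (i := r)
    rw [inv_inv] at this
    rw [this, hx1]; group
  set w : GL (Fin n) F := y⁻¹ * x * y with hw
  set M : Matrix (Fin n) (Fin n) F := (w : Matrix (Fin n) (Fin n) F) with hM
  have hMr : M ^ r = 1 := by
    rw [hM, ← Units.val_pow_eq_pow_val, hc]; rfl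
  have hMch : M.charpoly = g * (X - 1) ^ s := by
    rw [hM, hw, Units.val_mul, Units.val_mul, Matrix.coe_units_inv,
      Matrix.charpoly_units_conj', hch]
  obtain ⟨c, hcM⟩ := transpose_mul_map_of_mem_sim hq₀pos bar hbar hmem
  rw [← hM] at hcM
  -- `c = 1`
  have hNr : Mᵀ ^ r = 1 := by rw [← Matrix.transpose_pow, hMr, Matrix.transpose_one]
  have hMbar : M.map bar = c • Mᵀ ^ (r - 1) := by
    calc M.map bar = Mᵀ ^ r * M.map bar := by rw [hNr, Matrix.one_mul]
      _ = Mᵀ ^ (r - 1) * (Mᵀ * M.map bar) := by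
          rw [← Matrix.mul_assoc, ← pow_succ, Nat.sub_add_cancel hr.one_le]
      _ = c • Mᵀ ^ (r - 1) := by rw [hcM, Matrix.mul_smul, Matrix.mul_one]
  have hcr : c ^ r = 1 := by
    have h2 : (M.map bar) ^ r = 1 := by
      rw [← Matrix.map_pow, hMr, Matrix.map_one _ (map_zero bar) (map_one bar)]
    rw [hMbar, _root_.smul_pow, ← pow_mul, mul_comm, pow_mul, hNr, one_pow] at h2
    have := congrFun (congrFun h2 ⟨0, hn⟩) ⟨0, hn⟩
    simpa using this
  have hc1 : c = 1 := Cfsg.Agent.Helper13.SubOdd.eq_one_of_pow_prime_eq_one r hr h1 c hcr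
  rw [hc1, one_smul] at hcM
  -- `utilde`-invariance of the characteristic polynomial
  have hcM' : ((w : Matrix (Fin n) (Fin n) F).map bar)ᵀ * M = 1 := by
    have := congrArg Matrix.transpose hcM
    rw [Matrix.transpose_mul, Matrix.transpose_transpose, Matrix.transpose_one] at this
    exact this
  have hut := Cfsg.Agent.Helper43.GUPrime.charpoly_st_inv bar w M hcM'
  rw [← hM, hMch, Cfsg.Agent.Helper43.GUPrime.utilde_mul, Cfsg.Agent.Helper43.GUPrime.utilde_pow,
    Cfsg.Agent.Helper43.GUPrime.utilde_X_sub_one] at hut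
  have hne : ((X : F[X]) - 1) ^ s ≠ 0 := by
    apply pow_ne_zero
    have := X_sub_C_ne_zero (1 : F)
    rwa [C_1] at this
  have hgfix : utilde bar g = g := (mul_right_cancel₀ hne hut).symm
  -- `g ≠ X - 1`
  have hgX : g ∣ (X ^ r - 1 : F[X]) := hgc.trans (cyclotomic.dvd_X_pow_sub_one r F)
  have hg1 : g ≠ X - 1 := by
    intro h
    rw [h] at hgc
    have h0 : (cyclotomic r F).IsRoot 1 := by
      have := dvd_iff_isRoot.mp (by rwa [C_1] : (X - C (1 : F)) ∣ cyclotomic r F)
      exact this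
    rw [IsRoot.def, eval_one_cyclotomic_prime] at h0
    exact hrF h0
  have hle := Cfsg.Agent.Helper43.GUPrime.orderOf_le_natDegree_of_utilde_eq p hq₀ bar hbar hr g hg hgi
    hgX hg1 hgfix
  -- arithmetic
  have hiff := Cfsg.Agent.Helper13.SubOdd.dvd_pow_card_sub_one_iff r hrF g hgi hgc
  set a : ZMod r := ((q₀ * (r - 1) : ℕ) : ZMod r) with ha
  have ha' : a = -(q₀ : ZMod r) := by
    rw [ha, Nat.cast_mul, Nat.cast_sub hr.one_le, ZMod.natCast_self, Nat.cast_one, zero_sub,
      mul_neg, mul_one]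
  have hsq : a ^ 2 = ((Fintype.card F : ℕ) : ZMod r) := by
    rw [ha', hF, Nat.cast_pow]; ring
  have hcast : ∀ j : ℕ, r ∣ Fintype.card F ^ j - 1 ↔ a ^ (2 * j) = 1 := by
    intro j
    have h1le : 1 ≤ Fintype.card F ^ j := Nat.one_le_pow _ _ Fintype.card_pos
    rw [← ZMod.natCast_eq_zero_iff, Nat.cast_sub h1le, Nat.cast_pow, Nat.cast_one, sub_eq_zero,
      pow_mul, hsq]
  set d := g.natDegree with hd
  have hdpos : 0 < d := Irreducible.natDegree_pos hgi
  have had : a ^ (2 * d) = 1 := (hcast d).mp ((hiff d).mpr dvd_rfl)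
  have hopos : 0 < orderOf a := by
    rw [orderOf_pos_iff]
    exact isOfFinOrder_iff_pow_eq_one.mpr ⟨2 * d, by omega, had⟩
  have hdo : d ∣ orderOf a := by
    rw [← hiff, hcast, mul_comm, pow_mul, pow_orderOf_eq_one, one_pow]
  have hod : orderOf a = d := le_antisymm hle (Nat.le_of_dvd hopos hdo)
  obtain ⟨j, hj0, hjq, hjq0⟩ := hB
  apply hjq0
  have hdj : d ∣ j := (hiff j).mp hjq
  have haj : a ^ j = 1 := by
    obtain ⟨k, rfl⟩ := hdj
    rw [pow_mul, ← hod, pow_orderOf_eq_one, one_pow]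
  rw [ha'] at haj
  by_cases hje : Even j
  · rw [if_pos hje]
    rw [hje.neg_pow] at haj
    have h1le : 1 ≤ q₀ ^ j := Nat.one_le_pow _ _ hq₀pos
    rw [← ZMod.natCast_eq_zero_iff, Nat.cast_sub h1le, Nat.cast_pow, Nat.cast_one, haj, sub_self]
  · rw [if_neg hje]
    have hjo : Odd j := Nat.not_even_iff_odd.mp hje
    rw [hjo.neg_pow] at haj
    rw [← ZMod.natCast_eq_zero_iff, Nat.cast_add, Nat.cast_pow, Nat.cast_one]
    linear_combination -haj

end Cfsg.Agent.Helper41.USubUB1b
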