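import Cfsg.Agent.Helper41.SL2

set_option autoImplicit false

/-!
# `SL₂` in characteristic two
-/

namespace Cfsg.Agent.Helper41

open Matrix

section char2

variable {F : Type*} [Field F]

local notation "SL2F" => Matrix.SpecialLinearGroup (Fin 2) F
local notation "M2F" => Matrix (Fin 2) (Fin 2) F
local notation "PSL2F" => Matrix.ProjectiveSpecialLinearGroup (Fin 2) F

/-- In characteristic two the centre of `SL₂` is trivial. -/
theorem sl2_eq_one_of_mem_center_of_two_eq_zero (h2 : (2 : F) = 0) (A : SL2F)
    (hA : A ∈ Subgroup.center SL2F) : A = 1 := by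
  rw [sl2_mem_center_iff] at hA
  obtain ⟨r, hr, hAr⟩ := hA
  have hr1 : r = 1 := by
    have h : (r - 1) ^ 2 = 0 := by linear_combination hr - r * h2 + h2
    have := pow_eq_zero_iff (two_ne_zero) |>.1 h
    linear_combination this
  apply Subtype.ext
  rw [hAr, hr1]
  simp

/-- In characteristic two the projection `SL₂ → PSL₂` is injective. -/
theorem mk_injective_of_two_eq_zero (h2 : (2 : F) = 0) :
    Function.Injective (QuotientGroup.mk : SL2F → PSL2F) := by
  intro A B h
  have hc : A⁻¹ * B ∈ Subgroup.center SL2F := QuotientGroup.eq.mp h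
  have := sl2_eq_one_of_mem_center_of_two_eq_zero h2 _ hc
  calc A = A * 1 := (mul_one A).symm
    _ = A * (A⁻¹ * B) := by rw [this]
    _ = B := by group

/-- In characteristic two an element of `SL₂` whose fourth power is one is an involution. -/
theorem sl2_mul_self_eq_one_of_pow_four (h2 : (2 : F) = 0) (X : SL2F) (h4 : X ^ 4 = 1) :
    X * X = 1 := by
  set M := (X : M2F) with hM
  set t := Matrix.trace M with ht
  have hneg : (-1 : M2F) = 1 := by
    have h : (2 : F) • (1 : M2F) = 0 := by rw [h2, zero_smul]
    rw [two_smul] at h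
    exact (eq_neg_of_add_eq_zero_right h).symm
  have hch : M * M = t • M + 1 := by
    rw [sl2_cayley_hamilton X, sub_eq_add_neg, hneg]
  have hM4 : (M * M) * (M * M) = 1 := by
    have := congrArg (fun Y : SL2F => (Y : M2F)) h4
    simp only [Matrix.SpecialLinearGroup.coe_pow, Matrix.SpecialLinearGroup.coe_one] at this
    rw [← this, ← hM]
    noncomm_ring
  have h2M : ∀ Y : M2F, Y + Y = 0 := by
    intro Y
    rw [← two_smul F Y, h2, zero_smul]
  have hexp : (t • M + 1) * (t • M + 1) = (t ^ 2) • (M * M) + 1 := by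
    rw [add_mul, mul_add, mul_add, Matrix.smul_mul, Matrix.mul_smul, smul_smul, Matrix.mul_one,
      Matrix.one_mul, Matrix.mul_one, ← pow_two]
    have := h2M (t • M)
    rw [add_assoc, ← add_assoc (t • M), this, zero_add]
  have hzero : (t ^ 2) • (M * M) = 0 := by
    have : (t ^ 2) • (M * M) + 1 = 1 := by rw [← hexp, ← hch, hM4]
    exact add_eq_right.mp this
  have hdet := congrArg Matrix.det hzero
  rw [Matrix.det_smul, Matrix.det_mul, hM, X.det_coe, Matrix.det_zero] at hdet
  have ht0 : t = 0 := by
    simp only [Fintype.card_fin, mul_one] at hdet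
    exact pow_eq_zero_iff (two_ne_zero) |>.1 (pow_eq_zero_iff (two_ne_zero) |>.1 hdet)
  apply Subtype.ext
  rw [Matrix.SpecialLinearGroup.coe_mul, Matrix.SpecialLinearGroup.coe_one, ← hM, hch, ht0,
    zero_smul, zero_add]

end char2

end Cfsg.Agent.Helper41
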