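import Mathlib
import Cfsg.Agent.Helper46.DkMain
import Cfsg.Agent.Helper41.SL2Char2

set_option autoImplicit false

/-!
# A refined form of Dickson's theorem (Helper46 `dickson_main`) keeping conjugacy information
in the subfield case.
-/

namespace Cfsg.Agent.Helper41.DkR

open Matrix Cfsg.Agent.Helper46.IsCA Cfsg.Agent.Helper46.Dk

variable {E : Type*} [Field E]

local notation "SL2" => Matrix.SpecialLinearGroup (Fin 2) E

variable {Γ : Type*} [Group Γ] {ρ : Γ →* Matrix.SpecialLinearGroup (Fin 2) E}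

/-- the refined subfield conclusion: after conjugation by `c`, the image contains all of
`SL₂(K)` and consists of matrices rational over `K` up to scalars. -/
def SubfieldFrame (ρ : Γ →* Matrix.SpecialLinearGroup (Fin 2) E) : Prop :=
  ∃ (c : SL2) (K : Subfield E), Finite K ∧
    (∀ M : SL2, M.1 0 0 ∈ K → M.1 0 1 ∈ K → M.1 1 0 ∈ K → M.1 1 1 ∈ K →
      ∃ γ : Γ, conjRep ρ c γ = M) ∧
    (∀ γ : Γ, RatS K (conjRep ρ c γ)) ∧
    (Nonempty ((Γ ⧸ Zr ρ) ≃* Matrix.ProjectiveSpecialLinearGroup (Fin 2) K) ∨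
       Nonempty ((Γ ⧸ Zr ρ) ≃* Matrix.ProjGenLinGroup (Fin 2) K))

/-- in characteristic two an involution of `SL₂` has trace zero -/
theorem tr_eq_zero_of_mul_self (h2 : (2 : E) = 0) (A : SL2) (hA : A * A = 1) (hne : A ≠ 1) :
    tr A = 0 := by
  have h00 := congrArg (fun M : SL2 => M.1 0 0) hA
  have h01 := congrArg (fun M : SL2 => M.1 0 1) hA
  have h10 := congrArg (fun M : SL2 => M.1 1 0) hA
  have h11 := congrArg (fun M : SL2 => M.1 1 1) hA
  simp only [mul_00, mul_01, mul_10, mul_11, one_00, one_01, one_10, one_11] at h00 h01 h10 h11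
  unfold tr
  by_contra ht
  have hb : A.1 0 1 = 0 := by
    have : A.1 0 1 * (A.1 0 0 + A.1 1 1) = 0 := by linear_combination h01
    rcases mul_eq_zero.1 this with h | h
    · exact h
    · exact absurd h ht
  have hc : A.1 1 0 = 0 := by
    have : A.1 1 0 * (A.1 0 0 + A.1 1 1) = 0 := by linear_combination h10
    rcases mul_eq_zero.1 this with h | h
    · exact h
    · exact absurd h ht
  have ha : A.1 0 0 = 1 := by
    have : (A.1 0 0 - 1) ^ 2 = 0 := by
      rw [hb] at h00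
      linear_combination h00 - A.1 0 0 * h2 + h2
    exact sub_eq_zero.1 (pow_eq_zero_iff two_ne_zero |>.1 this)
  have hd : A.1 1 1 = 1 := by
    have : (A.1 1 1 - 1) ^ 2 = 0 := by
      rw [hb] at h11
      linear_combination h11 - A.1 1 1 * h2 + h2
    exact sub_eq_zero.1 (pow_eq_zero_iff two_ne_zero |>.1 this)
  apply hne
  apply ext'
  · rw [ha, one_00]
  · rw [hb, one_01]
  · rw [hc, one_10]
  · rw [hd, one_11]


theorem Zr_eq_bot_of_two_eq_zero (h2 : (2 : E) = 0) (hinj : Function.Injective ρ) :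
    Zr ρ = ⊥ := by
  rw [eq_bot_iff]
  intro x hx
  rw [mem_Zr] at hx
  have h1 := Cfsg.Agent.Helper41.sl2_eq_one_of_mem_center_of_two_eq_zero h2 (ρ x) hx
  rw [Subgroup.mem_bot]
  apply hinj
  rw [h1, map_one]

/-- in characteristic two a group all of whose noncentral elements are of torus type has odd
order -/
theorem not_even_of_all_SS [Finite Γ] (h2 : (2 : E) = 0) (hinj : Function.Injective ρ)
    (hall : ∀ x : Γ, x ∉ Zr ρ → IsSS ρ x) (heven : 2 ∣ gOf (Zr ρ)) : False := by
  have hZ := Zr_eq_bot_of_two_eq_zero h2 hinj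
  have hg : gOf (Zr ρ) = Nat.card Γ := by
    unfold gOf
    rw [hZ, Subgroup.card_bot, Nat.div_one]
  rw [hg] at heven
  obtain ⟨x, hx⟩ := exists_prime_orderOf_dvd_card' (G := Γ) 2 heven
  have hx1 : x ≠ 1 := by
    rintro rfl
    rw [orderOf_one] at hx
    omega
  have hxZ : x ∉ Zr ρ := by
    rw [hZ, Subgroup.mem_bot]; exact hx1
  have hxx : x * x = 1 := by
    rw [← pow_two, ← hx]; exact pow_orderOf_eq_one x
  have h3 : ρ x * ρ x = 1 := by rw [← map_mul, hxx, map_one]
  have h4 : ρ x ≠ 1 := fun h => hx1 (hinj (by rw [h, map_one]))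
  have h5 := tr_eq_zero_of_mul_self h2 (ρ x) h3 h4
  apply hall x hxZ
  rw [h5]
  have : (4 : E) = 2 * 2 := by norm_num
  rw [this, h2]; ring


theorem ne_two_of_card_Qg_three [Finite Γ] (hinj : Function.Injective ρ) (p : ℕ) [Fact p.Prime]
    [CharP E p] (hq : Nat.card (Qg ρ) = 3) : p ≠ 2 := by
  rintro rfl
  obtain ⟨n, hn⟩ := (isPGroup_Qg hinj 2).exists_card_eq
  rw [hq] at hn
  rcases n with _ | n
  · norm_num at hn
  · rw [pow_succ] at hn; omega

theorem two_eq_zero_of_char_two (p : ℕ) [Fact p.Prime] [CharP E p] (hp : p = 2) : (2 : E) = 0 := by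
  subst hp
  have := CharP.cast_eq_zero E 2
  exact_mod_cast this

theorem ident_fieldK {w₀ : Γ} [Finite Γ] [IsAlgClosed E] (h : BNFrame ρ w₀) (p : ℕ) [Fact p.Prime]
    [CharP E p] :
      (Nonempty ((Γ ⧸ Zr ρ) ≃* Matrix.ProjectiveSpecialLinearGroup (Fin 2) (h.fieldK p)) ∨
       Nonempty ((Γ ⧸ Zr ρ) ≃* Matrix.ProjGenLinGroup (Fin 2) (h.fieldK p))) := by
  classical
  set K := h.fieldK p with hK
  haveI : Fintype K := Fintype.ofFinite K
  let ι : K →+* E := K.subtype
  have hsq : ∀ a : K, IsSquare (ι a) := by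
    intro a
    obtain ⟨r, hr⟩ := IsAlgClosed.exists_pow_nat_eq (ι a) (n := 2) (by norm_num)
    exact ⟨r, by rw [← hr]; ring⟩
  let P₀ := (Cfsg.Agent.Helper46.pslEmbHom ι).range
  let P := (Cfsg.Agent.Helper46.pglEmbHom ι hsq).range
  have ePSL : Matrix.ProjectiveSpecialLinearGroup (Fin 2) K ≃* P₀ :=
    (QuotientGroup.quotientMulEquivOfEq (Cfsg.Agent.Helper46.pslEmbHom_ker ι)).symm.trans
      (QuotientGroup.quotientKerEquivRange (Cfsg.Agent.Helper46.pslEmbHom ι))
  have ePGL : Matrix.ProjGenLinGroup (Fin 2) K ≃* P :=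
    (QuotientGroup.quotientMulEquivOfEq (Cfsg.Agent.Helper46.pglEmbHom_ker ι hsq)).symm.trans
      (QuotientGroup.quotientKerEquivRange (Cfsg.Agent.Helper46.pglEmbHom ι hsq))
  -- P₀ ≤ range
  have h1 : P₀ ≤ (rhoBar ρ).range := by
    rintro _ ⟨M, rfl⟩
    obtain ⟨γ, hγ⟩ := h.mem_range_of_entries p (Matrix.SpecialLinearGroup.map ι M)
      (M.1 0 0).2 (M.1 0 1).2 (M.1 1 0).2 (M.1 1 1).2
    refine ⟨QuotientGroup.mk γ, ?_⟩
    rw [rhoBar_mk, hγ]
    rfl
  -- range ≤ P
  have h2 : (rhoBar ρ).range ≤ P := by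
    rintro _ ⟨c, rfl⟩
    induction c using QuotientGroup.induction_on with
    | H γ =>
      obtain ⟨c, M, hM⟩ := h.ratS_all p γ
      have hdet : (ρ γ).1.det = 1 := (ρ γ).2
      have hmapdet : (M.map ι).det = ι M.det := by
        have := RingHom.map_det ι M
        rw [this]; rfl
      rw [hM, Matrix.det_smul, hmapdet] at hdet
      simp only [Fintype.card_fin] at hdet
      have hc0 : c ≠ 0 := by
        rintro rfl
        simp at hdet
      have hdetM : M.det ≠ 0 := by
        intro h0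
        rw [h0, map_zero, mul_zero] at hdet
        exact zero_ne_one hdet
      let g : GL (Fin 2) K := Matrix.GeneralLinearGroup.mkOfDetNeZero M hdetM
      refine ⟨g, ?_⟩
      rw [Cfsg.Agent.Helper46.pglEmbHom_apply, rhoBar_mk]
      apply Cfsg.Agent.Helper46.psl_mk_eq_of_smul _ _
        ((Cfsg.Agent.Helper46.sqrtDet ι hsq g)⁻¹ * c⁻¹)
      rw [Cfsg.Agent.Helper46.normSL_coe, hM, smul_smul]
      have : (Cfsg.Agent.Helper46.sqrtDet ι hsq g)⁻¹ * c⁻¹ * c =
          (Cfsg.Agent.Helper46.sqrtDet ι hsq g)⁻¹ := by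
        field_simp
      rw [this]
      rfl
  -- cardinalities
  haveI : Finite (GL (Fin 2) K) := inferInstance
  haveI : Finite (Matrix.ProjGenLinGroup (Fin 2) K) :=
    Finite.of_surjective (QuotientGroup.mk' (Subgroup.center (GL (Fin 2) K)))
      (QuotientGroup.mk'_surjective _)
  haveI : Finite P := Finite.of_equiv _ ePGL.toEquiv
  have hcP : Nat.card P = Fintype.card K * (Fintype.card K ^ 2 - 1) := by
    rw [← Nat.card_congr ePGL.toEquiv, Cfsg.Agent.Helper46.card_PGL2]
  have hcP₀ : Nat.card P₀ = Nat.card (Matrix.ProjectiveSpecialLinearGroup (Fin 2) K) :=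
    (Nat.card_congr ePSL.toEquiv).symm
  have hmul := Cfsg.Agent.Helper5.card_PSL2_mul (F := K)
  have hd : Nat.card (Subgroup.center (Matrix.SpecialLinearGroup (Fin 2) K)) = 1 ∨
      Nat.card (Subgroup.center (Matrix.SpecialLinearGroup (Fin 2) K)) = 2 := by
    by_cases h2 : (2 : K) = 0
    · left; exact Cfsg.Agent.Helper5.card_center_SL2_of_two_eq_zero h2
    · right; exact Cfsg.Agent.Helper5.card_center_SL2_of_two_ne_zero h2
  have hcard : Nat.card P =
      Nat.card (Subgroup.center (Matrix.SpecialLinearGroup (Fin 2) K)) * Nat.card P₀ := by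
    rw [hcP, hcP₀, ← hmul, mul_comm]
  have eG : (Γ ⧸ Zr ρ) ≃* (rhoBar ρ).range := MonoidHom.ofInjective rhoBar_injective
  rcases eq_or_eq_of_sandwich P₀ (rhoBar ρ).range P h1 h2 _ hd hcard with heq | heq
  · left
    exact ⟨(eG.trans (MulEquiv.subgroupCongr heq)).trans ePSL.symm⟩
  · right
    exact ⟨(eG.trans (MulEquiv.subgroupCongr heq)).trans ePGL.symm⟩


/-- **Dickson's theorem, refined**: as `Helper46.Dk.dickson_main`, with the conjugacy information
in the subfield case and `p ≠ 2` in the exceptional cases. -/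
theorem dickson_refined [Finite Γ] [IsAlgClosed E] (p : ℕ) [Fact p.Prime] [CharP E p]
    (hinj : Function.Injective ρ) :
    IsCyclic (Γ ⧸ Zr ρ) ∨
    (∃ (n : ℕ) (a : Γ ⧸ Zr ρ), orderOf a = n ∧ ¬ p ∣ n ∧
      Nonempty ((Γ ⧸ Zr ρ) ≃* DihedralGroup n)) ∨
    (∃ x₀ : Γ, IsUni ρ x₀ ∧ Nx x₀ = ⊤) ∨
    (p ≠ 2 ∧ Nonempty ((Γ ⧸ Zr ρ) ≃* alternatingGroup (Fin 4))) ∨
    (p ≠ 2 ∧ Nonempty ((Γ ⧸ Zr ρ) ≃* Equiv.Perm (Fin 4))) ∨
    (p ≠ 2 ∧ Nonempty ((Γ ⧸ Zr ρ) ≃* alternatingGroup (Fin 5))) ∨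
    SubfieldFrame ρ := by
  have hCA := isCA ρ hinj
  by_cases hU : ∃ x, IsUni ρ x
  · obtain ⟨x₀, hx₀⟩ := hU
    obtain ⟨c, hc, hc01⟩ := exists_conj_Uni ρ hx₀
    have hF : UniFrame (conjRep ρ c) x₀ := ⟨conjRep_injective ρ c hinj, hc, hc01⟩
    obtain ⟨m, ha, hcases⟩ := hF.num p
    rw [Zr_conjRep] at hcases
    have hx₀Z : x₀ ∉ Zr ρ := hx₀.1
    have hgOf : gOf (Zr ρ) = (1 + m * Nat.card (Qg (conjRep ρ c))) * Nat.card (Qg (conjRep ρ c)) *
        fOf x₀ := by
      have h1 := hCA.datum_mul hx₀Z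
      have h2 := hF.eOf_eq p
      rw [Zr_conjRep] at h2
      rw [← h1, h2, ha]
    have hSS : ∀ x, x ∉ Zr ρ → x ∉ classUnion (Zr ρ) x₀ → IsSS ρ x := by
      intro x hxZ hxU
      rcases isSS_or_isUni ρ hxZ with hss | huni
      · exact hss
      · exfalso
        apply hxU
        have := hF.uni_mem_classUnion p ((isUni_conjRep ρ c x).2 huni)
        rwa [Zr_conjRep] at this
    rcases hcases with hm | ⟨-, -, x, hxZ, hxN, hxf, hxU⟩ | ⟨hq, hk, hm⟩ | ⟨hk, hm, -, hall⟩ |
      ⟨hq, hk, hm, hall⟩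
    · -- Borel
      right; right; left
      refine ⟨x₀, hx₀, ?_⟩
      apply top_of_a_one
      rw [ha, hm]; simp
    · -- dihedral
      right; left
      exact dihedral_of_Nx_top hinj p (hSS x hxZ hxU) hxN hxf
    · -- A4
      right; right; right; left
      refine ⟨ne_two_of_card_Qg_three (conjRep_injective ρ c hinj) p hq, ?_⟩
      apply hCA.recog_A4 _ hx₀Z _ hk
      · rw [hgOf, hq, hk, hm]
      · rw [ha, hq, hm]
    · -- PSL2 / PGL2
      right; right; right; right; right; right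
      have hidx : aOf x₀ = 1 + Nat.card (Qg (conjRep ρ c)) := by rw [ha, hm, one_mul]
      have hall' : ∀ x, x ∉ Zr (conjRep ρ c) → x ∉ classUnion (Zr (conjRep ρ c)) x₀ →
          fOf x = 2 := by
        rw [Zr_conjRep]; exact hall
      obtain ⟨c', w₀, hBN⟩ := hF.exists_BNFrame p hidx hk hall'
      rw [conjRep_conjRep] at hBN
      have hKiso := ident_fieldK hBN p
      refine ⟨c' * c, hBN.fieldK p, inferInstance, ?_, ?_, ?_⟩
      · intro M h00 h01 h10 h11
        exact hBN.mem_range_of_entries p M h00 h01 h10 h11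
      · intro γ
        exact hBN.ratS_all p γ
      · have hZ : Zr (conjRep ρ (c' * c)) = Zr ρ := Zr_conjRep ρ _
        rcases hKiso with ⟨⟨e⟩⟩ | ⟨⟨e⟩⟩
        · left
          exact ⟨(QuotientGroup.quotientMulEquivOfEq hZ).symm.trans e⟩
        · right
          exact ⟨(QuotientGroup.quotientMulEquivOfEq hZ).symm.trans e⟩
    · -- A5
      right; right; right; right; right; left
      refine ⟨ne_two_of_card_Qg_three (conjRep_injective ρ c hinj) p hq, ?_⟩
      apply hCA.recog_A5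
      · rw [hgOf, hq, hk, hm]
      · intro x hxZ
        by_cases hxU : x ∈ classUnion (Zr ρ) x₀
        · have hd := hCA.datum_eq_of_mem hx₀Z hxU
          have h2 := hF.eOf_eq p
          rw [Zr_conjRep] at h2
          have he : eOf (Zr ρ) x = eOf (Zr ρ) x₀ := congrArg (fun t => t.2.1) hd
          have hf : fOf x = fOf x₀ := congrArg (fun t => t.2.2) hd
          exact ⟨by rw [hf, hk], Or.inr (Or.inl (by rw [he, h2, hq]))⟩
        · obtain ⟨hf, he⟩ := hall x hxZ hxU
          refine ⟨hf, ?_⟩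
          rcases he with he | he
          · exact Or.inl he
          · exact Or.inr (Or.inr he)
  · -- all classes are of torus type
    have hall : ∀ x : Γ, x ∉ Zr ρ → IsSS ρ x := by
      intro x hx
      rcases isSS_or_isUni ρ hx with hss | huni
      · exact hss
      · exact absurd ⟨x, huni⟩ hU
    have hp2 : ∀ n : ℕ, gOf (Zr ρ) = n → 2 ∣ n → p ≠ 2 := by
      intro n hn h2n hp
      have h2 := two_eq_zero_of_char_two (E := E) p hp
      exact not_even_of_all_SS h2 hinj hall (hn ▸ h2n)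
    rcases num_SS hinj hall with h1 | ⟨x, hxZ, hxC⟩ | ⟨x, hxZ, hxN, hxf⟩ | ⟨hg, x, hxZ, hd⟩ |
      ⟨hg, x, hxZ, hxa, hxe, hxf⟩ | ⟨hg, hall2⟩ | ⟨hg, hall2⟩
    · left
      haveI : Subsingleton (Γ ⧸ Zr ρ) := by
        rw [h1]; exact QuotientGroup.subsingleton_quotient_top
      exact isCyclic_of_subsingleton
    · left
      exact isCyclic_quotient_of_Cx_top hinj (hall x hxZ) hxC
    · right; left
      exact dihedral_of_Nx_top hinj p (hall x hxZ) hxN hxf
    · right; right; right; left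
      have ha : aOf x = 4 := congrArg (fun t => t.1) hd
      have hf : fOf x = 1 := congrArg (fun t => t.2.2) hd
      exact ⟨hp2 12 hg (by norm_num), hCA.recog_A4 hg hxZ ha hf⟩
    · exact absurd (no_233 hinj (hall x hxZ) hxa hxe) id
    · right; right; right; right; left
      exact ⟨hp2 24 hg (by norm_num), hCA.recog_S4 hg (fun x hx => (hall2 x hx).2)⟩
    · right; right; right; right; right; left
      exact ⟨hp2 60 hg (by norm_num), hCA.recog_A5 hg hall2⟩

end Cfsg.Agent.Helper41.DkR
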