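import Mathlib
import Cfsg.Agent.Helper41.DkRefined
import Cfsg.Agent.Helper46.DkFinite
import Cfsg.Agent.Helper5.ProjLine

set_option autoImplicit false

/-!
# Descent from the refined Dickson theorem: overgroups defined over intermediate fields
-/

namespace Cfsg.Agent.Helper41.DkR

open Matrix Cfsg.Agent.Helper46.Dk

section Sub

variable {E : Type*} [Field E]

local notation "SL2" => Matrix.SpecialLinearGroup (Fin 2) E

/-- the matrices of `SL₂(E)` with entries in the subfield `K` -/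
def slSub (K : Subfield E) : Subgroup SL2 :=
  (Matrix.SpecialLinearGroup.map K.subtype).range

theorem map_subtype_entry (K : Subfield E) (Y : Matrix.SpecialLinearGroup (Fin 2) K) (i j : Fin 2) :
    (Matrix.SpecialLinearGroup.map K.subtype Y).1 i j = ((Y.1 i j : K) : E) := rfl

theorem mem_slSub_iff (K : Subfield E) (X : SL2) :
    X ∈ slSub K ↔ X.1 0 0 ∈ K ∧ X.1 0 1 ∈ K ∧ X.1 1 0 ∈ K ∧ X.1 1 1 ∈ K := by
  constructor
  · rintro ⟨Y, rfl⟩
    refine ⟨?_, ?_, ?_, ?_⟩ <;> · rw [map_subtype_entry]; exact Subtype.property _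
  · rintro ⟨h00, h01, h10, h11⟩
    have hdet : (⟨X.1 0 0, h00⟩ : K) * ⟨X.1 1 1, h11⟩ - ⟨X.1 0 1, h01⟩ * ⟨X.1 1 0, h10⟩ = 1 := by
      apply Subtype.ext
      exact det' X
    refine ⟨⟨!![⟨X.1 0 0, h00⟩, ⟨X.1 0 1, h01⟩; ⟨X.1 1 0, h10⟩, ⟨X.1 1 1, h11⟩], ?_⟩, ?_⟩
    · rw [Matrix.det_fin_two_of]; exact hdet
    · apply ext' <;> rfl

theorem map_subtype_injective (K : Subfield E) :
    Function.Injective (Matrix.SpecialLinearGroup.map K.subtype :
      Matrix.SpecialLinearGroup (Fin 2) K →* SL2) := by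
  intro A B hAB
  apply Subtype.ext
  ext i j
  have := congrArg (fun M : SL2 => M.1 i j) hAB
  exact this

theorem card_slSub (K : Subfield E) [Fintype K] :
    Nat.card (slSub K) = Fintype.card K * (Fintype.card K ^ 2 - 1) := by
  rw [← Cfsg.Agent.Helper5.card_SL2 (F := K)]
  exact (Nat.card_congr (MonoidHom.ofInjective (map_subtype_injective K)).toEquiv).symm

theorem slSub_mono {K K' : Subfield E} (h : K ≤ K') : slSub K ≤ slSub K' := by
  intro X hX
  rw [mem_slSub_iff] at hX ⊢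
  exact ⟨h hX.1, h hX.2.1, h hX.2.2.1, h hX.2.2.2⟩

/-- if the conjugates under `g` of three special elements are rational over `R`, all products of
two entries of `g` lie in `R` -/
theorem prod_entries_mem (R : Subfield E) (g : SL2)
    (h1 : g * uU 1 * g⁻¹ ∈ slSub R) (h2 : g * vV 1 * g⁻¹ ∈ slSub R)
    (h3 : g * (uU 1 * vV 1) * g⁻¹ ∈ slSub R) :
    ∀ a b c d : Fin 2, g.1 a b * g.1 c d ∈ R := by
  rw [mem_slSub_iff] at h1 h2 h3
  obtain ⟨u00, u01, u10, u11⟩ := h1
  obtain ⟨v00, v01, v10, v11⟩ := h2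
  obtain ⟨w00, w01, w10, w11⟩ := h3
  have hd := det' g
  rw [conj_00] at u00 v00 w00
  rw [conj_01] at u01 v01 w01
  rw [conj_10] at u10 v10 w10
  rw [conj_11] at u11 v11 w11
  have e1 : (uU (1 : E) * vV 1).1 0 0 = 2 := by rw [mul_00]; simp [uU, vV]; norm_num
  have e2 : (uU (1 : E) * vV 1).1 0 1 = 1 := by rw [mul_01]; simp [uU, vV]
  have e3 : (uU (1 : E) * vV 1).1 1 0 = 1 := by rw [mul_10]; simp [uU, vV]
  have e4 : (uU (1 : E) * vV 1).1 1 1 = 1 := by rw [mul_11]; simp [uU, vV]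
  rw [e1, e2, e3, e4] at w00 w01 w10 w11
  simp only [uU, vV, mk4_00, mk4_01, mk4_10, mk4_11] at u00 u01 u10 u11 v00 v01 v10 v11
  -- the ten products
  have p00_10 : g.1 0 0 * g.1 1 0 ∈ R := by
    have : g.1 0 0 * g.1 1 0 = 1 - ((g.1 0 0 * 1 + g.1 0 1 * 0) * g.1 1 1 -
        (g.1 0 0 * 1 + g.1 0 1 * 1) * g.1 1 0) := by linear_combination hd
    rw [this]; exact R.sub_mem R.one_mem u00
  have p00_00 : g.1 0 0 * g.1 0 0 ∈ R := by
    have : g.1 0 0 * g.1 0 0 = -(g.1 0 0 * 1 + g.1 0 1 * 0) * g.1 0 1 +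
        (g.1 0 0 * 1 + g.1 0 1 * 1) * g.1 0 0 := by ring
    rw [this]; exact u01
  have p10_10 : g.1 1 0 * g.1 1 0 ∈ R := by
    have : g.1 1 0 * g.1 1 0 = -((g.1 1 0 * 1 + g.1 1 1 * 0) * g.1 1 1 -
        (g.1 1 0 * 1 + g.1 1 1 * 1) * g.1 1 0) := by ring
    rw [this]; exact R.neg_mem u10
  have p01_11 : g.1 0 1 * g.1 1 1 ∈ R := by
    have : g.1 0 1 * g.1 1 1 = ((g.1 0 0 * 1 + g.1 0 1 * 1) * g.1 1 1 -
        (g.1 0 0 * 0 + g.1 0 1 * 1) * g.1 1 0) - 1 := by linear_combination -hd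
    rw [this]; exact R.sub_mem v00 R.one_mem
  have p01_01 : g.1 0 1 * g.1 0 1 ∈ R := by
    have : g.1 0 1 * g.1 0 1 = -(-(g.1 0 0 * 1 + g.1 0 1 * 1) * g.1 0 1 +
        (g.1 0 0 * 0 + g.1 0 1 * 1) * g.1 0 0) := by ring
    rw [this]; exact R.neg_mem v01
  have p11_11 : g.1 1 1 * g.1 1 1 ∈ R := by
    have : g.1 1 1 * g.1 1 1 = (g.1 1 0 * 1 + g.1 1 1 * 1) * g.1 1 1 -
        (g.1 1 0 * 0 + g.1 1 1 * 1) * g.1 1 0 := by ring
    rw [this]; exact v10
  have p00_11 : g.1 0 0 * g.1 1 1 ∈ R := by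
    have : g.1 0 0 * g.1 1 1 = ((g.1 0 0 * 2 + g.1 0 1 * 1) * g.1 1 1 -
        (g.1 0 0 * 1 + g.1 0 1 * 1) * g.1 1 0) - 1 - g.1 0 1 * g.1 1 1 + g.1 0 0 * g.1 1 0 := by
      linear_combination -hd
    rw [this]
    exact R.add_mem (R.sub_mem (R.sub_mem w00 R.one_mem) p01_11) p00_10
  have p01_10 : g.1 0 1 * g.1 1 0 ∈ R := by
    have : g.1 0 1 * g.1 1 0 = g.1 0 0 * g.1 1 1 - 1 := by linear_combination -hd
    rw [this]; exact R.sub_mem p00_11 R.one_mem
  have p00_01 : g.1 0 0 * g.1 0 1 ∈ R := by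
    have : g.1 0 0 * g.1 0 1 = g.1 0 0 * g.1 0 0 - g.1 0 1 * g.1 0 1 -
        (-(g.1 0 0 * 2 + g.1 0 1 * 1) * g.1 0 1 + (g.1 0 0 * 1 + g.1 0 1 * 1) * g.1 0 0) := by ring
    rw [this]
    exact R.sub_mem (R.sub_mem p00_00 p01_01) w01
  have p10_11 : g.1 1 0 * g.1 1 1 ∈ R := by
    have : g.1 1 0 * g.1 1 1 = ((g.1 1 0 * 2 + g.1 1 1 * 1) * g.1 1 1 -
        (g.1 1 0 * 1 + g.1 1 1 * 1) * g.1 1 0) - g.1 1 1 * g.1 1 1 + g.1 1 0 * g.1 1 0 := by ring
    rw [this]
    exact R.add_mem (R.sub_mem w10 p11_11) p10_10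
  intro a b c d
  fin_cases a <;> fin_cases b <;> fin_cases c <;> fin_cases d <;>
    simp only [Fin.zero_eta, Fin.mk_one, Fin.isValue] <;>
    first
      | assumption
      | (rw [mul_comm]; assumption)

/-- conjugation by `g` preserves rationality over `R` when all products of entries of `g` are in
`R` -/
theorem conj_mem_slSub (R : Subfield E) (g X : SL2)
    (hg : ∀ a b c d : Fin 2, g.1 a b * g.1 c d ∈ R) (hX : X ∈ slSub R) :
    g * X * g⁻¹ ∈ slSub R := by
  rw [mem_slSub_iff] at hX ⊢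
  obtain ⟨x00, x01, x10, x11⟩ := hX
  refine ⟨?_, ?_, ?_, ?_⟩
  · rw [conj_00]
    have : (g.1 0 0 * X.1 0 0 + g.1 0 1 * X.1 1 0) * g.1 1 1 -
        (g.1 0 0 * X.1 0 1 + g.1 0 1 * X.1 1 1) * g.1 1 0 =
        X.1 0 0 * (g.1 0 0 * g.1 1 1) + X.1 1 0 * (g.1 0 1 * g.1 1 1) -
        (X.1 0 1 * (g.1 0 0 * g.1 1 0) + X.1 1 1 * (g.1 0 1 * g.1 1 0)) := by ring
    rw [this]
    exact R.sub_mem (R.add_mem (R.mul_mem x00 (hg _ _ _ _)) (R.mul_mem x10 (hg _ _ _ _)))
      (R.add_mem (R.mul_mem x01 (hg _ _ _ _)) (R.mul_mem x11 (hg _ _ _ _)))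
  · rw [conj_01]
    have : -(g.1 0 0 * X.1 0 0 + g.1 0 1 * X.1 1 0) * g.1 0 1 +
        (g.1 0 0 * X.1 0 1 + g.1 0 1 * X.1 1 1) * g.1 0 0 =
        X.1 0 1 * (g.1 0 0 * g.1 0 0) + X.1 1 1 * (g.1 0 1 * g.1 0 0) -
        (X.1 0 0 * (g.1 0 0 * g.1 0 1) + X.1 1 0 * (g.1 0 1 * g.1 0 1)) := by ring
    rw [this]
    exact R.sub_mem (R.add_mem (R.mul_mem x01 (hg _ _ _ _)) (R.mul_mem x11 (hg _ _ _ _)))
      (R.add_mem (R.mul_mem x00 (hg _ _ _ _)) (R.mul_mem x10 (hg _ _ _ _)))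
  · rw [conj_10]
    have : (g.1 1 0 * X.1 0 0 + g.1 1 1 * X.1 1 0) * g.1 1 1 -
        (g.1 1 0 * X.1 0 1 + g.1 1 1 * X.1 1 1) * g.1 1 0 =
        X.1 0 0 * (g.1 1 0 * g.1 1 1) + X.1 1 0 * (g.1 1 1 * g.1 1 1) -
        (X.1 0 1 * (g.1 1 0 * g.1 1 0) + X.1 1 1 * (g.1 1 1 * g.1 1 0)) := by ring
    rw [this]
    exact R.sub_mem (R.add_mem (R.mul_mem x00 (hg _ _ _ _)) (R.mul_mem x10 (hg _ _ _ _)))
      (R.add_mem (R.mul_mem x01 (hg _ _ _ _)) (R.mul_mem x11 (hg _ _ _ _)))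
  · rw [conj_11]
    have : -(g.1 1 0 * X.1 0 0 + g.1 1 1 * X.1 1 0) * g.1 0 1 +
        (g.1 1 0 * X.1 0 1 + g.1 1 1 * X.1 1 1) * g.1 0 0 =
        X.1 0 1 * (g.1 1 0 * g.1 0 0) + X.1 1 1 * (g.1 1 1 * g.1 0 0) -
        (X.1 0 0 * (g.1 1 0 * g.1 0 1) + X.1 1 0 * (g.1 1 1 * g.1 0 1)) := by ring
    rw [this]
    exact R.sub_mem (R.add_mem (R.mul_mem x01 (hg _ _ _ _)) (R.mul_mem x11 (hg _ _ _ _)))
      (R.add_mem (R.mul_mem x00 (hg _ _ _ _)) (R.mul_mem x10 (hg _ _ _ _)))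

end Sub


section CharTwo

variable {E : Type*} [Field E]

local notation "SL2" => Matrix.SpecialLinearGroup (Fin 2) E

/-- in characteristic two, a matrix of `SL₂(E)` rational over a finite subfield `K` up to a scalar
is rational over `K` -/
theorem mem_slSub_of_ratS (h2 : (2 : E) = 0) (K : Subfield E) [Finite K] (X : SL2)
    (h : RatS K X) : X ∈ slSub K := by
  obtain ⟨a, M, hM⟩ := h
  have hdet : X.1.det = 1 := X.2
  have hmapdet : (M.map K.subtype).det = ((M.det : K) : E) := by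
    have := RingHom.map_det K.subtype M
    exact this.symm
  rw [hM, Matrix.det_smul, hmapdet] at hdet
  simp only [Fintype.card_fin] at hdet
  -- squaring is surjective on `K`
  have hinj : Function.Injective (fun x : K => x * x) := by
    intro x y hxy
    have hxy' : ((x : E) - y) ^ 2 = 0 := by
      have e : (x : E) * x = y * y := by
        have := congrArg (Subtype.val) hxy
        simpa using this
      linear_combination e + ((y : E) * y - x * y) * h2
    have := sub_eq_zero.1 (pow_eq_zero_iff two_ne_zero |>.1 hxy')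
    exact Subtype.ext this
  have hsurj := Finite.injective_iff_surjective.1 hinj
  have hd0 : (M.det : K) ≠ 0 := by
    intro h0
    rw [h0] at hdet
    simp at hdet
  obtain ⟨b, hb⟩ := hsurj (M.det)⁻¹
  have hb' : (b : E) * b = ((M.det : K) : E)⁻¹ := by
    have := congrArg (Subtype.val) hb
    simpa using this
  have hd0' : ((M.det : K) : E) ≠ 0 := fun h => hd0 (Subtype.ext h)
  have ha2 : a ^ 2 = ((M.det : K) : E)⁻¹ := by
    field_simp
    exact hdet
  have hab : a = b := by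
    have : (a - b) ^ 2 = 0 := by
      linear_combination ha2 + hb' + (((M.det : K) : E)⁻¹ - a * b) * h2
    exact sub_eq_zero.1 (pow_eq_zero_iff two_ne_zero |>.1 this)
  rw [mem_slSub_iff, hM]
  simp only [Matrix.smul_apply, Matrix.map_apply, smul_eq_mul, Subfield.coe_subtype]
  rw [hab]
  exact ⟨K.mul_mem b.2 (M 0 0).2, K.mul_mem b.2 (M 0 1).2, K.mul_mem b.2 (M 1 0).2,
    K.mul_mem b.2 (M 1 1).2⟩

end CharTwo

section Finite

variable {F : Type*} [Field F]

local notation "PSL2F" => Matrix.ProjectiveSpecialLinearGroup (Fin 2) F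
local notation "SL2F" => Matrix.SpecialLinearGroup (Fin 2) F
local notation "Ebar" => AlgebraicClosure F
local notation "SL2E" => Matrix.SpecialLinearGroup (Fin 2) (AlgebraicClosure F)

/-- `g ↦ c φ(g) c⁻¹` -/
noncomputable def lamHom (c : SL2E) : SL2F →* SL2E :=
  (MulAut.conj c).toMonoidHom.comp (Matrix.SpecialLinearGroup.map (algebraMap F Ebar))

theorem lamHom_apply (c : SL2E) (g : SL2F) :
    lamHom c g = c * Matrix.SpecialLinearGroup.map (algebraMap F Ebar) g * c⁻¹ := rfl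

theorem map_algebraMap_injective :
    Function.Injective (Matrix.SpecialLinearGroup.map (algebraMap F Ebar) : SL2F →* SL2E) := by
  intro A B hAB
  apply Subtype.ext
  ext i j
  apply (algebraMap F Ebar).injective
  exact congrArg (fun M : SL2E => M.1 i j) hAB

theorem lamHom_injective (c : SL2E) : Function.Injective (lamHom (F := F) c) := by
  intro A B hAB
  apply map_algebraMap_injective
  rw [lamHom_apply, lamHom_apply] at hAB
  exact mul_left_cancel (mul_right_cancel hAB)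

theorem conjRep_liftRep (H : Subgroup PSL2F) (c : SL2E) (γ : ↥(liftSL H)) :
    conjRep (liftRep H) c γ = lamHom c γ.1 := rfl

/-- matrices rational over the image of `F` come from `SL₂(F)` -/
theorem exists_of_mem_slSub_fieldRange (Y : SL2E)
    (hY : Y ∈ slSub (algebraMap F Ebar).fieldRange) :
    ∃ y : SL2F, Matrix.SpecialLinearGroup.map (algebraMap F Ebar) y = Y := by
  rw [mem_slSub_iff] at hY
  obtain ⟨⟨y00, h00⟩, ⟨y01, h01⟩, ⟨y10, h10⟩, ⟨y11, h11⟩⟩ := hY
  have hdet : y00 * y11 - y01 * y10 = 1 := by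
    apply (algebraMap F Ebar).injective
    rw [map_sub, map_mul, map_mul, h00, h01, h10, h11, map_one]
    exact det' Y
  refine ⟨⟨!![y00, y01; y10, y11], by rw [Matrix.det_fin_two_of]; exact hdet⟩, ?_⟩
  apply ext'
  · exact h00
  · exact h01
  · exact h10
  · exact h11

/-- the overgroup in `SL₂(F)` attached to a conjugating element and a subfield -/
noncomputable def overSL (c : SL2E) (K' : Subfield Ebar) : Subgroup SL2F := (slSub K').comap (lamHom c)

/-- the overgroup in `PSL₂(F)` -/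
noncomputable def overPSL (c : SL2E) (K' : Subfield Ebar) : Subgroup PSL2F :=
  (overSL c K').map (QuotientGroup.mk' (Subgroup.center SL2F))

theorem le_overPSL (H : Subgroup PSL2F) (c : SL2E) (K' : Subfield Ebar)
    (h : ∀ γ : ↥(liftSL H), conjRep (liftRep H) c γ ∈ slSub K') : H ≤ overPSL c K' := by
  intro x hx
  obtain ⟨g, rfl⟩ := QuotientGroup.mk'_surjective (Subgroup.center SL2F) x
  have hg : g ∈ liftSL H := hx
  refine ⟨g, ?_, rfl⟩
  show lamHom c g ∈ slSub K'
  exact h ⟨g, hg⟩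

theorem card_overSL (H : Subgroup PSL2F) (c : SL2E) (K' : Subfield Ebar) [Fintype K']
    (hK' : K' ≤ (algebraMap F Ebar).fieldRange)
    (h1 : ∃ γ : ↥(liftSL H), conjRep (liftRep H) c γ = uU 1)
    (h2 : ∃ γ : ↥(liftSL H), conjRep (liftRep H) c γ = vV 1)
    (h3 : ∃ γ : ↥(liftSL H), conjRep (liftRep H) c γ = uU 1 * vV 1) :
    Nat.card (overSL (F := F) c K') = Fintype.card K' * (Fintype.card K' ^ 2 - 1) := by
  rw [← card_slSub K']
  -- all products of entries of `c⁻¹` are rational over `F`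
  have hrat : ∀ (S : SL2E), (∃ γ : ↥(liftSL H), conjRep (liftRep H) c γ = S) →
      c⁻¹ * S * c⁻¹⁻¹ ∈ slSub (algebraMap F Ebar).fieldRange := by
    rintro S ⟨γ, rfl⟩
    have e : c⁻¹ * (conjRep (liftRep H) c γ) * c⁻¹⁻¹ = liftRep H γ := by
      rw [conjRep_apply]; group
    rw [e, mem_slSub_iff]
    refine ⟨?_, ?_, ?_, ?_⟩ <;> · rw [liftRep_entry]; exact ⟨_, rfl⟩
  have hprod := prod_entries_mem (algebraMap F Ebar).fieldRange c⁻¹ (hrat _ h1) (hrat _ h2)
    (hrat _ h3)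
  let f : ↥(overSL (F := F) c K') → ↥(slSub K') := fun g => ⟨lamHom c g.1, g.2⟩
  have hf : Function.Bijective f := by
    constructor
    · intro a b hab
      apply Subtype.ext
      apply lamHom_injective c
      exact congrArg Subtype.val hab
    · rintro ⟨X, hX⟩
      have hX' : c⁻¹ * X * c⁻¹⁻¹ ∈ slSub (algebraMap F Ebar).fieldRange :=
        conj_mem_slSub _ c⁻¹ X hprod (slSub_mono hK' hX)
      obtain ⟨y, hy⟩ := exists_of_mem_slSub_fieldRange _ hX'
      have hyX : lamHom c y = X := by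
        rw [lamHom_apply, hy]; group
      refine ⟨⟨y, ?_⟩, ?_⟩
      · show lamHom c y ∈ slSub K'
        rw [hyX]; exact hX
      · apply Subtype.ext
        exact hyX
  exact Nat.card_congr (Equiv.ofBijective f hf)

theorem two_eq_zero_bar (h2 : (2 : F) = 0) : (2 : Ebar) = 0 := by
  have := congrArg (algebraMap F Ebar) h2
  rw [map_ofNat, map_zero] at this
  exact this

theorem card_overPSL_of_two_eq_zero (h2 : (2 : F) = 0) (c : SL2E) (K' : Subfield Ebar) :
    Nat.card (overPSL (F := F) c K') = Nat.card (overSL (F := F) c K') := by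
  unfold overPSL
  apply Subgroup.card_map_of_injective
  exact Cfsg.Agent.Helper41.mk_injective_of_two_eq_zero h2

/-- `SL₂(K) ≃* PSL₂(K)` in characteristic two -/
theorem nonempty_sl_equiv_psl_of_two_eq_zero {K : Type*} [Field K] (h2 : (2 : K) = 0) :
    Nonempty (Matrix.SpecialLinearGroup (Fin 2) K ≃* Matrix.ProjectiveSpecialLinearGroup (Fin 2) K) := by
  have hbot : Subgroup.center (Matrix.SpecialLinearGroup (Fin 2) K) = ⊥ := by
    rw [eq_bot_iff]
    intro A hA
    rw [Subgroup.mem_bot]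
    exact Cfsg.Agent.Helper41.sl2_eq_one_of_mem_center_of_two_eq_zero h2 A hA
  exact ⟨(QuotientGroup.quotientBot).symm.trans (QuotientGroup.quotientMulEquivOfEq hbot.symm)⟩

/-- the subfield case in characteristic two: the group is `SL₂(K)` up to conjugacy, and there are
overgroups attached to all intermediate fields -/
theorem subfield_case_char_two (h2 : (2 : F) = 0) (H : Subgroup PSL2F)
    (hfr : SubfieldFrame (liftRep H)) :
    ∃ (c : SL2E) (K : Subfield Ebar), Finite K ∧ K ≤ (algebraMap F Ebar).fieldRange ∧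
      Nonempty (H ≃* Matrix.ProjectiveSpecialLinearGroup (Fin 2) K) ∧
      ∀ (K' : Subfield Ebar) [Fintype K'], K ≤ K' → K' ≤ (algebraMap F Ebar).fieldRange →
        H ≤ overPSL c K' ∧
        Nat.card (overPSL (F := F) c K') = Fintype.card K' * (Fintype.card K' ^ 2 - 1) := by
  obtain ⟨c, K, hfin, hcont, hrat, -⟩ := hfr
  have h2E := two_eq_zero_bar h2
  have hmem : ∀ γ : ↥(liftSL H), conjRep (liftRep H) c γ ∈ slSub K :=
    fun γ => mem_slSub_of_ratS h2E K _ (hrat γ)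
  have hneg : (-1 : Ebar) = 1 := by linear_combination -h2E
  refine ⟨c, K, hfin, ?_, ?_, ?_⟩
  · -- `K` lies in the image of `F`
    intro a ha
    obtain ⟨γ, hγ⟩ := hcont (mk4 a 1 1 0 (by rw [mul_zero, zero_sub, one_mul, hneg])) ha K.one_mem
      K.one_mem K.zero_mem
    have htr : tr (conjRep (liftRep H) c γ) = a := by
      rw [hγ]; unfold tr; simp
    rw [conjRep_apply, tr_conj, tr_liftRep] at htr
    exact ⟨_, htr⟩
  · -- the isomorphism
    obtain ⟨e0⟩ := nonempty_equiv_quotient H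
    have hZ : Zr (liftRep H) = ⊥ := Zr_eq_bot_of_two_eq_zero h2E (liftRep_injective H)
    have e1 : ↥(liftSL H) ≃* ↥H :=
      ((QuotientGroup.quotientBot).symm.trans (QuotientGroup.quotientMulEquivOfEq hZ.symm)).trans e0
    have hinj : Function.Injective (conjRep (liftRep H) c) :=
      conjRep_injective _ c (liftRep_injective H)
    have e2 : ↥(liftSL H) ≃* ↥(conjRep (liftRep H) c).range := MonoidHom.ofInjective hinj
    have hrange : (conjRep (liftRep H) c).range = slSub K := by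
      apply le_antisymm
      · rintro _ ⟨γ, rfl⟩
        exact hmem γ
      · intro X hX
        rw [mem_slSub_iff] at hX
        obtain ⟨γ, hγ⟩ := hcont X hX.1 hX.2.1 hX.2.2.1 hX.2.2.2
        exact ⟨γ, hγ⟩
    have e3 : ↥(conjRep (liftRep H) c).range ≃* ↥(slSub K) := MulEquiv.subgroupCongr hrange
    have e4 : Matrix.SpecialLinearGroup (Fin 2) K ≃* ↥(slSub K) :=
      MonoidHom.ofInjective (map_subtype_injective K)
    have h2K : (2 : K) = 0 := by
      apply K.subtype.injective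
      rw [map_ofNat, map_zero]; exact h2E
    obtain ⟨e5⟩ := nonempty_sl_equiv_psl_of_two_eq_zero h2K
    exact ⟨e1.symm.trans (e2.trans (e3.trans (e4.symm.trans e5)))⟩
  · intro K' _ hKK' hK'
    refine ⟨le_overPSL H c K' (fun γ => slSub_mono hKK' (hmem γ)), ?_⟩
    rw [card_overPSL_of_two_eq_zero h2]
    apply card_overSL H c K' hK'
    · exact hcont (uU 1) K.one_mem K.one_mem K.zero_mem K.one_mem
    · exact hcont (vV 1) K.one_mem K.zero_mem K.one_mem K.one_mem
    · apply hcont (uU 1 * vV 1)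
      · rw [mul_00]; simp only [uU, vV, mk4_00, mk4_01, mk4_10]
        exact K.add_mem (K.mul_mem K.one_mem K.one_mem) (K.mul_mem K.one_mem K.one_mem)
      · rw [mul_01]; simp only [uU, vV, mk4_00, mk4_01, mk4_11]
        exact K.add_mem (K.mul_mem K.one_mem K.zero_mem) (K.mul_mem K.one_mem K.one_mem)
      · rw [mul_10]; simp only [uU, vV, mk4_00, mk4_10, mk4_11]
        exact K.add_mem (K.mul_mem K.zero_mem K.one_mem) (K.mul_mem K.one_mem K.one_mem)
      · rw [mul_11]; simp only [uU, vV, mk4_01, mk4_10, mk4_11]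
        exact K.add_mem (K.mul_mem K.zero_mem K.zero_mem) (K.mul_mem K.one_mem K.one_mem)

end Finite

end Cfsg.Agent.Helper41.DkR
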