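import Mathlib

set_option autoImplicit false

/-!
# The fixed fields of the powers of Frobenius in an algebraically closed field
-/

namespace Cfsg.Agent.Helper41.DkR

open Polynomial

variable {E : Type*} [Field E] (p : ℕ) [Fact p.Prime] [CharP E p]

/-- the fixed field of the `t`-th power of Frobenius -/
def frobFix (t : ℕ) : Subfield E := (iterateFrobenius E p t).eqLocusField (RingHom.id E)

theorem mem_frobFix (t : ℕ) (x : E) : x ∈ frobFix p t ↔ x ^ p ^ t = x := Iff.rfl

theorem frobFix_mono {t t' : ℕ} (h : t ∣ t') : frobFix (E := E) p t ≤ frobFix p t' := by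
  obtain ⟨s, rfl⟩ := h
  intro x hx
  rw [mem_frobFix] at hx ⊢
  induction s with
  | zero => simp
  | succ s ih =>
    rw [Nat.mul_succ, pow_add, pow_mul, ih, hx]

theorem card_frobFix [IsAlgClosed E] {t : ℕ} (ht : t ≠ 0) : Nat.card (frobFix (E := E) p t) = p ^ t := by
  classical
  have hp : 1 < p := (Fact.out : p.Prime).one_lt
  have hsep : (X ^ p ^ t - X : E[X]).Separable :=
    galois_poly_separable p (p ^ t) (dvd_pow_self p ht)
  have hne : (X ^ p ^ t - X : E[X]) ≠ 0 := FiniteField.X_pow_card_pow_sub_X_ne_zero E ht hp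
  have hcard := card_rootSet_eq_natDegree (K := E) hsep (IsAlgClosed.splits _)
  rw [FiniteField.X_pow_card_pow_sub_X_natDegree_eq E ht hp] at hcard
  rw [← hcard, ← Nat.card_eq_fintype_card]
  apply Nat.card_congr
  apply Equiv.setCongr
  ext x
  rw [mem_rootSet]
  simp only [SetLike.mem_coe, mem_frobFix, map_sub, map_pow, aeval_X]
  constructor
  · intro h
    exact ⟨hne, sub_eq_zero.2 h⟩
  · rintro ⟨-, h⟩
    exact sub_eq_zero.1 h

theorem eq_frobFix_of_card [IsAlgClosed E] (K : Subfield E) {t : ℕ} (ht : t ≠ 0)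
    (hK : Nat.card K = p ^ t) : K = frobFix p t := by
  classical
  haveI : Finite K := Nat.finite_of_card_ne_zero (by rw [hK]; exact pow_ne_zero _ (Fact.out : p.Prime).ne_zero)
  haveI : Fintype K := Fintype.ofFinite K
  have hle : K ≤ frobFix p t := by
    intro x hx
    rw [mem_frobFix]
    have := FiniteField.pow_card (⟨x, hx⟩ : K)
    rw [← Nat.card_eq_fintype_card, hK] at this
    exact congrArg Subtype.val this
  haveI : Finite (frobFix (E := E) p t) :=
    Nat.finite_of_card_ne_zero (by rw [card_frobFix p ht]; exact pow_ne_zero _ (Fact.out : p.Prime).ne_zero)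
  apply SetLike.coe_injective
  apply Set.eq_of_subset_of_ncard_le hle
  · rw [← Nat.card_coe_set_eq, ← Nat.card_coe_set_eq]
    show Nat.card (frobFix (E := E) p t) ≤ Nat.card K
    rw [card_frobFix p ht, hK]

end Cfsg.Agent.Helper41.DkR
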