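import Mathlib

set_option autoImplicit false

/-!
# Arithmetic of the orders of subfield subgroups of `PSL₂(q)`
-/

namespace Cfsg.Agent.Helper41

/-- `p ^ (2 b) - 1 ∣ 2 (p ^ (2 a) - 1)` forces `b ∣ a`. -/
theorem dvd_of_pow_sub_one_dvd (p a b : ℕ) (hp : 2 ≤ p) (ha : 0 < a) (hb : 0 < b)
    (h : p ^ (2 * b) - 1 ∣ 2 * (p ^ (2 * a) - 1)) : b ∣ a := by
  set g := Nat.gcd a b with hg
  have hgb : g ∣ b := Nat.gcd_dvd_right a b
  have hga : g ∣ a := Nat.gcd_dvd_left a b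
  have hgpos : 0 < g := Nat.gcd_pos_of_pos_left b ha
  -- `p ^ (2 b) - 1 ∣ 2 (p ^ (2 g) - 1)`
  have h1 : p ^ (2 * b) - 1 ∣ 2 * (p ^ (2 * g) - 1) := by
    have hgcd : Nat.gcd (p ^ (2 * b) - 1) (p ^ (2 * a) - 1) = p ^ (2 * g) - 1 := by
      rw [Nat.pow_sub_one_gcd_pow_sub_one, Nat.gcd_mul_left, Nat.gcd_comm b a]
    have h2 : p ^ (2 * b) - 1 ∣ Nat.gcd (2 * (p ^ (2 * b) - 1)) (2 * (p ^ (2 * a) - 1)) :=
      Nat.dvd_gcd (Dvd.intro_left 2 rfl) h
    rwa [Nat.gcd_mul_left, hgcd] at h2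
  by_contra hba
  -- `g < b`, so `2 g ≤ b`
  have hg2 : 2 * g ≤ b := by
    obtain ⟨c, hc⟩ := hgb
    have hc0 : c ≠ 0 := by rintro rfl; omega
    have hc1 : c ≠ 1 := by
      rintro rfl
      apply hba
      rw [hc, mul_one]
      exact hga
    have : 2 ≤ c := by omega
    calc 2 * g = g * 2 := by ring
      _ ≤ g * c := Nat.mul_le_mul_left g this
      _ = b := hc.symm
  have hpb : 2 ≤ p ^ b := by
    calc 2 ≤ p := hp
      _ = p ^ 1 := (pow_one p).symm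
      _ ≤ p ^ b := Nat.pow_le_pow_right (by omega) hb
  have hle1 : p ^ (2 * g) ≤ p ^ b := Nat.pow_le_pow_right (by omega) hg2
  have hle2 : p ^ (2 * b) - 1 ≤ 2 * (p ^ (2 * g) - 1) := by
    apply Nat.le_of_dvd _ h1
    have : 2 ≤ p ^ (2 * g) := by
      calc 2 ≤ p := hp
        _ = p ^ 1 := (pow_one p).symm
        _ ≤ p ^ (2 * g) := Nat.pow_le_pow_right (by omega) (by omega)
    omega
  have hsq : p ^ (2 * b) = p ^ b * p ^ b := by rw [two_mul, pow_add]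
  have : 2 * p ^ b ≤ p ^ b * p ^ b := Nat.mul_le_mul_right _ hpb
  omega

/-- The main arithmetic lemma for subfield subgroups: if `k ^ m = q ^ r` with `r` prime, `k`, `q`
powers of the prime `p`, and `q (q² - 1) ∣ c k (k² - 1)` where `c = 1`, or `c = 2` and `p` odd,
then `k = q` or `k = q ^ r`. -/
theorem subfield_exponent_cases (p a b m r c : ℕ) (hp : p.Prime) (ha : 0 < a) (hb : 0 < b)
    (hr : r.Prime) (hkm : (p ^ a) ^ m = (p ^ b) ^ r)
    (hc : c = 1 ∨ (c = 2 ∧ p ≠ 2))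
    (hdvd : p ^ b * ((p ^ b) ^ 2 - 1) ∣ c * (p ^ a * ((p ^ a) ^ 2 - 1))) :
    a = b ∨ a = b * r := by
  have hp2 : 2 ≤ p := hp.two_le
  have hpa1 : 1 ≤ (p ^ a) ^ 2 := Nat.one_le_pow _ _ (Nat.pow_pos (by omega))
  have hpb1 : 1 ≤ (p ^ b) ^ 2 := Nat.one_le_pow _ _ (Nat.pow_pos (by omega))
  -- coprimality
  have hcop1 : Nat.Coprime p ((p ^ a) ^ 2 - 1) := by
    rw [Nat.Prime.coprime_iff_not_dvd hp]
    intro h
    have h1 : p ∣ (p ^ a) ^ 2 := by
      rw [← pow_mul]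
      exact dvd_pow_self p (by omega)
    have h2 := Nat.dvd_sub h1 h
    have h3 : (p ^ a) ^ 2 - ((p ^ a) ^ 2 - 1) = 1 := by omega
    rw [h3] at h2
    have := Nat.le_of_dvd one_pos h2
    omega
  have hcop2 : Nat.Coprime p ((p ^ b) ^ 2 - 1) := by
    rw [Nat.Prime.coprime_iff_not_dvd hp]
    intro h
    have h1 : p ∣ (p ^ b) ^ 2 := by
      rw [← pow_mul]
      exact dvd_pow_self p (by omega)
    have h2 := Nat.dvd_sub h1 h
    have h3 : (p ^ b) ^ 2 - ((p ^ b) ^ 2 - 1) = 1 := by omega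
    rw [h3] at h2
    have := Nat.le_of_dvd one_pos h2
    omega
  have hcopc : Nat.Coprime p c := by
    rcases hc with rfl | ⟨rfl, hp2'⟩
    · exact Nat.coprime_one_right p
    · rw [Nat.coprime_primes hp Nat.prime_two]
      exact hp2'
  -- `b ≤ a`
  have hba : b ≤ a := by
    have h1 : p ^ b ∣ c * (p ^ a * ((p ^ a) ^ 2 - 1)) := (Dvd.intro _ rfl).trans hdvd
    have h2 : c * (p ^ a * ((p ^ a) ^ 2 - 1)) = (c * ((p ^ a) ^ 2 - 1)) * p ^ a := by ring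
    rw [h2] at h1
    have hcop : Nat.Coprime (p ^ b) (c * ((p ^ a) ^ 2 - 1)) :=
      Nat.Coprime.pow_left b (Nat.Coprime.mul_right hcopc hcop1)
    have h3 := hcop.dvd_of_dvd_mul_left h1
    exact (Nat.pow_dvd_pow_iff_le_right hp2).mp h3
  -- `b ∣ a`
  have hbdvd : b ∣ a := by
    apply dvd_of_pow_sub_one_dvd p a b hp2 ha hb
    have h1 : (p ^ b) ^ 2 - 1 ∣ c * (p ^ a * ((p ^ a) ^ 2 - 1)) := (Dvd.intro_left _ rfl).trans hdvd
    have h2 : c * (p ^ a * ((p ^ a) ^ 2 - 1)) = p ^ a * (c * ((p ^ a) ^ 2 - 1)) := by ring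
    rw [h2] at h1
    have hcop : Nat.Coprime ((p ^ b) ^ 2 - 1) (p ^ a) :=
      (Nat.Coprime.pow_left a hcop2).symm
    have h3 := hcop.dvd_of_dvd_mul_left h1
    have h4 : c * ((p ^ a) ^ 2 - 1) ∣ 2 * ((p ^ a) ^ 2 - 1) := by
      rcases hc with rfl | ⟨rfl, -⟩
      · rw [one_mul]; exact Dvd.intro_left 2 rfl
      · exact dvd_refl _
    have h5 := h3.trans h4
    rwa [← pow_mul, ← pow_mul, mul_comm b 2, mul_comm a 2] at h5
  -- exponents
  have hexp : a * m = b * r := by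
    rw [← pow_mul, ← pow_mul] at hkm
    exact Nat.pow_right_injective hp2 hkm
  obtain ⟨t, rfl⟩ := hbdvd
  have htm : t * m = r := by
    have : b * (t * m) = b * r := by rw [← hexp]; ring
    exact Nat.eq_of_mul_eq_mul_left hb this
  have ht : t ∣ r := Dvd.intro _ htm
  rcases (Nat.dvd_prime hr).mp ht with rfl | rfl
  · left; ring
  · right; rfl

end Cfsg.Agent.Helper41
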