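import Cfsg.Agent.Helper41.DicksonMax
import Cfsg.Agent.Helper41.SubfieldArith
import Cfsg.Agent.Helper46.SubfieldPSL

set_option autoImplicit false

/-!
# Subfield subgroups as maximal subgroups of `PSL₂(q)`, assuming Dickson's list
-/

namespace Cfsg.Agent.Helper41

open Matrix

/-- Two prime powers with `k ^ m = q ^ r` are powers of the same prime. -/
theorem exists_prime_exponents (q k m r : ℕ) (hq : IsPrimePow q) (hk : IsPrimePow k) (hm : 1 ≤ m)
    (hkm : k ^ m = q ^ r) :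
    ∃ p a b : ℕ, p.Prime ∧ 0 < a ∧ 0 < b ∧ k = p ^ a ∧ q = p ^ b := by
  obtain ⟨p, b, hp, hb, rfl⟩ := (isPrimePow_nat_iff q).mp hq
  obtain ⟨p', a, hp', ha, rfl⟩ := (isPrimePow_nat_iff k).mp hk
  have h1 : p' ∣ (p' ^ a) ^ m := by
    rw [← pow_mul]
    exact dvd_pow_self p' (Nat.mul_ne_zero (by omega) (by omega))
  rw [hkm, ← pow_mul] at h1
  have h2 := hp'.dvd_of_dvd_pow h1
  have h3 : p' = p := (Nat.prime_dvd_prime_iff_eq hp' hp).mp h2
  subst h3
  exact ⟨p', a, b, hp', ha, hb, rfl, rfl⟩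

/-- `q (q² - 1) ≥ 24` for `q ≥ 3`. -/
theorem twentyfour_le (q : ℕ) (hq : 3 ≤ q) : 24 ≤ q * (q ^ 2 - 1) := by
  have h9 : 3 ^ 2 ≤ q ^ 2 := Nat.pow_le_pow_left hq 2
  have : 3 * 8 ≤ q * (q ^ 2 - 1) := Nat.mul_le_mul hq (by omega)
  omega

/-- `q (q² - 1) ≥ 120` for `q ≥ 5`. -/
theorem onetwenty_le (q : ℕ) (hq : 5 ≤ q) : 120 ≤ q * (q ^ 2 - 1) := by
  have h9 : 5 ^ 2 ≤ q ^ 2 := Nat.pow_le_pow_left hq 2
  have : 5 * 24 ≤ q * (q ^ 2 - 1) := Nat.mul_le_mul hq (by omega)
  omega

/-- `k (k² - 1) < k³`. -/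
theorem mul_sq_pred_lt (k : ℕ) (hk : 1 ≤ k) : k * (k ^ 2 - 1) < k ^ 3 := by
  have h1 : 1 ≤ k ^ 2 := Nat.one_le_pow _ _ hk
  have : k ^ 3 = k * k ^ 2 := by ring
  rw [this]
  exact Nat.mul_lt_mul_of_pos_left (by omega) hk

/-- monotonicity of `q (q² - 1)` -/
theorem mul_sq_pred_mono {a b : ℕ} (h : a ≤ b) : a * (a ^ 2 - 1) ≤ b * (b ^ 2 - 1) := by
  have h2 : a ^ 2 ≤ b ^ 2 := Nat.pow_le_pow_left h 2
  exact Nat.mul_le_mul h (by omega)

section

variable {F : Type*} [Field F] [Fintype F] {K : Type*} [Field K] [Fintype K]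

local notation "PSL2F" => Matrix.ProjectiveSpecialLinearGroup (Fin 2) F

/-- A copy of `A₄` in `PSL₂(K)`, `|K|` odd. -/
theorem exists_A4_hom_PSL2 (hodd : Odd (Fintype.card K)) :
    ∃ f : alternatingGroup (Fin 4) →* Matrix.ProjectiveSpecialLinearGroup (Fin 2) K,
      Function.Injective f := by
  obtain ⟨A, ⟨eA⟩⟩ := exists_alternating_four_subgroup (F := K) hodd
  exact ⟨A.subtype.comp eA.symm.toMonoidHom, (Subgroup.subtype_injective A).comp eA.symm.injective⟩

/-- Assuming Dickson's list: `PGL₂(q)` is a maximal subgroup of `PSL₂(q²)`, `q` odd. -/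
theorem pgl_two_maximal_of_dickson (p : ℕ) [Fact p.Prime] [CharP F p] (q : ℕ)
    (hK : Fintype.card K = q) (hF : Fintype.card F = q ^ 2) (hq : Odd q)
    (hD : ∀ H : Subgroup PSL2F, DicksonList p H) :
    ∃ H : Subgroup PSL2F, IsCoatom H ∧ Nonempty (H ≃* Matrix.ProjGenLinGroup (Fin 2) K) := by
  have hq3 : 3 ≤ q := by
    have := Fintype.one_lt_card (α := K)
    obtain ⟨t, ht⟩ := hq
    omega
  have hoddF : Odd (Fintype.card F) := by rw [hF]; exact hq.pow
  have h2 : (2 : F) ≠ 0 := Cfsg.Agent.Helper5.two_ne_zero_of_odd_card hoddF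
  obtain ⟨H₀, ⟨e⟩⟩ := ((Cfsg.Agent.S0805.result (F := F) (K := K) rfl hoddF 2 (by norm_num)
    (by rw [hK, hF])).2).mpr (by decide : Even 2)
  have hcard₀ : Nat.card H₀ = q * (q ^ 2 - 1) := by
    rw [Nat.card_congr e.toEquiv, card_PGL2, hK]
  obtain ⟨f₀, hf₀⟩ := exists_A4_hom_PSL2 (K := K) (hK ▸ hq)
  let f : alternatingGroup (Fin 4) →* H₀ :=
    e.symm.toMonoidHom.comp (Matrix.ProjectiveSpecialLinearGroup.toPGL.comp f₀)
  have hf : Function.Injective f :=
    e.symm.injective.comp (Matrix.ProjectiveSpecialLinearGroup.toPGL_injective.comp hf₀)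
  have hG := two_mul_card_PSL2 (F := F) hoddF
  rw [hF] at hG
  have hn24 := twentyfour_le q hq3
  -- `2 |G| = n * (q (q² + 1))`
  have hq21 : 1 ≤ q ^ 2 := Nat.one_le_pow _ _ (by omega)
  have hfact : q ^ 2 * ((q ^ 2) ^ 2 - 1) = q * (q ^ 2 - 1) * (q * (q ^ 2 + 1)) := by
    obtain ⟨s, hs⟩ : ∃ s, q ^ 2 = s + 1 := ⟨q ^ 2 - 1, by omega⟩
    have h1 : (q ^ 2) ^ 2 - 1 = s * (s + 2) := by
      rw [hs]
      have : (s + 1) ^ 2 = s * (s + 2) + 1 := by ring
      omega
    rw [h1]
    have h2 : q ^ 2 - 1 = s := by omega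
    rw [h2]
    have h3 : q * s * (q * (q ^ 2 + 1)) = q ^ 2 * (s * (q ^ 2 + 1)) := by ring
    rw [h3, hs]
  have hbig : 30 ≤ q * (q ^ 2 + 1) := by
    have h9 : 3 ^ 2 ≤ q ^ 2 := Nat.pow_le_pow_left hq3 2
    have : 3 * 10 ≤ q * (q ^ 2 + 1) := Nat.mul_le_mul hq3 (by omega)
    omega
  have hGn : q * (q ^ 2 - 1) * 30 ≤ 2 * Nat.card PSL2F := by
    rw [hG, hfact]
    exact Nat.mul_le_mul_left _ hbig
  refine ⟨H₀, isCoatom_of_card_overgroup H₀ ?_ ?_, ⟨e⟩⟩
  · intro htop
    have := (Subgroup.card_eq_iff_eq_top H₀).mpr htop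
    omega
  · intro M hle hM
    rw [hcard₀]
    have hn : q * (q ^ 2 - 1) ∣ Nat.card M := hcard₀ ▸ Subgroup.card_dvd_of_le hle
    have hMpos : 0 < Nat.card M := Nat.card_pos
    have hnle : q * (q ^ 2 - 1) ≤ Nat.card M := Nat.le_of_dvd hMpos hn
    have hMne : Nat.card M ≠ Nat.card PSL2F := fun h => hM ((Subgroup.card_eq_iff_eq_top M).mp h)
    rcases card_overgroup_of_A4 p h2 H₀ M hle (hD M) f hf with h | h | h | h
    · omega
    · omega
    · exfalso
      rcases Nat.lt_or_ge q 5 with h5 | h5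
      · have hq3' : q = 3 := by
          obtain ⟨t, ht⟩ := hq
          omega
        subst hq3'
        rw [h] at hn
        norm_num at hn
      · have := onetwenty_le q h5
        omega
    · obtain ⟨k, m, hkpp, hm1, hkm, hcases⟩ := h
      have hk2 : 2 ≤ k := hkpp.two_le
      have hMle : Nat.card M ≤ k * (k ^ 2 - 1) := by
        rcases hcases with h | ⟨h, -⟩
        · rw [← h]
          exact Nat.le_mul_of_pos_left _ (Nat.gcd_pos_of_pos_left _ (by norm_num))
        · exact h.le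
      rw [hF] at hkm
      have hm' : m = 1 ∨ m = 2 ∨ 3 ≤ m := by omega
      rcases hm' with rfl | rfl | hm3
      · exfalso
        rw [pow_one] at hkm
        apply hMne
        apply card_eq_of_full_field hoddF M
        rw [hF, ← hkm]
        rcases hcases with h | ⟨h, -⟩
        · exact Or.inl h
        · exact Or.inr h
      · have hkq : k = q := Nat.pow_left_injective (by norm_num) hkm
        rw [hkq] at hMle
        exact hMle
      · exfalso
        have h3 : k ^ 3 ≤ k ^ m := Nat.pow_le_pow_right (by omega) hm3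
        have h4 := mul_sq_pred_lt k (by omega)
        have h5 : q ^ 2 ≤ q * (q ^ 2 - 1) := by
          have hqq : q ^ 2 = q * q := by ring
          have h3q : q * 3 ≤ q * q := Nat.mul_le_mul_left q hq3
          calc q ^ 2 = q * q := hqq
            _ ≤ q * (q ^ 2 - 1) := Nat.mul_le_mul_left q (by omega)
        omega

end

/-- `9 ^ r ≡ 9 (mod 16)` for odd `r`. -/
theorem nine_pow_mod_sixteen (r : ℕ) (hr : Odd r) : 9 ^ r % 16 = 9 := by
  obtain ⟨t, rfl⟩ := hr
  rw [pow_succ, pow_mul, Nat.mul_mod, Nat.pow_mod]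
  norm_num

/-- `9 ^ r ≡ 4 (mod 5)` for odd `r`. -/
theorem nine_pow_mod_five (r : ℕ) (hr : Odd r) : 9 ^ r % 5 = 4 := by
  obtain ⟨t, rfl⟩ := hr
  rw [pow_succ, pow_mul, Nat.mul_mod, Nat.pow_mod]
  norm_num

/-- `24 ∤ |PSL₂(3^r)|` for odd `r`. -/
theorem not_fortyeight_dvd (r : ℕ) (hr : Odd r) : ¬ 48 ∣ 3 ^ r * ((3 ^ r) ^ 2 - 1) := by
  intro h
  have h9 : (3 ^ r) ^ 2 = 9 ^ r := by rw [← pow_mul, mul_comm, pow_mul]; norm_num
  have h16 := nine_pow_mod_sixteen r hr
  have hpos : 1 ≤ 9 ^ r := Nat.one_le_pow _ _ (by norm_num)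
  rw [h9] at h
  have hodd : Odd (3 ^ r) := Odd.pow (by decide)
  obtain ⟨v, hv⟩ := hodd
  obtain ⟨u, hu⟩ : ∃ u, 9 ^ r - 1 = 16 * u + 8 := ⟨(9 ^ r - 1) / 16, by omega⟩
  rw [hu, hv] at h
  obtain ⟨w, hw⟩ := h
  have : (2 * v + 1) * (16 * u + 8) = 16 * (2 * u * v + v + u) + 8 := by ring
  omega

/-- `60 ∤ |PSL₂(3^r)|` for odd `r`. -/
theorem not_five_dvd (r : ℕ) (hr : Odd r) : ¬ 5 ∣ 3 ^ r * ((3 ^ r) ^ 2 - 1) := by
  intro h
  have h9 : (3 ^ r) ^ 2 = 9 ^ r := by rw [← pow_mul, mul_comm, pow_mul]; norm_num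
  have h5 := nine_pow_mod_five r hr
  have hpos : 1 ≤ 9 ^ r := Nat.one_le_pow _ _ (by norm_num)
  rw [h9] at h
  have h3 : (9 ^ r - 1) % 5 = 3 := by omega
  have hmod := Nat.mod_eq_zero_of_dvd h
  rw [Nat.mul_mod, h3] at hmod
  have hne : 3 ^ r % 5 ≠ 0 := by
    intro h0
    have : (3 ^ r) ^ 2 % 5 = 0 := by rw [Nat.pow_mod, h0]
    rw [h9] at this
    omega
  have : 3 ^ r % 5 < 5 := Nat.mod_lt _ (by norm_num)
  have hc : 3 ^ r % 5 = 1 ∨ 3 ^ r % 5 = 2 ∨ 3 ^ r % 5 = 3 ∨ 3 ^ r % 5 = 4 := by omega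
  rcases hc with h | h | h | h <;> rw [h] at hmod <;> omega

section

variable {F : Type*} [Field F] [Fintype F] {K : Type*} [Field K] [Fintype K]

local notation "PSL2F" => Matrix.ProjectiveSpecialLinearGroup (Fin 2) F

/-- Assuming Dickson's list: `PSL₂(q)` is a maximal subgroup of `PSL₂(q^r)`, `q` odd, `r` an odd
prime. -/
theorem psl_two_maximal_odd_of_dickson (p : ℕ) [Fact p.Prime] [CharP F p] (q r : ℕ)
    (hK : Fintype.card K = q) (hF : Fintype.card F = q ^ r) (hq : Odd q) (hr : r.Prime)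
    (hr2 : r ≠ 2) (hD : ∀ H : Subgroup PSL2F, DicksonList p H) :
    ∃ H : Subgroup PSL2F, IsCoatom H ∧
      Nonempty (H ≃* Matrix.ProjectiveSpecialLinearGroup (Fin 2) K) := by
  have hq3 : 3 ≤ q := by
    have := Fintype.one_lt_card (α := K)
    obtain ⟨t, ht⟩ := hq
    omega
  have hrodd : Odd r := hr.odd_of_ne_two hr2
  have hr3 : 3 ≤ r := by
    have := hr.two_le
    omega
  have hoddF : Odd (Fintype.card F) := by rw [hF]; exact hq.pow
  have h2 : (2 : F) ≠ 0 := Cfsg.Agent.Helper5.two_ne_zero_of_odd_card hoddF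
  obtain ⟨H₀, ⟨e⟩⟩ := (Cfsg.Agent.S0805.result (F := F) (K := K) rfl hoddF r (by omega)
    (by rw [hK, hF])).1
  have hcard₀ : 2 * Nat.card H₀ = q * (q ^ 2 - 1) := by
    rw [Nat.card_congr e.toEquiv, two_mul_card_PSL2 (F := K) (hK ▸ hq), hK]
  obtain ⟨f₀, hf₀⟩ := exists_A4_hom_PSL2 (K := K) (hK ▸ hq)
  let f : alternatingGroup (Fin 4) →* H₀ := e.symm.toMonoidHom.comp f₀
  have hf : Function.Injective f := e.symm.injective.comp hf₀
  have hG := two_mul_card_PSL2 (F := F) hoddF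
  have hn24 := twentyfour_le q hq3
  -- `q < Q`
  have hqQ : q + 1 ≤ Fintype.card F := by
    rw [hF]
    calc q + 1 ≤ q * q := by nlinarith
      _ = q ^ 2 := by ring
      _ ≤ q ^ r := Nat.pow_le_pow_right (by omega) (by omega)
  have hlt : q * (q ^ 2 - 1) < Fintype.card F * (Fintype.card F ^ 2 - 1) := by
    have h1 := mul_sq_pred_mono hqQ
    have h2 : q * (q ^ 2 - 1) < (q + 1) * ((q + 1) ^ 2 - 1) := by
      have ha : q ^ 2 - 1 ≤ (q + 1) ^ 2 - 1 := by
        have : q ^ 2 ≤ (q + 1) ^ 2 := Nat.pow_le_pow_left (by omega) 2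
        omega
      have hb : 0 < (q + 1) ^ 2 - 1 := by
        have : (q + 1) ^ 2 = q ^ 2 + 2 * q + 1 := by ring
        omega
      calc q * (q ^ 2 - 1) ≤ q * ((q + 1) ^ 2 - 1) := Nat.mul_le_mul_left q ha
        _ < (q + 1) * ((q + 1) ^ 2 - 1) := Nat.mul_lt_mul_of_pos_right (by omega) hb
    omega
  refine ⟨H₀, isCoatom_of_card_overgroup H₀ ?_ ?_, ⟨e⟩⟩
  · intro htop
    have := (Subgroup.card_eq_iff_eq_top H₀).mpr htop
    omega
  · intro M hle hM
    have hn : Nat.card H₀ ∣ Nat.card M := Subgroup.card_dvd_of_le hle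
    have hMpos : 0 < Nat.card M := Nat.card_pos
    have hnle : Nat.card H₀ ≤ Nat.card M := Nat.le_of_dvd hMpos hn
    have hMG : Nat.card M ∣ Nat.card PSL2F := Subgroup.card_subgroup_dvd_card M
    have hMne : Nat.card M ≠ Nat.card PSL2F := fun h => hM ((Subgroup.card_eq_iff_eq_top M).mp h)
    rcases card_overgroup_of_A4 p h2 H₀ M hle (hD M) f hf with h | h | h | h
    · omega
    · -- `|M| = 24`
      exfalso
      rcases Nat.lt_or_ge q 5 with h5 | h5
      · have hq3' : q = 3 := by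
          obtain ⟨t, ht⟩ := hq
          omega
        subst hq3'
        apply not_fortyeight_dvd r hrodd
        rw [← hF, ← hG]
        rw [h] at hMG
        obtain ⟨t, ht⟩ := hMG
        exact ⟨t, by omega⟩
      · have := onetwenty_le q h5
        omega
    · -- `|M| = 60`
      rcases Nat.lt_or_ge q 5 with h5 | h5
      · exfalso
        have hq3' : q = 3 := by
          obtain ⟨t, ht⟩ := hq
          omega
        subst hq3'
        apply not_five_dvd r hrodd
        rw [← hF, ← hG]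
        rw [h] at hMG
        obtain ⟨t, ht⟩ := hMG
        exact ⟨24 * t, by omega⟩
      · rcases Nat.lt_or_ge q 7 with h7 | h7
        · have hq5' : q = 5 := by
            obtain ⟨t, ht⟩ := hq
            omega
          subst hq5'
          norm_num at hcard₀
          omega
        · exfalso
          have := mul_sq_pred_mono h7
          norm_num at this
          omega
    · obtain ⟨k, m, hkpp, hm1, hkm, hcases⟩ := h
      have hqpp : IsPrimePow q := hK ▸ Fintype.isPrimePow_card_of_field (α := K)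
      rw [hF] at hkm
      obtain ⟨p', a, b, hp', ha, hb, rfl, rfl⟩ := exists_prime_exponents q k m r hqpp hkpp hm1 hkm
      have hp'2 : p' ≠ 2 := by
        rintro rfl
        have : Even (2 ^ b) := (Nat.even_pow' (by omega)).mpr (by decide)
        exact (Nat.not_even_iff_odd.mpr hq) this
      have hMdvd : Nat.card M ∣ p' ^ a * ((p' ^ a) ^ 2 - 1) := by
        rcases hcases with h | ⟨h, -⟩
        · exact Dvd.intro_left _ h
        · rw [h]
      have hdvd : p' ^ b * ((p' ^ b) ^ 2 - 1) ∣ 2 * (p' ^ a * ((p' ^ a) ^ 2 - 1)) := by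
        rw [← hcard₀]
        exact Nat.mul_dvd_mul_left 2 (hn.trans hMdvd)
      rcases subfield_exponent_cases p' a b m r 2 hp' ha hb hr hkm (Or.inr ⟨rfl, hp'2⟩) hdvd
        with hab | hab
      · subst hab
        rcases hcases with h | ⟨h, heven⟩
        · have hgcd : Nat.gcd 2 (p' ^ a - 1) = 2 := by
            obtain ⟨t, ht⟩ := hq
            have : p' ^ a - 1 = 2 * t := by omega
            rw [this]
            simp
          rw [hgcd] at h
          omega
        · exfalso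
          have hmr : m = r := Nat.pow_right_injective (show 2 ≤ p' ^ a by omega) hkm
          have := heven hoddF
          rw [hmr] at this
          exact hr2 ((Nat.Prime.even_iff hr).mp this)
      · exfalso
        apply hMne
        apply card_eq_of_full_field hoddF M
        have hk : p' ^ a = Fintype.card F := by rw [hF, hab, pow_mul]
        rw [← hk]
        rcases hcases with h | ⟨h, -⟩
        · exact Or.inl h
        · exact Or.inr h

end

section

variable {F : Type*} [Field F] [Fintype F] {K : Type*} [Field K] [Fintype K]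

local notation "PSL2F" => Matrix.ProjectiveSpecialLinearGroup (Fin 2) F

/-- `gcd(2, q - 1) = 1` for even `q`. -/
theorem gcd_two_pred_of_even (q : ℕ) (hq : Even q) (hq1 : 1 ≤ q) : Nat.gcd 2 (q - 1) = 1 := by
  obtain ⟨t, ht⟩ := hq
  have : q - 1 = 2 * (t - 1) + 1 := by omega
  rw [this]
  simp

/-- The order of `PSL₂(K)` in characteristic two. -/
theorem card_PSL2_of_even (hq : Even (Fintype.card K)) :
    Nat.card (Matrix.ProjectiveSpecialLinearGroup (Fin 2) K) =
      Fintype.card K * (Fintype.card K ^ 2 - 1) := by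
  have h := gcd_mul_card_PSL2 K
  rwa [gcd_two_pred_of_even _ hq Fintype.card_pos, one_mul] at h

omit [Fintype K] in
/-- Non-commuting involutions in `PSL₂(K)`, characteristic two. -/
theorem hasNoncommInvol_PSL2 (h2 : (2 : K) = 0) :
    HasNoncommInvol (Matrix.ProjectiveSpecialLinearGroup (Fin 2) K) := by
  let X : Matrix.SpecialLinearGroup (Fin 2) K := ⟨!![1, 1; 0, 1], by simp [Matrix.det_fin_two]⟩
  let Y : Matrix.SpecialLinearGroup (Fin 2) K := ⟨!![1, 0; 1, 1], by simp [Matrix.det_fin_two]⟩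
  have h11 : (1 : K) + 1 = 0 := by rw [one_add_one_eq_two, h2]
  have hXX : X * X = 1 := by
    apply Subtype.ext
    rw [Matrix.SpecialLinearGroup.coe_mul]
    show (!![1, 1; 0, 1] : Matrix (Fin 2) (Fin 2) K) * !![1, 1; 0, 1] = 1
    ext i j
    fin_cases i <;> fin_cases j <;> simp [Matrix.mul_apply, Fin.sum_univ_two, h11]
  have hYY : Y * Y = 1 := by
    apply Subtype.ext
    rw [Matrix.SpecialLinearGroup.coe_mul]
    show (!![1, 0; 1, 1] : Matrix (Fin 2) (Fin 2) K) * !![1, 0; 1, 1] = 1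
    ext i j
    fin_cases i <;> fin_cases j <;> simp [Matrix.mul_apply, Fin.sum_univ_two, h11]
  have hXY : X * Y ≠ Y * X := by
    intro h
    have h' := congrArg (fun Z : Matrix.SpecialLinearGroup (Fin 2) K =>
      (Z : Matrix (Fin 2) (Fin 2) K) 0 0) h
    simp only [Matrix.SpecialLinearGroup.coe_mul] at h'
    have e1 : ((X : Matrix (Fin 2) (Fin 2) K) * (Y : Matrix (Fin 2) (Fin 2) K)) 0 0 = 1 + 1 := by
      show ((!![1, 1; 0, 1] : Matrix (Fin 2) (Fin 2) K) * (!![1, 0; 1, 1] : Matrix (Fin 2) (Fin 2) K)) 0 0 = 1 + 1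
      simp [Matrix.mul_apply, Fin.sum_univ_two]
    have e2 : ((Y : Matrix (Fin 2) (Fin 2) K) * (X : Matrix (Fin 2) (Fin 2) K)) 0 0 = 1 := by
      show ((!![1, 0; 1, 1] : Matrix (Fin 2) (Fin 2) K) * (!![1, 1; 0, 1] : Matrix (Fin 2) (Fin 2) K)) 0 0 = 1
      simp [Matrix.mul_apply, Fin.sum_univ_two]
    rw [e1, e2, h11] at h'
    exact zero_ne_one h'
  refine ⟨QuotientGroup.mk X, QuotientGroup.mk Y, ?_, ?_, ?_⟩
  · rw [← QuotientGroup.mk_mul, hXX]; rfl
  · rw [← QuotientGroup.mk_mul, hYY]; rfl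
  · rw [← QuotientGroup.mk_mul, ← QuotientGroup.mk_mul]
    exact fun h => hXY (mk_injective_of_two_eq_zero h2 h)

/-- Assuming Dickson's list: `PSL₂(q)` is a maximal subgroup of `PSL₂(q^r)`, `q > 2` even, `r`
prime. -/
theorem psl_two_maximal_even_of_dickson (p : ℕ) [Fact p.Prime] [CharP F p] (q r : ℕ)
    (hK : Fintype.card K = q) (hF : Fintype.card F = q ^ r) (hq : Even q) (hq2 : q ≠ 2)
    (hr : r.Prime) (hD : ∀ H : Subgroup PSL2F, DicksonList p H) :
    ∃ H : Subgroup PSL2F, IsCoatom H ∧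
      Nonempty (H ≃* Matrix.ProjectiveSpecialLinearGroup (Fin 2) K) := by
  have hr2 : 2 ≤ r := hr.two_le
  have hevenF : Even (Fintype.card F) := by
    rw [hF]; exact (Nat.even_pow.mpr ⟨hq, by omega⟩)
  have h2F : (2 : F) = 0 := Cfsg.Agent.Helper5.two_eq_zero_of_even_card hevenF
  have h2K : (2 : K) = 0 := Cfsg.Agent.Helper5.two_eq_zero_of_even_card (hK ▸ hq)
  have hqpp : IsPrimePow q := hK ▸ Fintype.isPrimePow_card_of_field (α := K)
  -- `4 ∣ q`
  have h4q : 4 ∣ q := by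
    obtain ⟨p', b, hp', hb, rfl⟩ := (isPrimePow_nat_iff q).mp hqpp
    have hp'2 : p' = 2 := by
      have h2dvd : 2 ∣ p' ^ b := even_iff_two_dvd.mp hq
      have := Nat.Prime.dvd_of_dvd_pow Nat.prime_two h2dvd
      exact ((Nat.prime_dvd_prime_iff_eq Nat.prime_two hp').mp this).symm
    subst hp'2
    have hb2 : 2 ≤ b := by
      rcases Nat.lt_or_ge b 2 with h | h
      · exfalso
        have : b = 1 := by omega
        subst this
        exact hq2 (pow_one 2)
      · exact h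
    exact pow_dvd_pow 2 hb2
  have hq4 : 4 ≤ q := Nat.le_of_dvd (by
    have := Fintype.card_pos (α := K); omega) h4q
  obtain ⟨ι⟩ := Cfsg.Agent.Helper46.exists_ringHom_of_card_pow (K := K) (F := F) r (by omega)
    (by rw [hK, hF])
  obtain ⟨H₀, ⟨e⟩⟩ := Cfsg.Agent.Helper46.exists_psl_subgroup ι
  have hcard₀ : Nat.card H₀ = q * (q ^ 2 - 1) := by
    rw [Nat.card_congr e.toEquiv, card_PSL2_of_even (hK ▸ hq), hK]
  have hG : Nat.card PSL2F = Fintype.card F * (Fintype.card F ^ 2 - 1) :=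
    card_PSL2_of_even hevenF
  have hInv : HasNoncommInvol H₀ :=
    (hasNoncommInvol_PSL2 h2K).map e.symm.toMonoidHom e.symm.injective
  have hn60 : 60 ≤ q * (q ^ 2 - 1) := by
    have := mul_sq_pred_mono hq4
    norm_num at this
    omega
  -- `q < Q`
  have hqQ : q + 1 ≤ Fintype.card F := by
    rw [hF]
    calc q + 1 ≤ q * q := by nlinarith
      _ = q ^ 2 := by ring
      _ ≤ q ^ r := Nat.pow_le_pow_right (by omega) (by omega)
  have hlt : q * (q ^ 2 - 1) < Fintype.card F * (Fintype.card F ^ 2 - 1) := by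
    have h1 := mul_sq_pred_mono hqQ
    have h2 : q * (q ^ 2 - 1) < (q + 1) * ((q + 1) ^ 2 - 1) := by
      have ha : q ^ 2 - 1 ≤ (q + 1) ^ 2 - 1 := by
        have : q ^ 2 ≤ (q + 1) ^ 2 := Nat.pow_le_pow_left (by omega) 2
        omega
      have hb : 0 < (q + 1) ^ 2 - 1 := by
        have : (q + 1) ^ 2 = q ^ 2 + 2 * q + 1 := by ring
        omega
      calc q * (q ^ 2 - 1) ≤ q * ((q + 1) ^ 2 - 1) := Nat.mul_le_mul_left q ha
        _ < (q + 1) * ((q + 1) ^ 2 - 1) := Nat.mul_lt_mul_of_pos_right (by omega) hb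
    omega
  refine ⟨H₀, isCoatom_of_card_overgroup H₀ ?_ ?_, ⟨e⟩⟩
  · intro htop
    have := (Subgroup.card_eq_iff_eq_top H₀).mpr htop
    omega
  · intro M hle hM
    have hn : Nat.card H₀ ∣ Nat.card M := Subgroup.card_dvd_of_le hle
    have hMpos : 0 < Nat.card M := Nat.card_pos
    have hnle : Nat.card H₀ ≤ Nat.card M := Nat.le_of_dvd hMpos hn
    have hMne : Nat.card M ≠ Nat.card PSL2F := fun h => hM ((Subgroup.card_eq_iff_eq_top M).mp h)
    have h4M : 4 ∣ Nat.card M := by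
      refine (h4q.trans ?_).trans hn
      rw [hcard₀]
      exact Dvd.intro _ rfl
    have hMInv : HasNoncommInvol M :=
      hInv.map (Subgroup.inclusion hle) (Subgroup.inclusion_injective hle)
    rcases card_of_types M (DicksonList.of_char_two p h2F hevenF M (hD M) h4M hMInv)
      with h | h | h | h
    · omega
    · omega
    · omega
    · obtain ⟨k, m, hkpp, hm1, hkm, hcases⟩ := h
      rw [hF] at hkm
      obtain ⟨p', a, b, hp', ha, hb, rfl, rfl⟩ := exists_prime_exponents q k m r hqpp hkpp hm1 hkm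
      have hMdvd : Nat.card M ∣ p' ^ a * ((p' ^ a) ^ 2 - 1) := by
        rcases hcases with h | ⟨h, -⟩
        · exact Dvd.intro_left _ h
        · rw [h]
      have hdvd : p' ^ b * ((p' ^ b) ^ 2 - 1) ∣ 1 * (p' ^ a * ((p' ^ a) ^ 2 - 1)) := by
        rw [one_mul, ← hcard₀]
        exact hn.trans hMdvd
      rcases subfield_exponent_cases p' a b m r 1 hp' ha hb hr hkm (Or.inl rfl) hdvd
        with hab | hab
      · subst hab
        rw [hcard₀]
        exact Nat.le_of_dvd (by omega) hMdvd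
      · exfalso
        apply hMne
        have hk : p' ^ a = Fintype.card F := by rw [hF, hab, pow_mul]
        rw [hG, ← hk]
        rcases hcases with h | ⟨h, -⟩
        · rw [hk, gcd_two_pred_of_even _ hevenF Fintype.card_pos, one_mul, ← hk] at h
          exact h
        · exact h

end

end Cfsg.Agent.Helper41
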