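import Mathlib

set_option autoImplicit false

/-!
# Elements of prime order are conjugate into a cyclic subgroup containing a Sylow subgroup
-/

namespace Cfsg.Agent.Helper41

/-- If the `ℓ`-part of `|G|` equals the `ℓ`-part of the order of `y`, every element of order `ℓ`
is conjugate into `⟨y⟩`. -/
theorem exists_conj_mem_zpowers_of_prime_order {G : Type*} [Group G] [Finite G] (ℓ : ℕ)
    [Fact ℓ.Prime] (x y : G) (hx : orderOf x = ℓ)
    (hy : (Nat.card G).factorization ℓ = (orderOf y).factorization ℓ) :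
    ∃ g : G, g * x * g⁻¹ ∈ Subgroup.zpowers y := by
  have hN0 : orderOf y ≠ 0 := (orderOf_pos y).ne'
  set a := (orderOf y).factorization ℓ with ha
  have hdvd : ℓ ^ a ∣ orderOf y := Nat.ordProj_dvd (orderOf y) ℓ
  obtain ⟨k, hk⟩ := hdvd
  have hk0 : k ≠ 0 := by
    rintro rfl
    rw [mul_zero] at hk
    exact hN0 hk
  have hℓa : 0 < ℓ ^ a := Nat.pow_pos (Fact.out : ℓ.Prime).pos
  have hz : orderOf (y ^ k) = ℓ ^ a := by
    rw [orderOf_pow_of_dvd hk0 ⟨ℓ ^ a, by rw [hk, mul_comm]⟩, hk]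
    exact Nat.mul_div_cancel _ (Nat.pos_of_ne_zero hk0)
  have hS₀ : Nat.card (Subgroup.zpowers (y ^ k)) = ℓ ^ (Nat.card G).factorization ℓ := by
    rw [Nat.card_zpowers, hz, hy]
  let P₀ : Sylow ℓ G := Sylow.ofCard (Subgroup.zpowers (y ^ k)) hS₀
  have hxp : IsPGroup ℓ (Subgroup.zpowers x) :=
    IsPGroup.of_card (n := 1) (by rw [Nat.card_zpowers, hx, pow_one])
  obtain ⟨Q, hQ⟩ := hxp.exists_le_sylow
  obtain ⟨g, hg⟩ := MulAction.exists_smul_eq G Q P₀
  refine ⟨g, ?_⟩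
  have h1 : g * x * g⁻¹ ∈ ((g • Q : Sylow ℓ G) : Subgroup G) := by
    rw [Sylow.coe_subgroup_smul, Subgroup.mem_pointwise_smul_iff_inv_smul_mem]
    have : (MulAut.conj g)⁻¹ • (g * x * g⁻¹) = x := by
      simp [MulAut.smul_def, mul_assoc]
    rw [this]
    exact hQ (Subgroup.mem_zpowers x)
  rw [hg] at h1
  have h2 : ((P₀ : Sylow ℓ G) : Subgroup G) = Subgroup.zpowers (y ^ k) := Sylow.coe_ofCard _ _
  rw [h2] at h1
  exact (Subgroup.zpowers_le.2 (Subgroup.pow_mem _ (Subgroup.mem_zpowers y) k)) h1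

end Cfsg.Agent.Helper41
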