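import Mathlib
import Cfsg.Agent.Helper41.DkDescent
import Cfsg.Agent.Helper41.FrobFix
import Cfsg.Agent.Helper41.MaxSubfield
import Cfsg.Agent.Helper46.PSL2Invert
import Cfsg.Agent.Helper46.PSL2Card
import Cfsg.Agent.Helper5.PSL2Simple
import Cfsg.Agent.Helper41.SylowCyclic
import Cfsg.Agent.Helper46.PSL2Borel

set_option autoImplicit false

/-!
# Maximal subgroups of `PSL₂(2^f)`
-/

namespace Cfsg.Agent.Helper41.DkR

open Matrix Cfsg.Agent.Helper46.Dk Cfsg.Agent.Helper46.IsCA

variable {F : Type*} [Field F] [Fintype F]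

local notation "PSL2F" => Matrix.ProjectiveSpecialLinearGroup (Fin 2) F
local notation "SL2F" => Matrix.SpecialLinearGroup (Fin 2) F
local notation "Ebar" => AlgebraicClosure F
local notation "SL2E" => Matrix.SpecialLinearGroup (Fin 2) (AlgebraicClosure F)

/-- a conjugate of `H` normalizes a Sylow `p`-subgroup -/
def BorelType (p : ℕ) [Fact p.Prime] (H : Subgroup (Matrix.ProjectiveSpecialLinearGroup (Fin 2) F)) :
    Prop :=
  ∃ (P : Sylow p (Matrix.ProjectiveSpecialLinearGroup (Fin 2) F))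
    (g : Matrix.ProjectiveSpecialLinearGroup (Fin 2) F),
    H.map (MulAut.conj g).toMonoidHom ≤ Subgroup.normalizer
      ((P : Subgroup (Matrix.ProjectiveSpecialLinearGroup (Fin 2) F)) :
        Set (Matrix.ProjectiveSpecialLinearGroup (Fin 2) F))

/-- the Borel case, keeping the conjugating element -/
theorem borelType_of_uni (p : ℕ) [Fact p.Prime] [CharP F p]
    (H : Subgroup (Matrix.ProjectiveSpecialLinearGroup (Fin 2) F)) (x₀ : ↥(liftSL H))
    (hx₀ : IsUni (liftRep H) x₀) (htop : Cfsg.Agent.Helper46.IsCA.Nx x₀ = ⊤) : BorelType p H := by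
  classical
  let φ := algebraMap F (AlgebraicClosure F)
  have hφ : Function.Injective φ := φ.injective
  -- a rational frame
  have htr : (tr x₀.1) ^ 2 = 4 := by
    have h1 := hx₀.2
    rw [tr_liftRep] at h1
    apply hφ
    rw [map_pow, h1, map_ofNat]
  obtain ⟨c₀, hc₀⟩ := exists_conj_mem_PU_of_tr x₀.1 htr
  let ĉ := Matrix.SpecialLinearGroup.map φ c₀
  have hentry : ∀ (g : ↥(liftSL H)) (i j : Fin 2),
      (conjRep (liftRep H) ĉ g).1 i j = φ ((c₀ * g.1 * c₀⁻¹).1 i j) := by
    intro g i j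
    have : conjRep (liftRep H) ĉ g = Matrix.SpecialLinearGroup.map φ (c₀ * g.1 * c₀⁻¹) := by
      rw [conjRep_apply, map_mul, map_mul, map_inv]
      rfl
    rw [this]
    rfl
  have hmem : conjRep (liftRep H) ĉ x₀ ∈ (PU : Subgroup _) := by
    constructor
    · rw [hentry, hc₀.1, map_zero]
    · rw [hentry, hentry, hc₀.2]
  have hF : UniFrame (conjRep (liftRep H) ĉ) x₀ := by
    refine ⟨conjRep_injective _ ĉ (liftRep_injective H), hmem, ?_⟩
    apply PU_entry_ne_zero hmem
    have := hx₀.1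
    rw [← Zr_conjRep _ ĉ, mem_Zr] at this
    exact this
  have hB : ∀ g : ↥(liftSL H), (c₀ * g.1 * c₀⁻¹).1 1 0 = 0 := by
    intro g
    have h1 : g ∈ Bg (conjRep (liftRep H) ĉ) := by rw [← hF.Nx_eq, htop]; trivial
    rw [mem_Bg, mem_BB, hentry] at h1
    apply hφ
    rw [h1, map_zero]
  -- the Sylow subgroup
  let π := QuotientGroup.mk' (Subgroup.center (Matrix.SpecialLinearGroup (Fin 2) F))
  have hπ : Function.Surjective π := QuotientGroup.mk'_surjective _
  let P : Sylow p PSL2F := (Cfsg.Agent.Helper37.SL2.P0 F p).mapSurjective hπ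
  refine ⟨P, π c₀, ?_⟩
  rintro k ⟨h, hh, rfl⟩
  obtain ⟨g, rfl⟩ := hπ h
  have hg : g ∈ liftSL H := hh
  have hk : (MulAut.conj (π c₀)).toMonoidHom (π g) = π (c₀ * g * c₀⁻¹) := by
    simp [MulAut.conj_apply]
  rw [hk]
  have hnorm : c₀ * g * c₀⁻¹ ∈ Subgroup.normalizer
      ((Cfsg.Agent.Helper37.SL2.U0 : Subgroup (Matrix.SpecialLinearGroup (Fin 2) F)) :
        Set (Matrix.SpecialLinearGroup (Fin 2) F)) :=
    Cfsg.Agent.Helper37.SL2.mem_normalizer_U0 (hB ⟨g, hg⟩)
  have h2 := Subgroup.le_normalizer_map (H := Cfsg.Agent.Helper37.SL2.U0) π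
    (Subgroup.mem_map_of_mem π hnorm)
  exact h2


/-- Dickson's list in characteristic two, with the refined subfield case -/
theorem dickson_list_char_two [CharP F 2] (H : Subgroup PSL2F) :
    IsCyclic H ∨
    (∃ (n : ℕ) (a : H), orderOf a = n ∧ ¬ 2 ∣ n ∧ Nonempty (H ≃* DihedralGroup n)) ∨
    BorelType 2 H ∨ SubfieldFrame (liftRep H) := by
  classical
  haveI : CharP (AlgebraicClosure F) 2 :=
    charP_of_injective_algebraMap (algebraMap F (AlgebraicClosure F)).injective 2
  haveI : Finite ↥(liftSL H) := inferInstance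
  obtain ⟨e⟩ := nonempty_equiv_quotient H
  rcases dickson_refined (ρ := liftRep H) 2 (liftRep_injective H) with h1 | ⟨n, a, ha, hnp, ⟨e1⟩⟩ |
    ⟨x₀, hx₀, htop⟩ | ⟨h, -⟩ | ⟨h, -⟩ | ⟨h, -⟩ | h
  · left
    exact e.isCyclic.1 h1
  · right; left
    refine ⟨n, e a, ?_, hnp, ⟨e.symm.trans e1⟩⟩
    rw [MulEquiv.orderOf_eq, ha]
  · right; right; left
    exact borelType_of_uni 2 H x₀ hx₀ htop
  · exact absurd rfl h
  · exact absurd rfl h
  · exact absurd rfl h
  · right; right; right
    exact h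


theorem cube_lt {a b : ℕ} (ha : 1 ≤ a) (h : a < b) : a * (a ^ 2 - 1) < b * (b ^ 2 - 1) := by
  have h1 : a ^ 2 < b ^ 2 := Nat.pow_lt_pow_left h (by norm_num)
  have h2 : 1 ≤ a ^ 2 := Nat.one_le_pow _ _ ha
  have h3 : a ^ 2 - 1 < b ^ 2 - 1 := by omega
  calc a * (a ^ 2 - 1) ≤ b * (a ^ 2 - 1) := Nat.mul_le_mul_right _ h.le
    _ < b * (b ^ 2 - 1) := Nat.mul_lt_mul_of_pos_left h3 (by omega)

/-- a maximal subgroup of subfield type in characteristic two: the degree is prime -/
theorem subfield_maximal_char_two [CharP F 2] (H : Subgroup PSL2F) (hH : IsCoatom H)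
    (hfr : SubfieldFrame (liftRep H)) :
    ∃ (K : Subfield Ebar) (j r : ℕ), Nat.card K = 2 ^ j ∧ j ≠ 0 ∧ r.Prime ∧
      Fintype.card F = 2 ^ (j * r) ∧
      Nonempty (H ≃* Matrix.ProjectiveSpecialLinearGroup (Fin 2) K) := by
  classical
  have h2 : (2 : F) = 0 := by
    have := CharP.cast_eq_zero F 2
    exact_mod_cast this
  haveI : CharP Ebar 2 :=
    charP_of_injective_algebraMap (algebraMap F Ebar).injective 2
  obtain ⟨c, K, hfin, hKle, ⟨e⟩, hover⟩ := subfield_case_char_two h2 H hfr
  haveI := hfin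
  haveI : Fintype K := Fintype.ofFinite K
  haveI : CharP K 2 := (RingHom.charP_iff_charP K.subtype 2).2 inferInstance
  obtain ⟨j, -, hj⟩ := FiniteField.card K 2
  obtain ⟨n, -, hn⟩ := FiniteField.card F 2
  have hKcard : Nat.card K = 2 ^ (j : ℕ) := by rw [Nat.card_eq_fintype_card, hj]
  have hRcard : Nat.card (algebraMap F Ebar).fieldRange = 2 ^ (n : ℕ) := by
    rw [← hn, ← Nat.card_eq_fintype_card]
    exact (Nat.card_congr (Equiv.ofInjective _ (algebraMap F Ebar).injective)).symm
  have hKeq := eq_frobFix_of_card 2 K j.ne_zero hKcard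
  have hReq := eq_frobFix_of_card 2 (algebraMap F Ebar).fieldRange n.ne_zero hRcard
  -- the degree
  let ψ : K →+* F :=
    ((algebraMap F Ebar).rangeRestrictFieldEquiv.symm : (algebraMap F Ebar).fieldRange →+* F).comp
      (Subfield.inclusion hKle)
  letI : Algebra K F := ψ.toAlgebra
  have hcard : Fintype.card F = Fintype.card K ^ Module.finrank K F :=
    Module.card_eq_pow_finrank (K := K) (V := F)
  set m := Module.finrank K F with hm
  have hnjm : (n : ℕ) = j * m := by
    rw [hn, hj, ← pow_mul] at hcard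
    exact Nat.pow_right_injective (le_refl 2) hcard
  have hqeven : Even (Fintype.card K) := by
    rw [hj]; exact (Nat.even_pow.2 ⟨even_two, j.ne_zero⟩)
  have hHcard : Nat.card H = Fintype.card K * (Fintype.card K ^ 2 - 1) := by
    rw [Nat.card_congr e.toEquiv, Cfsg.Agent.Helper41.card_PSL2_of_even hqeven]
  have hFeven : Even (Fintype.card F) := by
    rw [hn]; exact (Nat.even_pow.2 ⟨even_two, n.ne_zero⟩)
  have hGcard : Nat.card PSL2F = Fintype.card F * (Fintype.card F ^ 2 - 1) :=
    Cfsg.Agent.Helper41.card_PSL2_of_even hFeven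
  have hm0 : m ≠ 0 := by
    intro h0
    rw [h0, mul_zero] at hnjm
    exact n.ne_zero hnjm
  have hm1 : m ≠ 1 := by
    intro h1
    apply hH.1
    apply Subgroup.eq_top_of_card_eq
    rw [hHcard, hGcard, hcard, h1, pow_one]
  refine ⟨K, j, m, hKcard, j.ne_zero, ?_, by rw [hn, hnjm], ⟨e⟩⟩
  by_contra hprime
  obtain ⟨a, ⟨b, hab⟩, ha2, ham⟩ := Nat.exists_dvd_of_not_prime2 (by omega) hprime
  -- the intermediate field
  have hja0 : (j : ℕ) * a ≠ 0 := Nat.mul_ne_zero j.ne_zero (by omega)
  set K' : Subfield Ebar := frobFix 2 ((j : ℕ) * a) with hK'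
  have hK'card : Nat.card K' = 2 ^ ((j : ℕ) * a) := card_frobFix 2 hja0
  haveI : Finite K' := Nat.finite_of_card_ne_zero (by rw [hK'card]; positivity)
  haveI : Fintype K' := Fintype.ofFinite K'
  have hKK' : K ≤ K' := by
    rw [hKeq]; exact frobFix_mono 2 (Dvd.intro _ rfl)
  have hK'R : K' ≤ (algebraMap F Ebar).fieldRange := by
    rw [hReq]; apply frobFix_mono 2
    rw [hnjm, hab, ← mul_assoc]
    exact Dvd.intro _ rfl
  obtain ⟨hle, hLcard⟩ := hover K' hKK' hK'R
  rw [← Nat.card_eq_fintype_card, hK'card] at hLcard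
  have hb2 : 2 ≤ b := by
    rcases b with _ | _ | b
    · omega
    · omega
    · omega
  have hlt1 : 2 ^ (j : ℕ) < 2 ^ ((j : ℕ) * a) := by
    apply Nat.pow_lt_pow_right (by norm_num)
    have : 0 < (j : ℕ) := j.pos
    nlinarith
  have hlt2 : 2 ^ ((j : ℕ) * a) < 2 ^ (n : ℕ) := by
    apply Nat.pow_lt_pow_right (by norm_num)
    rw [hnjm, hab, ← mul_assoc]
    have : 0 < (j : ℕ) * a := Nat.pos_of_ne_zero hja0
    nlinarith
  rcases eq_or_lt_of_le hle with heq | hlt
  · have : Nat.card H = Nat.card (overPSL (F := F) c K') := by rw [← heq]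
    rw [hHcard, hLcard, hj] at this
    exact absurd this (cube_lt (Nat.one_le_two_pow) hlt1).ne
  · have htop := hH.2 _ hlt
    have : Nat.card (overPSL (F := F) c K') = Nat.card PSL2F := by
      rw [htop]; exact Subgroup.card_top
    rw [hLcard, hGcard, hn] at this
    exact absurd this (cube_lt (Nat.one_le_two_pow) hlt2).ne


section Handlers

variable [CharP F 2]

theorem two_eq_zero_F : (2 : F) = 0 := by
  have := CharP.cast_eq_zero F 2
  exact_mod_cast this

theorem even_card_F : Even (Fintype.card F) := by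
  obtain ⟨n, -, hn⟩ := FiniteField.card F 2
  rw [hn]; exact (Nat.even_pow.2 ⟨even_two, n.ne_zero⟩)

theorem gcd_F : Nat.gcd 2 (Fintype.card F - 1) = 1 :=
  Cfsg.Agent.Helper41.gcd_two_pred_of_even _ even_card_F Fintype.card_pos

theorem card_PSL2F : Nat.card PSL2F = Fintype.card F * (Fintype.card F ^ 2 - 1) :=
  Cfsg.Agent.Helper41.card_PSL2_of_even even_card_F

/-- commuting with a nontrivial element is transitive (characteristic two) -/
theorem psl2_commute_of_commute {a g h : PSL2F} (ha : a ≠ 1) (hg : g * a = a * g)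
    (hh : h * a = a * h) : g * h = h * g := by
  have h2 := two_eq_zero_F (F := F)
  have hinj := Cfsg.Agent.Helper41.mk_injective_of_two_eq_zero (F := F) h2
  obtain ⟨A, rfl⟩ := QuotientGroup.mk_surjective a
  obtain ⟨G', rfl⟩ := QuotientGroup.mk_surjective g
  obtain ⟨H', rfl⟩ := QuotientGroup.mk_surjective h
  have hA : A ∉ Subgroup.center SL2F := by
    intro hA
    apply ha
    exact (QuotientGroup.eq_one_iff A).2 hA
  have hg' : G' * A = A * G' := hinj hg
  have hh' : H' * A = A * H' := hinj hh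
  have := sl2_commute_of_commute hA hg' hh'
  show ((G' * H' : SL2F) : PSL2F) = ((H' * G' : SL2F) : PSL2F)
  rw [this]

theorem normalizer_ne_top (h4 : 4 ≤ Fintype.card F) (K : Subgroup PSL2F) (hbot : K ≠ ⊥)
    (htop : K ≠ ⊤) : Subgroup.normalizer (K : Set PSL2F) ≠ ⊤ := by
  haveI := Cfsg.Agent.Helper5.isSimpleGroup_PSL2_of_card h4
  intro h
  haveI : K.Normal := Subgroup.normalizer_eq_top_iff.1 h
  rcases Subgroup.Normal.eq_bot_or_eq_top (H := K) inferInstance with h | h
  · exact hbot h
  · exact htop h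

theorem normalizer_sylow_ne_top (P : Sylow 2 PSL2F) :
    Subgroup.normalizer ((P : Subgroup PSL2F) : Set PSL2F) ≠ ⊤ := by
  intro h
  have := index_normalizer_sylowP 2 P
  rw [h, Subgroup.index_top] at this
  have hpos : 0 < Fintype.card F := Fintype.card_pos
  omega

theorem card_normalizer_sylow (P : Sylow 2 PSL2F) :
    Nat.card (Subgroup.normalizer ((P : Subgroup PSL2F) : Set PSL2F)) =
      Fintype.card F * (Fintype.card F - 1) := by
  have := card_normalizer_sylowP_mul 2 P
  rwa [gcd_F, mul_one] at this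

/-- a maximal subgroup of Borel type is a Sylow normalizer -/
theorem card_of_borelType (M : Subgroup PSL2F) (hM : IsCoatom M) (hB : BorelType 2 M) :
    Nat.card M = Fintype.card F * (Fintype.card F - 1) := by
  obtain ⟨P, g, hle⟩ := hB
  have hM' : IsCoatom (M.map (MulAut.conj g).toMonoidHom) :=
    ((MulAut.conj g).mapSubgroup.isCoatom_iff M).2 hM
  have heq := (hM'.le_iff.1 hle).resolve_left (normalizer_sylow_ne_top P)
  rw [← card_normalizer_sylow P, heq]
  exact (Subgroup.card_map_of_injective (MulAut.conj g).injective).symm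

/-- a maximal subgroup which is a `2`-group does not exist -/
theorem card_of_isPGroup_of_coatom (M : Subgroup PSL2F) (hM : IsCoatom M)
    (hp : IsPGroup 2 M) : Nat.card M = Fintype.card F * (Fintype.card F - 1) := by
  obtain ⟨P, hP⟩ := hp.exists_le_sylow
  have hle : M ≤ Subgroup.normalizer ((P : Subgroup PSL2F) : Set PSL2F) :=
    hP.trans Subgroup.le_normalizer
  have heq := (hM.le_iff.1 hle).resolve_left (normalizer_sylow_ne_top P)
  rw [← card_normalizer_sylow P, heq]

/-- odd orders divide `q - 1` or `q + 1` -/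
theorem orderOf_dvd_of_odd (c : PSL2F) (hodd : Odd (orderOf c)) :
    orderOf c ∣ Fintype.card F - 1 ∨ orderOf c ∣ Fintype.card F + 1 := by
  have h := Cfsg.Agent.Helper41.psl2_orderOf_dvd 2 c
  rw [gcd_F, Nat.div_one, Nat.div_one] at h
  rcases h with h | h | h
  · left
    have h1 : orderOf c = 1 := by
      rcases (Nat.dvd_prime Nat.prime_two).1 h with h1 | h1
      · exact h1
      · rw [h1] at hodd; exact absurd hodd (by decide)
    rw [h1]; exact one_dvd _
  · exact Or.inl h
  · exact Or.inr h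

theorem odd_card_sub_one : Odd (Fintype.card F - 1) := by
  obtain ⟨t, ht⟩ := even_card_F (F := F)
  have hpos : 0 < Fintype.card F := Fintype.card_pos
  exact ⟨t - 1, by omega⟩

theorem odd_card_add_one : Odd (Fintype.card F + 1) := by
  obtain ⟨t, ht⟩ := even_card_F (F := F)
  exact ⟨t, by omega⟩

/-- an element of odd order at least three commutes with an element of order `q ∓ 1` -/
theorem exists_commute_orderOf (c : PSL2F) (n : ℕ) (hn : orderOf c = n) (hn3 : 3 ≤ n)
    (hodd : Odd n) :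
    ∃ y : PSL2F, y * c = c * y ∧ n ∣ orderOf y ∧
      (orderOf y = Fintype.card F - 1 ∨ orderOf y = Fintype.card F + 1) := by
  have hq1 : 1 ≤ Fintype.card F := Fintype.card_pos
  have hq2 : 2 ≤ Fintype.card F := Fintype.one_lt_card
  -- the prime
  have hn1 : n ≠ 1 := by omega
  haveI : Fact (Nat.minFac n).Prime := ⟨Nat.minFac_prime hn1⟩
  set ℓ := Nat.minFac n with hℓ
  have hℓp : ℓ.Prime := Nat.minFac_prime hn1
  have hℓn : ℓ ∣ n := Nat.minFac_dvd n
  have hℓodd : Odd ℓ := by
    rcases hℓp.eq_two_or_odd' with h | h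
    · rw [h] at hℓn
      obtain ⟨t, ht⟩ := hodd
      omega
    · exact h
  have hℓ2 : ℓ ≠ 2 := by
    intro h; rw [h] at hℓodd; exact absurd hℓodd (by decide)
  -- the element of order ℓ
  obtain ⟨k, hk⟩ := hℓn
  have hk0 : k ≠ 0 := by rintro rfl; omega
  have hc' : orderOf (c ^ k) = ℓ := by
    rw [orderOf_pow_of_dvd hk0 ⟨ℓ, by rw [hn, hk, mul_comm]⟩, hn, hk]
    exact Nat.mul_div_cancel _ (Nat.pos_of_ne_zero hk0)
  have hc'1 : c ^ k ≠ 1 := by
    intro h
    rw [h, orderOf_one] at hc'
    exact hℓp.one_lt.ne hc'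
  -- the torus element
  have hdvd := orderOf_dvd_of_odd c (by rw [hn]; exact hodd)
  rw [hn] at hdvd
  have hcardG := card_PSL2F (F := F)
  rw [sq_sub_one_eq _ hq1] at hcardG
  have key : ∀ (N : ℕ) (y : PSL2F), orderOf y = N → n ∣ N →
      (Nat.card PSL2F).factorization ℓ = N.factorization ℓ →
      ∃ y : PSL2F, y * c = c * y ∧ n ∣ orderOf y ∧ orderOf y = N := by
    intro N y hy hnN hfac
    obtain ⟨g, hg⟩ := Cfsg.Agent.Helper41.exists_conj_mem_zpowers_of_prime_order ℓ (c ^ k) y hc'
      (by rw [hy]; exact hfac)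
    -- `g c' g⁻¹` commutes with `y`
    have hcomm : y * (g * c ^ k * g⁻¹) = (g * c ^ k * g⁻¹) * y := by
      obtain ⟨i, hi⟩ := Subgroup.mem_zpowers_iff.1 hg
      rw [← hi]
      exact ((Commute.refl y).zpow_right i).eq
    set y₂ := g⁻¹ * y * g with hy₂
    have h1 : y₂ * c ^ k = c ^ k * y₂ := by
      have e1 : y₂ * c ^ k = g⁻¹ * (y * (g * c ^ k * g⁻¹)) * g := by rw [hy₂]; group
      have e2 : c ^ k * y₂ = g⁻¹ * ((g * c ^ k * g⁻¹) * y) * g := by rw [hy₂]; group
      rw [e1, e2, hcomm]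
    have h2 : c * c ^ k = c ^ k * c := ((Commute.refl c).pow_right k).eq
    have h3 : y₂ * c = c * y₂ := psl2_commute_of_commute hc'1 h1 h2
    have hord : orderOf y₂ = N := by
      have := MulEquiv.orderOf_eq (MulAut.conj g⁻¹) y
      rw [MulAut.conj_apply, inv_inv] at this
      rw [hy₂, this, hy]
    exact ⟨y₂, h3, by rw [hord]; exact hnN, hord⟩
  have hq0 : Fintype.card F ≠ 0 := by omega
  have hqm0 : Fintype.card F - 1 ≠ 0 := by omega
  have hqp0 : Fintype.card F + 1 ≠ 0 := by omega
  have hℓq : ¬ ℓ ∣ Fintype.card F := by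
    intro h
    have h2 : ℓ ∣ 2 := by
      -- ℓ divides q and q ∓ 1
      rcases hdvd with h' | h'
      · have : ℓ ∣ Fintype.card F - 1 := (Dvd.intro _ hk.symm).trans h'
        have h1 : ℓ ∣ 1 := by
          have e : Fintype.card F = (Fintype.card F - 1) + 1 := by omega
          rw [e] at h
          exact (Nat.dvd_add_right this).1 h
        exact h1.trans (one_dvd _)
      · have : ℓ ∣ Fintype.card F + 1 := (Dvd.intro _ hk.symm).trans h'
        have h1 : ℓ ∣ 1 := (Nat.dvd_add_right h).1 this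
        exact h1.trans (one_dvd _)
    rcases (Nat.dvd_prime Nat.prime_two).1 h2 with h3 | h3
    · exact hℓp.one_lt.ne' h3
    · exact hℓ2 h3
  have hnot_both : ¬ (ℓ ∣ Fintype.card F - 1 ∧ ℓ ∣ Fintype.card F + 1) := by
    rintro ⟨h1, h2⟩
    have e : Fintype.card F + 1 = (Fintype.card F - 1) + 2 := by omega
    rw [e] at h2
    have h3 : ℓ ∣ 2 := (Nat.dvd_add_right h1).1 h2
    rcases (Nat.dvd_prime Nat.prime_two).1 h3 with h4 | h4
    · exact hℓp.one_lt.ne' h4
    · exact hℓ2 h4
  rcases hdvd with h' | h'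
  · obtain ⟨y, hy⟩ := Cfsg.Agent.Helper41.psl2_exists_orderOf_eq_split (F := F)
    rw [gcd_F, Nat.div_one] at hy
    have hℓm : ℓ ∣ Fintype.card F - 1 := (Dvd.intro _ hk.symm).trans h'
    have hℓp' : ¬ ℓ ∣ Fintype.card F + 1 := fun h => hnot_both ⟨hℓm, h⟩
    obtain ⟨y', h1, h2, h3⟩ := key _ y hy h' (by
      rw [hcardG, Nat.factorization_mul hq0 (Nat.mul_ne_zero hqm0 hqp0),
        Nat.factorization_mul hqm0 hqp0]
      simp only [Finsupp.coe_add, Pi.add_apply]
      rw [Nat.factorization_eq_zero_of_not_dvd hℓq, Nat.factorization_eq_zero_of_not_dvd hℓp']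
      omega)
    exact ⟨y', h1, h2, Or.inl h3⟩
  · obtain ⟨y, hy⟩ := Cfsg.Agent.Helper41.psl2_exists_orderOf_eq_nonsplit (F := F) 2
    rw [gcd_F, Nat.div_one] at hy
    have hℓm : ℓ ∣ Fintype.card F + 1 := (Dvd.intro _ hk.symm).trans h'
    have hℓp' : ¬ ℓ ∣ Fintype.card F - 1 := fun h => hnot_both ⟨h, hℓm⟩
    obtain ⟨y', h1, h2, h3⟩ := key _ y hy h' (by
      rw [hcardG, Nat.factorization_mul hq0 (Nat.mul_ne_zero hqm0 hqp0),
        Nat.factorization_mul hqm0 hqp0]
      simp only [Finsupp.coe_add, Pi.add_apply]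
      rw [Nat.factorization_eq_zero_of_not_dvd hℓq, Nat.factorization_eq_zero_of_not_dvd hℓp']
      omega)
    exact ⟨y', h1, h2, Or.inr h3⟩

theorem twelve_le (h4 : 4 ≤ Fintype.card F) : 12 ≤ Fintype.card F * (Fintype.card F - 1) := by
  have : 4 * 3 ≤ Fintype.card F * (Fintype.card F - 1) := Nat.mul_le_mul h4 (by omega)
  omega

/-- elements commuting with `c` normalize `⟨c⟩` -/
theorem mem_normalizer_zpowers_of_commute {G : Type*} [Group G] {c y : G} (h : y * c = c * y) :
    y ∈ Subgroup.normalizer ((Subgroup.zpowers c : Subgroup G) : Set G) := by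
  rw [Subgroup.mem_normalizer_iff]
  intro z
  have hyz : ∀ z ∈ Subgroup.zpowers c, y * z * y⁻¹ = z := by
    intro z hz
    obtain ⟨i, rfl⟩ := Subgroup.mem_zpowers_iff.1 hz
    have : Commute y (c ^ i) := (show Commute y c from h).zpow_right i
    rw [this.eq, mul_inv_cancel_right]
  constructor
  · intro hz
    rw [hyz z hz]; exact hz
  · intro hz
    have h1 : Commute y (y * z * y⁻¹) := by
      obtain ⟨i, hi⟩ := Subgroup.mem_zpowers_iff.1 hz
      rw [← hi]
      exact (show Commute y c from h).zpow_right i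
    have hz' : y * z * y⁻¹ = z := by
      have e : y * (y * z * y⁻¹) = y * z := by rw [h1.eq]; group
      exact mul_left_cancel e
    rw [← hz']; exact hz

/-- elements inverting `c` normalize `⟨c⟩` -/
theorem mem_normalizer_zpowers_of_invert {G : Type*} [Group G] {c w : G} (hw2 : w * w = 1)
    (hrel : w * c * w⁻¹ = c⁻¹) :
    w ∈ Subgroup.normalizer ((Subgroup.zpowers c : Subgroup G) : Set G) := by
  rw [Subgroup.mem_normalizer_iff]
  intro z
  have hwinv : w⁻¹ = w := Cfsg.Agent.Helper46.inv_eq_self_of_mul_self hw2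
  constructor
  · intro hz
    rw [Cfsg.Agent.Helper46.conj_inv_of_mem_zpowers hrel hz]
    exact Subgroup.inv_mem _ hz
  · intro hz
    have h1 := Cfsg.Agent.Helper46.conj_inv_of_mem_zpowers hrel hz
    have : z = (w * (w * z * w⁻¹) * w⁻¹) := by
      rw [hwinv]
      have e : w * (w * z * w) * w = (w * w) * z * (w * w) := by group
      rw [e, hw2, one_mul, mul_one]
    rw [this, h1]
    exact Subgroup.inv_mem _ hz

/-- a maximal subgroup is not cyclic -/
theorem not_isCyclic_of_coatom (h4 : 4 ≤ Fintype.card F) (M : Subgroup PSL2F) (hM : IsCoatom M)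
    (hc : IsCyclic M) : False := by
  obtain ⟨x, hx⟩ := IsCyclic.exists_generator (α := ↥M)
  have hord : orderOf x = Nat.card M := orderOf_eq_card_of_forall_mem_zpowers hx
  have hord' : orderOf (x : PSL2F) = Nat.card M := by rw [Subgroup.orderOf_coe, hord]
  have hMz : M = Subgroup.zpowers (x : PSL2F) := by
    apply le_antisymm
    · intro m hm
      obtain ⟨i, hi⟩ := Subgroup.mem_zpowers_iff.1 (hx ⟨m, hm⟩)
      rw [Subgroup.mem_zpowers_iff]
      refine ⟨i, ?_⟩
      have := congrArg Subtype.val hi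
      simpa using this
    · exact Subgroup.zpowers_le.2 x.2
  have h12 := twelve_le h4
  by_cases hodd : Odd (Nat.card M)
  · by_cases h1 : Nat.card M = 1
    · -- trivial group
      have hp : IsPGroup 2 M := IsPGroup.of_card (n := 0) (by rw [h1, pow_zero])
      have := card_of_isPGroup_of_coatom M hM hp
      omega
    · have hn3 : 3 ≤ Nat.card M := by
        obtain ⟨t, ht⟩ := hodd
        have : 0 < Nat.card M := Nat.card_pos
        omega
      have hcop : Nat.Coprime (Nat.card M) 2 := Nat.Coprime.symm (Nat.coprime_two_left.2 hodd)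
      obtain ⟨w, hw2, hrel, hw⟩ := exists_inverting_involution 2 (x : PSL2F) hord' (by omega) hcop
      have hwN := mem_normalizer_zpowers_of_invert hw2 hrel
      rw [← hMz] at hwN hw
      have hle : M ≤ Subgroup.normalizer (M : Set PSL2F) := Subgroup.le_normalizer
      rcases hM.le_iff.1 hle with h | h
      · refine normalizer_ne_top h4 M ?_ hM.1 h
        intro hbot
        rw [hbot, Subgroup.card_bot] at h1
        exact h1 rfl
      · rw [h] at hwN
        exact hw hwN
  · -- even order: the order divides two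
    have heven : Even (Nat.card M) := Nat.not_odd_iff_even.1 hodd
    have h := Cfsg.Agent.Helper41.psl2_orderOf_dvd 2 (x : PSL2F)
    rw [gcd_F, Nat.div_one, Nat.div_one, hord'] at h
    have hd2 : Nat.card M ∣ 2 := by
      rcases h with h | h | h
      · exact h
      · exfalso
        have := (odd_card_sub_one (F := F)).of_dvd_nat h
        exact hodd this
      · exfalso
        have := (odd_card_add_one (F := F)).of_dvd_nat h
        exact hodd this
    have h2 : Nat.card M = 2 := by
      rcases (Nat.dvd_prime Nat.prime_two).1 hd2 with h | h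
      · rw [h] at heven; exact absurd heven (by decide)
      · exact h
    have hp : IsPGroup 2 M := IsPGroup.of_card (n := 1) (by rw [h2, pow_one])
    have := card_of_isPGroup_of_coatom M hM hp
    omega

theorem conj_mem_zpowers {G : Type*} [Group G] {c m : G}
    (hm : m * c * m⁻¹ ∈ Subgroup.zpowers c) {z : G} (hz : z ∈ Subgroup.zpowers c) :
    m * z * m⁻¹ ∈ Subgroup.zpowers c := by
  obtain ⟨i, rfl⟩ := Subgroup.mem_zpowers_iff.1 hz
  rw [← conj_zpow]
  exact Subgroup.zpow_mem _ hm i

/-- a maximal subgroup of order `2n` with a normal cyclic subgroup of odd order `n ≥ 3` is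
dihedral of order `2 (q ∓ 1)` -/
theorem dihedral_of_coatom (h4 : 4 ≤ Fintype.card F) (M : Subgroup PSL2F) (hM : IsCoatom M)
    (c : PSL2F) (hcM : c ∈ M) (n : ℕ) (hn : orderOf c = n) (hn3 : 3 ≤ n) (hodd : Odd n)
    (hnorm : ∀ m ∈ M, m * c * m⁻¹ ∈ Subgroup.zpowers c) (hcard : Nat.card M = 2 * n) :
    (n = Fintype.card F - 1 ∨ n = Fintype.card F + 1) ∧ Nonempty (M ≃* DihedralGroup n) := by
  have hzM : Subgroup.zpowers c ≤ M := Subgroup.zpowers_le.2 hcM
  have hc1 : c ≠ 1 := by
    rintro rfl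
    rw [orderOf_one] at hn
    omega
  have hMN : M ≤ Subgroup.normalizer ((Subgroup.zpowers c : Subgroup PSL2F) : Set PSL2F) := by
    intro m hm
    rw [Subgroup.mem_normalizer_iff]
    intro z
    constructor
    · exact fun hz => conj_mem_zpowers (hnorm m hm) hz
    · intro hz
      have h1 : m⁻¹ * c * m⁻¹⁻¹ ∈ Subgroup.zpowers c := hnorm m⁻¹ (M.inv_mem hm)
      have := conj_mem_zpowers h1 hz
      have e : m⁻¹ * (m * z * m⁻¹) * m⁻¹⁻¹ = z := by group
      rwa [e] at this
  have hN : Subgroup.normalizer ((Subgroup.zpowers c : Subgroup PSL2F) : Set PSL2F) ≠ ⊤ := by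
    apply normalizer_ne_top h4
    · intro h
      have : c ∈ (⊥ : Subgroup PSL2F) := h ▸ Subgroup.mem_zpowers c
      exact hc1 (Subgroup.mem_bot.1 this)
    · intro h
      apply hM.1
      rw [eq_top_iff, ← h]; exact hzM
  have heq := (hM.le_iff.1 hMN).resolve_left hN
  have hcop : Nat.Coprime n 2 := Nat.Coprime.symm (Nat.coprime_two_left.2 hodd)
  constructor
  · obtain ⟨y, hy, hny, hyq⟩ := exists_commute_orderOf c n hn hn3 hodd
    have hyM : y ∈ M := by
      rw [← heq]; exact mem_normalizer_zpowers_of_commute hy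
    have hdvd : orderOf y ∣ 2 * n := by
      rw [← hcard]; exact Subgroup.orderOf_dvd_natCard M hyM
    have hyodd : Odd (orderOf y) := by
      rcases hyq with h | h
      · rw [h]; exact odd_card_sub_one
      · rw [h]; exact odd_card_add_one
    have hdvd' : orderOf y ∣ n :=
      (Nat.Coprime.dvd_mul_left (Nat.Coprime.symm (Nat.coprime_two_left.2 hyodd))).1 hdvd
    have : n = orderOf y := Nat.dvd_antisymm hny hdvd'
    rw [this]; exact hyq
  · obtain ⟨w, hw2, hrel, hw⟩ := exists_inverting_involution 2 c hn (by omega) hcop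
    have hwM : w ∈ M := by
      rw [← heq]; exact mem_normalizer_zpowers_of_invert hw2 hrel
    obtain ⟨D, hcD, hwD, ⟨eD⟩⟩ := Cfsg.Agent.Helper46.exists_dihedral_subgroup c w n hn hw2 hrel hw
    have hn0 : n ≠ 0 := by omega
    haveI : NeZero n := ⟨hn0⟩
    have hDcard : Nat.card D = 2 * n := by
      rw [Nat.card_congr eD.toEquiv, DihedralGroup.nat_card]
    have hzI : Subgroup.zpowers c ≤ M ⊓ D := le_inf hzM (Subgroup.zpowers_le.2 hcD)
    have h1 : n ∣ Nat.card ↥(M ⊓ D) := by
      have := Subgroup.card_dvd_of_le hzI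
      rwa [Nat.card_zpowers, hn] at this
    have h2 : Nat.card ↥(M ⊓ D) ∣ 2 * n := by
      rw [← hDcard]; exact Subgroup.card_dvd_of_le inf_le_right
    have h3 : Nat.card ↥(M ⊓ D) ≠ n := by
      intro h
      have : Subgroup.zpowers c = M ⊓ D :=
        Subgroup.eq_of_le_of_card_ge hzI (by rw [h, Nat.card_zpowers, hn])
      apply hw
      rw [this]; exact ⟨hwM, hwD⟩
    have h4' : Nat.card ↥(M ⊓ D) = 2 * n := by
      obtain ⟨t, ht⟩ := h1
      rw [ht, mul_comm n t] at h2
      have ht2 : t ∣ 2 := (Nat.mul_dvd_mul_iff_right (by omega)).1 h2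
      rcases (Nat.dvd_prime Nat.prime_two).1 ht2 with h | h
      · rw [h, mul_one] at ht; exact absurd ht h3
      · rw [ht, h, mul_comm]
    have hIM : M ⊓ D = M := Subgroup.eq_of_le_of_card_ge inf_le_left (by rw [h4', hcard])
    have hID : M ⊓ D = D := Subgroup.eq_of_le_of_card_ge inf_le_right (by rw [h4', hDcard])
    have hMD : M = D := by rw [← hIM, hID]
    exact ⟨(MulEquiv.subgroupCongr hMD).trans eD⟩

end Handlers

end Cfsg.Agent.Helper41.DkR
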