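import Mathlib

set_option autoImplicit false

/-!
# Counting Klein four-subgroups by pairs of commuting involutions

For a finite group `G`, six times the number of Klein four-subgroups of `G` is the number of
ordered pairs `(a, b)` of distinct commuting involutions.
-/

namespace Cfsg.Agent.Helper41

section klein

variable {G : Type*} [Group G]

/-- The subgroup `{1, a, b, ab}` for commuting involutions `a`, `b`. -/
def kleinOf (a b : G) (ha : a * a = 1) (hb : b * b = 1) (hab : a * b = b * a) : Subgroup G where
  carrier := {x | x = 1 ∨ x = a ∨ x = b ∨ x = a * b}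
  one_mem' := Or.inl rfl
  mul_mem' := by
    have h1 : a * (a * b) = b := by rw [← mul_assoc, ha, one_mul]
    have h2 : b * (a * b) = a := by rw [← mul_assoc, ← hab, mul_assoc, hb, mul_one]
    have h3 : a * b * a = b := by rw [hab, mul_assoc, ha, mul_one]
    have h4 : a * b * b = a := by rw [mul_assoc, hb, mul_one]
    have h5 : a * b * (a * b) = 1 := by rw [mul_assoc, h2, ha]
    rintro x y (rfl | rfl | rfl | rfl) (rfl | rfl | rfl | rfl)
    · left; rw [one_mul]
    · right; left; rw [one_mul]
    · right; right; left; rw [one_mul]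
    · right; right; right; rw [one_mul]
    · right; left; rw [mul_one]
    · left; exact ha
    · right; right; right; rfl
    · right; right; left; exact h1
    · right; right; left; rw [mul_one]
    · right; right; right; exact hab.symm
    · left; exact hb
    · right; left; exact h2
    · right; right; right; rw [mul_one]
    · right; right; left; exact h3
    · right; left; exact h4
    · left; exact h5
  inv_mem' := by
    have ia : a⁻¹ = a := inv_eq_of_mul_eq_one_right ha
    have ib : b⁻¹ = b := inv_eq_of_mul_eq_one_right hb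
    rintro x (rfl | rfl | rfl | rfl)
    · left; exact inv_one
    · right; left; exact ia
    · right; right; left; exact ib
    · right; right; right; rw [mul_inv_rev, ia, ib, hab]

theorem mem_kleinOf {a b : G} (ha : a * a = 1) (hb : b * b = 1) (hab : a * b = b * a) (x : G) :
    x ∈ kleinOf a b ha hb hab ↔ x = 1 ∨ x = a ∨ x = b ∨ x = a * b := Iff.rfl

theorem card_kleinOf [DecidableEq G] {a b : G} (ha : a * a = 1) (hb : b * b = 1)
    (hab : a * b = b * a) (ha1 : a ≠ 1) (hb1 : b ≠ 1) (hne : a ≠ b) :
    Nat.card (kleinOf a b ha hb hab) = 4 := by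
  have hab1 : a * b ≠ 1 := by
    intro h
    apply hne
    have : a = b⁻¹ := eq_inv_of_mul_eq_one_left h
    rw [this]
    exact inv_eq_of_mul_eq_one_right hb
  have haba : a * b ≠ a := by
    intro h
    apply hb1
    exact mul_eq_left.mp h
  have habb : a * b ≠ b := by
    intro h
    apply ha1
    exact mul_eq_right.mp h
  have hset : ((kleinOf a b ha hb hab : Subgroup G) : Set G) = ↑({1, a, b, a * b} : Finset G) := by
    ext x
    simp only [SetLike.mem_coe, mem_kleinOf, Finset.coe_insert, Finset.coe_singleton,
      Set.mem_insert_iff, Set.mem_singleton_iff]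
  rw [← SetLike.coe_sort_coe, hset, Nat.card_coe_set_eq, Set.ncard_coe_finset]
  rw [Finset.card_insert_of_notMem, Finset.card_insert_of_notMem, Finset.card_insert_of_notMem,
    Finset.card_singleton]
  · simp only [Finset.mem_singleton]
    exact fun h => habb h.symm
  · simp only [Finset.mem_insert, Finset.mem_singleton, not_or]
    exact ⟨hne, fun h => haba h.symm⟩
  · simp only [Finset.mem_insert, Finset.mem_singleton, not_or]
    exact ⟨fun h => ha1 h.symm, fun h => hb1 h.symm, fun h => hab1 h.symm⟩

theorem isKleinFour_kleinOf [DecidableEq G] {a b : G} (ha : a * a = 1) (hb : b * b = 1)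
    (hab : a * b = b * a) (ha1 : a ≠ 1) (hb1 : b ≠ 1) (hne : a ≠ b) :
    IsKleinFour (kleinOf a b ha hb hab) := by
  refine ⟨card_kleinOf ha hb hab ha1 hb1 hne, ?_⟩
  have hne' : Nontrivial (kleinOf a b ha hb hab) := by
    refine ⟨⟨⟨a, Or.inr (Or.inl rfl)⟩, 1, ?_⟩⟩
    intro h
    exact ha1 (congrArg Subtype.val h)
  rw [Monoid.exponent_eq_prime_iff Nat.prime_two]
  intro g hg
  apply orderOf_eq_prime
  · apply Subtype.ext
    rw [Subgroup.coe_pow, Subgroup.coe_one, pow_two]
    have h5 : a * b * (a * b) = 1 := by
      rw [mul_assoc, ← mul_assoc b, ← hab, mul_assoc a b b, hb, mul_one, ha]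
    rcases g.2 with h | h | h | h
    · rw [h, one_mul]
    · rw [h]; exact ha
    · rw [h]; exact hb
    · rw [h]; exact h5
  · exact hg

end klein

section count

variable {G : Type*} [Group G] [Fintype G] [DecidableEq G]

/-- Ordered pairs of distinct commuting involutions. -/
def commInvPairs (G : Type*) [Group G] [Fintype G] [DecidableEq G] : Finset (G × G) :=
  Finset.univ.filter (fun p : G × G => p.1 ≠ 1 ∧ p.2 ≠ 1 ∧ p.1 * p.1 = 1 ∧ p.2 * p.2 = 1 ∧
    p.1 ≠ p.2 ∧ p.1 * p.2 = p.2 * p.1)

theorem mem_commInvPairs (p : G × G) :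
    p ∈ commInvPairs G ↔ p.1 ≠ 1 ∧ p.2 ≠ 1 ∧ p.1 * p.1 = 1 ∧ p.2 * p.2 = 1 ∧
      p.1 ≠ p.2 ∧ p.1 * p.2 = p.2 * p.1 := by
  unfold commInvPairs
  rw [Finset.mem_filter]
  exact ⟨fun h => h.2, fun h => ⟨Finset.mem_univ _, h⟩⟩

theorem closure_pair_eq_kleinOf {a b : G} (ha : a * a = 1) (hb : b * b = 1)
    (hab : a * b = b * a) : Subgroup.closure ({a, b} : Set G) = kleinOf a b ha hb hab := by
  apply le_antisymm
  · rw [Subgroup.closure_le]
    intro x hx
    rcases hx with rfl | rfl
    · exact Or.inr (Or.inl rfl)
    · exact Or.inr (Or.inr (Or.inl rfl))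
  · intro x hx
    have hamem : a ∈ Subgroup.closure ({a, b} : Set G) :=
      Subgroup.subset_closure (Set.mem_insert _ _)
    have hbmem : b ∈ Subgroup.closure ({a, b} : Set G) :=
      Subgroup.subset_closure (Set.mem_insert_of_mem _ rfl)
    rcases hx with rfl | rfl | rfl | rfl
    · exact Subgroup.one_mem _
    · exact hamem
    · exact hbmem
    · exact Subgroup.mul_mem _ hamem hbmem

theorem closure_pair_eq_of_isKleinFour (V : Subgroup G) [hV : IsKleinFour V] {a b : G}
    (haV : a ∈ V) (hbV : b ∈ V) (ha1 : a ≠ 1) (hb1 : b ≠ 1) (hne : a ≠ b) :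
    (a, b) ∈ commInvPairs G ∧ Subgroup.closure ({a, b} : Set G) = V := by
  have ha : a * a = 1 := by
    have := IsKleinFour.mul_self (⟨a, haV⟩ : V)
    exact congrArg Subtype.val this
  have hb : b * b = 1 := by
    have := IsKleinFour.mul_self (⟨b, hbV⟩ : V)
    exact congrArg Subtype.val this
  have hab : a * b = b * a := by
    have := mul_comm_of_exponent_two (IsKleinFour.exponent_two (G := V)) (⟨a, haV⟩ : V) ⟨b, hbV⟩
    exact congrArg Subtype.val this
  refine ⟨(mem_commInvPairs _).mpr ⟨ha1, hb1, ha, hb, hne, hab⟩, ?_⟩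
  rw [closure_pair_eq_kleinOf ha hb hab]
  apply Subgroup.eq_of_le_of_card_ge
  · intro x hx
    rcases hx with rfl | rfl | rfl | rfl
    · exact Subgroup.one_mem _
    · exact haV
    · exact hbV
    · exact Subgroup.mul_mem _ haV hbV
  · rw [card_kleinOf ha hb hab ha1 hb1 hne, IsKleinFour.card_four]

/-- Six times the number of Klein four-subgroups is the number of ordered pairs of distinct
commuting involutions. -/
theorem six_mul_card_kleinFour :
    6 * Nat.card {V : Subgroup G // IsKleinFour V} = (commInvPairs G).card := by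
  classical
  let _ : Fintype (Subgroup G) := Fintype.ofFinite _
  have hcardK : Nat.card {V : Subgroup G // IsKleinFour V} =
      (Finset.univ.filter (fun V : Subgroup G => IsKleinFour V)).card := by
    rw [Nat.card_eq_fintype_card, Fintype.card_subtype]
  rw [hcardK]
  have hmaps : ∀ p ∈ commInvPairs G, Subgroup.closure ({p.1, p.2} : Set G) ∈
      Finset.univ.filter (fun V : Subgroup G => IsKleinFour V) := by
    intro p hp
    rw [mem_commInvPairs] at hp
    obtain ⟨ha1, hb1, ha, hb, hne, hab⟩ := hp
    rw [Finset.mem_filter]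
    refine ⟨Finset.mem_univ _, ?_⟩
    rw [closure_pair_eq_kleinOf ha hb hab]
    exact isKleinFour_kleinOf ha hb hab ha1 hb1 hne
  rw [Finset.card_eq_sum_card_fiberwise hmaps]
  have hfiber : ∀ V ∈ Finset.univ.filter (fun V : Subgroup G => IsKleinFour V),
      ((commInvPairs G).filter
        (fun p : G × G => Subgroup.closure ({p.1, p.2} : Set G) = V)).card = 6 := by
    intro V hV
    rw [Finset.mem_filter] at hV
    have hVK : IsKleinFour V := hV.2
    have hfib : (commInvPairs G).filter
        (fun p : G × G => Subgroup.closure ({p.1, p.2} : Set G) = V) =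
        (Finset.univ.filter (fun x : G => x ∈ V ∧ x ≠ 1)).offDiag := by
      ext p
      rw [Finset.mem_filter, Finset.mem_offDiag, Finset.mem_filter, Finset.mem_filter]
      constructor
      · rintro ⟨hp, hcl⟩
        rw [mem_commInvPairs] at hp
        obtain ⟨ha1, hb1, ha, hb, hne, hab⟩ := hp
        have hamem : p.1 ∈ V := by
          rw [← hcl]; exact Subgroup.subset_closure (Set.mem_insert _ _)
        have hbmem : p.2 ∈ V := by
          rw [← hcl]; exact Subgroup.subset_closure (Set.mem_insert_of_mem _ rfl)
        exact ⟨⟨Finset.mem_univ _, hamem, ha1⟩, ⟨Finset.mem_univ _, hbmem, hb1⟩, hne⟩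
      · rintro ⟨⟨-, hamem, ha1⟩, ⟨-, hbmem, hb1⟩, hne⟩
        exact closure_pair_eq_of_isKleinFour V hamem hbmem ha1 hb1 hne
    rw [hfib, Finset.offDiag_card]
    have h3 : (Finset.univ.filter (fun x : G => x ∈ V ∧ x ≠ 1)).card = 3 := by
      have h4 : (Finset.univ.filter (fun x : G => x ∈ V)).card = 4 := by
        rw [← Fintype.card_subtype, ← Nat.card_eq_fintype_card]
        exact IsKleinFour.card_four
      have : Finset.univ.filter (fun x : G => x ∈ V ∧ x ≠ 1) =
          (Finset.univ.filter (fun x : G => x ∈ V)).erase 1 := by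
        ext x
        simp only [Finset.mem_filter, Finset.mem_univ, true_and, Finset.mem_erase]
        tauto
      rw [this, Finset.card_erase_of_mem, h4]
      rw [Finset.mem_filter]
      exact ⟨Finset.mem_univ _, Subgroup.one_mem _⟩
    rw [h3]
  rw [Finset.sum_congr rfl hfiber, Finset.sum_const, smul_eq_mul, mul_comm]

end count

end Cfsg.Agent.Helper41
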