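import Mathlib

set_option autoImplicit false

namespace Cfsg.Agent.Helper41

open Matrix

variable {F : Type*} [Field F]

/-- A trace-zero `2 × 2` matrix squares to a scalar. -/
theorem mul_self_of_trace_zero (M : Matrix (Fin 2) (Fin 2) F) (h : M.trace = 0) :
    M * M = (-M.det) • (1 : Matrix (Fin 2) (Fin 2) F) := by
  rw [Matrix.trace_fin_two] at h
  have h11 : M 1 1 = -M 0 0 := by linear_combination h
  rw [Matrix.det_fin_two]
  ext i j
  fin_cases i <;> fin_cases j <;> simp [Matrix.mul_apply, Fin.sum_univ_two, h11] <;> ring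

/-- A non-scalar `2 × 2` matrix with scalar square has trace zero. -/
theorem trace_zero_of_mul_self_scalar (M : Matrix (Fin 2) (Fin 2) F) (r : F)
    (h : M * M = Matrix.scalar (Fin 2) r) (hns : ∀ r' : F, M ≠ Matrix.scalar (Fin 2) r') :
    M.trace = 0 := by
  rw [Matrix.trace_fin_two]
  have e01 := congr_fun (congr_fun h 0) 1
  have e10 := congr_fun (congr_fun h 1) 0
  have e00 := congr_fun (congr_fun h 0) 0
  have e11 := congr_fun (congr_fun h 1) 1
  simp [Matrix.mul_apply, Fin.sum_univ_two, Matrix.scalar_apply] at e01 e10 e00 e11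
  by_contra hne
  have hb : M 0 1 = 0 := by
    have : M 0 1 * (M 0 0 + M 1 1) = 0 := by linear_combination e01
    rcases mul_eq_zero.mp this with h | h
    · exact h
    · exact absurd h hne
  have hc : M 1 0 = 0 := by
    have : M 1 0 * (M 0 0 + M 1 1) = 0 := by linear_combination e10
    rcases mul_eq_zero.mp this with h | h
    · exact h
    · exact absurd h hne
  have had : M 0 0 = M 1 1 := by
    have : (M 0 0 - M 1 1) * (M 0 0 + M 1 1) = 0 := by linear_combination e00 - e11
    rcases mul_eq_zero.mp this with h | h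
    · exact sub_eq_zero.mp h
    · exact absurd h hne
  apply hns (M 0 0)
  ext i j
  fin_cases i <;> fin_cases j <;> simp [Matrix.scalar_apply, hb, hc, had]

/-- The centralizer of a non-scalar `2 × 2` matrix `M` is `F[M]`. -/
theorem exists_eq_add_smul_of_commute (M X : Matrix (Fin 2) (Fin 2) F)
    (hns : ∀ r : F, M ≠ Matrix.scalar (Fin 2) r) (h : X * M = M * X) :
    ∃ α β : F, X = α • (1 : Matrix (Fin 2) (Fin 2) F) + β • M := by
  have e00 := congr_fun (congr_fun h 0) 0
  have e01 := congr_fun (congr_fun h 0) 1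
  have e10 := congr_fun (congr_fun h 1) 0
  simp [Matrix.mul_apply, Fin.sum_univ_two] at e00 e01 e10
  by_cases h10 : M 1 0 = 0
  · by_cases h01 : M 0 1 = 0
    · have hne : M 0 0 - M 1 1 ≠ 0 := by
        intro hd
        apply hns (M 0 0)
        ext i j
        fin_cases i <;> fin_cases j <;> simp [Matrix.scalar_apply, h10, h01]
        linear_combination -hd
      rw [h01] at e01
      rw [h10] at e10
      have hx01 : X 0 1 = 0 := by
        have : X 0 1 * (M 0 0 - M 1 1) = 0 := by linear_combination -e01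
        rcases mul_eq_zero.mp this with h | h
        · exact h
        · exact absurd h hne
      have hx10 : X 1 0 = 0 := by
        have : X 1 0 * (M 0 0 - M 1 1) = 0 := by linear_combination e10
        rcases mul_eq_zero.mp this with h | h
        · exact h
        · exact absurd h hne
      refine ⟨X 0 0 - (X 0 0 - X 1 1) / (M 0 0 - M 1 1) * M 0 0, (X 0 0 - X 1 1) / (M 0 0 - M 1 1), ?_⟩
      ext i j
      fin_cases i <;> fin_cases j <;> simp [h10, h01, hx01, hx10]
      field_simp
      ring
    · refine ⟨X 0 0 - X 0 1 / M 0 1 * M 0 0, X 0 1 / M 0 1, ?_⟩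
      ext i j
      fin_cases i <;> fin_cases j <;> simp <;> field_simp
      · linear_combination -e00
      · linear_combination -e01
  · refine ⟨X 0 0 - X 1 0 / M 1 0 * M 0 0, X 1 0 / M 1 0, ?_⟩
    ext i j
    fin_cases i <;> fin_cases j <;> simp <;> field_simp
    · linear_combination e00
    · linear_combination e10

/-- A nilpotent trace-zero matrix orthogonal to a trace-zero matrix of non-square `-det` is zero
(in coordinates). -/
theorem eq_zero_of_not_isSquare (a b c p r t : F) (hns : ¬ IsSquare (a ^ 2 + b * c))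
    (h1 : p ^ 2 + r * t = 0) (h2 : 2 * a * p + b * t + c * r = 0) : p = 0 ∧ r = 0 ∧ t = 0 := by
  have hr : r = 0 := by
    by_contra hr
    apply hns
    refine ⟨(a * r - b * p) / r, ?_⟩
    field_simp
    linear_combination (b * r) * h2 - b ^ 2 * h1
  have ht : t = 0 := by
    by_contra ht
    apply hns
    refine ⟨(a * t - c * p) / t, ?_⟩
    field_simp
    linear_combination (c * t) * h2 - c ^ 2 * h1
  refine ⟨?_, hr, ht⟩
  rw [hr] at h1
  simpa using h1

/-- The commutator `s = z z' - z' z` of two trace-zero matrices has trace zero and anticommutes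
with both. -/
theorem commutator_anticomm (z z' : Matrix (Fin 2) (Fin 2) F) (hz : z.trace = 0) (hz' : z'.trace = 0) :
    (z * z' - z' * z).trace = 0 ∧ (z * z' - z' * z) * z = -(z * (z * z' - z' * z)) ∧
      (z * z' - z' * z) * z' = -(z' * (z * z' - z' * z)) := by
  have h1 := mul_self_of_trace_zero z hz
  have h2 := mul_self_of_trace_zero z' hz'
  refine ⟨?_, ?_, ?_⟩
  · rw [Matrix.trace_sub, Matrix.trace_mul_comm, sub_self]
  · rw [Matrix.sub_mul, Matrix.mul_sub, Matrix.mul_assoc z' z z, h1, ← Matrix.mul_assoc z z z', h1,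
      Matrix.mul_assoc z z' z]
    simp
  · rw [Matrix.sub_mul, Matrix.mul_sub, Matrix.mul_assoc z z' z', h2, ← Matrix.mul_assoc z' z' z, h2,
      Matrix.mul_assoc z' z z']
    simp
    abel

theorem commutator_det (z z' : Matrix (Fin 2) (Fin 2) F) (hz : z.trace = 0) (hz' : z'.trace = 0) :
    (z * z' - z' * z).det = 4 * (z 0 0 ^ 2 + z 0 1 * z 1 0) * (z' 0 0 ^ 2 + z' 0 1 * z' 1 0) -
      (2 * z 0 0 * z' 0 0 + z 0 1 * z' 1 0 + z 1 0 * z' 0 1) ^ 2 := by
  rw [Matrix.trace_fin_two] at hz hz'
  have h11 : z 1 1 = -z 0 0 := by linear_combination hz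
  have h11' : z' 1 1 = -z' 0 0 := by linear_combination hz'
  rw [Matrix.det_fin_two]
  simp [Matrix.mul_apply, Fin.sum_univ_two, h11, h11']
  ring

/-- If `z` has non-square `-det` and `z'` is not proportional to `z`, the commutator is invertible. -/
theorem commutator_det_ne_zero (h2 : (2 : F) ≠ 0) (z z' : Matrix (Fin 2) (Fin 2) F)
    (hz : z.trace = 0) (hz' : z'.trace = 0) (hns : ¬ IsSquare (-z.det))
    (hprop : ∀ β : F, z' ≠ β • z) : (z * z' - z' * z).det ≠ 0 := by
  intro hdet
  rw [commutator_det z z' hz hz'] at hdet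
  have hz0 := hz
  have hz0' := hz'
  rw [Matrix.trace_fin_two] at hz hz'
  have h11 : z 1 1 = -z 0 0 := by linear_combination hz
  have h11' : z' 1 1 = -z' 0 0 := by linear_combination hz'
  have hδ : -z.det = z 0 0 ^ 2 + z 0 1 * z 1 0 := by
    rw [Matrix.det_fin_two, h11]; ring
  rw [hδ] at hns
  set a := z 0 0
  set b := z 0 1
  set c := z 1 0
  set a' := z' 0 0
  set b' := z' 0 1
  set c' := z' 1 0
  have hδ0 : a ^ 2 + b * c ≠ 0 := by
    intro h
    apply hns
    rw [h]
    exact ⟨0, by ring⟩
  obtain ⟨β, hβ'⟩ : ∃ β : F, β * (2 * (a ^ 2 + b * c)) = 2 * a * a' + b * c' + c * b' :=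
    ⟨(2 * a * a' + b * c' + c * b') / (2 * (a ^ 2 + b * c)), by field_simp⟩
  obtain ⟨hp, hr, ht⟩ := eq_zero_of_not_isSquare a b c (a' - β * a) (b' - β * b) (c' - β * c) hns
    (by
      have h4 : (4 : F) ≠ 0 := by
        have : (4 : F) = 2 * 2 := by norm_num
        rw [this]; exact mul_ne_zero h2 h2
      have : 4 * (a ^ 2 + b * c) * ((a' - β * a) ^ 2 + (b' - β * b) * (c' - β * c)) = 0 := by
        linear_combination hdet + (β * (2 * (a ^ 2 + b * c)) - (2 * a * a' + b * c' + c * b')) * hβ'
      rcases mul_eq_zero.mp this with h | h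
      · exact absurd h (mul_ne_zero h4 hδ0)
      · exact h)
    (by linear_combination -hβ')
  apply hprop β
  ext i j
  fin_cases i <;> fin_cases j <;> simp
  · linear_combination hp
  · linear_combination hr
  · linear_combination ht
  · rw [h11, h11']; linear_combination -hp

theorem pow_two_mul_of_mul_self (z : Matrix (Fin 2) (Fin 2) F) (δ : F)
    (h : z * z = δ • (1 : Matrix (Fin 2) (Fin 2) F)) (m : ℕ) :
    z ^ (2 * m) = (δ ^ m) • (1 : Matrix (Fin 2) (Fin 2) F) := by
  rw [pow_mul, pow_two, h, smul_pow, one_pow]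

theorem pow_two_mul_add_one_of_mul_self (z : Matrix (Fin 2) (Fin 2) F) (δ : F)
    (h : z * z = δ • (1 : Matrix (Fin 2) (Fin 2) F)) (m : ℕ) :
    z ^ (2 * m + 1) = (δ ^ m) • z := by
  rw [pow_succ, pow_two_mul_of_mul_self z δ h m]
  simp

/-- Frobenius on `F[z]` for `z * z = δ`, over a finite field of odd order. -/
theorem add_smul_pow_card [Fintype F] (hodd : Fintype.card F % 2 = 1)
    (z : Matrix (Fin 2) (Fin 2) F) (δ : F)
    (h : z * z = δ • (1 : Matrix (Fin 2) (Fin 2) F)) (α β : F) :
    (α • (1 : Matrix (Fin 2) (Fin 2) F) + β • z) ^ Fintype.card F =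
      α • (1 : Matrix (Fin 2) (Fin 2) F) + (β * δ ^ (Fintype.card F / 2)) • z := by
  obtain ⟨p, hp⟩ := CharP.exists F
  have hpp : p.Prime := by
    rcases CharP.char_is_prime_or_zero F p with h | h
    · exact h
    · exfalso
      subst h
      have : CharZero F := CharP.charP_to_charZero F
      exact not_finite F
  have : Fact p.Prime := ⟨hpp⟩
  obtain ⟨⟨f, hfpos⟩, -, hf⟩ := FiniteField.card F p
  simp only [PNat.mk_coe] at hf
  have hcomm : Commute (α • (1 : Matrix (Fin 2) (Fin 2) F)) (β • z) := by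
    apply Commute.smul_left
    exact Commute.one_left _
  have hq : Fintype.card F = 2 * (Fintype.card F / 2) + 1 := by omega
  have h1 : (α • (1 : Matrix (Fin 2) (Fin 2) F) + β • z) ^ Fintype.card F =
      (α • (1 : Matrix (Fin 2) (Fin 2) F)) ^ Fintype.card F + (β • z) ^ Fintype.card F := by
    rw [hf]
    exact add_pow_char_pow_of_commute p f hcomm
  rw [h1, smul_pow, smul_pow, one_pow, FiniteField.pow_card, FiniteField.pow_card]
  congr 1
  conv_lhs => rw [hq]
  rw [pow_two_mul_add_one_of_mul_self z δ h, smul_smul]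

end Cfsg.Agent.Helper41
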