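import Mathlib

set_option autoImplicit false

/-!
# Class number of a group with an abelian subgroup of index two inverted by the outside elements

`two_mul_card_conjClasses_of_inverting`: if `T ≤ N` is abelian of index two and every element of
`N ∖ T` inverts `T` by conjugation, then `2 k(N) = |T| + 3 |T[2]|`.
-/

namespace Cfsg.Agent.Helper41

open scoped Classical in
/-- Sum over a group split along a subgroup of index two. -/
theorem sum_eq_sum_add_sum_of_index_two {N : Type*} [Group N] [Fintype N] (T : Subgroup N)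
    (hidx : T.index = 2) (g₀ : N) (hg₀ : g₀ ∉ T) {M : Type*} [AddCommMonoid M] (f : N → M) :
    ∑ g : N, f g = ∑ t : T, f t + ∑ t : T, f (g₀ * t) := by
  have hbij : Function.Bijective (Sum.elim (fun t : T => (t : N)) (fun t : T => g₀ * (t : N))) := by
    constructor
    · rintro (a | a) (b | b) h
      · simp only [Sum.elim_inl] at h
        rw [Subtype.ext h]
      · simp only [Sum.elim_inl, Sum.elim_inr] at h
        exfalso
        apply hg₀
        have : g₀ = a * (b : N)⁻¹ := by rw [h]; group
        rw [this]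
        exact T.mul_mem a.2 (T.inv_mem b.2)
      · simp only [Sum.elim_inl, Sum.elim_inr] at h
        exfalso
        apply hg₀
        have : g₀ = b * (a : N)⁻¹ := by rw [← h]; group
        rw [this]
        exact T.mul_mem b.2 (T.inv_mem a.2)
      · simp only [Sum.elim_inr] at h
        rw [Subtype.ext (mul_left_cancel h)]
    · intro b
      by_cases hb : b ∈ T
      · exact ⟨Sum.inl ⟨b, hb⟩, rfl⟩
      · have : g₀⁻¹ * b ∈ T := by
          rw [Subgroup.mul_mem_iff_of_index_two hidx]
          constructor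
          · intro h; exact absurd (T.inv_mem_iff.mp h) hg₀
          · intro h; exact absurd h hb
        exact ⟨Sum.inr ⟨g₀⁻¹ * b, this⟩, by simp⟩
  rw [← (Equiv.ofBijective _ hbij).sum_comp, Fintype.sum_sum_type]
  simp

open scoped Classical in
theorem card_commuting_pairs_eq_sum {N : Type*} [Group N] [Fintype N] :
    Nat.card {p : N × N // Commute p.1 p.2} = ∑ g : N, ∑ h : N, if g * h = h * g then 1 else 0 := by
  rw [Nat.card_eq_fintype_card, Fintype.card_subtype, Finset.card_filter, Fintype.sum_prod_type]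
  rfl

open scoped Classical in
/-- Class number of a group with an abelian subgroup of index two which is inverted by every
element outside it. -/
theorem two_mul_card_conjClasses_of_inverting {N : Type*} [Group N] [Finite N] (T : Subgroup N)
    (hidx : T.index = 2) (hcomm : ∀ a ∈ T, ∀ b ∈ T, a * b = b * a)
    (hinv : ∀ g, g ∉ T → ∀ t ∈ T, g * t * g⁻¹ = t⁻¹) :
    2 * Nat.card (ConjClasses N) = Nat.card T + 3 * Nat.card {t : T // (t : N) ^ 2 = 1} := by
  have : Fintype N := Fintype.ofFinite N
  obtain ⟨g₀, hg₀⟩ : ∃ g₀ : N, g₀ ∉ T := by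
    by_contra h
    push Not at h
    have : T = ⊤ := (Subgroup.eq_top_iff' T).mpr h
    rw [this, Subgroup.index_top] at hidx
    omega
  have hcardN : Nat.card N = 2 * Nat.card T := by
    rw [← Subgroup.index_mul_card T, hidx]
  have hTpos : 0 < Nat.card T := Nat.card_pos
  -- g₀ s = s⁻¹ g₀
  have hg₀s : ∀ s ∈ T, g₀ * s = s⁻¹ * g₀ := by
    intro s hs
    have := hinv g₀ hg₀ s hs
    rw [← this]; group
  have hkey := card_comm_eq_card_conjClasses_mul_card N
  rw [card_commuting_pairs_eq_sum, hcardN] at hkey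
  -- the set of involutions
  set I : ℕ := Nat.card {t : T // (t : N) ^ 2 = 1} with hI
  have hIsum : ∀ f : T → T, Function.Bijective f →
      (∑ t : T, if ((f t : T) : N) ^ 2 = 1 then 1 else 0) = I := by
    intro f hf
    rw [hI, Nat.card_eq_fintype_card, Fintype.card_subtype, Finset.card_filter]
    exact (Equiv.ofBijective f hf).sum_comp (fun t : T => if (t : N) ^ 2 = 1 then 1 else 0)
  have hsq_iff : ∀ s : N, s ^ 2 = 1 ↔ s⁻¹ = s := by
    intro s
    rw [pow_two, inv_eq_iff_mul_eq_one]
  -- block 1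
  have hb1 : ∀ t t' : T, (if (t : N) * (t' : N) = (t' : N) * (t : N) then 1 else 0) = 1 := by
    intro t t'
    rw [if_pos (hcomm t t.2 t' t'.2)]
  -- block 2: t commutes with g₀ t' iff t^2 = 1
  have hb2 : ∀ t t' : T, (if (t : N) * (g₀ * (t' : N)) = (g₀ * (t' : N)) * (t : N) then 1 else 0) =
      if (t : N) ^ 2 = 1 then 1 else 0 := by
    intro t t'
    congr 1
    rw [eq_iff_iff, hsq_iff]
    have h1 : g₀ * (t' : N) * (t : N) = g₀ * (t : N) * (t' : N) := by
      rw [mul_assoc, hcomm t' t'.2 t t.2, ← mul_assoc]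
    rw [h1, ← mul_assoc, mul_left_inj, hg₀s t t.2]
    constructor
    · intro h
      have := mul_right_cancel h
      exact this.symm
    · intro h
      rw [h]
  -- block 3: g₀ t commutes with t' iff t'^2 = 1
  have hb3 : ∀ t t' : T, (if (g₀ * (t : N)) * (t' : N) = (t' : N) * (g₀ * (t : N)) then 1 else 0) =
      if (t' : N) ^ 2 = 1 then 1 else 0 := by
    intro t t'
    rw [← hb2 t' t]
    congr 1
    rw [eq_iff_iff]
    exact eq_comm
  -- block 4
  have hb4 : ∀ t t' : T, (if (g₀ * (t : N)) * (g₀ * (t' : N)) = (g₀ * (t' : N)) * (g₀ * (t : N))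
      then 1 else 0) = if (((t' * t⁻¹ : T) : T) : N) ^ 2 = 1 then 1 else 0 := by
    intro t t'
    congr 1
    rw [eq_iff_iff, hsq_iff]
    have h1 : g₀ * (t : N) * (g₀ * (t' : N)) = g₀ * ((t : N) * (t' : N)⁻¹) * g₀ := by
      rw [hg₀s t' t'.2]
      simp only [mul_assoc]
    have h2 : g₀ * (t' : N) * (g₀ * (t : N)) = g₀ * ((t' : N) * (t : N)⁻¹) * g₀ := by
      rw [hg₀s t t.2]
      simp only [mul_assoc]
    rw [h1, h2, mul_left_inj, mul_right_inj]
    simp only [Subgroup.coe_mul, Subgroup.coe_inv, mul_inv_rev, inv_inv]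
  rw [sum_eq_sum_add_sum_of_index_two T hidx g₀ hg₀] at hkey
  simp only [sum_eq_sum_add_sum_of_index_two T hidx g₀ hg₀ (fun h => if _ * h = h * _ then 1 else 0)]
    at hkey
  simp only [hb1, hb2, hb3, hb4] at hkey
  have hI1 : (∑ t : T, if (t : N) ^ 2 = 1 then 1 else 0) = I := hIsum id Function.bijective_id
  have hI2 : ∀ x : T, (∑ t : T, if ((t * x⁻¹ : T) : N) ^ 2 = 1 then 1 else 0) = I := by
    intro x
    exact hIsum (fun t => t * x⁻¹) (Group.mulRight_bijective x⁻¹)
  have hI3 : ∀ x : T, (∑ _t : T, if (x : N) ^ 2 = 1 then 1 else 0) =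
      Nat.card T * (if (x : N) ^ 2 = 1 then 1 else 0) := by
    intro x
    rw [Finset.sum_const, Finset.card_univ, smul_eq_mul, Nat.card_eq_fintype_card]
  simp only [hI1, hI2, hI3, Finset.sum_add_distrib, Finset.sum_const, Finset.card_univ, smul_eq_mul,
    mul_one, ← Finset.mul_sum, ← Nat.card_eq_fintype_card] at hkey
  have h3 : Nat.card T * (Nat.card T + 3 * I) = Nat.card T * (2 * Nat.card (ConjClasses N)) := by
    linarith
  exact (Nat.eq_of_mul_eq_mul_left hTpos h3).symm

end Cfsg.Agent.Helper41
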