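import Cfsg.Agent.Helper41.SL2Conj
import Cfsg.Agent.Helper41.PSL2Orders

set_option autoImplicit false

namespace Cfsg.Agent.Helper41

open Matrix Polynomial

variable {F : Type*} [Field F]

/-- The central element `-1` of `SL₂`. -/
def sl2NegOne : Matrix.SpecialLinearGroup (Fin 2) F :=
  ⟨Matrix.scalar (Fin 2) (-1), by simp [Matrix.scalar_apply]⟩

theorem sl2NegOne_mem_center :
    (sl2NegOne : Matrix.SpecialLinearGroup (Fin 2) F) ∈
      Subgroup.center (Matrix.SpecialLinearGroup (Fin 2) F) :=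
  sl2_mem_center_of_eq_scalar _ (-1) (by ring) rfl

theorem sl2NegOne_mul_trace (G : Matrix.SpecialLinearGroup (Fin 2) F) :
    Matrix.trace ((sl2NegOne * G : Matrix.SpecialLinearGroup (Fin 2) F) : Matrix (Fin 2) (Fin 2) F) =
      - Matrix.trace (G : Matrix (Fin 2) (Fin 2) F) := by
  rw [Matrix.SpecialLinearGroup.coe_mul, Matrix.trace_fin_two, Matrix.trace_fin_two]
  simp [sl2NegOne, Matrix.mul_apply, Fin.sum_univ_two, Matrix.scalar_apply]
  ring

/-- In `PSL₂`, a non-identity element `g` is a product of two conjugates of `x = [X]`, as soon as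
the relevant norm form is surjective and the conic for one of the two lifts of `g` is solvable. -/
theorem psl2_eq_mul_conj (X : Matrix.SpecialLinearGroup (Fin 2) F)
    (ht : (Matrix.trace (X : Matrix (Fin 2) (Fin 2) F)) ^ 2 ≠ 4)
    (hnorm : ∀ e : F, e ≠ 0 → ∃ α β : F,
      α ^ 2 + (Matrix.trace (X : Matrix (Fin 2) (Fin 2) F)) * α * β + β ^ 2 = e)
    (hsolv : ∀ s : F, ConicSolvable s (Matrix.trace (X : Matrix (Fin 2) (Fin 2) F)) ∨
      ConicSolvable (-s) (Matrix.trace (X : Matrix (Fin 2) (Fin 2) F)))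
    (g : Matrix.ProjectiveSpecialLinearGroup (Fin 2) F) (hg : g ≠ 1) :
    ∃ u v : Matrix.ProjectiveSpecialLinearGroup (Fin 2) F,
      g = (u * (QuotientGroup.mk X) * u⁻¹) * (v * (QuotientGroup.mk X) * v⁻¹) := by
  obtain ⟨G, rfl⟩ := QuotientGroup.mk_surjective g
  have hG : G ∉ Subgroup.center (Matrix.SpecialLinearGroup (Fin 2) F) := by
    rwa [Ne, QuotientGroup.eq_one_iff] at hg
  rcases hsolv (Matrix.trace (G : Matrix (Fin 2) (Fin 2) F)) with h | h
  · obtain ⟨U, V, hUV⟩ := sl2_eq_mul_conj X G ht hG hnorm h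
    refine ⟨QuotientGroup.mk U, QuotientGroup.mk V, ?_⟩
    rw [hUV]
    simp only [QuotientGroup.mk_mul, QuotientGroup.mk_inv]
  · have hG' : sl2NegOne * G ∉ Subgroup.center (Matrix.SpecialLinearGroup (Fin 2) F) := by
      intro hc
      apply hG
      have := Subgroup.mul_mem _ (Subgroup.inv_mem _ (sl2NegOne_mem_center (F := F))) hc
      rwa [inv_mul_cancel_left] at this
    rw [← sl2NegOne_mul_trace] at h
    obtain ⟨U, V, hUV⟩ := sl2_eq_mul_conj X (sl2NegOne * G) ht hG' hnorm h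
    refine ⟨QuotientGroup.mk U, QuotientGroup.mk V, ?_⟩
    have h1 : (QuotientGroup.mk G : Matrix.ProjectiveSpecialLinearGroup (Fin 2) F) =
        QuotientGroup.mk (sl2NegOne * G) := by
      rw [QuotientGroup.mk_mul, (QuotientGroup.eq_one_iff _).mpr sl2NegOne_mem_center, one_mul]
    rw [h1, hUV]
    simp only [QuotientGroup.mk_mul, QuotientGroup.mk_inv]

end Cfsg.Agent.Helper41
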