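import Mathlib
import Cfsg.Agent.Helper41.SL2
import Cfsg.Agent.Helper41.GL2
import Cfsg.Agent.Helper41.SL2Conj
import Cfsg.Agent.Helper41.PSL2Prod
import Cfsg.Agent.Helper41.Inverting

set_option autoImplicit false

/-!
# Tori of `SL₂(F)` and their normalizers

For `A ∈ SL₂(F)` with `tr(A)² ≠ 4` (char ≠ 2) the torus `T = C(A)` is abelian, is the centralizer
of each of its non-scalar elements, its normalizer consists of `T` and the elements inverting `A`
(which invert all of `T` and have square `-1`), `|N(T)| = 2|T|` and `2 k(N(T)) = |T| + 6`.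
-/

namespace Cfsg.Agent.Helper41

open Matrix

variable {F : Type*} [Field F]

local notation "SL2F" => Matrix.SpecialLinearGroup (Fin 2) F
local notation "M2F" => Matrix (Fin 2) (Fin 2) F


/-- The inverse in `SL₂` is `tr(g) - g`. -/
theorem sl2_coe_inv_eq (g : SL2F) :
    ((g⁻¹ : SL2F) : M2F) = (Matrix.trace (g : M2F)) • (1 : M2F) - (g : M2F) := by
  rw [Matrix.SpecialLinearGroup.coe_inv, Matrix.adjugate_fin_two, Matrix.trace_fin_two]
  ext i j
  fin_cases i <;> fin_cases j <;> simp

theorem sl2_mem_centralizer_singleton_iff (A g : SL2F) :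
    g ∈ Subgroup.centralizer ({A} : Set SL2F) ↔ (g : M2F) * (A : M2F) = (A : M2F) * (g : M2F) := by
  rw [Subgroup.mem_centralizer_singleton_iff]
  constructor
  · intro h
    have := congrArg (fun x : SL2F => (x : M2F)) h
    simpa using this
  · intro h
    apply Subtype.ext
    simpa using h

theorem sl2_exists_of_mem_centralizer (A g : SL2F)
    (hA : ∀ r : F, (A : M2F) ≠ Matrix.scalar (Fin 2) r)
    (hg : g ∈ Subgroup.centralizer ({A} : Set SL2F)) :
    ∃ α β : F, (g : M2F) = α • (1 : M2F) + β • (A : M2F) :=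
  exists_eq_add_smul_of_commute _ _ hA ((sl2_mem_centralizer_singleton_iff A g).mp hg)

theorem sl2_scalar_of_smul_one (g : SL2F) (α : F) (h : (g : M2F) = α • (1 : M2F)) :
    (g : M2F) = Matrix.scalar (Fin 2) α := by
  rw [h]
  ext i j
  fin_cases i <;> fin_cases j <;> simp [Matrix.scalar_apply]

/-- (b) The centralizer of a non-scalar element of the torus `C(A)` is `C(A)`. -/
theorem sl2_centralizer_eq_of_mem (A g : SL2F)
    (hA : ∀ r : F, (A : M2F) ≠ Matrix.scalar (Fin 2) r)
    (hg : g ∈ Subgroup.centralizer ({A} : Set SL2F))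
    (hgns : ∀ r : F, (g : M2F) ≠ Matrix.scalar (Fin 2) r) :
    Subgroup.centralizer ({g} : Set SL2F) = Subgroup.centralizer ({A} : Set SL2F) := by
  obtain ⟨α, β, hαβ⟩ := sl2_exists_of_mem_centralizer A g hA hg
  have hβ : β ≠ 0 := by
    rintro rfl
    rw [zero_smul, add_zero] at hαβ
    exact hgns α (sl2_scalar_of_smul_one g α hαβ)
  ext h
  rw [sl2_mem_centralizer_singleton_iff, sl2_mem_centralizer_singleton_iff, hαβ]
  simp only [Matrix.mul_add, Matrix.add_mul, Matrix.mul_smul, Matrix.smul_mul, Matrix.mul_one,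
    Matrix.one_mul]
  constructor
  · intro h1
    have h2 : β • ((h : M2F) * (A : M2F)) = β • ((A : M2F) * (h : M2F)) := add_left_cancel h1
    have := congrArg (fun X => β⁻¹ • X) h2
    simpa [smul_smul, inv_mul_cancel₀ hβ] using this
  · intro h1
    rw [h1]




theorem det_add_smul_two (A : M2F) (α β : F) :
    (α • (1 : M2F) + β • A).det = α ^ 2 + α * β * A.trace + β ^ 2 * A.det := by
  rw [Matrix.det_fin_two, Matrix.det_fin_two, Matrix.trace_fin_two]
  simp
  ring

theorem trace_add_smul_two (A : M2F) (α β : F) :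
    (α • (1 : M2F) + β • A).trace = 2 * α + β * A.trace := by
  rw [Matrix.trace_fin_two, Matrix.trace_fin_two]
  simp
  ring

theorem sl2_trace_conj (g A : SL2F) :
    Matrix.trace ((g * A * g⁻¹ : SL2F) : M2F) = Matrix.trace (A : M2F) := by
  rw [Matrix.SpecialLinearGroup.coe_mul, Matrix.SpecialLinearGroup.coe_mul, Matrix.trace_mul_comm,
    ← Matrix.mul_assoc, ← Matrix.SpecialLinearGroup.coe_mul, inv_mul_cancel,
    Matrix.SpecialLinearGroup.coe_one, Matrix.one_mul]

/-- (c) An element normalizing the torus `C(A)` centralizes or inverts `A`. -/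
theorem sl2_conj_eq_or_eq_inv_of_mem_normalizer (h2 : (2 : F) ≠ 0) (A g : SL2F)
    (ht : (Matrix.trace (A : M2F)) ^ 2 ≠ 4)
    (hg : g ∈ Subgroup.normalizer
      ((Subgroup.centralizer ({A} : Set SL2F) : Subgroup SL2F) : Set SL2F)) :
    g * A * g⁻¹ = A ∨ g * A * g⁻¹ = A⁻¹ := by
  have hA := not_scalar_of_trace_sq_ne_four (A : M2F) A.det_coe ht
  have hAmem : A ∈ Subgroup.centralizer ({A} : Set SL2F) := by
    rw [Subgroup.mem_centralizer_singleton_iff]
  have hB := (Subgroup.mem_normalizer_iff.mp hg A).mp hAmem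
  obtain ⟨α, β, hαβ⟩ := sl2_exists_of_mem_centralizer A _ hA hB
  have htr := sl2_trace_conj g A
  have hdet := (g * A * g⁻¹).det_coe
  rw [hαβ] at htr hdet
  rw [trace_add_smul_two] at htr
  rw [det_add_smul_two, A.det_coe] at hdet
  set t := Matrix.trace (A : M2F) with htdef
  have hβ : (β - 1) * (β + 1) = 0 := by
    have h4 : (t ^ 2 - 4) * (1 - β ^ 2) = 0 := by
      have hα : 2 * α = t * (1 - β) := by linear_combination htr
      have : 4 * (α ^ 2 + α * β * t + β ^ 2 * 1) = 4 := by rw [hdet]; ring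
      have h5 : (2 * α) ^ 2 + 2 * (2 * α) * β * t + 4 * β ^ 2 = 4 := by linear_combination this
      rw [hα] at h5
      linear_combination h5
    rcases mul_eq_zero.mp h4 with h | h
    · exfalso; apply ht; linear_combination h
    · linear_combination -h
  rcases mul_eq_zero.mp hβ with h | h
  · left
    have hβ1 : β = 1 := by linear_combination h
    have hα0 : α = 0 := by
      rw [hβ1] at htr
      have : 2 * α = 0 := by linear_combination htr
      rcases mul_eq_zero.mp this with h | h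
      · exact absurd h h2
      · exact h
    apply Subtype.ext
    rw [hαβ, hβ1, hα0]
    simp
  · right
    have hβ1 : β = -1 := by linear_combination h
    have hα0 : α = t := by
      rw [hβ1] at htr
      have : 2 * (α - t) = 0 := by linear_combination htr
      rcases mul_eq_zero.mp this with h | h
      · exact absurd h h2
      · linear_combination h
    apply Subtype.ext
    rw [hαβ, hβ1, hα0, sl2_coe_inv_eq, ← htdef]
    simp [sub_eq_add_neg]




/-- (d) An element inverting `A` inverts the whole torus `C(A)`. -/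
theorem sl2_conj_eq_inv_of_mem_centralizer (A g h : SL2F)
    (hA : ∀ r : F, (A : M2F) ≠ Matrix.scalar (Fin 2) r)
    (hg : g * A * g⁻¹ = A⁻¹) (hh : h ∈ Subgroup.centralizer ({A} : Set SL2F)) :
    g * h * g⁻¹ = h⁻¹ := by
  obtain ⟨α, β, hαβ⟩ := sl2_exists_of_mem_centralizer A h hA hh
  have hg' : (g : M2F) * (A : M2F) * ((g⁻¹ : SL2F) : M2F) = ((A⁻¹ : SL2F) : M2F) := by
    rw [← hg]; simp
  have hgg : (g : M2F) * ((g⁻¹ : SL2F) : M2F) = 1 := by
    rw [← Matrix.SpecialLinearGroup.coe_mul, mul_inv_cancel, Matrix.SpecialLinearGroup.coe_one]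
  apply Subtype.ext
  rw [sl2_coe_inv_eq h, Matrix.SpecialLinearGroup.coe_mul, Matrix.SpecialLinearGroup.coe_mul, hαβ,
    trace_add_smul_two]
  simp only [Matrix.mul_add, Matrix.add_mul, Matrix.mul_smul, Matrix.smul_mul, Matrix.mul_one, hgg,
    hg', sl2_coe_inv_eq A]
  module

/-- (e) An element of `SL₂` inverting a non-scalar `A` has square `-1`. -/
theorem sl2_mul_self_eq_neg_one_of_conj_eq_inv (h2 : (2 : F) ≠ 0) (A g : SL2F)
    (hA : ∀ r : F, (A : M2F) ≠ Matrix.scalar (Fin 2) r)
    (hg : g * A * g⁻¹ = A⁻¹) : (g : M2F) * (g : M2F) = -1 := by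
  set G := (g : M2F) with hG
  set M := (A : M2F) with hM
  set t := Matrix.trace M with ht
  set τ := Matrix.trace G with hτ
  have hGA : G * M = t • G - M * G := by
    have h1 : g * A = A⁻¹ * g := by rw [← hg]; group
    have h3 := congrArg (fun x : SL2F => (x : M2F)) h1
    simp only [Matrix.SpecialLinearGroup.coe_mul, sl2_coe_inv_eq A] at h3
    rw [← hG, ← hM, ← ht] at h3
    rw [h3, Matrix.sub_mul, Matrix.smul_mul, Matrix.one_mul]
  have hch : G * G = τ • G - 1 := sl2_cayley_hamilton g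
  have hτ0 : τ = 0 := by
    by_contra hτne
    have e1 : (G * G) * M = τ • (G * M) - M := by
      rw [hch, Matrix.sub_mul, Matrix.smul_mul, Matrix.one_mul]
    have e2 : (G * G) * M = τ • (M * G) - M := by
      have s1 : (G * G) * M = t • (G * G) - (G * M) * G := by
        calc (G * G) * M = G * (G * M) := by rw [Matrix.mul_assoc]
          _ = G * (t • G - M * G) := by rw [hGA]
          _ = t • (G * G) - (G * M) * G := by
              rw [Matrix.mul_sub, Matrix.mul_smul, Matrix.mul_assoc]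
      have s2 : t • (G * G) - (G * M) * G = M * (G * G) := by
        rw [hGA, Matrix.sub_mul, Matrix.smul_mul, Matrix.mul_assoc]
        abel
      rw [s1, s2, hch, Matrix.mul_sub, Matrix.mul_smul, Matrix.mul_one]
    have e3 : τ • (G * M) = τ • (M * G) := by
      have := e1.symm.trans e2
      exact sub_left_injective this
    have e4 : G * M = M * G := by
      have := congrArg (fun X => τ⁻¹ • X) e3
      simpa [smul_smul, inv_mul_cancel₀ hτne] using this
    -- 2 M G = t G
    have e5 : (2 : F) • (M * G) = t • G := by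
      rw [e4] at hGA
      rw [two_smul]
      have : M * G + M * G = (t • G - M * G) + M * G := by rw [← hGA]
      rw [this]; abel
    have hGinv : G * ((g⁻¹ : SL2F) : M2F) = 1 := by
      rw [hG, ← Matrix.SpecialLinearGroup.coe_mul, mul_inv_cancel, Matrix.SpecialLinearGroup.coe_one]
    have e6 : (2 : F) • M = t • (1 : M2F) := by
      have := congrArg (fun X => X * ((g⁻¹ : SL2F) : M2F)) e5
      simp only [Matrix.smul_mul, Matrix.mul_assoc, hGinv, Matrix.mul_one] at this
      exact this
    apply hA (t / 2)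
    have e7 : M = (t / 2) • (1 : M2F) := by
      have := congrArg (fun X => (2 : F)⁻¹ • X) e6
      simp only [smul_smul, inv_mul_cancel₀ h2, one_smul] at this
      rw [this]
      congr 1
      field_simp
    rw [e7]
    ext i j
    fin_cases i <;> fin_cases j <;> simp [Matrix.scalar_apply]
  rw [hch, hτ0, zero_smul, zero_sub]




/-- The torus `C(A)` is abelian. -/
theorem sl2_centralizer_comm (A g h : SL2F)
    (hA : ∀ r : F, (A : M2F) ≠ Matrix.scalar (Fin 2) r)
    (hg : g ∈ Subgroup.centralizer ({A} : Set SL2F))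
    (hh : h ∈ Subgroup.centralizer ({A} : Set SL2F)) : g * h = h * g := by
  obtain ⟨α, β, hαβ⟩ := sl2_exists_of_mem_centralizer A g hA hg
  have h1 := (sl2_mem_centralizer_singleton_iff A h).mp hh
  apply Subtype.ext
  rw [Matrix.SpecialLinearGroup.coe_mul, Matrix.SpecialLinearGroup.coe_mul, hαβ]
  simp only [Matrix.mul_add, Matrix.add_mul, Matrix.mul_smul, Matrix.smul_mul, Matrix.mul_one,
    Matrix.one_mul, h1]

theorem sl2_mem_centralizer_iff_conj (A g : SL2F) :
    g ∈ Subgroup.centralizer ({A} : Set SL2F) ↔ g * A * g⁻¹ = A := by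
  rw [Subgroup.mem_centralizer_singleton_iff, mul_inv_eq_iff_eq_mul, eq_comm]

/-- An element inverting `A` normalizes the torus `C(A)`. -/
theorem sl2_mem_normalizer_of_conj_eq_inv (A g : SL2F)
    (hA : ∀ r : F, (A : M2F) ≠ Matrix.scalar (Fin 2) r)
    (hg : g * A * g⁻¹ = A⁻¹) :
    g ∈ Subgroup.normalizer
      ((Subgroup.centralizer ({A} : Set SL2F) : Subgroup SL2F) : Set SL2F) := by
  have hg' : g⁻¹ * A * g⁻¹⁻¹ = A⁻¹ := by
    rw [inv_inv]
    have : A = g⁻¹ * A⁻¹ * g := by rw [← hg]; group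
    calc g⁻¹ * A * g = (g⁻¹ * A⁻¹ * g)⁻¹ := by group
      _ = A⁻¹ := by rw [← this]
  rw [Subgroup.mem_normalizer_iff]
  intro h
  constructor
  · intro hh
    rw [sl2_conj_eq_inv_of_mem_centralizer A g h hA hg hh]
    exact Subgroup.inv_mem _ hh
  · intro hh
    have := sl2_conj_eq_inv_of_mem_centralizer A g⁻¹ _ hA hg' hh
    have h3 : g⁻¹ * (g * h * g⁻¹) * g⁻¹⁻¹ = h := by group
    rw [h3] at this
    rw [this]
    exact Subgroup.inv_mem _ hh

/-- An element cannot both centralize and invert a non-scalar `A`. -/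
theorem sl2_not_conj_eq_inv_of_mem_centralizer (h2 : (2 : F) ≠ 0) (A g : SL2F)
    (hA : ∀ r : F, (A : M2F) ≠ Matrix.scalar (Fin 2) r)
    (hg : g ∈ Subgroup.centralizer ({A} : Set SL2F)) : g * A * g⁻¹ ≠ A⁻¹ := by
  intro h
  rw [(sl2_mem_centralizer_iff_conj A g).mp hg] at h
  have h1 : A ^ 2 = 1 := by
    rw [pow_two]
    nth_rewrite 1 [h]
    exact inv_mul_cancel A
  have h3 := sl2_mem_center_of_sq_eq_one h2 A h1
  rw [sl2_mem_center_iff] at h3
  obtain ⟨r, -, hr⟩ := h3
  exact hA r hr

theorem sl2_mem_normalizer_centralizer_iff (h2 : (2 : F) ≠ 0) (A g : SL2F)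
    (ht : (Matrix.trace (A : M2F)) ^ 2 ≠ 4) :
    g ∈ Subgroup.normalizer
      ((Subgroup.centralizer ({A} : Set SL2F) : Subgroup SL2F) : Set SL2F) ↔
    g ∈ Subgroup.centralizer ({A} : Set SL2F) ∨ g * A * g⁻¹ = A⁻¹ := by
  have hA := not_scalar_of_trace_sq_ne_four (A : M2F) A.det_coe ht
  constructor
  · intro hg
    rcases sl2_conj_eq_or_eq_inv_of_mem_normalizer h2 A g ht hg with h | h
    · left; exact (sl2_mem_centralizer_iff_conj A g).mpr h
    · right; exact h
  · rintro (h | h)
    · exact Subgroup.le_normalizer h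
    · exact sl2_mem_normalizer_of_conj_eq_inv A g hA h




/-- The torus has index two in its normalizer. -/
theorem sl2_index_centralizer_subgroupOf_normalizer (h2 : (2 : F) ≠ 0) (A w : SL2F)
    (ht : (Matrix.trace (A : M2F)) ^ 2 ≠ 4) (hw : w * A * w⁻¹ = A⁻¹) :
    ((Subgroup.centralizer ({A} : Set SL2F)).subgroupOf (Subgroup.normalizer
      ((Subgroup.centralizer ({A} : Set SL2F) : Subgroup SL2F) : Set SL2F))).index = 2 := by
  have hA := not_scalar_of_trace_sq_ne_four (A : M2F) A.det_coe ht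
  have hwN := (sl2_mem_normalizer_centralizer_iff h2 A w ht).mpr (Or.inr hw)
  rw [Subgroup.index_eq_two_iff]
  refine ⟨⟨w, hwN⟩, ?_⟩
  rintro ⟨b, hb⟩
  simp only [Subgroup.mem_subgroupOf, Subgroup.coe_mul]
  rcases (sl2_mem_normalizer_centralizer_iff h2 A b ht).mp hb with h | h
  · right
    refine ⟨h, ?_⟩
    intro hbw
    have : w ∈ Subgroup.centralizer ({A} : Set SL2F) := by
      have := Subgroup.mul_mem _ (Subgroup.inv_mem _ h) hbw
      rwa [inv_mul_cancel_left] at this
    exact sl2_not_conj_eq_inv_of_mem_centralizer h2 A w hA this hw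
  · left
    refine ⟨?_, ?_⟩
    · rw [sl2_mem_centralizer_iff_conj]
      have hw' : w * A⁻¹ * w⁻¹ = A := by
        have : w * A⁻¹ * w⁻¹ = (w * A * w⁻¹)⁻¹ := by group
        rw [this, hw, inv_inv]
      calc b * w * A * (b * w)⁻¹ = b * (w * A * w⁻¹) * b⁻¹ := by group
        _ = b * A⁻¹ * b⁻¹ := by rw [hw]
        _ = (b * A * b⁻¹)⁻¹ := by group
        _ = A := by rw [h, inv_inv]
    · intro hbT
      exact sl2_not_conj_eq_inv_of_mem_centralizer h2 A b hA hbT h

theorem sl2_card_normalizer_centralizer (h2 : (2 : F) ≠ 0) (A w : SL2F)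
    (ht : (Matrix.trace (A : M2F)) ^ 2 ≠ 4) (hw : w * A * w⁻¹ = A⁻¹) :
    Nat.card (Subgroup.normalizer
      ((Subgroup.centralizer ({A} : Set SL2F) : Subgroup SL2F) : Set SL2F)) =
    2 * Nat.card (Subgroup.centralizer ({A} : Set SL2F)) := by
  have hidx := sl2_index_centralizer_subgroupOf_normalizer h2 A w ht hw
  have h1 := Subgroup.index_mul_card ((Subgroup.centralizer ({A} : Set SL2F)).subgroupOf
    (Subgroup.normalizer ((Subgroup.centralizer ({A} : Set SL2F) : Subgroup SL2F) : Set SL2F)))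
  rw [hidx] at h1
  rw [← h1]
  congr 1
  exact Nat.card_congr (Subgroup.subgroupOfEquivOfLe Subgroup.le_normalizer).toEquiv




/-- `g ^ 2 = 1` in `SL₂` (char ≠ 2) iff `g = 1` or `g = -1`. -/
theorem sl2_sq_eq_one_iff (h2 : (2 : F) ≠ 0) (g : SL2F) :
    g ^ 2 = 1 ↔ g = 1 ∨ g = sl2NegOne := by
  constructor
  · intro h
    have hc := sl2_mem_center_of_sq_eq_one h2 g h
    rw [sl2_mem_center_iff] at hc
    obtain ⟨r, hr, hg⟩ := hc
    have : (r - 1) * (r + 1) = 0 := by linear_combination hr
    rcases mul_eq_zero.mp this with h | h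
    · left
      apply Subtype.ext
      have : r = 1 := by linear_combination h
      rw [hg, this]; simp
    · right
      apply Subtype.ext
      have : r = -1 := by linear_combination h
      rw [hg, this]; rfl
  · rintro (rfl | rfl)
    · simp
    · apply Subtype.ext
      rw [pow_two, Matrix.SpecialLinearGroup.coe_mul]
      simp [sl2NegOne]

theorem sl2NegOne_ne_one (h2 : (2 : F) ≠ 0) : (sl2NegOne : SL2F) ≠ 1 := by
  intro h
  have := congrArg (fun x : SL2F => (x : M2F) 0 0) h
  simp [sl2NegOne] at this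
  apply h2
  linear_combination -this

theorem sl2NegOne_mem_centralizer (A : SL2F) :
    (sl2NegOne : SL2F) ∈ Subgroup.centralizer ({A} : Set SL2F) := by
  rw [Subgroup.mem_centralizer_singleton_iff]
  exact ((Subgroup.mem_center_iff.mp sl2NegOne_mem_center) A).symm

/-- Class number of the normalizer of a torus. -/
theorem sl2_card_conjClasses_normalizer_centralizer [Finite F] (h2 : (2 : F) ≠ 0) (A w : SL2F)
    (ht : (Matrix.trace (A : M2F)) ^ 2 ≠ 4) (hw : w * A * w⁻¹ = A⁻¹) :
    2 * Nat.card (ConjClasses (Subgroup.normalizer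
      ((Subgroup.centralizer ({A} : Set SL2F) : Subgroup SL2F) : Set SL2F))) =
    Nat.card (Subgroup.centralizer ({A} : Set SL2F)) + 6 := by
  have hA := not_scalar_of_trace_sq_ne_four (A : M2F) A.det_coe ht
  have hidx := sl2_index_centralizer_subgroupOf_normalizer h2 A w ht hw
  set T := Subgroup.centralizer ({A} : Set SL2F) with hT
  set N := Subgroup.normalizer ((T : Subgroup SL2F) : Set SL2F) with hN
  have hfin : Finite SL2F := by
    have : Fintype F := Fintype.ofFinite F
    classical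
    infer_instance
  have key := two_mul_card_conjClasses_of_inverting (T.subgroupOf N) hidx
    (by
      rintro ⟨a, haN⟩ ha ⟨b, hbN⟩ hb
      rw [Subgroup.mem_subgroupOf] at ha hb
      apply Subtype.ext
      exact sl2_centralizer_comm A a b hA ha hb)
    (by
      rintro ⟨g, hgN⟩ hg ⟨t, htN⟩ ht'
      rw [Subgroup.mem_subgroupOf] at hg ht'
      apply Subtype.ext
      simp only [Subgroup.coe_mul, Subgroup.coe_inv]
      rcases (sl2_mem_normalizer_centralizer_iff h2 A g ht).mp hgN with h | h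
      · exact absurd h hg
      · exact sl2_conj_eq_inv_of_mem_centralizer A g t hA h ht')
  rw [key]
  have hc1 : Nat.card (T.subgroupOf N) = Nat.card T :=
    Nat.card_congr (Subgroup.subgroupOfEquivOfLe Subgroup.le_normalizer).toEquiv
  have hc2 : Nat.card {t : T.subgroupOf N // ((t : N) : N) ^ 2 = 1} = 2 := by
    rw [Nat.card_eq_two_iff]
    have hone : ((1 : T.subgroupOf N) : N) ^ 2 = 1 := by simp
    have hnegN : (sl2NegOne : SL2F) ∈ N := Subgroup.le_normalizer (sl2NegOne_mem_centralizer A)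
    have hnegT : (⟨sl2NegOne, hnegN⟩ : N) ∈ T.subgroupOf N := by
      rw [Subgroup.mem_subgroupOf]
      exact sl2NegOne_mem_centralizer A
    have hneg : (((⟨⟨sl2NegOne, hnegN⟩, hnegT⟩ : T.subgroupOf N) : N) : N) ^ 2 = 1 := by
      apply Subtype.ext
      simp only [Subgroup.coe_pow, Subgroup.coe_one]
      exact (sl2_sq_eq_one_iff h2 _).mpr (Or.inr rfl)
    refine ⟨⟨1, hone⟩, ⟨⟨⟨sl2NegOne, hnegN⟩, hnegT⟩, hneg⟩, ?_, ?_⟩
    · intro h
      have h3 := congrArg (fun x : {t : T.subgroupOf N // ((t : N) : N) ^ 2 = 1} =>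
        (((x : T.subgroupOf N) : N) : SL2F)) h
      simp only [Subgroup.coe_one] at h3
      exact sl2NegOne_ne_one h2 h3.symm
    · ext ⟨⟨⟨x, hxN⟩, hxT⟩, hx⟩
      simp only [Set.mem_insert_iff, Set.mem_singleton_iff, Set.mem_univ, iff_true]
      have hx' : x ^ 2 = 1 := by
        have := congrArg (fun y : N => (y : SL2F)) hx
        simpa using this
      rcases (sl2_sq_eq_one_iff h2 x).mp hx' with h | h
      · left
        apply Subtype.ext; apply Subtype.ext; apply Subtype.ext
        exact h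
      · right
        apply Subtype.ext; apply Subtype.ext; apply Subtype.ext
        exact h
  rw [hc1, hc2]


theorem sl2_trace_inv (A : SL2F) : Matrix.trace ((A⁻¹ : SL2F) : M2F) = Matrix.trace (A : M2F) := by
  rw [sl2_coe_inv_eq, Matrix.trace_sub, Matrix.trace_smul, Matrix.trace_fin_two (1 : M2F)]
  simp
  ring

/-- Over a finite field of odd order every regular semisimple element of `SL₂` is inverted by some
element of `SL₂`. -/
theorem sl2_exists_conj_eq_inv [Fintype F] (hodd : Fintype.card F % 2 = 1) (h2 : (2 : F) ≠ 0)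
    (A : SL2F) (ht : (Matrix.trace (A : M2F)) ^ 2 ≠ 4) : ∃ w : SL2F, w * A * w⁻¹ = A⁻¹ := by
  have hA := not_scalar_of_trace_sq_ne_four (A : M2F) A.det_coe ht
  have ht' : (Matrix.trace ((A⁻¹ : SL2F) : M2F)) ^ 2 ≠ 4 := by rw [sl2_trace_inv]; exact ht
  have hA' := not_scalar_of_trace_sq_ne_four ((A⁻¹ : SL2F) : M2F) (A⁻¹).det_coe ht'
  obtain ⟨S, hS, hSA⟩ := exists_sl2_conj_of_trace_eq (A : M2F) ((A⁻¹ : SL2F) : M2F) A.det_coe
    (A⁻¹).det_coe (sl2_trace_inv A) hA hA'
    (fun e _ => normForm_surjective_of_odd hodd h2 _ ht e)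
  obtain ⟨w, hw⟩ : ∃ w : SL2F, (w : M2F) = S := ⟨⟨S, hS⟩, rfl⟩
  refine ⟨w, ?_⟩
  rw [mul_inv_eq_iff_eq_mul]
  apply Subtype.ext
  rw [Matrix.SpecialLinearGroup.coe_mul, Matrix.SpecialLinearGroup.coe_mul, hw]
  exact hSA

end Cfsg.Agent.Helper41
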