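import Cfsg.Agent.Helper41.KleinNorm
import Cfsg.Agent.S2431
import Cfsg.Agent.S0809
import Cfsg.Agent.S0807
import Cfsg.Agent.Helper5.PSL2

set_option autoImplicit false

/-!
# Klein four-subgroups of `PSL₂(q)`, `q` odd

Every Klein four-subgroup of `PSL₂(q)` is the image of a quaternion group `⟨I, J⟩` of `SL₂(q)`;
it is self-centralizing, normalized by the image of the Hurwitz unit, and (when `2` is a square)
by the image of `(1 + I)/√2`.
-/

namespace Cfsg.Agent.Helper41

open Matrix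

section psl2klein

variable {F : Type*} [Field F]

local notation "SL2F" => Matrix.SpecialLinearGroup (Fin 2) F
local notation "M2F" => Matrix (Fin 2) (Fin 2) F
local notation "PSL2F" => Matrix.ProjectiveSpecialLinearGroup (Fin 2) F

/-- Two elements of `SL₂` with the same image in `PSL₂` differ by a sign. -/
theorem coe_eq_smul_of_mk_eq (A B : SL2F)
    (h : (QuotientGroup.mk A : PSL2F) = QuotientGroup.mk B) :
    ∃ r : F, (r = 1 ∨ r = -1) ∧ (B : M2F) = r • (A : M2F) := by
  have hc : A⁻¹ * B ∈ Subgroup.center SL2F := QuotientGroup.eq.mp h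
  rw [sl2_mem_center_iff] at hc
  obtain ⟨r, hr, hAB⟩ := hc
  refine ⟨r, ?_, ?_⟩
  · have : (r - 1) * (r + 1) = 0 := by linear_combination hr
    rcases mul_eq_zero.mp this with h1 | h1
    · left; exact sub_eq_zero.mp h1
    · right; exact eq_neg_of_add_eq_zero_left h1
  · have hB : B = A * (A⁻¹ * B) := by group
    have := congrArg (fun X : SL2F => (X : M2F)) hB
    simp only [Matrix.SpecialLinearGroup.coe_mul] at this
    rw [← Matrix.SpecialLinearGroup.coe_mul A⁻¹ B, hAB] at this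
    rw [this]
    ext i j
    fin_cases i <;> fin_cases j <;> simp [Matrix.mul_apply, Fin.sum_univ_two, Matrix.scalar_apply,
      mul_comm]

/-- The quaternion relations as hypotheses. -/
structure QuatPair (I J : SL2F) : Prop where
  II : (I : M2F) * (I : M2F) = -1
  JJ : (J : M2F) * (J : M2F) = -1
  JI : (J : M2F) * (I : M2F) = -((I : M2F) * (J : M2F))

namespace QuatPair

theorem trace_I {I J : SL2F} (hq : QuatPair I J) : (I : M2F).trace = 0 := Cfsg.Agent.S2431.trace_eq_zero_of_mul_self I hq.II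

theorem trace_J {I J : SL2F} (hq : QuatPair I J) : (J : M2F).trace = 0 := Cfsg.Agent.S2431.trace_eq_zero_of_mul_self J hq.JJ

theorem mk_I_ne_one {I J : SL2F} (hq : QuatPair I J) (h2 : (2 : F) ≠ 0) : (QuotientGroup.mk I : PSL2F) ≠ 1 := by
  intro h
  exact Cfsg.Agent.S0807.not_mem_center_of_trace_zero h2 I hq.trace_I
    ((QuotientGroup.eq_one_iff _).mp h)

theorem mk_J_ne_one {I J : SL2F} (hq : QuatPair I J) (h2 : (2 : F) ≠ 0) : (QuotientGroup.mk J : PSL2F) ≠ 1 := by
  intro h
  exact Cfsg.Agent.S0807.not_mem_center_of_trace_zero h2 J hq.trace_J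
    ((QuotientGroup.eq_one_iff _).mp h)

theorem mk_I_mul_self {I J : SL2F} (hq : QuatPair I J) : (QuotientGroup.mk I : PSL2F) * QuotientGroup.mk I = 1 := by
  rw [← QuotientGroup.mk_mul]
  exact (QuotientGroup.eq_one_iff _).mpr (Cfsg.Agent.S0807.mul_self_mem_center I hq.trace_I)

theorem mk_J_mul_self {I J : SL2F} (hq : QuatPair I J) : (QuotientGroup.mk J : PSL2F) * QuotientGroup.mk J = 1 := by
  rw [← QuotientGroup.mk_mul]
  exact (QuotientGroup.eq_one_iff _).mpr (Cfsg.Agent.S0807.mul_self_mem_center J hq.trace_J)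

theorem mk_comm {I J : SL2F} (hq : QuatPair I J) : (QuotientGroup.mk I : PSL2F) * QuotientGroup.mk J =
    QuotientGroup.mk J * QuotientGroup.mk I := by
  rw [← QuotientGroup.mk_mul, ← QuotientGroup.mk_mul]
  apply QuotientGroup.eq.mpr
  rw [sl2_mem_center_iff]
  refine ⟨-1, by ring, ?_⟩
  have h1 : ((I * J)⁻¹ * (J * I) : SL2F) = (I * J)⁻¹ * (J * I) := rfl
  have hcoe : (((I * J)⁻¹ * (J * I) : SL2F) : M2F) = -1 := by
    rw [Matrix.SpecialLinearGroup.coe_mul, Matrix.SpecialLinearGroup.coe_mul J I, hq.JI,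
      Matrix.mul_neg, ← Matrix.SpecialLinearGroup.coe_mul I J,
      ← Matrix.SpecialLinearGroup.coe_mul, inv_mul_cancel, Matrix.SpecialLinearGroup.coe_one]
  rw [hcoe]
  ext i j
  fin_cases i <;> fin_cases j <;> simp [Matrix.scalar_apply]

theorem mk_ne {I J : SL2F} (hq : QuatPair I J) (h2 : (2 : F) ≠ 0) : (QuotientGroup.mk I : PSL2F) ≠ QuotientGroup.mk J := by
  intro h
  obtain ⟨r, hr, hJ⟩ := coe_eq_smul_of_mk_eq I J h
  apply Cfsg.Agent.S2431.noncomm_of_anticomm h2 I J hq.JI
  apply Subtype.ext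
  rw [Matrix.SpecialLinearGroup.coe_mul, Matrix.SpecialLinearGroup.coe_mul, hJ, Matrix.mul_smul,
    Matrix.smul_mul]


/-- The centralizer of the image of `⟨I, J⟩` in `PSL₂` is that image. -/
theorem cent {I J : SL2F} (hq : QuatPair I J) (h2 : (2 : F) ≠ 0) (g : PSL2F)
    (hgI : g * QuotientGroup.mk I = QuotientGroup.mk I * g)
    (hgJ : g * QuotientGroup.mk J = QuotientGroup.mk J * g) :
    g = 1 ∨ g = QuotientGroup.mk I ∨ g = QuotientGroup.mk J ∨
      g = QuotientGroup.mk I * QuotientGroup.mk J := by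
  obtain ⟨X, rfl⟩ := QuotientGroup.mk_surjective g
  rw [← QuotientGroup.mk_mul, ← QuotientGroup.mk_mul] at hgI hgJ
  obtain ⟨r, hr, hI⟩ := coe_eq_smul_of_mk_eq _ _ hgI
  obtain ⟨t, ht, hJ⟩ := coe_eq_smul_of_mk_eq _ _ hgJ
  simp only [Matrix.SpecialLinearGroup.coe_mul] at hI hJ
  have hnc : I * J ≠ J * I := Cfsg.Agent.S2431.noncomm_of_anticomm h2 I J hq.JI
  -- a central element `Y` finishes
  have key : ∀ Y : SL2F, (Y : M2F) * (I : M2F) = (I : M2F) * (Y : M2F) →
      (Y : M2F) * (J : M2F) = (J : M2F) * (Y : M2F) → (QuotientGroup.mk Y : PSL2F) = 1 := by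
    intro Y h1 h3
    apply (QuotientGroup.eq_one_iff _).mpr
    apply Cfsg.Agent.S2431.mem_center_of_commute_noncomm I J Y hnc
    · apply Subtype.ext
      simpa only [Matrix.SpecialLinearGroup.coe_mul] using h1
    · apply Subtype.ext
      simpa only [Matrix.SpecialLinearGroup.coe_mul] using h3
  have hIinv : (QuotientGroup.mk I : PSL2F)⁻¹ = QuotientGroup.mk I :=
    inv_eq_of_mul_eq_one_right hq.mk_I_mul_self
  have hJinv : (QuotientGroup.mk J : PSL2F)⁻¹ = QuotientGroup.mk J :=
    inv_eq_of_mul_eq_one_right hq.mk_J_mul_self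
  have JI' : ∀ Z : M2F, (J : M2F) * ((I : M2F) * Z) = -((I : M2F) * ((J : M2F) * Z)) := by
    intro Z
    rw [← Matrix.mul_assoc, hq.JI, Matrix.neg_mul, Matrix.mul_assoc]
  have hXI : (r = 1 → (X : M2F) * (I : M2F) = (I : M2F) * (X : M2F)) ∧
      (r = -1 → (X : M2F) * (I : M2F) = -((I : M2F) * (X : M2F))) := by
    constructor
    · intro h1; rw [hI, h1, one_smul]
    · intro h1; rw [hI, h1]; simp
  have hXJ : (t = 1 → (X : M2F) * (J : M2F) = (J : M2F) * (X : M2F)) ∧
      (t = -1 → (X : M2F) * (J : M2F) = -((J : M2F) * (X : M2F))) := by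
    constructor
    · intro h1; rw [hJ, h1, one_smul]
    · intro h1; rw [hJ, h1]; simp
  rcases hr with hr | hr <;> rcases ht with ht | ht
  · left
    exact key X (hXI.1 hr) (hXJ.1 ht)
  · -- commutes with `I`, anticommutes with `J`
    right; left
    have eI := hXI.1 hr
    have eJ := hXJ.2 ht
    have := key (I * X) (by
        simp only [Matrix.SpecialLinearGroup.coe_mul, Matrix.mul_assoc, eI]) (by
        simp only [Matrix.SpecialLinearGroup.coe_mul, Matrix.mul_assoc, eJ, JI', Matrix.mul_neg])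
    rw [QuotientGroup.mk_mul] at this
    rw [← hIinv]
    exact (eq_inv_of_mul_eq_one_right this)
  · -- anticommutes with `I`, commutes with `J`
    right; right; left
    have eI := hXI.2 hr
    have eJ := hXJ.1 ht
    have := key (J * X) (by
        simp only [Matrix.SpecialLinearGroup.coe_mul, Matrix.mul_assoc, eI, JI', Matrix.mul_neg,
          neg_neg]) (by
        simp only [Matrix.SpecialLinearGroup.coe_mul, Matrix.mul_assoc, eJ])
    rw [QuotientGroup.mk_mul] at this
    rw [← hJinv]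
    exact (eq_inv_of_mul_eq_one_right this)
  · -- anticommutes with both
    right; right; right
    have eI := hXI.2 hr
    have eJ := hXJ.2 ht
    have := key (I * J * X) (by
        simp only [Matrix.SpecialLinearGroup.coe_mul, Matrix.mul_assoc, eI, JI', Matrix.mul_neg,
          neg_neg]) (by
        simp only [Matrix.SpecialLinearGroup.coe_mul, Matrix.mul_assoc, eJ, JI', Matrix.mul_neg])
    rw [QuotientGroup.mk_mul, QuotientGroup.mk_mul] at this
    have h3 := eq_inv_of_mul_eq_one_right this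
    rw [h3, _root_.mul_inv_rev, hIinv, hJinv, hq.mk_comm]

/-- The Klein data attached to a quaternion pair. -/
theorem exists_kleinData {I J : SL2F} (hq : QuatPair I J) (h2 : (2 : F) ≠ 0) :
    ∃ w : PSL2F, KleinData (QuotientGroup.mk I : PSL2F) (QuotientGroup.mk J) w := by
  obtain ⟨ω, hωI, hωJ, -⟩ := Cfsg.Agent.S2431.exists_hurwitz h2 I J hq.II hq.JJ hq.JI
  refine ⟨QuotientGroup.mk ω, ?_⟩
  refine ⟨hq.mk_I_ne_one h2, hq.mk_J_ne_one h2, hq.mk_I_mul_self, hq.mk_J_mul_self, hq.mk_ne h2,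
    hq.mk_comm, hq.cent h2, ?_, ?_⟩
  · rw [← QuotientGroup.mk_inv, ← QuotientGroup.mk_mul, ← QuotientGroup.mk_mul, hωI]
  · rw [← QuotientGroup.mk_inv, ← QuotientGroup.mk_mul, ← QuotientGroup.mk_mul, hωJ,
      QuotientGroup.mk_mul]


/-- When `2` is a square, the image of `(1 + I)/√2` fixes `Ī` and swaps `J̄` with `ĪJ̄`. -/
theorem exists_swap {I J : SL2F} (hq : QuatPair I J) (h2 : (2 : F) ≠ 0) (s : F) (hs : s * s = 2) :
    ∃ n : PSL2F, MulAut.conj n (QuotientGroup.mk I : PSL2F) = QuotientGroup.mk I ∧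
      MulAut.conj n (QuotientGroup.mk J : PSL2F) = QuotientGroup.mk I * QuotientGroup.mk J := by
  have hs0 : s ≠ 0 := by
    rintro rfl
    apply h2
    rw [← hs, mul_zero]
  have hdet1 : (1 + (I : M2F)).det = 2 := by
    have ht := hq.trace_I
    have hd := I.det_coe
    rw [Matrix.trace_fin_two] at ht
    rw [Matrix.det_fin_two] at hd ⊢
    simp only [Matrix.add_apply, Matrix.one_apply_eq, Matrix.one_apply_ne, ne_eq, zero_ne_one,
      not_false_eq_true, one_ne_zero, zero_add]
    linear_combination ht + hd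
  have hdet : (s⁻¹ • (1 + (I : M2F))).det = 1 := by
    rw [Matrix.det_smul, hdet1, Fintype.card_fin, ← hs]
    field_simp
  let N : SL2F := ⟨s⁻¹ • (1 + (I : M2F)), hdet⟩
  have hNcoe : (N : M2F) = s⁻¹ • (1 + (I : M2F)) := rfl
  have hNI : N * I = I * N := by
    apply Subtype.ext
    rw [Matrix.SpecialLinearGroup.coe_mul, Matrix.SpecialLinearGroup.coe_mul, hNcoe,
      Matrix.smul_mul, Matrix.mul_smul, Matrix.add_mul, Matrix.mul_add, Matrix.one_mul,
      Matrix.mul_one]
  have hIJI : (I : M2F) * (J : M2F) * (I : M2F) = (J : M2F) := by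
    rw [Matrix.mul_assoc, hq.JI, Matrix.mul_neg, ← Matrix.mul_assoc, hq.II]
    simp
  have hNJ : N * J = I * J * N := by
    apply Subtype.ext
    simp only [Matrix.SpecialLinearGroup.coe_mul]
    rw [hNcoe, Matrix.smul_mul, Matrix.mul_smul, Matrix.add_mul, Matrix.mul_add, Matrix.one_mul,
      Matrix.mul_one, hIJI, add_comm]
  refine ⟨QuotientGroup.mk N, ?_, ?_⟩
  · rw [MulAut.conj_apply, ← QuotientGroup.mk_inv, ← QuotientGroup.mk_mul, ← QuotientGroup.mk_mul,
      hNI, mul_assoc, mul_inv_cancel, mul_one]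
  · rw [MulAut.conj_apply, ← QuotientGroup.mk_inv, ← QuotientGroup.mk_mul, ← QuotientGroup.mk_mul,
      hNJ, mul_assoc, mul_inv_cancel, mul_one, QuotientGroup.mk_mul]

end QuatPair

/-- Over a finite field of odd order, `SL₂` contains a quaternion pair. -/
theorem exists_quatPair [Fintype F] (hodd : Fintype.card F % 2 = 1) :
    ∃ I J : SL2F, QuatPair I J := by
  obtain ⟨x, y, hxy⟩ := exists_quadratic_sol hodd (1 : F) 0 1 1 one_ne_zero one_ne_zero
  have hxy' : x ^ 2 + y ^ 2 = -1 := by linear_combination hxy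
  refine ⟨⟨!![0, -1; 1, 0], by simp [Matrix.det_fin_two]⟩,
    ⟨!![x, y; y, -x], by rw [Matrix.det_fin_two]; simp; linear_combination -hxy'⟩, ?_, ?_, ?_⟩
  · ext i j
    fin_cases i <;> fin_cases j <;> simp [Matrix.mul_apply, Fin.sum_univ_two]
  · ext i j
    fin_cases i <;> fin_cases j <;> simp [Matrix.mul_apply, Fin.sum_univ_two] <;>
      first
        | linear_combination hxy'
        | ring1
  · ext i j
    fin_cases i <;> fin_cases j <;> simp [Matrix.mul_apply, Fin.sum_univ_two]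

/-- Every pair of distinct commuting involutions of `PSL₂(q)`, `q` odd, lifts to a quaternion
pair. -/
theorem exists_quatPair_of_commInv [Fintype F] (hodd : Odd (Fintype.card F)) (a b : PSL2F)
    (ha1 : a ≠ 1) (hb1 : b ≠ 1) (haa : a * a = 1) (hbb : b * b = 1) (hne : a ≠ b)
    (hab : a * b = b * a) :
    ∃ I J : SL2F, QuatPair I J ∧ (QuotientGroup.mk I : PSL2F) = a ∧
      (QuotientGroup.mk J : PSL2F) = b := by
  have h2 : (2 : F) ≠ 0 := Cfsg.Agent.Helper5.two_ne_zero_of_odd_card hodd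
  obtain ⟨A, rfl⟩ := QuotientGroup.mk_surjective a
  obtain ⟨B, rfl⟩ := QuotientGroup.mk_surjective b
  have hlift : ∀ X : SL2F, (QuotientGroup.mk X : PSL2F) ≠ 1 →
      (QuotientGroup.mk X : PSL2F) * QuotientGroup.mk X = 1 →
      (X : M2F).trace = 0 ∧ X ∉ Subgroup.center SL2F := by
    intro X h1 h11
    have hnc : X ∉ Subgroup.center SL2F := by
      intro hc
      apply h1
      exact (QuotientGroup.eq_one_iff _).mpr hc
    refine ⟨?_, hnc⟩
    apply sl2_trace_eq_zero_of_sq_mem_center X _ hnc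
    apply (QuotientGroup.eq_one_iff _).mp
    rw [pow_two, QuotientGroup.mk_mul, h11]
  obtain ⟨hAt, hAnc⟩ := hlift A ha1 haa
  obtain ⟨hBt, hBnc⟩ := hlift B hb1 hbb
  have hAA := Cfsg.Agent.S0807.coe_mul_self_of_trace_zero A hAt
  have hBB := Cfsg.Agent.S0807.coe_mul_self_of_trace_zero B hBt
  refine ⟨A, B, ⟨hAA, hBB, ?_⟩, rfl, rfl⟩
  rw [← QuotientGroup.mk_mul, ← QuotientGroup.mk_mul] at hab
  obtain ⟨r, hr, hBA⟩ := coe_eq_smul_of_mk_eq _ _ hab
  simp only [Matrix.SpecialLinearGroup.coe_mul] at hBA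
  rcases hr with rfl | rfl
  · exfalso
    rw [one_smul] at hBA
    have hBmem : B ∈ Subgroup.centralizer ({A} : Set SL2F) := by
      rw [sl2_mem_centralizer_singleton_iff]
      exact hBA
    rcases Cfsg.Agent.S0809.eq_or_eq_inv_of_mem_centralizer_of_trace_zero h2 A B hAt hBt
      (Cfsg.Agent.S0807.not_scalar_of_not_mem_center A hAnc) hBmem with h' | h'
    · apply hne
      rw [h']
    · apply hne
      rw [h', QuotientGroup.mk_inv]
      exact (inv_eq_of_mul_eq_one_right haa).symm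
  · rw [hBA]; simp


/-- Every Klein four-subgroup of `PSL₂(q)`, `q` odd, carries Klein data, with a swapping element
when `2` is a square. -/
theorem exists_kleinData_of_isKleinFour [Fintype F] (hodd : Odd (Fintype.card F))
    (V : Subgroup PSL2F) (hV : IsKleinFour V) :
    ∃ (a b w : PSL2F) (h : KleinData a b w), h.V = V ∧
      (∀ s : F, s * s = 2 → ∃ n : PSL2F, MulAut.conj n a = a ∧ MulAut.conj n b = a * b) := by
  classical
  have h2 : (2 : F) ≠ 0 := Cfsg.Agent.Helper5.two_ne_zero_of_odd_card hodd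
  let _ : Fintype PSL2F := Fintype.ofFinite _
  obtain ⟨a, b, haV, hbV, ha1, hb1, hne⟩ := exists_pair_of_isKleinFour V hV
  have := hV
  obtain ⟨hmem, hcl⟩ := closure_pair_eq_of_isKleinFour V haV hbV ha1 hb1 hne
  rw [mem_commInvPairs] at hmem
  obtain ⟨-, -, haa, hbb, -, hab⟩ := hmem
  obtain ⟨I, J, hq, rfl, rfl⟩ := exists_quatPair_of_commInv hodd a b ha1 hb1 haa hbb hne hab
  obtain ⟨w, hw⟩ := hq.exists_kleinData h2
  refine ⟨_, _, w, hw, ?_, ?_⟩
  · rw [← hcl, closure_pair_eq_kleinOf haa hbb hab]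
    rfl
  · intro s hs
    exact hq.exists_swap h2 s hs

/-- `2 |PSL₂(q)| = q (q² - 1)` for `q` odd. -/
theorem two_mul_card_PSL2 [Fintype F] (hodd : Odd (Fintype.card F)) :
    2 * Nat.card PSL2F = Fintype.card F * (Fintype.card F ^ 2 - 1) := by
  have h2 : (2 : F) ≠ 0 := Cfsg.Agent.Helper5.two_ne_zero_of_odd_card hodd
  have := Cfsg.Agent.Helper5.card_PSL2_mul (F := F)
  rw [Cfsg.Agent.Helper5.card_center_SL2_of_two_ne_zero h2] at this
  omega

/-- The normalizer of a Klein four-subgroup of `PSL₂(q)` has order `24` when `q ≡ ±1 (mod 8)`. -/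
theorem card_normalizer_of_isKleinFour_of_one_or_seven [Fintype F]
    (h8 : Fintype.card F % 8 = 1 ∨ Fintype.card F % 8 = 7)
    (V : Subgroup PSL2F) (hV : IsKleinFour V) :
    Nat.card (Subgroup.normalizer (V : Set PSL2F)) = 24 := by
  have hodd : Odd (Fintype.card F) := by
    rw [Nat.odd_iff]; omega
  obtain ⟨a, b, w, h, rfl, hswap⟩ := exists_kleinData_of_isKleinFour hodd V hV
  have hsq : IsSquare (2 : F) := by
    rw [FiniteField.isSquare_two_iff]; omega
  obtain ⟨s, hs⟩ := hsq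
  obtain ⟨n, hna, hnb⟩ := hswap s hs.symm
  exact h.card_normalizer_of_swap n hna hnb

/-- The normalizer of a Klein four-subgroup of `PSL₂(q)` has order `12` when `q ≡ ±3 (mod 8)`. -/
theorem card_normalizer_of_isKleinFour_of_three_or_five [Fintype F]
    (h8 : Fintype.card F % 8 = 3 ∨ Fintype.card F % 8 = 5)
    (V : Subgroup PSL2F) (hV : IsKleinFour V) :
    Nat.card (Subgroup.normalizer (V : Set PSL2F)) = 12 := by
  have hodd : Odd (Fintype.card F) := by
    rw [Nat.odd_iff]; omega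
  obtain ⟨a, b, w, h, rfl, -⟩ := exists_kleinData_of_isKleinFour hodd V hV
  rcases h.card_normalizer with h12 | h24
  · exact h12
  · exfalso
    have hdvd := Subgroup.card_subgroup_dvd_card (Subgroup.normalizer (h.V : Set PSL2F))
    rw [h24] at hdvd
    have hcard := two_mul_card_PSL2 (F := F) hodd
    apply Cfsg.Agent.S2431.not_sixteen_dvd_of_mod_eight_three_or_five _ h8
    rw [← hcard]
    obtain ⟨k, hk⟩ := hdvd
    rw [hk]
    exact ⟨3 * k, by ring⟩

end psl2klein

end Cfsg.Agent.Helper41
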