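import Cfsg.Agent.Helper41.KleinNorm

set_option autoImplicit false

namespace Cfsg.Agent.Helper41

section transfer

theorem isKleinFour_of_mulEquiv {A B : Type*} [Group A] [Group B] (hA : IsKleinFour A)
    (e : A ≃* B) : IsKleinFour B :=
  ⟨by rw [← Nat.card_congr e.toEquiv]; exact hA.card_four,
    by rw [← Monoid.exponent_eq_of_mulEquiv e]; exact hA.exponent_two⟩

theorem isKleinFour_map_conj {G : Type*} [Group G] (V : Subgroup G) (hV : IsKleinFour V) (g : G) :
    IsKleinFour (V.map (MulAut.conj g).toMonoidHom) :=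
  isKleinFour_of_mulEquiv hV
    (V.equivMapOfInjective (MulAut.conj g).toMonoidHom (MulAut.conj g).injective)

end transfer

section classes

variable {G : Type*} [Group G] [Finite G]

/-- If the normalizers of all subgroups with a conjugation-invariant property `P` have order `c`,
and there are `|G| / c` of them, they are all conjugate. -/
theorem conj_of_card_normalizer (P : Subgroup G → Prop)
    (hP : ∀ V g, P V → P (V.map (MulAut.conj g).toMonoidHom)) (c : ℕ) (hc : 0 < c)
    (hK : c * Nat.card {V : Subgroup G // P V} = Nat.card G)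
    (hN : ∀ V : Subgroup G, P V → Nat.card (Subgroup.normalizer (V : Set G)) = c)
    (V W : Subgroup G) (hV : P V) (hW : P W) :
    ∃ g : G, W = V.map (MulAut.conj g).toMonoidHom := by
  classical
  let _ : Fintype G := Fintype.ofFinite G
  let _ : Fintype (Subgroup G) := Fintype.ofFinite _
  have hcardK : Nat.card {V : Subgroup G // P V} =
      (Finset.univ.filter (fun V : Subgroup G => P V)).card := by
    rw [Nat.card_eq_fintype_card, Fintype.card_subtype]
  rw [hcardK] at hK
  have hcls := card_conjugates_mul_card_normalizer V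
  rw [hN V hV] at hcls
  have hsub : Finset.univ.image (fun g : G => V.map (MulAut.conj g).toMonoidHom) ⊆
      Finset.univ.filter (fun V : Subgroup G => P V) := by
    intro X hX
    obtain ⟨g, -, rfl⟩ := Finset.mem_image.mp hX
    rw [Finset.mem_filter]
    exact ⟨Finset.mem_univ _, hP V g hV⟩
  have hcard : (Finset.univ.filter (fun V : Subgroup G => P V)).card ≤
      (Finset.univ.image (fun g : G => V.map (MulAut.conj g).toMonoidHom)).card := by
    have : (Finset.univ.image (fun g : G => V.map (MulAut.conj g).toMonoidHom)).card * c =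
        c * (Finset.univ.filter (fun V : Subgroup G => P V)).card := by rw [hcls, hK]
    rw [mul_comm] at this
    exact le_of_eq (Nat.eq_of_mul_eq_mul_left hc this).symm
  have heq := Finset.eq_of_subset_of_card_le hsub hcard
  have hWmem : W ∈ Finset.univ.filter (fun V : Subgroup G => P V) := by
    rw [Finset.mem_filter]; exact ⟨Finset.mem_univ _, hW⟩
  rw [← heq] at hWmem
  obtain ⟨g, -, hg⟩ := Finset.mem_image.mp hWmem
  exact ⟨g, hg.symm⟩

/-- If the normalizers of all subgroups with a conjugation-invariant property `P` have order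
`2c`, and there are `|G| / c` of them, they form exactly two conjugacy classes. -/
theorem two_classes_of_card_normalizer (P : Subgroup G → Prop)
    (hP : ∀ V g, P V → P (V.map (MulAut.conj g).toMonoidHom)) (c : ℕ) (hc : 0 < c)
    (hK : c * Nat.card {V : Subgroup G // P V} = Nat.card G)
    (hN : ∀ V : Subgroup G, P V → Nat.card (Subgroup.normalizer (V : Set G)) = 2 * c)
    (hne : ∃ V : Subgroup G, P V) :
    ∃ V₁ V₂ : Subgroup G, P V₁ ∧ P V₂ ∧
      (¬ ∃ g : G, V₂ = V₁.map (MulAut.conj g).toMonoidHom) ∧
      ∀ W : Subgroup G, P W → (∃ g : G, W = V₁.map (MulAut.conj g).toMonoidHom) ∨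
        (∃ g : G, W = V₂.map (MulAut.conj g).toMonoidHom) := by
  classical
  let _ : Fintype G := Fintype.ofFinite G
  let _ : Fintype (Subgroup G) := Fintype.ofFinite _
  have hcardK : Nat.card {V : Subgroup G // P V} =
      (Finset.univ.filter (fun V : Subgroup G => P V)).card := by
    rw [Nat.card_eq_fintype_card, Fintype.card_subtype]
  rw [hcardK] at hK
  set K := Finset.univ.filter (fun V : Subgroup G => P V) with hKdef
  let cls : Subgroup G → Finset (Subgroup G) := fun V =>
    Finset.univ.image (fun g : G => V.map (MulAut.conj g).toMonoidHom)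
  have hsub : ∀ V, P V → cls V ⊆ K := by
    intro V hV X hX
    obtain ⟨g, -, rfl⟩ := Finset.mem_image.mp hX
    rw [hKdef, Finset.mem_filter]
    exact ⟨Finset.mem_univ _, hP V g hV⟩
  have hcard : ∀ V, P V → 2 * (cls V).card = K.card := by
    intro V hV
    have hcls := card_conjugates_mul_card_normalizer V
    rw [hN V hV, ← hK] at hcls
    have : c * (2 * (cls V).card) = c * K.card := by rw [← hcls]; ring
    exact Nat.eq_of_mul_eq_mul_left hc this
  have hself : ∀ V, V ∈ cls V := by
    intro V
    apply Finset.mem_image.mpr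
    exact ⟨1, Finset.mem_univ _, map_conj_one V⟩
  obtain ⟨V₁, hV₁⟩ := hne
  have hpos : 0 < (cls V₁).card := Finset.card_pos.mpr ⟨V₁, hself V₁⟩
  have hlt : (cls V₁).card < K.card := by
    have := hcard V₁ hV₁
    omega
  obtain ⟨V₂, hV₂K, hV₂⟩ := Finset.exists_mem_notMem_of_card_lt_card hlt
  have hV₂P : P V₂ := by
    rw [hKdef, Finset.mem_filter] at hV₂K
    exact hV₂K.2
  have hnot : ¬ ∃ g : G, V₂ = V₁.map (MulAut.conj g).toMonoidHom := by
    rintro ⟨g, hg⟩
    apply hV₂
    apply Finset.mem_image.mpr
    exact ⟨g, Finset.mem_univ _, hg.symm⟩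
  have hdisj : Disjoint (cls V₁) (cls V₂) := by
    rw [Finset.disjoint_left]
    intro X hX1 hX2
    obtain ⟨g, -, hg⟩ := Finset.mem_image.mp hX1
    obtain ⟨k, -, hk⟩ := Finset.mem_image.mp hX2
    apply hnot
    refine ⟨k⁻¹ * g, ?_⟩
    rw [map_conj_mul, hg, ← hk, map_conj_inv_map_conj]
  have hunion : cls V₁ ∪ cls V₂ = K := by
    apply Finset.eq_of_subset_of_card_le (Finset.union_subset (hsub V₁ hV₁) (hsub V₂ hV₂P))
    rw [Finset.card_union_of_disjoint hdisj]
    have h1 := hcard V₁ hV₁
    have h2 := hcard V₂ hV₂P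
    omega
  refine ⟨V₁, V₂, hV₁, hV₂P, hnot, ?_⟩
  intro W hW
  have hWK : W ∈ K := by
    rw [hKdef, Finset.mem_filter]; exact ⟨Finset.mem_univ _, hW⟩
  rw [← hunion, Finset.mem_union] at hWK
  rcases hWK with h1 | h1
  · left
    obtain ⟨g, -, hg⟩ := Finset.mem_image.mp h1
    exact ⟨g, hg.symm⟩
  · right
    obtain ⟨g, -, hg⟩ := Finset.mem_image.mp h1
    exact ⟨g, hg.symm⟩

end classes

end Cfsg.Agent.Helper41
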