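import Cfsg.Agent.Helper39.SL2Classes
import Cfsg.Agent.S0809

set_option autoImplicit false

/-!
# Sums of class functions over `SL₂(q)`, `q` odd, by conjugacy classes
-/

namespace Cfsg.Agent.Helper41

open Matrix Cfsg Cfsg.Agent.Helper39 Cfsg.Agent.Helper42

/-- Sum of a class function over a finite group, by class representatives. -/
theorem sum_eq_sum_classRep {G : Type*} [Group G] [Fintype G] {ι : Type*} [Fintype ι]
    (rep : ι → G) (hsurj : ∀ g, ∃ x, IsConj (rep x) g)
    (hinj : ∀ x y, IsConj (rep x) (rep y) → x = y)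
    (f : G → ℂ) (hf : ∀ g h : G, f (h * g * h⁻¹) = f g) :
    ∑ g, f g = ∑ x, (Nat.card G : ℂ) /
      (Nat.card (Subgroup.centralizer ({rep x} : Set G)) : ℂ) * f (rep x) := by
  classical
  have h1 : ∀ g, f g = ∑ x, if IsConj g (rep x) then f (rep x) else 0 := by
    intro g
    obtain ⟨x₀, hx₀⟩ := hsurj g
    rw [Finset.sum_eq_single x₀]
    · rw [if_pos hx₀.symm]
      obtain ⟨c, hc⟩ := isConj_iff.mp hx₀
      rw [← hc, hf]
    · intro y _ hy
      rw [if_neg]
      intro hgy
      exact hy (hinj y x₀ (hgy.symm.trans hx₀.symm))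
    · intro h
      exact absurd (Finset.mem_univ _) h
  calc ∑ g, f g = ∑ g, ∑ x, if IsConj g (rep x) then f (rep x) else 0 :=
        Finset.sum_congr rfl (fun g _ => h1 g)
    _ = ∑ x, ∑ g, if IsConj g (rep x) then f (rep x) else 0 := Finset.sum_comm
    _ = _ := by
      apply Finset.sum_congr rfl
      intro x _
      rw [← Finset.sum_filter, Finset.sum_const, nsmul_eq_mul]
      congr 1
      have hcard := Cfsg.Agent.Helper74.card_isConj_mul_card_centralizer (rep x)
      have hC : (Nat.card (Subgroup.centralizer ({rep x} : Set G)) : ℂ) ≠ 0 := by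
        exact_mod_cast Nat.card_pos.ne'
      rw [eq_div_iff hC]
      have : (Finset.univ.filter (fun g : G => IsConj g (rep x))).card =
          Nat.card {g : G // IsConj g (rep x)} := by
        rw [Nat.card_eq_fintype_card, Fintype.card_subtype]
      rw [this]
      exact_mod_cast hcard

section SL2

variable {F : Type*} [Field F] [Fintype F] [DecidableEq F]

local notation "SL2F" => Matrix.SpecialLinearGroup (Fin 2) F

omit [Fintype F] [DecidableEq F] in
theorem card_centralizer_of_central [Finite F] (z : SL2F) (hz : ∀ x : SL2F, z * x = x * z) :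
    Nat.card (Subgroup.centralizer ({z} : Set SL2F)) = Nat.card SL2F := by
  have : Subgroup.centralizer ({z} : Set SL2F) = ⊤ := by
    ext x
    simp only [Subgroup.mem_top, iff_true]
    rw [Subgroup.mem_centralizer_singleton_iff]
    exact (hz x).symm
  rw [this, Subgroup.card_top]

theorem card_centralizer_of_trace_sq_eq_four (hodd : Odd (Fintype.card F)) (g : SL2F)
    (hns : IsNonScalarSL g) (ht : (g : Matrix (Fin 2) (Fin 2) F).trace ^ 2 = 4) :
    Nat.card (Subgroup.centralizer ({g} : Set SL2F)) = 2 * Fintype.card F := by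
  have h2 : (2 : F) ≠ 0 := Ring.two_ne_zero (ringChar_ne_two_of_odd hodd)
  have hns' : IsNonScalarMat (g : Matrix (Fin 2) (Fin 2) F) := hns
  rw [card_centralizer _ hns', ← card_normOne_of_sq_eq_four h2 _ ht]
  have : normOneSet ((g : Matrix (Fin 2) (Fin 2) F).trace) =
      ↑(Finset.univ.filter (fun p : F × F => qform ((g : Matrix (Fin 2) (Fin 2) F).trace) p = 1)) := by
    ext p
    simp only [Finset.coe_filter, Finset.mem_univ, true_and, Set.mem_ofPred_eq]
    rfl
  rw [this, Nat.card_coe_set_eq, Set.ncard_coe_finset]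

theorem card_centralizer_cSL_add (hodd : Odd (Fintype.card F)) (t : F) (ht : t ^ 2 ≠ 4) :
    Nat.card (Subgroup.centralizer ({cSL t} : Set SL2F)) + rootCount t = Fintype.card F + 1 := by
  have h2 : (2 : F) ≠ 0 := Ring.two_ne_zero (ringChar_ne_two_of_odd hodd)
  have := Cfsg.Agent.S0809.card_centralizer_add_rootCount h2 (Nat.odd_iff.mp hodd) (cSL t)
    (by rw [trace_cSL]; exact ht)
  rwa [trace_cSL] at this

theorem rootCount_eq_two_of_ne_zero (t : F) (ht : t ^ 2 ≠ 4) (h0 : rootCount t ≠ 0) :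
    rootCount t = 2 := by
  have h1 := rootCount_ne_one t ht
  have h2 := rootCount_le_two t
  omega

theorem sq_ne_four_of_rootCount_eq_zero (t : F) (h0 : rootCount t = 0) : t ^ 2 ≠ 4 := by
  intro ht
  unfold rootCount at h0
  rw [Finset.card_eq_zero, Finset.filter_eq_empty_iff] at h0
  have hfac : (t - 2) * (t + 2) = 0 := by linear_combination ht
  rcases mul_eq_zero.mp hfac with h | h
  · apply h0 (Finset.mem_univ (-1 : F))
    have : t = 2 := sub_eq_zero.mp h
    rw [this]; ring
  · apply h0 (Finset.mem_univ (1 : F))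
    have : t = -2 := eq_neg_of_add_eq_zero_left h
    rw [this]; ring


omit [Fintype F] [DecidableEq F] in
theorem twistFun_inv (d : Fˣ) (s : SL2F) : twistFun d s⁻¹ = (twistFun d s)⁻¹ :=
  map_inv (twistHom d) s

/-- For non-scalar elements of the same trace, the sum of the values of a class function over the
class and its twist does not depend on the element. -/
theorem apply_add_apply_twistFun (hodd : Odd (Fintype.card F)) {ν : Fˣ} (hν : ¬ IsSquare (ν : F))
    (f : SL2F → ℂ) (hf : IsClassFunction SL2F f) (g h : SL2F) (hg : IsNonScalarSL g)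
    (hh : IsNonScalarSL h)
    (htr : (g : Matrix (Fin 2) (Fin 2) F).trace = (h : Matrix (Fin 2) (Fin 2) F).trace) :
    f g + f (twistFun ν g) = f h + f (twistFun ν h) := by
  obtain ⟨d, n, hn⟩ := exists_twist_conj g h hg hh htr
  have h1 : f g = twC d f h := by
    rw [hn, hf, twC_apply]
  have h2 : f (twistFun ν g) = twC (d * ν) f h := by
    rw [hn, twistFun_mul, twistFun_mul, twistFun_inv, hf, twistFun_twistFun, twC_apply, mul_comm]
  rw [h1, h2]
  by_cases hd : IsSquare (d : F)
  · rw [twC_of_isSquare hd hf]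
    have hdν : ¬ IsSquare ((d * ν : Fˣ) : F) := by
      intro hsq
      apply hν
      obtain ⟨c, hc⟩ := exists_unit_sq_of_isSquare hd
      obtain ⟨e, he⟩ := exists_unit_sq_of_isSquare hsq
      refine ⟨((e * c⁻¹ : Fˣ) : F), ?_⟩
      have : ν = (e * c⁻¹) * (e * c⁻¹) := by
        have h3 : d * ν = e * e := he
        rw [hc] at h3
        calc ν = (c * c)⁻¹ * (c * c * ν) := by group
          _ = (c * c)⁻¹ * (e * e) := by rw [h3]
          _ = (e * c⁻¹) * (e * c⁻¹) := by
            rw [mul_inv]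
            ac_rfl
      rw [this, Units.val_mul]
    rw [twC_eq_of_not_isSquare hodd hν hdν hf, twC_apply]
  · rw [twC_eq_of_not_isSquare hodd hν hd hf,
      twC_of_isSquare (isSquare_mul_of_not_isSquare hd hν) hf, twC_apply, add_comm]

/-- The class sum formula for `SL₂(q)`, `q` odd. -/
theorem sl2_class_sum (hodd : Odd (Fintype.card F)) {ν : Fˣ} (hν : ¬ IsSquare (ν : F))
    (f : SL2F → ℂ) (hf : IsClassFunction SL2F f) :
    ∑ g, f g = f 1 + f zSL +
      (((Fintype.card F : ℂ) ^ 2 - 1) / 2) *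
        (f (cSL 2) + f (cSL (-2)) + f (twistFun ν (cSL 2)) + f (twistFun ν (cSL (-2)))) +
      ∑ t ∈ Finset.univ.filter (fun t : F => t ^ 2 ≠ 4),
        (Nat.card SL2F : ℂ) / (Nat.card (Subgroup.centralizer ({cSL t} : Set SL2F)) : ℂ) *
          f (cSL t) := by
  have h2 : (2 : F) ≠ 0 := Ring.two_ne_zero (ringChar_ne_two_of_odd hodd)
  have h22 : (2 : F) ≠ -2 := by
    intro h
    apply h2
    have : (2 : F) * 2 = 0 := by linear_combination h
    rcases mul_eq_zero.mp this with h | h <;> exact h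
  have hq0 : (Fintype.card F : ℂ) ≠ 0 := by
    have : 0 < Fintype.card F := Fintype.card_pos
    exact_mod_cast this.ne'
  have hG : (Nat.card SL2F : ℂ) = (Fintype.card F : ℂ) * ((Fintype.card F : ℂ) ^ 2 - 1) := by
    rw [Cfsg.Agent.Helper5.card_SL2]
    have : 1 ≤ Fintype.card F ^ 2 := Nat.one_le_pow _ _ Fintype.card_pos
    push_cast [Nat.cast_sub this]
    ring
  have hG0 : (Nat.card SL2F : ℂ) ≠ 0 := by exact_mod_cast Nat.card_pos.ne'
  rw [sum_eq_sum_classRep (classRep ν) (classRep_surj hodd hν) (classRep_inj h2 hν) f hf,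
    Fintype.sum_sum_type, Fintype.sum_sum_type, Fintype.sum_bool, Fintype.sum_bool]
  simp only [classRep, if_true, Bool.false_eq_true, if_false]
  -- central classes
  rw [card_centralizer_of_central (1 : SL2F) (fun x => by simp),
    card_centralizer_of_central (zSL : SL2F) zSL_comm, div_self hG0, one_mul, one_mul]
  -- the twisted unipotent classes
  have hc1 : Nat.card (Subgroup.centralizer ({twistFun ν (cSL (2 : F))} : Set SL2F)) =
      2 * Fintype.card F :=
    card_centralizer_of_trace_sq_eq_four hodd _ (isNonScalarSL_twist ν 2)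
      (by rw [trace_twistFun, trace_cSL]; norm_num)
  have hc2 : Nat.card (Subgroup.centralizer ({twistFun ν (cSL (-2 : F))} : Set SL2F)) =
      2 * Fintype.card F :=
    card_centralizer_of_trace_sq_eq_four hodd _ (isNonScalarSL_twist ν (-2))
      (by rw [trace_twistFun, trace_cSL]; norm_num)
  have hc3 : Nat.card (Subgroup.centralizer ({cSL (2 : F)} : Set SL2F)) = 2 * Fintype.card F :=
    card_centralizer_of_trace_sq_eq_four hodd _ (isNonScalarSL_cSL 2)
      (by rw [trace_cSL]; norm_num)
  have hc4 : Nat.card (Subgroup.centralizer ({cSL (-2 : F)} : Set SL2F)) = 2 * Fintype.card F :=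
    card_centralizer_of_trace_sq_eq_four hodd _ (isNonScalarSL_cSL (-2))
      (by rw [trace_cSL]; norm_num)
  rw [hc1, hc2]
  -- split the sum over the traces
  rw [← Finset.sum_filter_add_sum_filter_not Finset.univ (fun t : F => t ^ 2 ≠ 4)]
  have hfilter : Finset.univ.filter (fun t : F => ¬ t ^ 2 ≠ 4) = {2, -2} := by
    ext t
    simp only [Finset.mem_filter, Finset.mem_univ, true_and, not_not, Finset.mem_insert,
      Finset.mem_singleton]
    constructor
    · intro ht
      have hfac : (t - 2) * (t + 2) = 0 := by linear_combination ht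
      rcases mul_eq_zero.mp hfac with h | h
      · left; exact sub_eq_zero.mp h
      · right; exact eq_neg_of_add_eq_zero_left h
    · rintro (rfl | rfl) <;> ring
  rw [hfilter, Finset.sum_pair h22, hc3, hc4]
  have hw : (Nat.card SL2F : ℂ) / ((2 * Fintype.card F : ℕ) : ℂ) =
      ((Fintype.card F : ℂ) ^ 2 - 1) / 2 := by
    rw [hG]
    push_cast
    field_simp
  rw [hw]
  ring

omit [Fintype F] [DecidableEq F] in
theorem isNonScalarSL_uSL {x : F} (hx : x ≠ 0) : IsNonScalarSL (uSL x) := by
  intro h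
  have := h.1
  rw [uSL_01] at this
  exact hx this

omit [Fintype F] [DecidableEq F] in
theorem zSL_mul_apply (s : SL2F) (i j : Fin 2) :
    ((zSL * s : SL2F) : Matrix (Fin 2) (Fin 2) F) i j = -(s : Matrix (Fin 2) (Fin 2) F) i j := by
  fin_cases i <;> fin_cases j
  · show ((zSL * s : SL2F) : Matrix (Fin 2) (Fin 2) F) 0 0 = -(s : Matrix (Fin 2) (Fin 2) F) 0 0
    rw [sl2_mul_00, zSL_00, zSL_01]; ring
  · show ((zSL * s : SL2F) : Matrix (Fin 2) (Fin 2) F) 0 1 = -(s : Matrix (Fin 2) (Fin 2) F) 0 1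
    rw [sl2_mul_01, zSL_00, zSL_01]; ring
  · show ((zSL * s : SL2F) : Matrix (Fin 2) (Fin 2) F) 1 0 = -(s : Matrix (Fin 2) (Fin 2) F) 1 0
    rw [sl2_mul_10, zSL_10, zSL_11]; ring
  · show ((zSL * s : SL2F) : Matrix (Fin 2) (Fin 2) F) 1 1 = -(s : Matrix (Fin 2) (Fin 2) F) 1 1
    rw [sl2_mul_11, zSL_10, zSL_11]; ring

omit [Fintype F] [DecidableEq F] in
theorem isNonScalarSL_zSL_mul_uSL {x : F} (hx : x ≠ 0) : IsNonScalarSL (zSL * uSL x) := by
  intro h
  have := h.1
  rw [zSL_mul_apply, uSL_01, neg_eq_zero] at this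
  exact hx this

omit [Fintype F] [DecidableEq F] in
theorem trace_uSL (x : F) : (uSL x : Matrix (Fin 2) (Fin 2) F).trace = 2 := by
  rw [Matrix.trace_fin_two, uSL_00, uSL_11]; norm_num

omit [Fintype F] [DecidableEq F] in
theorem trace_zSL_mul_uSL (x : F) : ((zSL * uSL x : SL2F) : Matrix (Fin 2) (Fin 2) F).trace = -2 := by
  rw [Matrix.trace_fin_two, zSL_mul_apply, zSL_mul_apply, uSL_00, uSL_11]; norm_num

omit [Fintype F] [DecidableEq F] in
theorem twistFun_zSL_mul_uSL (ν : Fˣ) (x : F) :
    twistFun ν (zSL * uSL x) = zSL * uSL ((ν : F) * x) := by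
  rw [twistFun_mul, twistFun_zSL, twistFun_uSL]

/-- The class sum formula for `SL₂(q)`, `q` odd, with upper triangular unipotent representatives. -/
theorem sl2_class_sum' (hodd : Odd (Fintype.card F)) {ν : Fˣ} (hν : ¬ IsSquare (ν : F))
    (f : SL2F → ℂ) (hf : IsClassFunction SL2F f) :
    ∑ g, f g = f 1 + f zSL +
      (((Fintype.card F : ℂ) ^ 2 - 1) / 2) *
        (f (uSL 1) + f (uSL (ν : F)) + f (zSL * uSL 1) + f (zSL * uSL (ν : F))) +
      ∑ t ∈ Finset.univ.filter (fun t : F => t ^ 2 ≠ 4),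
        (Nat.card SL2F : ℂ) / (Nat.card (Subgroup.centralizer ({cSL t} : Set SL2F)) : ℂ) *
          f (cSL t) := by
  rw [sl2_class_sum hodd hν f hf]
  have h1 := apply_add_apply_twistFun hodd hν f hf (cSL 2) (uSL 1) (isNonScalarSL_cSL 2)
    (isNonScalarSL_uSL one_ne_zero) (by rw [trace_cSL, trace_uSL])
  have h2 := apply_add_apply_twistFun hodd hν f hf (cSL (-2)) (zSL * uSL 1)
    (isNonScalarSL_cSL (-2)) (isNonScalarSL_zSL_mul_uSL one_ne_zero)
    (by rw [trace_cSL, trace_zSL_mul_uSL])
  rw [twistFun_uSL, mul_one] at h1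
  rw [twistFun_zSL_mul_uSL, mul_one] at h2
  linear_combination (((Fintype.card F : ℂ) ^ 2 - 1) / 2) * (h1 + h2)

/-- The class sum formula for a class function vanishing on the split regular classes. -/
theorem sl2_class_sum_of_vanish (hodd : Odd (Fintype.card F)) {ν : Fˣ} (hν : ¬ IsSquare (ν : F))
    (f : SL2F → ℂ) (hf : IsClassFunction SL2F f)
    (hsplit : ∀ t : F, t ^ 2 ≠ 4 → rootCount t ≠ 0 → f (cSL t) = 0) :
    ∑ g, f g = f 1 + f zSL +
      (((Fintype.card F : ℂ) ^ 2 - 1) / 2) *
        (f (uSL 1) + f (uSL (ν : F)) + f (zSL * uSL 1) + f (zSL * uSL (ν : F))) +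
      (Fintype.card F : ℂ) * ((Fintype.card F : ℂ) - 1) *
        ∑ t ∈ Finset.univ.filter (fun t : F => rootCount t = 0), f (cSL t) := by
  rw [sl2_class_sum' hodd hν f hf]
  congr 1
  have hG : (Nat.card SL2F : ℂ) = (Fintype.card F : ℂ) * ((Fintype.card F : ℂ) ^ 2 - 1) := by
    rw [Cfsg.Agent.Helper5.card_SL2]
    have : 1 ≤ Fintype.card F ^ 2 := Nat.one_le_pow _ _ Fintype.card_pos
    push_cast [Nat.cast_sub this]
    ring
  rw [Finset.mul_sum]
  have hsub : Finset.univ.filter (fun t : F => rootCount t = 0) ⊆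
      Finset.univ.filter (fun t : F => t ^ 2 ≠ 4) := by
    intro t ht
    rw [Finset.mem_filter] at ht ⊢
    exact ⟨ht.1, sq_ne_four_of_rootCount_eq_zero t ht.2⟩
  rw [← Finset.sum_subset hsub]
  · apply Finset.sum_congr rfl
    intro t ht
    rw [Finset.mem_filter] at ht
    have hc := card_centralizer_cSL_add hodd t (sq_ne_four_of_rootCount_eq_zero t ht.2)
    rw [ht.2, add_zero] at hc
    rw [hc, hG]
    have hq1 : ((Fintype.card F : ℂ) + 1) ≠ 0 := by
      have : (Fintype.card F : ℂ) + 1 = ((Fintype.card F + 1 : ℕ) : ℂ) := by push_cast; ring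
      rw [this]
      exact_mod_cast Nat.succ_ne_zero (Fintype.card F)
    push_cast
    field_simp
    ring
  · intro t ht hnt
    rw [Finset.mem_filter] at ht
    rw [Finset.mem_filter, not_and] at hnt
    rw [hsplit t ht.2 (hnt (Finset.mem_univ _)), mul_zero]


end SL2

end Cfsg.Agent.Helper41
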