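import Cfsg.Agent.Helper41.KleinNorm
import Cfsg.Agent.S0228
import Cfsg.Agent.S1012

set_option autoImplicit false

/-!
# Recognition of the normalizer of a self-centralizing four-group as `A₄` or `S₄`
-/

namespace Cfsg.Agent.Helper41

theorem exists_subgroup_of_injective {A G : Type*} [Group A] [Group G] (ψ : A →* G)
    (hψ : Function.Injective ψ) : ∃ H : Subgroup G, Nonempty (H ≃* A) :=
  ⟨ψ.range, ⟨(MonoidHom.ofInjective hψ).symm⟩⟩

namespace KleinData

variable {G : Type*} [Group G] [Finite G] {a b w : G} (h : KleinData a b w)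

theorem normalizer_equiv_alternating
    (hc : Nat.card (Subgroup.normalizer (h.V : Set G)) = 12) :
    Nonempty (Subgroup.normalizer (h.V : Set G) ≃* alternatingGroup (Fin 4)) :=
  Cfsg.Agent.S0228.result hc (fun z hz => h.not_mem_center z hz)

theorem normalizer_equiv_perm
    (hc : Nat.card (Subgroup.normalizer (h.V : Set G)) = 24) :
    Nonempty (Subgroup.normalizer (h.V : Set G) ≃* Equiv.Perm (Fin 4)) := by
  apply Cfsg.Agent.S1012.result hc
  intro g
  rw [← Subgroup.orderOf_coe]
  exact h.orderOf_ne_six g.1 g.2

include h in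
/-- A group with a `KleinData` has a subgroup isomorphic to `A₄`. -/
theorem exists_alternating : ∃ H : Subgroup G, Nonempty (H ≃* alternatingGroup (Fin 4)) := by
  rcases h.card_normalizer with hc | hc
  · exact ⟨_, h.normalizer_equiv_alternating hc⟩
  · obtain ⟨e⟩ := h.normalizer_equiv_perm hc
    let ψ : alternatingGroup (Fin 4) →* G :=
      (Subgroup.normalizer (h.V : Set G)).subtype.comp
        (e.symm.toMonoidHom.comp (alternatingGroup (Fin 4)).subtype)
    apply exists_subgroup_of_injective ψ
    intro x y hxy
    have h1 : e.symm (x : Equiv.Perm (Fin 4)) = e.symm (y : Equiv.Perm (Fin 4)) :=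
      Subtype.ext hxy
    exact Subtype.ext (e.symm.injective h1)

end KleinData

end Cfsg.Agent.Helper41
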