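import Cfsg.Agent.Helper41.DicksonCases
import Cfsg.Agent.Helper41.KleinNormIso

set_option autoImplicit false

/-!
# Maximal subgroups of `PSL₂(q)` from Dickson's list: generic tools
-/

namespace Cfsg.Agent.Helper41

open Matrix

/-- A proper subgroup all of whose proper overgroups have the same order is maximal. -/
theorem isCoatom_of_card_overgroup {G : Type*} [Group G] [Finite G] (H : Subgroup G) (hH : H ≠ ⊤)
    (h : ∀ M : Subgroup G, H ≤ M → M ≠ ⊤ → Nat.card M ≤ Nat.card H) : IsCoatom H := by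
  refine ⟨hH, ?_⟩
  intro M hlt
  by_contra hM
  have := Subgroup.eq_of_le_of_card_ge hlt.le (h M hlt.le hM)
  exact hlt.ne this

section

variable {F : Type*} [Field F] [Fintype F]

local notation "PSL2F" => Matrix.ProjectiveSpecialLinearGroup (Fin 2) F

/-- Odd characteristic: the possible orders of an overgroup (in Dickson's list) of a subgroup
with non-commuting elements of order three and a Klein four-subgroup. -/
theorem card_overgroup_of_witnesses (p : ℕ) [Fact p.Prime] [CharP F p] (h2 : (2 : F) ≠ 0)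
    (H₀ M : Subgroup PSL2F) (hle : H₀ ≤ M) (hD : DicksonList p M)
    (h3 : HasNoncommThree H₀) (hV : HasKleinPair H₀) :
    Nat.card M = 12 ∨ Nat.card M = 24 ∨ Nat.card M = 60 ∨
    ∃ k m : ℕ, IsPrimePow k ∧ 1 ≤ m ∧ k ^ m = Fintype.card F ∧
      (Nat.gcd 2 (k - 1) * Nat.card M = k * (k ^ 2 - 1) ∨
        (Nat.card M = k * (k ^ 2 - 1) ∧ (Odd (Fintype.card F) → Even m))) := by
  apply card_of_types
  exact DicksonList.of_witnesses p h2 M hD
    (h3.map (Subgroup.inclusion hle) (Subgroup.inclusion_injective hle))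
    (hV.map (Subgroup.inclusion hle) (Subgroup.inclusion_injective hle))

/-- Odd characteristic: the possible orders of an overgroup (in Dickson's list) of a subgroup
containing a copy of `A₄`. -/
theorem card_overgroup_of_A4 (p : ℕ) [Fact p.Prime] [CharP F p] (h2 : (2 : F) ≠ 0)
    (H₀ M : Subgroup PSL2F) (hle : H₀ ≤ M) (hD : DicksonList p M)
    (f : alternatingGroup (Fin 4) →* H₀) (hf : Function.Injective f) :
    Nat.card M = 12 ∨ Nat.card M = 24 ∨ Nat.card M = 60 ∨
    ∃ k m : ℕ, IsPrimePow k ∧ 1 ≤ m ∧ k ^ m = Fintype.card F ∧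
      (Nat.gcd 2 (k - 1) * Nat.card M = k * (k ^ 2 - 1) ∨
        (Nat.card M = k * (k ^ 2 - 1) ∧ (Odd (Fintype.card F) → Even m))) :=
  card_overgroup_of_witnesses p h2 H₀ M hle hD (hasNoncommThree_A4.map f hf)
    (hasKleinPair_A4.map f hf)

/-- If the subfield alternative holds with the full field, the subgroup has the order of the
whole group. -/
theorem card_eq_of_full_field (hodd : Odd (Fintype.card F)) (M : Subgroup PSL2F)
    (h : Nat.gcd 2 (Fintype.card F - 1) * Nat.card M =
        Fintype.card F * (Fintype.card F ^ 2 - 1) ∨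
      Nat.card M = Fintype.card F * (Fintype.card F ^ 2 - 1)) :
    Nat.card M = Nat.card PSL2F := by
  have hG := two_mul_card_PSL2 (F := F) hodd
  have hMG : Nat.card M ∣ Nat.card PSL2F := Subgroup.card_subgroup_dvd_card M
  have hGpos : 0 < Nat.card PSL2F := Nat.card_pos
  have hgcd : Nat.gcd 2 (Fintype.card F - 1) = 2 := by
    obtain ⟨t, ht⟩ := hodd
    have : Fintype.card F - 1 = 2 * t := by omega
    rw [this]
    simp
  rcases h with h | h
  · rw [hgcd] at h
    omega
  · exfalso
    have := Nat.le_of_dvd hGpos hMG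
    omega

/-- For odd `q` there is a subgroup of `PSL₂(q)` isomorphic to `S₄` when `q ≡ ±1 (mod 8)`. -/
theorem exists_perm_four_subgroup (h8 : Fintype.card F % 8 = 1 ∨ Fintype.card F % 8 = 7) :
    ∃ H : Subgroup PSL2F, Nonempty (H ≃* Equiv.Perm (Fin 4)) := by
  have hodd : Fintype.card F % 2 = 1 := by omega
  have hodd' : Odd (Fintype.card F) := Nat.odd_iff.mpr hodd
  have h2 : (2 : F) ≠ 0 := Cfsg.Agent.Helper5.two_ne_zero_of_odd_card hodd'
  obtain ⟨I, J, hq⟩ := exists_quatPair (F := F) hodd
  obtain ⟨w, hw⟩ := hq.exists_kleinData h2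
  exact ⟨_, hw.normalizer_equiv_perm
    (card_normalizer_of_isKleinFour_of_one_or_seven h8 hw.V hw.isKleinFour_V)⟩

/-- For odd `q` there is a subgroup of `PSL₂(q)` isomorphic to `A₄`. -/
theorem exists_alternating_four_subgroup (hodd : Odd (Fintype.card F)) :
    ∃ H : Subgroup PSL2F, Nonempty (H ≃* alternatingGroup (Fin 4)) := by
  have h2 : (2 : F) ≠ 0 := Cfsg.Agent.Helper5.two_ne_zero_of_odd_card hodd
  obtain ⟨I, J, hq⟩ := exists_quatPair (F := F) (Nat.odd_iff.mp hodd)
  obtain ⟨w, hw⟩ := hq.exists_kleinData h2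
  exact hw.exists_alternating

end

end Cfsg.Agent.Helper41
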