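-- (OR-6) of board #3930 for S5202 (helper41 -> helper86): an injective endo-"homomorphism on T" with image T
-- is an automorphism of T, and conjugation by it preserves Aut_F(R).
import Cfsg.Agent.Helper85.TransportNormal

set_option autoImplicit false

namespace Cfsg.Agent.Helper41.OR6

open Cfsg Cfsg.FusionSystem Cfsg.Agent.Helper85

variable {Ω : Type*} [Group Ω]

theorem exists_mulAut_of_isIm {T : Subgroup Ω} [Finite T] {g : Ω → Ω} (hg : HomOn g T) (him : IsIm g T T) :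
    ∃ γ : MulAut T, ∀ x : T, ((γ x : T) : Ω) = g x := by
  have hinj : Function.Injective (hg.toHom.codRestrict T (fun x => him.map_mem x.2)) := by
    intro a b hab
    apply hg.toHom_injective
    exact congrArg Subtype.val hab
  have hbij : Function.Bijective (hg.toHom.codRestrict T (fun x => him.map_mem x.2)) :=
    Finite.injective_iff_bijective.mp hinj
  exact ⟨MulEquiv.ofBijective _ hbij, fun x => rfl⟩

theorem conj_mem_autGroup_iff {S R : Subgroup Ω} {g : Ω → Ω} {F : FusionSystem S} (hgF : IsImgF g F F)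
    (hRS : R ≤ S) (γ : MulAut R) (hγ : ∀ x : R, ((γ x : R) : Ω) = g x) (a : MulAut R) :
    γ * a * γ⁻¹ ∈ F.autGroup R ↔ a ∈ F.autGroup R := by
  have himR : IsIm g R R := by
    intro y
    constructor
    · intro hy
      refine ⟨(γ.symm ⟨y, hy⟩ : R), (γ.symm ⟨y, hy⟩).2, ?_⟩
      rw [← hγ, MulEquiv.apply_symm_apply]
    · rintro ⟨x, hx, rfl⟩
      rw [← hγ ⟨x, hx⟩]
      exact (γ ⟨x, hx⟩).2
  have hkey : ∀ x : R, ∀ hx : g x ∈ R, (γ * a * γ⁻¹) ⟨g x, hx⟩ = γ (a x) := by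
    intro x hx
    have h2 : (⟨g x, hx⟩ : R) = γ x := Subtype.ext (hγ x).symm
    rw [h2]
    show γ (a (γ⁻¹ (γ x))) = γ (a x)
    rw [MulAut.inv_apply_self]
  rw [Cfsg.Agent.Helper87.mem_autGroup_iff F hRS, Cfsg.Agent.Helper87.mem_autGroup_iff F hRS]
  unfold Cfsg.Agent.Helper87.IsIso
  constructor
  · intro h
    obtain ⟨φ, hφ, hind⟩ := hgF.pull h hRS himR
    refine Cfsg.Agent.Helper87.mem_of_eq F hφ (fun x => ?_)
    have hx : g x ∈ R := himR.map_mem x.2
    have h1 := hind x hx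
    apply hgF.hom.inj _ (hRS (a x).2) _ ((F.le_of_mem hφ).2 x)
    rw [← h1]
    show g ((a x : R) : Ω) = (((γ * a * γ⁻¹) ⟨g x, hx⟩ : R) : Ω)
    rw [hkey x hx, hγ]
  · intro h
    obtain ⟨φ', hφ', hind⟩ := hgF.push h himR
    refine Cfsg.Agent.Helper87.mem_of_eq F hφ' (fun y => ?_)
    have hy : g ((γ.symm y : R) : Ω) ∈ R := himR.map_mem (γ.symm y).2
    have hyy : (⟨g ((γ.symm y : R) : Ω), hy⟩ : R) = y := by
      apply Subtype.ext
      show g ((γ.symm y : R) : Ω) = y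
      rw [← hγ, MulEquiv.apply_symm_apply]
    have h1 := hind (γ.symm y) hy
    have h3 := hkey (γ.symm y) hy
    rw [hyy] at h1 h3
    rw [h1]
    show (((γ * a * γ⁻¹) y : R) : Ω) = g ((a (γ.symm y) : R) : Ω)
    rw [h3, hγ]

end Cfsg.Agent.Helper41.OR6
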