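import Mathlib
import Cfsg.Agent.Helper40.StCLiftDefs

/-!
# (SH1) and (CL2) for S2092 part II: Milnor's identity on four absolute values, and the "far"
case of the commutation of lifts when there is a fourth absolute value.
-/

set_option autoImplicit false
set_option linter.unusedSectionVars false

namespace Cfsg.Agent.Helper41.StCSH1

open scoped commutatorElement
open Cfsg.Agent.Helper96.StN Cfsg.Agent.Helper96.StC Cfsg.Agent.Helper96.StLift
  Cfsg.Agent.Helper40.StCLift

universe u v v' w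

variable {K : Type u} [Field K] {D : Type v} [Group D] {E : Type v'} [Group E] {π : E →* D}
  {ι : Type w} [DecidableEq ι] {X : ι ⊕ ι → ι ⊕ ι → K → D}

/-- a short root element on three absolute values as a commutator -/
theorem short_eq_commutator (hX : SpRel X) {p q s : ι ⊕ ι} (hpq : AbsNe p q) (hqs : AbsNe q s)
    (hps : AbsNe p s) (t u : K) : ⁅X p q t, X q s u⁆ = X p s (t * u) := by
  rw [commutatorElement_def]
  exact hX.mul p q s hpq.1 hqs.1 hps.1 hpq.2 hqs.2 hps.2 t u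

theorem bar_ne_bar {p q : ι ⊕ ι} (h : p ≠ q) : bar p ≠ bar q := fun e => h (bar_injective e)

theorem ne_bar_of_ne_bar {p q : ι ⊕ ι} (h : p ≠ bar q) : q ≠ bar p := fun e => h (by rw [e, bar_bar])

/-- (SH1) Milnor's identity, four absolute values -/
theorem milnor_A (hπ : Function.Surjective π) (hc : π.ker ≤ Subgroup.center E) (hX : SpRel X)
    (hCL : CLC hπ X) {i h k j : ι ⊕ ι} (hih : AbsNe i h) (hik : AbsNe i k) (hij : AbsNe i j)
    (hhk : AbsNe h k) (hhj : AbsNe h j) (hkj : AbsNe k j) (a b c : K) :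
    lc hπ (X i h a) (X h j (b * c)) = lc hπ (X i k (a * b)) (X k j c) := by
  obtain ⟨u, hu⟩ := hπ (X i h a)
  obtain ⟨v, hv⟩ := hπ (X h k b)
  obtain ⟨w, hw⟩ := hπ (X k j c)
  have huv : π ⁅u, v⁆ = X i k (a * b) := by
    rw [map_commutatorElement, hu, hv, short_eq_commutator hX hih hhk hik]
  have hvw : π ⁅v, w⁆ = X h j (b * c) := by
    rw [map_commutatorElement, hv, hw, short_eq_commutator hX hhk hkj hhj]
  have huvw : π ⁅⁅u, v⁆, w⁆ = X i j (a * b * c) := by
    rw [map_commutatorElement, huv, hw, short_eq_commutator hX hik hkj hij]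
  have h1 : Commute u w :=
    commute_of_lc_eq_one hπ hc
      (hCL i h k j hih.1 hkj.1 hhk.1 hhj.2 hik.2 hij.1 a c) hu hw
  have h2 : Commute ⁅u, v⁆ ⁅v, w⁆ :=
    commute_of_lc_eq_one hπ hc
      (hCL i k h j hik.1 hhj.1 hhk.1.symm hkj.2 hih.2 hij.1 (a * b) (b * c)) huv hvw
  have h3 : Commute ⁅v, w⁆ ⁅⁅u, v⁆, w⁆ :=
    commute_of_lc_eq_one hπ hc
      (hCL h j i j hhj.1 hij.1 hij.1.symm (bar_ne j).symm (ne_bar_of_ne_bar hih.2) hhj.1
        (b * c) (a * b * c)) hvw huvw
  have h4 := milnor_identity u v w h1 h2 h3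
  rw [lc_eq' hπ hc hu hvw, lc_eq' hπ hc huv hw] at h4
  exact h4

/-- (CL2) the "far" case with a fourth absolute value -/
theorem cFar_of_fourth (hπ : Function.Surjective π) (hc : π.ker ≤ Subgroup.center E)
    (hX : SpRel X) (h4 : ∀ p q r : ι ⊕ ι, ∃ k, AbsNe k p ∧ AbsNe k q ∧ AbsNe k r) :
    CFar hπ X := by
  intro p r s hrp hsp hrs t u
  obtain ⟨k, hkp, hkr, hks⟩ := h4 p r s
  have hrk : AbsNe r k := hkr.symm
  rw [← mul_one u, ← short_eq_commutator hX hrk hks hrs u 1]
  apply lc_spare hπ hc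
  · exact hX.comm p (bar p) r k (bar_ne p).symm hrk.1 hrp.2.symm (bar_ne_bar hkp.1.symm)
      (ne_bar_of_ne_bar hrp.2) hkp.1.symm t u
  · exact hX.comm p (bar p) k s (bar_ne p).symm hks.1 hkp.2.symm (bar_ne_bar hsp.1.symm)
      (ne_bar_of_ne_bar hkp.2) hsp.1.symm t 1

end Cfsg.Agent.Helper41.StCSH1
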