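import Cfsg.Agent.Helper43.PsuM.EvDefs

/-!
helper41, S2089 block I-even (helper43's farm #14693): base lemmas for the pieces (ACONJ), (AROOTb): block matrix
computations in the model `SUe m σ`.
-/

set_option autoImplicit false

namespace Cfsg.Agent.Helper41.PsuM

open Matrix Cfsg.Agent.Helper43.PsuM.Ev
open scoped commutatorElement

variable {F : Type*} [Field F] {m : ℕ} {σ : F →+* F}

theorem EvB_isU_iM_iff (A D : Matrix (Fin m) (Fin m) F) :
    IsU σ (iM A D) ↔ Aᵀ * D.map σ = 1 ∧ Dᵀ * A.map σ = 1 := by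
  unfold IsU iM Hm
  rw [Matrix.fromBlocks_transpose, Matrix.fromBlocks_map, Matrix.fromBlocks_multiply,
    Matrix.fromBlocks_multiply, Matrix.fromBlocks_inj]
  simp [Matrix.map_zero]

theorem EvB_isU_qM_iff (B : Matrix (Fin m) (Fin m) F) :
    IsU σ (qM B) ↔ B.map σ + Bᵀ = 0 := by
  unfold IsU qM Hm
  rw [Matrix.fromBlocks_transpose, Matrix.fromBlocks_map, Matrix.fromBlocks_multiply,
    Matrix.fromBlocks_multiply, Matrix.fromBlocks_inj]
  simp [Matrix.map_zero, Matrix.map_one]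

theorem EvB_det_qM (B : Matrix (Fin m) (Fin m) F) : (qM B).det = 1 := by
  unfold qM
  rw [Matrix.det_fromBlocks_zero₂₁, Matrix.det_one, one_mul]

theorem EvB_det_iM (A D : Matrix (Fin m) (Fin m) F) : (iM A D).det = A.det * D.det := by
  unfold iM
  rw [Matrix.det_fromBlocks_zero₂₁]

theorem EvB_mat_qE {B : Matrix (Fin m) (Fin m) F} (hB : B ∈ SkewH m σ) : mat (qE σ B) = qM B :=
  mat_ofMat σ (EvB_det_qM B) ((EvB_isU_qM_iff B).mpr hB)

theorem EvB_map_map (hσ : ∀ x, σ (σ x) = x) (A : Matrix (Fin m) (Fin m) F) : (A.map σ).map σ = A := by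
  ext i j
  simp [hσ]

theorem EvB_inv_mul (A : SpecialLinearGroup (Fin m) F) : (A⁻¹).1 * A.1 = 1 := by
  have h : (A⁻¹ * A).1 = 1 := by rw [inv_mul_cancel]; rfl
  exact h

theorem EvB_mul_inv (A : SpecialLinearGroup (Fin m) F) : A.1 * (A⁻¹).1 = 1 := by
  have h : (A * A⁻¹).1 = 1 := by rw [mul_inv_cancel]; rfl
  exact h

theorem EvB_mat_iE (hσ : ∀ x, σ (σ x) = x) (A : SpecialLinearGroup (Fin m) F) :
    mat (iE σ A) = iM A.1 ((A⁻¹).1.map σ)ᵀ := by
  apply mat_ofMat σ
  · rw [EvB_det_iM, Matrix.det_transpose]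
    have h1 : ((A⁻¹).1.map σ).det = σ ((A⁻¹).1.det) := by
      rw [← RingHom.mapMatrix_apply, ← RingHom.map_det]
    rw [h1, A.2, (A⁻¹).2, map_one, one_mul]
  · rw [EvB_isU_iM_iff]
    constructor
    · rw [Matrix.transpose_map, EvB_map_map hσ, ← Matrix.transpose_mul, EvB_inv_mul, Matrix.transpose_one]
    · rw [Matrix.transpose_transpose, ← Matrix.map_mul, EvB_inv_mul, Matrix.map_one σ (map_zero σ) (map_one σ)]

theorem EvB_mat_tE (hσ : ∀ x, σ (σ x) = x) (d : Fin m → F) (hd : ∀ i, d i ≠ 0)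
    (hdet : σ (∏ i, d i) = ∏ i, d i) :
    mat (tE σ d) = iM (Matrix.diagonal d) (Matrix.diagonal fun i => (σ (d i))⁻¹) := by
  apply mat_ofMat σ
  · rw [EvB_det_iM, Matrix.det_diagonal, Matrix.det_diagonal, Finset.prod_inv_distrib, ← map_prod, hdet]
    apply mul_inv_cancel₀
    exact Finset.prod_ne_zero_iff.mpr fun i _ => hd i
  · rw [EvB_isU_iM_iff]
    have hσd : ∀ i, σ (d i) ≠ 0 := fun i => (map_ne_zero σ).mpr (hd i)
    constructor
    · rw [Matrix.diagonal_transpose, Matrix.diagonal_map (map_zero σ), Matrix.diagonal_mul_diagonal,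
        ← Matrix.diagonal_one]
      congr 1
      funext i
      rw [map_inv₀, hσ]
      exact mul_inv_cancel₀ (hd i)
    · rw [Matrix.diagonal_transpose, Matrix.diagonal_map (map_zero σ), Matrix.diagonal_mul_diagonal,
        ← Matrix.diagonal_one]
      congr 1
      funext i
      exact inv_mul_cancel₀ (hσd i)

theorem EvB_qM_mul (B B' : Matrix (Fin m) (Fin m) F) : qM B * qM B' = qM (B + B') := by
  unfold qM
  rw [Matrix.fromBlocks_multiply]
  simp [add_comm]

theorem EvB_qE_add {B B' : Matrix (Fin m) (Fin m) F} (hB : B ∈ SkewH m σ) (hB' : B' ∈ SkewH m σ) :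
    qE σ (B + B') = qE σ B * qE σ B' := by
  apply mat_injective
  rw [mat_mul, EvB_mat_qE hB, EvB_mat_qE hB', EvB_mat_qE ((SkewH m σ).add_mem hB hB'), EvB_qM_mul]

theorem EvB_qE_zero : qE σ (0 : Matrix (Fin m) (Fin m) F) = 1 := by
  apply mat_injective
  rw [EvB_mat_qE (SkewH m σ).zero_mem, mat_one]
  unfold qM
  exact Matrix.fromBlocks_one

theorem EvB_qE_neg {B : Matrix (Fin m) (Fin m) F} (hB : B ∈ SkewH m σ) : qE σ (-B) = (qE σ B)⁻¹ := by
  apply eq_inv_of_mul_eq_one_left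
  rw [← EvB_qE_add ((SkewH m σ).neg_mem hB) hB, neg_add_cancel, EvB_qE_zero]

theorem EvB_iM_mul_qM (A D B : Matrix (Fin m) (Fin m) F) :
    iM A D * qM B = Matrix.fromBlocks A (A * B) 0 D := by
  unfold iM qM
  rw [Matrix.fromBlocks_multiply]
  simp

theorem EvB_qM_mul_iM (A D B : Matrix (Fin m) (Fin m) F) :
    qM B * iM A D = Matrix.fromBlocks A (B * D) 0 D := by
  unfold iM qM
  rw [Matrix.fromBlocks_multiply]
  simp

theorem EvB_iM_mul_iM (A D A' D' : Matrix (Fin m) (Fin m) F) :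
    iM A D * iM A' D' = iM (A * A') (D * D') := by
  unfold iM
  rw [Matrix.fromBlocks_multiply]
  simp

theorem EvB_diagonal_mul_single (d : Fin m → F) (i j : Fin m) (a : F) :
    Matrix.diagonal d * Matrix.single i j a = Matrix.single i j (d i * a) := by
  ext x y
  rw [Matrix.diagonal_mul]
  by_cases hx : i = x
  · subst hx
    by_cases hy : j = y
    · subst hy; simp
    · simp [Matrix.single, hy]
  · simp [Matrix.single, hx]

theorem EvB_single_mul_diagonal (d : Fin m → F) (i j : Fin m) (a : F) :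
    Matrix.single i j a * Matrix.diagonal d = Matrix.single i j (a * d j) := by
  ext x y
  rw [Matrix.mul_diagonal]
  by_cases hx : i = x
  · subst hx
    by_cases hy : j = y
    · subst hy; simp
    · simp [Matrix.single, hy]
  · simp [Matrix.single, hx]

end Cfsg.Agent.Helper41.PsuM
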