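import Cfsg.Agent.Helper43.PsuM.EvDefs
import Cfsg.Agent.Helper41.PsuM_EvBase

/-!
helper41, piece (ACONJ) of helper43's farm #14693 (S2089 block I-even): conjugation formulas in the model `SUe m σ`.
-/

set_option autoImplicit false

namespace Cfsg.Agent.Helper41.PsuM

open Matrix Cfsg.Agent.Helper43.PsuM.Ev
open scoped commutatorElement

variable {F : Type*} [Field F] {m : ℕ} {σ : F →+* F}

/-- (ACONJ1) -/
theorem iE_conj_qE (hσ : ∀ x, σ (σ x) = x) (A : SpecialLinearGroup (Fin m) F)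
    {B : Matrix (Fin m) (Fin m) F} (hB : B ∈ SkewH m σ) :
    A.1 * B * (A.1.map σ)ᵀ ∈ SkewH m σ ∧
      iE σ A * qE σ B * (iE σ A)⁻¹ = qE σ (A.1 * B * (A.1.map σ)ᵀ) := by
  have hB' : B.map σ + Bᵀ = 0 := hB
  have hmem : A.1 * B * (A.1.map σ)ᵀ ∈ SkewH m σ := by
    change (A.1 * B * (A.1.map σ)ᵀ).map σ + (A.1 * B * (A.1.map σ)ᵀ)ᵀ = 0
    rw [Matrix.map_mul, Matrix.map_mul, Matrix.transpose_map, EvB_map_map hσ, Matrix.transpose_mul,
      Matrix.transpose_mul, Matrix.transpose_transpose]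
    calc A.1.map σ * B.map σ * A.1ᵀ + A.1.map σ * (Bᵀ * A.1ᵀ)
        = A.1.map σ * (B.map σ + Bᵀ) * A.1ᵀ := by
          rw [Matrix.mul_add, Matrix.add_mul, Matrix.mul_assoc (A.1.map σ) Bᵀ]
      _ = 0 := by rw [hB', Matrix.mul_zero, Matrix.zero_mul]
  refine ⟨hmem, ?_⟩
  rw [mul_inv_eq_iff_eq_mul]
  apply mat_injective
  rw [mat_mul, mat_mul, EvB_mat_iE hσ, EvB_mat_qE hB, EvB_mat_qE hmem, EvB_iM_mul_qM, EvB_qM_mul_iM]
  congr 1
  rw [Matrix.mul_assoc, ← Matrix.transpose_mul, ← Matrix.map_mul, EvB_inv_mul,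
    Matrix.map_one σ (map_zero σ) (map_one σ), Matrix.transpose_one, Matrix.mul_one]

/-- (ACONJ2) -/
theorem tE_conj_qE (hσ : ∀ x, σ (σ x) = x) (d : Fin m → F) (hd : ∀ i, d i ≠ 0)
    (hdet : σ (∏ i, d i) = ∏ i, d i) {B : Matrix (Fin m) (Fin m) F} (hB : B ∈ SkewH m σ) :
    Matrix.diagonal d * B * Matrix.diagonal (fun i => σ (d i)) ∈ SkewH m σ ∧
      tE σ d * qE σ B * (tE σ d)⁻¹ =
        qE σ (Matrix.diagonal d * B * Matrix.diagonal (fun i => σ (d i))) := by
  have hB' : B.map σ + Bᵀ = 0 := hB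
  have hmem : Matrix.diagonal d * B * Matrix.diagonal (fun i => σ (d i)) ∈ SkewH m σ := by
    change (Matrix.diagonal d * B * Matrix.diagonal (fun i => σ (d i))).map σ +
      (Matrix.diagonal d * B * Matrix.diagonal (fun i => σ (d i)))ᵀ = 0
    rw [Matrix.map_mul, Matrix.map_mul, Matrix.diagonal_map (map_zero σ), Matrix.diagonal_map (map_zero σ),
      Matrix.transpose_mul, Matrix.transpose_mul, Matrix.diagonal_transpose, Matrix.diagonal_transpose]
    have e : (fun i => σ (σ (d i))) = d := funext fun i => hσ (d i)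
    rw [e]
    calc Matrix.diagonal (fun i => σ (d i)) * B.map σ * Matrix.diagonal d +
          Matrix.diagonal (fun i => σ (d i)) * (Bᵀ * Matrix.diagonal d)
        = Matrix.diagonal (fun i => σ (d i)) * (B.map σ + Bᵀ) * Matrix.diagonal d := by
          rw [Matrix.mul_add, Matrix.add_mul, Matrix.mul_assoc _ Bᵀ]
      _ = 0 := by rw [hB', Matrix.mul_zero, Matrix.zero_mul]
  refine ⟨hmem, ?_⟩
  rw [mul_inv_eq_iff_eq_mul]
  apply mat_injective
  rw [mat_mul, mat_mul, EvB_mat_tE hσ d hd hdet, EvB_mat_qE hB, EvB_mat_qE hmem, EvB_iM_mul_qM, EvB_qM_mul_iM]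
  congr 1
  rw [Matrix.mul_assoc, Matrix.mul_assoc, Matrix.diagonal_mul_diagonal]
  have hσd : ∀ i, σ (d i) ≠ 0 := fun i => (map_ne_zero σ).mpr (hd i)
  have e : (fun i => σ (d i) * (σ (d i))⁻¹) = fun _ => (1 : F) := funext fun i => mul_inv_cancel₀ (hσd i)
  rw [e, Matrix.diagonal_one, Matrix.mul_one]

/-- the inverse of a transvection -/
theorem ACONJ_transvection_inv {i j : Fin m} (h : i ≠ j) (a : F) :
    ((SpecialLinearGroup.transvection h a)⁻¹ : SpecialLinearGroup (Fin m) F).1 = Matrix.transvection i j (-a) := by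
  have hm : Matrix.transvection i j a * Matrix.transvection i j (-a) = (1 : Matrix (Fin m) (Fin m) F) := by
    rw [Matrix.transvection_mul_transvection_same i j h, add_neg_cancel, Matrix.transvection_zero]
  have h1 : (SpecialLinearGroup.transvection h a : SpecialLinearGroup (Fin m) F) *
      SpecialLinearGroup.transvection h (-a) = 1 := Subtype.ext hm
  rw [inv_eq_of_mul_eq_one_right h1]
  rfl

/-- the matrix of a root element of the Levi subgroup -/
theorem ACONJ_mat_xE (hσ : ∀ x, σ (σ x) = x) {i j : Fin m} (h : i ≠ j) (a : F) :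
    mat (xE σ i j a) = iM (1 + Matrix.single i j a) (1 + Matrix.single j i (-σ a)) := by
  unfold xE
  rw [dif_pos h, EvB_mat_iE hσ, ACONJ_transvection_inv]
  congr 1
  unfold Matrix.transvection
  rw [Matrix.map_add σ (map_add σ), Matrix.map_one σ (map_zero σ) (map_one σ), Matrix.map_single,
    Matrix.transpose_add, Matrix.transpose_one, Matrix.transpose_single, map_neg]

/-- (ACONJ3) -/
theorem tE_conj_xE (hσ : ∀ x, σ (σ x) = x) (d : Fin m → F) (hd : ∀ i, d i ≠ 0)
    (hdet : σ (∏ i, d i) = ∏ i, d i) (i j : Fin m) (a : F) :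
    tE σ d * xE σ i j a * (tE σ d)⁻¹ = xE σ i j (d i * a * (d j)⁻¹) := by
  by_cases h : i = j
  · subst h
    unfold xE
    rw [dif_neg (by simp), dif_neg (by simp), mul_one, mul_inv_cancel]
  · rw [mul_inv_eq_iff_eq_mul]
    apply mat_injective
    have hσd : ∀ i, σ (d i) ≠ 0 := fun i => (map_ne_zero σ).mpr (hd i)
    rw [mat_mul, mat_mul, EvB_mat_tE hσ d hd hdet, ACONJ_mat_xE hσ h, ACONJ_mat_xE hσ h, EvB_iM_mul_iM,
      EvB_iM_mul_iM]
    congr 1
    · rw [Matrix.mul_add, Matrix.add_mul, Matrix.mul_one, Matrix.one_mul, EvB_diagonal_mul_single,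
        EvB_single_mul_diagonal]
      congr 2
      have h3 := hd j
      field_simp
    · rw [Matrix.mul_add, Matrix.add_mul, Matrix.mul_one, Matrix.one_mul, EvB_diagonal_mul_single,
        EvB_single_mul_diagonal]
      congr 2
      rw [map_mul, map_mul, map_inv₀]
      have h1 := hσd i
      have h2 := hσd j
      field_simp

end Cfsg.Agent.Helper41.PsuM
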