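import Mathlib

/-!
# (A7-I) of #8201 for helper16 (S0997, Brauer–Tuan): the signed degrees in case `p = 2^c - 1`
(helper41).  Pure arithmetic, Mathlib only.
-/

set_option autoImplicit false

namespace Cfsg.Agent.Helper41.BT97

/-- decomposition `d = (2^c)^j * (2^i0 * d')`, `d'` odd dividing `B`, for `d ∣ B * 2^K`, `B` odd -/
theorem A7_decomp (c d B K : ℕ) (hc : 0 < c) (hB : 0 < B) (hd : d ∣ B * 2 ^ K) :
    ∃ j i0 d' : ℕ, i0 < c ∧ Odd d' ∧ d' ∣ B ∧ d = (2 ^ c) ^ j * (2 ^ i0 * d') := by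
  have hd0 : d ≠ 0 := by
    rintro rfl
    rw [zero_dvd_iff] at hd
    have : 0 < B * 2 ^ K := by positivity
    omega
  obtain ⟨i, d', hd'odd, hdd'⟩ := Nat.exists_eq_two_pow_mul_odd hd0
  have hd'B : d' ∣ B := by
    have h1 : d' ∣ B * 2 ^ K := (Dvd.intro_left _ hdd'.symm).trans hd
    have hcop : Nat.Coprime d' (2 ^ K) := Nat.Coprime.pow_right _ (Nat.coprime_two_right.mpr hd'odd)
    exact hcop.dvd_of_dvd_mul_right h1
  refine ⟨i / c, i % c, d', Nat.mod_lt _ hc, hd'odd, hd'B, ?_⟩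
  rw [hdd', ← mul_assoc, ← pow_mul, ← pow_add, Nat.div_add_mod]

/-- (A7-I) the signed degrees of the members of `X`, case `p = 2^c - 1`, `|G| = 2^(cJ) e p` -/
theorem types_I (c J d : ℕ) (ε : ℤ) (hc : 3 ≤ c) (hJ : 2 ≤ J) (hε : ε = 1 ∨ ε = -1)
    (hd : d ∣ (2 ^ (c - 1) - 1) * 2 ^ (c * J))
    (hmod : (d : ℤ) ≡ ε [ZMOD ((2 ^ c - 1 : ℕ) : ℤ)])
    (hsq : d * d ≤ 2 ^ (c * J) * ((2 ^ (c - 1) - 1) * (2 ^ c - 1))) :
    ∃ j : ℕ, j < J ∧ (ε * (d : ℤ) = ((2 : ℤ) ^ c) ^ j ∨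
      ε * (d : ℤ) = ((2 : ℤ) ^ c) ^ j * (2 - (2 : ℤ) ^ c)) := by
  -- the basic quantities
  obtain ⟨e0, he0⟩ : ∃ e0, 2 ^ (c - 1) = e0 + 1 :=
    ⟨2 ^ (c - 1) - 1, by have := Nat.one_le_two_pow (n := c - 1); omega⟩
  have hT : 2 ^ c = 2 * e0 + 2 := by
    have h1 : 2 ^ c = 2 ^ (c - 1) * 2 := by
      rw [← pow_succ]; congr 1; omega
    rw [h1, he0]; ring
  have he3 : 3 ≤ e0 := by
    have : 2 ^ 2 ≤ 2 ^ (c - 1) := Nat.pow_le_pow_right (by norm_num) (by omega)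
    omega
  have hE : 2 ^ (c - 1) - 1 = e0 := by omega
  have hN : 2 ^ c - 1 = 2 * e0 + 1 := by omega
  have hTz : (2 : ℤ) ^ c = 2 * (e0 : ℤ) + 2 := by exact_mod_cast hT
  rw [hE] at hd hsq
  rw [hN] at hmod hsq
  have hpowJ : 2 ^ (c * J) = (2 ^ c) ^ J := pow_mul 2 c J
  rw [hpowJ, hT] at hsq
  -- decomposition of d
  obtain ⟨j, i0, d', hi0, hd'odd, hd'e0, hdeq⟩ := A7_decomp c d e0 (c * J) (by omega) (by omega) hd
  have hd'pos : 1 ≤ d' := hd'odd.pos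
  have hd'le : d' ≤ e0 := Nat.le_of_dvd (by omega) hd'e0
  -- congruence for u = 2^i0 * d'
  have hT1 : ((2 : ℤ) ^ c) ≡ 1 [ZMOD ((2 * e0 + 1 : ℕ) : ℤ)] := by
    rw [Int.modEq_iff_dvd, hTz]
    push_cast
    exact ⟨-1, by ring⟩
  have hdz : (d : ℤ) = ((2 : ℤ) ^ c) ^ j * ((2 : ℤ) ^ i0 * (d' : ℤ)) := by
    rw [hdeq]; push_cast; ring
  have hu : ((2 : ℤ) ^ i0 * (d' : ℤ)) ≡ ε [ZMOD ((2 * e0 + 1 : ℕ) : ℤ)] := by
    have h1 : (d : ℤ) ≡ 1 ^ j * ((2 : ℤ) ^ i0 * (d' : ℤ)) [ZMOD ((2 * e0 + 1 : ℕ) : ℤ)] := by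
      rw [hdz]
      exact (hT1.pow j).mul_right _
    rw [one_pow, one_mul] at h1
    exact h1.symm.trans hmod
  have hNdvd : ((2 * e0 + 1 : ℕ) : ℤ) ∣ (2 : ℤ) ^ i0 * (d' : ℤ) - ε :=
    Int.modEq_iff_dvd.mp hu.symm
  push_cast at hNdvd
  rcases Nat.eq_zero_or_pos i0 with hi00 | hi0pos
  · -- i0 = 0
    rw [hi00, pow_zero, one_mul] at hNdvd
    rcases hε with rfl | rfl
    · -- ε = 1 : d' = 1
      have h0 : (d' : ℤ) - 1 = 0 := by
        apply Int.eq_zero_of_abs_lt_dvd hNdvd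
        rw [abs_lt]
        constructor <;> omega
      have hd'1 : d' = 1 := by omega
      have hdT : d = (2 * e0 + 2) ^ j := by
        rw [hdeq, hi00, hd'1, hT]; ring
      refine ⟨j, ?_, Or.inl ?_⟩
      · -- j < J
        rw [hdT] at hsq
        have h1 : e0 * (2 * e0 + 1) < (2 * e0 + 2) ^ 2 := by nlinarith
        have h2 : (2 * e0 + 2) ^ (2 * j) < (2 * e0 + 2) ^ (J + 2) := by
          calc (2 * e0 + 2) ^ (2 * j) = (2 * e0 + 2) ^ j * (2 * e0 + 2) ^ j := by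
                rw [← pow_add]; congr 1; omega
            _ ≤ (2 * e0 + 2) ^ J * (e0 * (2 * e0 + 1)) := hsq
            _ < (2 * e0 + 2) ^ J * (2 * e0 + 2) ^ 2 :=
                Nat.mul_lt_mul_of_pos_left h1 (by positivity)
            _ = (2 * e0 + 2) ^ (J + 2) := by rw [pow_add]
        have h3 := (Nat.pow_lt_pow_iff_right (by omega : 1 < 2 * e0 + 2)).mp h2
        omega
      · rw [one_mul, hdz, hi00, hd'1]; push_cast; ring
    · -- ε = -1 : impossible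
      exfalso
      have h1 : ((2 : ℤ) * (e0 : ℤ) + 1) ≤ (d' : ℤ) - -1 :=
        Int.le_of_dvd (by omega) hNdvd
      omega
  · -- i0 ≥ 1
    obtain ⟨s, hs⟩ : ∃ s, s + i0 = c := ⟨c - i0, by omega⟩
    have hs1 : 1 ≤ s := by omega
    have hsc : s ≤ c - 1 := by omega
    have h2s : (2 : ℕ) ^ s * 2 ^ i0 = 2 * e0 + 2 := by rw [← pow_add, hs, hT]
    have h2s_le : 2 ^ s ≤ e0 + 1 := by
      rw [← he0]; exact Nat.pow_le_pow_right (by norm_num) hsc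
    have h2s_ge : 2 ≤ 2 ^ s := by
      calc 2 = 2 ^ 1 := by norm_num
        _ ≤ 2 ^ s := Nat.pow_le_pow_right (by norm_num) hs1
    have h2s_even : Even (2 ^ s) := (Nat.even_pow' (by omega)).mpr even_two
    have h2sz : ((2 : ℤ) ^ s) * (2 : ℤ) ^ i0 = 2 * (e0 : ℤ) + 2 := by exact_mod_cast h2s
    -- N ∣ d' - 2^s ε
    have hNdvd' : ((2 : ℤ) * (e0 : ℤ) + 1) ∣ (d' : ℤ) - (2 : ℤ) ^ s * ε := by
      have h1 : ((2 : ℤ) * (e0 : ℤ) + 1) ∣ (2 : ℤ) ^ s * ((2 : ℤ) ^ i0 * (d' : ℤ) - ε) :=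
        Dvd.dvd.mul_left hNdvd _
      have h2 : (2 : ℤ) ^ s * ((2 : ℤ) ^ i0 * (d' : ℤ) - ε) =
          ((2 : ℤ) * (e0 : ℤ) + 1) * (d' : ℤ) + ((d' : ℤ) - (2 : ℤ) ^ s * ε) := by
        have : (2 : ℤ) ^ s * ((2 : ℤ) ^ i0 * (d' : ℤ) - ε) =
            ((2 : ℤ) ^ s * (2 : ℤ) ^ i0) * (d' : ℤ) - (2 : ℤ) ^ s * ε := by ring
        rw [this, h2sz]; ring
      rw [h2] at h1
      exact (Int.dvd_add_right (Dvd.intro _ rfl)).mp h1
    have h2s_cast : ((2 : ℤ) ^ s) = ((2 ^ s : ℕ) : ℤ) := by push_cast; rfl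
    rw [h2s_cast] at hNdvd'
    rcases hε with rfl | rfl
    · -- ε = 1 : d' = 2^s, parity contradiction
      exfalso
      have h0 : (d' : ℤ) - ((2 ^ s : ℕ) : ℤ) * 1 = 0 := by
        apply Int.eq_zero_of_abs_lt_dvd hNdvd'
        rw [abs_lt]
        constructor <;> omega
      have : d' = 2 ^ s := by omega
      rw [this] at hd'odd
      exact (Nat.not_even_iff_odd.mpr hd'odd) h2s_even
    · -- ε = -1 : d' = e0, 2^s = e0 + 1
      have h1 : ((2 : ℤ) * (e0 : ℤ) + 1) ≤ (d' : ℤ) - ((2 ^ s : ℕ) : ℤ) * -1 :=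
        Int.le_of_dvd (by omega) hNdvd'
      have hd'e : d' = e0 := by omega
      have h2se : 2 ^ s = e0 + 1 := by omega
      have hsc' : s = c - 1 := by
        apply Nat.pow_right_injective (le_refl 2)
        show 2 ^ s = 2 ^ (c - 1)
        rw [h2se, he0]
      have hi01 : i0 = 1 := by omega
      have hdT : d = (2 * e0 + 2) ^ j * (2 * e0) := by
        rw [hdeq, hi01, hd'e, hT]; ring
      refine ⟨j, ?_, Or.inr ?_⟩
      · -- j < J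
        by_contra hjJ
        push Not at hjJ
        rw [hdT] at hsq
        have h1 : (2 * e0 + 2) ^ J ≤ (2 * e0 + 2) ^ j := Nat.pow_le_pow_right (by omega) hjJ
        have h2 : 1 ≤ (2 * e0 + 2) ^ j := Nat.one_le_pow _ _ (by omega)
        have h3 : (2 * e0 + 2) ^ J * 1 ≤ (2 * e0 + 2) ^ j * (2 * e0 + 2) ^ j :=
          Nat.mul_le_mul h1 h2
        have h4 : e0 * (2 * e0 + 1) < (2 * e0) * (2 * e0) := by nlinarith
        have h5 : 0 < (2 * e0 + 2) ^ J := by positivity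
        have h6 : (2 * e0 + 2) ^ J * (e0 * (2 * e0 + 1)) <
            (2 * e0 + 2) ^ j * (2 * e0) * ((2 * e0 + 2) ^ j * (2 * e0)) := by
          calc (2 * e0 + 2) ^ J * (e0 * (2 * e0 + 1))
              < (2 * e0 + 2) ^ J * ((2 * e0) * (2 * e0)) := Nat.mul_lt_mul_of_pos_left h4 h5
            _ = (2 * e0 + 2) ^ J * 1 * ((2 * e0) * (2 * e0)) := by ring
            _ ≤ (2 * e0 + 2) ^ j * (2 * e0 + 2) ^ j * ((2 * e0) * (2 * e0)) :=
                Nat.mul_le_mul_right _ h3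
            _ = _ := by ring
        omega
      · rw [hdz, hi01, hd'e, hTz]; ring

end Cfsg.Agent.Helper41.BT97
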