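import Mathlib
import Cfsg.Agent.Helper41.BT97A7I

/-!
# (A7-III) of #8201 for helper16 (S0997, Brauer–Tuan): the signed degrees in case `p = 2^m + 1`
(helper41).  Pure arithmetic.
-/

set_option autoImplicit false

namespace Cfsg.Agent.Helper41.BT97

/-- (A7-III) the signed degrees of the members of `X`, case `p = 2^m + 1`, `|G| = 2^(mJ) f p` -/
theorem types_III (m J d : ℕ) (ε : ℤ) (hm : 2 ≤ m) (hJ : 2 ≤ J) (hε : ε = 1 ∨ ε = -1)
    (hd : d ∣ (2 ^ (m - 1) + 1) * 2 ^ (m * J))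
    (hmod : (d : ℤ) ≡ ε [ZMOD ((2 ^ m + 1 : ℕ) : ℤ)])
    (hsq : d * d ≤ 2 ^ (m * J) * ((2 ^ (m - 1) + 1) * (2 ^ m + 1))) :
    ∃ j : ℕ, j < J ∧ (ε * (d : ℤ) = (-(2 : ℤ) ^ m) ^ j ∨
      ε * (d : ℤ) = (-(2 : ℤ) ^ m) ^ j * (2 - -(2 : ℤ) ^ m)) := by
  -- the basic quantities: h = 2^(m-1), T = 2h, N = 2h+1, f0 = h+1
  obtain ⟨h, hh⟩ : ∃ h, 2 ^ (m - 1) = h := ⟨_, rfl⟩
  have hT : 2 ^ m = 2 * h := by
    have h1 : 2 ^ m = 2 ^ (m - 1) * 2 := by
      rw [← pow_succ]; congr 1; omega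
    rw [h1, hh]; ring
  have hh2 : 2 ≤ h := by
    have : 2 ^ 1 ≤ 2 ^ (m - 1) := Nat.pow_le_pow_right (by norm_num) (by omega)
    omega
  have hTz : (2 : ℤ) ^ m = 2 * (h : ℤ) := by exact_mod_cast hT
  rw [hh] at hd hsq
  rw [hT] at hmod hsq
  have hpowJ : 2 ^ (m * J) = (2 ^ m) ^ J := pow_mul 2 m J
  rw [hpowJ, hT] at hsq
  -- decomposition of d
  obtain ⟨j, i0, d', hi0, hd'odd, hd'f0, hdeq⟩ :=
    A7_decomp m d (h + 1) (m * J) (by omega) (by omega) hd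
  have hd'pos : 1 ≤ d' := hd'odd.pos
  have hd'le : d' ≤ h + 1 := Nat.le_of_dvd (by omega) hd'f0
  -- the sign
  obtain ⟨sg, hsgdef⟩ : ∃ sg : ℤ, (-1 : ℤ) ^ j = sg := ⟨_, rfl⟩
  have hsg : sg = 1 ∨ sg = -1 := by rw [← hsgdef]; exact neg_one_pow_eq_or ℤ j
  have hsgsq : sg * sg = 1 := by rcases hsg with rfl | rfl <;> norm_num
  have hnegT : (-(2 : ℤ) ^ m) ^ j = sg * (2 * (h : ℤ)) ^ j := by
    rw [neg_pow, hsgdef, hTz]
  -- congruence for u = 2^i0 * d'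
  have hT1 : ((2 : ℤ) ^ m) ≡ -1 [ZMOD ((2 * h + 1 : ℕ) : ℤ)] := by
    rw [Int.modEq_iff_dvd, hTz]
    push_cast
    exact ⟨-1, by ring⟩
  have hdz : (d : ℤ) = ((2 : ℤ) ^ m) ^ j * ((2 : ℤ) ^ i0 * (d' : ℤ)) := by
    rw [hdeq]; push_cast; ring
  have hu : ((2 : ℤ) ^ i0 * (d' : ℤ)) ≡ sg * ε [ZMOD ((2 * h + 1 : ℕ) : ℤ)] := by
    have h1 : (d : ℤ) ≡ (-1) ^ j * ((2 : ℤ) ^ i0 * (d' : ℤ)) [ZMOD ((2 * h + 1 : ℕ) : ℤ)] := by
      rw [hdz]
      exact (hT1.pow j).mul_right _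
    rw [hsgdef] at h1
    have h2 : sg * ((2 : ℤ) ^ i0 * (d' : ℤ)) ≡ ε [ZMOD ((2 * h + 1 : ℕ) : ℤ)] := h1.symm.trans hmod
    have h3 := h2.mul_left sg
    rw [← mul_assoc, hsgsq, one_mul] at h3
    exact h3
  obtain ⟨ε', hε'def⟩ : ∃ ε' : ℤ, sg * ε = ε' := ⟨_, rfl⟩
  have hε' : ε' = 1 ∨ ε' = -1 := by
    rw [← hε'def]
    rcases hsg with rfl | rfl <;> rcases hε with rfl | rfl <;> norm_num
  have hεeq : ε = sg * ε' := by rw [← hε'def, ← mul_assoc, hsgsq, one_mul]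
  rw [hε'def] at hu
  have hNdvd : ((2 * h + 1 : ℕ) : ℤ) ∣ (2 : ℤ) ^ i0 * (d' : ℤ) - ε' :=
    Int.modEq_iff_dvd.mp hu.symm
  push_cast at hNdvd
  rcases Nat.eq_zero_or_pos i0 with hi00 | hi0pos
  · -- i0 = 0
    rw [hi00, pow_zero, one_mul] at hNdvd
    rcases hε' with rfl | rfl
    · -- ε' = 1 : d' = 1
      have h0 : (d' : ℤ) - 1 = 0 := by
        apply Int.eq_zero_of_abs_lt_dvd hNdvd
        rw [abs_lt]
        constructor <;> omega
      have hd'1 : d' = 1 := by omega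
      have hdT : d = (2 * h) ^ j := by
        rw [hdeq, hi00, hd'1, hT]; ring
      refine ⟨j, ?_, Or.inl ?_⟩
      · -- j < J
        rw [hdT] at hsq
        have h1 : (h + 1) * (2 * h + 1) < (2 * h) ^ 2 := by nlinarith
        have h2 : (2 * h) ^ (2 * j) < (2 * h) ^ (J + 2) := by
          calc (2 * h) ^ (2 * j) = (2 * h) ^ j * (2 * h) ^ j := by
                rw [← pow_add]; congr 1; omega
            _ ≤ (2 * h) ^ J * ((h + 1) * (2 * h + 1)) := hsq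
            _ < (2 * h) ^ J * (2 * h) ^ 2 :=
                Nat.mul_lt_mul_of_pos_left h1 (by positivity)
            _ = (2 * h) ^ (J + 2) := by rw [pow_add]
        have h3 := (Nat.pow_lt_pow_iff_right (by omega : 1 < 2 * h)).mp h2
        omega
      · rw [hnegT, hεeq, mul_one, hdT]; push_cast; ring
    · -- ε' = -1 : impossible
      exfalso
      have h1 : ((2 : ℤ) * (h : ℤ) + 1) ≤ (d' : ℤ) - -1 :=
        Int.le_of_dvd (by omega) hNdvd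
      omega
  · -- i0 ≥ 1
    obtain ⟨s, hs⟩ : ∃ s, s + i0 = m := ⟨m - i0, by omega⟩
    have hs1 : 1 ≤ s := by omega
    have hsc : s ≤ m - 1 := by omega
    have h2s : (2 : ℕ) ^ s * 2 ^ i0 = 2 * h := by rw [← pow_add, hs, hT]
    have h2s_le : 2 ^ s ≤ h := by
      rw [← hh]; exact Nat.pow_le_pow_right (by norm_num) hsc
    have h2s_ge : 2 ≤ 2 ^ s := by
      calc 2 = 2 ^ 1 := by norm_num
        _ ≤ 2 ^ s := Nat.pow_le_pow_right (by norm_num) hs1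
    have h2s_even : Even (2 ^ s) := (Nat.even_pow' (by omega)).mpr even_two
    have h2sz : ((2 : ℤ) ^ s) * (2 : ℤ) ^ i0 = 2 * (h : ℤ) := by exact_mod_cast h2s
    -- N ∣ d' + 2^s ε'
    have hNdvd' : ((2 : ℤ) * (h : ℤ) + 1) ∣ (d' : ℤ) + (2 : ℤ) ^ s * ε' := by
      have h1 : ((2 : ℤ) * (h : ℤ) + 1) ∣ (2 : ℤ) ^ s * ((2 : ℤ) ^ i0 * (d' : ℤ) - ε') :=
        Dvd.dvd.mul_left hNdvd _
      have h2 : (2 : ℤ) ^ s * ((2 : ℤ) ^ i0 * (d' : ℤ) - ε') =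
          ((2 : ℤ) * (h : ℤ) + 1) * (d' : ℤ) + -((d' : ℤ) + (2 : ℤ) ^ s * ε') := by
        have : (2 : ℤ) ^ s * ((2 : ℤ) ^ i0 * (d' : ℤ) - ε') =
            ((2 : ℤ) ^ s * (2 : ℤ) ^ i0) * (d' : ℤ) - (2 : ℤ) ^ s * ε' := by ring
        rw [this, h2sz]; ring
      rw [h2] at h1
      exact (Int.dvd_neg).mp ((Int.dvd_add_right (Dvd.intro _ rfl)).mp h1)
    have h2s_cast : ((2 : ℤ) ^ s) = ((2 ^ s : ℕ) : ℤ) := by push_cast; rfl
    rw [h2s_cast] at hNdvd'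
    rcases hε' with rfl | rfl
    · -- ε' = 1 : d' = h + 1, 2^s = h
      have h1 : ((2 : ℤ) * (h : ℤ) + 1) ≤ (d' : ℤ) + ((2 ^ s : ℕ) : ℤ) * 1 :=
        Int.le_of_dvd (by omega) hNdvd'
      have hd'e : d' = h + 1 := by omega
      have h2se : 2 ^ s = h := by omega
      have hsc' : s = m - 1 := by
        apply Nat.pow_right_injective (le_refl 2)
        show 2 ^ s = 2 ^ (m - 1)
        rw [h2se, hh]
      have hi01 : i0 = 1 := by omega
      have hdT : d = (2 * h) ^ j * (2 * (h + 1)) := by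
        rw [hdeq, hi01, hd'e, hT]; ring
      refine ⟨j, ?_, Or.inr ?_⟩
      · -- j < J
        by_contra hjJ
        push Not at hjJ
        rw [hdT] at hsq
        have h1 : (2 * h) ^ J ≤ (2 * h) ^ j := Nat.pow_le_pow_right (by omega) hjJ
        have h2 : 1 ≤ (2 * h) ^ j := Nat.one_le_pow _ _ (by omega)
        have h3 : (2 * h) ^ J * 1 ≤ (2 * h) ^ j * (2 * h) ^ j := Nat.mul_le_mul h1 h2
        have h4 : (h + 1) * (2 * h + 1) < (2 * (h + 1)) * (2 * (h + 1)) := by nlinarith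
        have h5 : 0 < (2 * h) ^ J := by positivity
        have h6 : (2 * h) ^ J * ((h + 1) * (2 * h + 1)) <
            (2 * h) ^ j * (2 * (h + 1)) * ((2 * h) ^ j * (2 * (h + 1))) := by
          calc (2 * h) ^ J * ((h + 1) * (2 * h + 1))
              < (2 * h) ^ J * ((2 * (h + 1)) * (2 * (h + 1))) := Nat.mul_lt_mul_of_pos_left h4 h5
            _ = (2 * h) ^ J * 1 * ((2 * (h + 1)) * (2 * (h + 1))) := by ring
            _ ≤ (2 * h) ^ j * (2 * h) ^ j * ((2 * (h + 1)) * (2 * (h + 1))) :=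
                Nat.mul_le_mul_right _ h3
            _ = _ := by ring
        omega
      · rw [hnegT, hεeq, mul_one, hdT, hTz]; push_cast; ring
    · -- ε' = -1 : d' = 2^s, parity contradiction
      exfalso
      have h0 : (d' : ℤ) + ((2 ^ s : ℕ) : ℤ) * -1 = 0 := by
        apply Int.eq_zero_of_abs_lt_dvd hNdvd'
        rw [abs_lt]
        constructor <;> omega
      have : d' = 2 ^ s := by omega
      rw [this] at hd'odd
      exact (Nat.not_even_iff_odd.mpr hd'odd) h2s_even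

end Cfsg.Agent.Helper41.BT97
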