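import Cfsg.Agent.Helper57.BH.Defs
import Cfsg.Agent.Helper14.BHAM
import Cfsg.Agent.Helper48.BHAC

/-!
# (AO) for S4503 (helper57): an exceptional character with `δ = 1` of degree `< p` restricts to the
orbit sum.  The sibling pieces (AM) `mult_nonneg`, `restrict_eq_finsum_mult` and (AC)
`card_orbit_of_not_isCanon`, `charDegree_of_mem_orbit`, `charDegree_can` are explicit hypotheses of
the primed theorem; `orbitSum_of_mem_Y` (exact skeleton statement) plugs in helper14's (AM) and helper48's (AC).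
-/

set_option autoImplicit false
set_option linter.unusedSectionVars false
set_option linter.unusedVariables false
set_option linter.style.haveILetI false

namespace Cfsg.Agent.Helper41.BH

open Cfsg Cfsg.Agent.Helper16 Cfsg.Agent.Helper16.DefOne Cfsg.Agent.Helper82.DefOne
  Cfsg.Agent.Helper77.DefOne Cfsg.Agent.Helper57.BH
open scoped ComplexConjugate

universe u

variable {G : Type u} [Group G] [Fintype G] {p : ℕ} [Fact p.Prime] (P : Sylow p G)

open Classical in
/-- (A-main), with the sibling pieces as hypotheses -/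
theorem orbitSum_of_mem_Y' (hP : Nat.card P = p) [((P : Subgroup G).subgroupOf (nor P)).Normal]
    (θ : IrrCharacter (cen P))
    {X Y : Set (IrrCharacter G)} {ε : IrrCharacter G → ℤ} {δ : ℤ} (D : IsRData P θ X Y ε δ)
    (ψ : IrrCharacter G) (hψ : ψ ∈ Y) (φ₀ : IrrCharacter (cen P)) (h1 : can P φ₀ = θ)
    (hrow : ∀ φ : IrrCharacter (cen P),
      rowZ P ψ φ = if φ ∈ MulAction.orbit (nor P) φ₀ then δ else 0)
    (hδ : δ = 1) (hdeg : charDegree (ψ : G → ℂ) < p)
    (hnonneg : ∀ φ : IrrCharacter (cen P), 0 ≤ mult P ψ φ)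
    (hrestr : ∀ c : cen P, (ψ : G → ℂ) (c : G) =
      ∑ᶠ φ : IrrCharacter (cen P), (mult P ψ φ : ℂ) * (φ : cen P → ℂ) c)
    (hcard : Nat.card (MulAction.orbit (nor P) φ₀) = (cen P).relIndex (nor P))
    (hdegO : ∀ φ ∈ MulAction.orbit (nor P) φ₀,
      charDegree (φ : cen P → ℂ) = charDegree (φ₀ : cen P → ℂ))
    (hdegcan : charDegree (can P φ₀ : cen P → ℂ) = charDegree (φ₀ : cen P → ℂ)) :
    charDegree (ψ : G → ℂ) = (cen P).relIndex (nor P) * charDegree (θ : cen P → ℂ) ∧
      IsOrbitSum P ψ φ₀ := by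
  haveI : Finite (IrrCharacter (cen P)) := Helper79.irr_finite'
  haveI : Fintype (IrrCharacter (cen P)) := Fintype.ofFinite _
  have hp : p.Prime := Fact.out
  set O : Set (IrrCharacter (cen P)) := MulAction.orbit (nor P) φ₀ with hO
  set f := (cen P).relIndex (nor P) with hf
  set d := charDegree (θ : cen P → ℂ) with hd
  have hdφ₀ : charDegree (φ₀ : cen P → ℂ) = d := by rw [← hdegcan, h1]
  -- the indicator of the orbit
  let ind : IrrCharacter (cen P) → ℤ := fun φ => if φ ∈ O then 1 else 0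
  have hge : ∀ φ, ind φ ≤ mult P ψ φ := by
    intro φ
    show (if φ ∈ O then (1 : ℤ) else 0) ≤ mult P ψ φ
    split_ifs with h
    · have hr := hrow φ
      rw [if_pos h, hδ] at hr
      unfold rowZ at hr
      have := hnonneg (can P φ)
      omega
    · exact hnonneg φ
  -- the degree equation
  have hdegsum : (charDegree (ψ : G → ℂ) : ℤ) =
      ∑ φ : IrrCharacter (cen P), mult P ψ φ * (charDegree (φ : cen P → ℂ) : ℤ) := by
    have h := hrestr 1
    rw [finsum_eq_sum_of_fintype] at h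
    have h3 : (ψ : G → ℂ) ((1 : cen P) : G) = (charDegree (ψ : G → ℂ) : ℂ) := by
      rw [Subgroup.coe_one]
      exact irr_one_eq_natCast ψ
    rw [h3] at h
    have h4 : ∑ φ : IrrCharacter (cen P), (mult P ψ φ : ℂ) * (φ : cen P → ℂ) 1 =
        ((∑ φ : IrrCharacter (cen P), mult P ψ φ * (charDegree (φ : cen P → ℂ) : ℤ) : ℤ) : ℂ) := by
      push_cast
      refine Finset.sum_congr rfl (fun φ _ => ?_)
      rw [irr_one_eq_natCast φ]
    rw [h4] at h
    exact_mod_cast h
  have hindsum : ∑ φ : IrrCharacter (cen P), ind φ * (charDegree (φ : cen P → ℂ) : ℤ) =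
      (f : ℤ) * (d : ℤ) := by
    have h : ∀ φ : IrrCharacter (cen P), ind φ * (charDegree (φ : cen P → ℂ) : ℤ) =
        if φ ∈ O then (d : ℤ) else 0 := by
      intro φ
      show (if φ ∈ O then (1 : ℤ) else 0) * _ = _
      split_ifs with hφ
      · rw [one_mul, hdegO φ hφ, hdφ₀]
      · rw [zero_mul]
    rw [Finset.sum_congr rfl (fun φ _ => h φ), ← Finset.sum_filter, Finset.sum_const,
      nsmul_eq_mul]
    congr 1
    have : (Finset.univ.filter fun φ : IrrCharacter (cen P) => φ ∈ O).card = Nat.card O := by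
      rw [Nat.card_eq_fintype_card, Fintype.card_subtype]
    rw [this, hcard]
  have hdpos : ∀ φ : IrrCharacter (cen P), (0 : ℤ) < (charDegree (φ : cen P → ℂ) : ℤ) := by
    intro φ
    exact_mod_cast Nat.pos_of_ne_zero (charDegree_ne_zero' φ)
  have hle : (f : ℤ) * (d : ℤ) ≤ (charDegree (ψ : G → ℂ) : ℤ) := by
    rw [hdegsum, ← hindsum]
    exact Finset.sum_le_sum (fun φ _ => mul_le_mul_of_nonneg_right (hge φ) (hdpos φ).le)
  -- the congruence
  have hcong := D.degY ψ hψ
  rw [hδ, one_mul] at hcong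
  have heq : (charDegree (ψ : G → ℂ) : ℤ) = (f : ℤ) * (d : ℤ) := by
    have h3 : ((f * d : ℕ) : ℤ) = (f : ℤ) * (d : ℤ) := by push_cast; ring
    rw [h3] at hcong
    have h4 : (charDegree (ψ : G → ℂ) : ℤ) < p := by exact_mod_cast hdeg
    have h5 : (0 : ℤ) ≤ (f : ℤ) * (d : ℤ) := by positivity
    have h6 : (p : ℤ) ∣ (charDegree (ψ : G → ℂ) : ℤ) - (f : ℤ) * (d : ℤ) :=
      (Int.modEq_iff_dvd.mp hcong.symm)
    obtain ⟨k, hk⟩ := h6
    have hp0 : (0 : ℤ) < p := by exact_mod_cast hp.pos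
    have hk0 : k = 0 := by
      by_contra hne
      rcases lt_or_gt_of_ne hne with hlt | hgt
      · have : (p : ℤ) * k ≤ (p : ℤ) * (-1) := mul_le_mul_of_nonneg_left (by omega) hp0.le
        nlinarith
      · have : (p : ℤ) * 1 ≤ (p : ℤ) * k := mul_le_mul_of_nonneg_left (by omega) hp0.le
        nlinarith
    rw [hk0, mul_zero] at hk
    linarith
  refine ⟨by exact_mod_cast heq, ?_⟩
  -- the multiplicities are the indicator of the orbit
  have hzero : ∑ φ : IrrCharacter (cen P),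
      (mult P ψ φ - ind φ) * (charDegree (φ : cen P → ℂ) : ℤ) = 0 := by
    simp only [sub_mul, Finset.sum_sub_distrib]
    rw [← hdegsum, hindsum, heq, sub_self]
  have hall : ∀ φ : IrrCharacter (cen P), mult P ψ φ = ind φ := by
    have h := (Finset.sum_eq_zero_iff_of_nonneg (fun φ _ =>
      mul_nonneg (sub_nonneg.mpr (hge φ)) (hdpos φ).le)).mp hzero
    intro φ
    have h3 := h φ (Finset.mem_univ φ)
    rcases mul_eq_zero.mp h3 with h4 | h4
    · linarith
    · exact absurd h4 (hdpos φ).ne'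
  intro c
  rw [hrestr c, finsum_eq_sum_of_fintype]
  have h : ∀ φ : IrrCharacter (cen P), (mult P ψ φ : ℂ) * (φ : cen P → ℂ) c =
      if φ ∈ O then (φ : cen P → ℂ) c else 0 := by
    intro φ
    rw [hall φ]
    show (((if φ ∈ O then (1 : ℤ) else 0) : ℤ) : ℂ) * _ = _
    split_ifs <;> simp
  rw [Finset.sum_congr rfl (fun φ _ => h φ), ← Finset.sum_filter]
  have hOfin : O.Finite := Set.toFinite O
  rw [finsum_mem_eq_finite_toFinset_sum _ hOfin]
  refine Finset.sum_congr ?_ (fun _ _ => rfl)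
  ext φ
  simp

open Classical in
/-- (A-main) an exceptional character with `δ = 1` of degree `< p` restricts to the orbit sum -/
theorem orbitSum_of_mem_Y (hP : Nat.card P = p) [((P : Subgroup G).subgroupOf (nor P)).Normal]
    (hmod : ModCount p P) (θ : IrrCharacter (cen P)) (hθ : IsCanon P θ)
    {X Y : Set (IrrCharacter G)} {ε : IrrCharacter G → ℤ} {δ : ℤ} (D : IsRData P θ X Y ε δ)
    (ψ : IrrCharacter G) (hψ : ψ ∈ Y) (φ₀ : IrrCharacter (cen P)) (h1 : can P φ₀ = θ)
    (h2 : ¬ IsCanon P φ₀)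
    (hrow : ∀ φ : IrrCharacter (cen P),
      rowZ P ψ φ = if φ ∈ MulAction.orbit (nor P) φ₀ then δ else 0)
    (hδ : δ = 1) (hdeg : charDegree (ψ : G → ℂ) < p) :
    charDegree (ψ : G → ℂ) = (cen P).relIndex (nor P) * charDegree (θ : cen P → ℂ) ∧
      IsOrbitSum P ψ φ₀ :=
  orbitSum_of_mem_Y' P hP θ D ψ hψ φ₀ h1 hrow hδ hdeg
    (fun φ => Cfsg.Agent.Helper14.BH.mult_nonneg P ψ φ)
    (fun c => Cfsg.Agent.Helper14.BH.restrict_eq_finsum_mult P ψ c)
    (Cfsg.Agent.Helper48.BH.card_orbit_of_not_isCanon P hP φ₀ h2)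
    (fun φ hφ => Cfsg.Agent.Helper48.BH.charDegree_of_mem_orbit P φ₀ φ hφ)
    (Cfsg.Agent.Helper48.BH.charDegree_can P hP φ₀)

end Cfsg.Agent.Helper41.BH
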