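import Mathlib
import Cfsg.Prelude.Def_Characters
import Cfsg.Prelude.Def_Blocks

/-!
# (AR-B) for S1022 (helper17): the arithmetic of the degree equation
-/

set_option autoImplicit false

namespace Cfsg.Agent.Helper41.O459

/-- the bounded enumeration behind `counts_arith` -/
theorem counts_arith_aux : ∀ a b c d : Fin 6, ∀ s : Bool, ∀ e : Fin 7,
    (e.val = 2 ∨ e.val = 3 ∨ e.val = 6) → a.val + b.val + c.val + d.val + 1 = e.val →
    0 ≤ (if s then (1 : ℤ) else -1) *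
      (1 - 18 * (a.val : ℤ) - 56 * (b.val : ℤ) + 96 * (c.val : ℤ) - 189 * (d.val : ℤ)) →
    ((if s then (1 : ℤ) else -1) *
      (1 - 18 * (a.val : ℤ) - 56 * (b.val : ℤ) + 96 * (c.val : ℤ) - 189 * (d.val : ℤ))).toNat ∣
        24192 →
    ((if s then (1 : ℤ) else -1) *
      (1 - 18 * (a.val : ℤ) - 56 * (b.val : ℤ) + 96 * (c.val : ℤ) - 189 * (d.val : ℤ))) % 19 =
        ((if s then (1 : ℤ) else -1) * (e.val : ℤ)) % 19 →
    (18 / e.val) * ((if s then (1 : ℤ) else -1) *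
      (1 - 18 * (a.val : ℤ) - 56 * (b.val : ℤ) + 96 * (c.val : ℤ) - 189 * (d.val : ℤ))).toNat ^ 2 ≤
        459648 →
    e.val = 6 ∧ (1 ≤ a.val ∨ 2 ≤ c.val) := by
  decide +kernel

/-- (AR-B) -/
theorem counts_arith (e a b c d y : ℕ) (ε : ℤ) (he : e = 2 ∨ e = 3 ∨ e = 6) (hε : ε = 1 ∨ ε = -1)
    (hsum : a + b + c + d + 1 = e)
    (heq : (1 : ℤ) - 18 * a - 56 * b + 96 * c - 189 * d = ε * y)
    (hy : y ∣ 24192) (hmod : (y : ℤ) ≡ ε * e [ZMOD 19]) (hsq : (18 / e) * y ^ 2 ≤ 459648) :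
    e = 6 ∧ (1 ≤ a ∨ 2 ≤ c) := by
  have he7 : e < 7 := by rcases he with h | h | h <;> omega
  have ha : a < 6 := by omega
  have hb : b < 6 := by omega
  have hc : c < 6 := by omega
  have hd : d < 6 := by omega
  obtain ⟨s, hs⟩ : ∃ s : Bool, ε = if s then (1 : ℤ) else -1 := by
    rcases hε with h | h
    · exact ⟨true, by simp [h]⟩
    · exact ⟨false, by simp [h]⟩
  have hεε : ε * ε = 1 := by rcases hε with h | h <;> rw [h] <;> norm_num
  have hv : ε * ((1 : ℤ) - 18 * a - 56 * b + 96 * c - 189 * d) = y := by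
    rw [heq, ← mul_assoc, hεε, one_mul]
  have key := counts_arith_aux ⟨a, ha⟩ ⟨b, hb⟩ ⟨c, hc⟩ ⟨d, hd⟩ s ⟨e, he7⟩ he hsum
  simp only [← hs] at key
  rw [hv] at key
  exact key (Int.natCast_nonneg y) (by rw [Int.toNat_natCast]; exact hy) hmod
    (by rw [Int.toNat_natCast]; exact hsq)

end Cfsg.Agent.Helper41.O459
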