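import Mathlib
import Cfsg.Prelude.Def_Characters
import Cfsg.Prelude.Def_Blocks
import Cfsg.Agent.Helper82.Knorr

/-!
# (COL) for S1022 (helper17): two large character values force a large centralizer
-/

set_option autoImplicit false
set_option linter.style.haveILetI false

namespace Cfsg.Agent.Helper41.O459

open Cfsg Subgroup

universe u

variable {G : Type u} [Group G] [Finite G]

/-- (COL) -/
theorem card_centralizer_gt (χ χ' : IrrCharacter G) (hne : χ ≠ χ') (y : G)
    (h : 18 ≤ ‖(χ : G → ℂ) y‖) (h' : 18 ≤ ‖(χ' : G → ℂ) y‖) :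
    456 < Nat.card (centralizer ({y} : Set G)) := by
  classical
  haveI : Fintype G := Fintype.ofFinite G
  haveI : Finite (IrrCharacter G) := Cfsg.Agent.Helper79.irr_finite'
  haveI : Fintype (IrrCharacter G) := Fintype.ofFinite _
  have hsum := Cfsg.Agent.Helper82.sum_irr_normSq_eq_card_centralizer (G := G) y
  have hsub : ({χ, χ'} : Finset (IrrCharacter G)) ⊆ Finset.univ := Finset.subset_univ _
  have hle := Finset.sum_le_sum_of_subset_of_nonneg
    (f := fun ψ : IrrCharacter G => ‖(ψ : G → ℂ) y‖ ^ 2) hsub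
    (fun ψ _ _ => by positivity)
  rw [Finset.sum_pair hne, hsum] at hle
  have h1 : (18 : ℝ) ^ 2 ≤ ‖(χ : G → ℂ) y‖ ^ 2 := pow_le_pow_left₀ (by norm_num) h 2
  have h3 : (18 : ℝ) ^ 2 ≤ ‖(χ' : G → ℂ) y‖ ^ 2 := pow_le_pow_left₀ (by norm_num) h' 2
  have h4 : (456 : ℝ) < (Nat.card (centralizer ({y} : Set G)) : ℝ) := by
    norm_num at h1 h3
    linarith
  exact_mod_cast h4

end Cfsg.Agent.Helper41.O459
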