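import Mathlib
import Cfsg.Prelude.Def_Characters
import Cfsg.Prelude.Def_Blocks
import Cfsg.Agent.Helper75.FrobeniusKernel
import Cfsg.Agent.Helper74.CharBasic
import Cfsg.Agent.Helper79.CharComplete

/-!
# (KER) for S1022 (helper17): nonlinear irreducible characters of a simple group are faithful
-/

set_option autoImplicit false
set_option linter.style.haveILetI false

namespace Cfsg.Agent.Helper41.O459

open Cfsg Subgroup
open scoped ComplexConjugate

universe u

variable {G : Type u} [Group G] [Finite G]

/-- (KER) -/
theorem eq_one_of_apply_eq_apply_one [IsSimpleGroup G] (χ : IrrCharacter G)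
    (hd : 1 < charDegree (χ : G → ℂ)) (y : G) (h : (χ : G → ℂ) y = (χ : G → ℂ) 1) : y = 1 := by
  classical
  haveI : Fintype G := Fintype.ofFinite G
  obtain ⟨N, hN, hmem⟩ :=
    Cfsg.Agent.Helper75.fk_exists_normal_kernel (Cfsg.Agent.Helper74.irr_isCharacter χ)
  rcases hN.eq_bot_or_eq_top with hbot | htop
  · have : y ∈ N := (hmem y).mpr h
    rw [hbot, Subgroup.mem_bot] at this
    exact this
  · exfalso
    have hconst : ∀ g : G, (χ : G → ℂ) g = (charDegree (χ : G → ℂ) : ℂ) := by
      intro g
      have : g ∈ N := by rw [htop]; exact Subgroup.mem_top g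
      rw [(hmem g).mp this, Cfsg.Agent.Helper79.irr_one]
    have horth := Cfsg.Agent.Helper74.irr_orthonormal χ χ
    rw [if_pos rfl] at horth
    unfold classInner at horth
    simp only [hconst, Complex.conj_natCast, Finset.sum_const, Finset.card_univ, nsmul_eq_mul,
      ← Nat.card_eq_fintype_card] at horth
    have hG0 : (Nat.card G : ℂ) ≠ 0 := by exact_mod_cast Nat.card_pos.ne'
    rw [inv_mul_cancel_left₀ hG0] at horth
    have : charDegree (χ : G → ℂ) * charDegree (χ : G → ℂ) = 1 := by exact_mod_cast horth
    have h1 : charDegree (χ : G → ℂ) = 1 := Nat.eq_one_of_mul_eq_one_left this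
    omega

end Cfsg.Agent.Helper41.O459
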