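import Cfsg.Agent.Helper18.InvOdd.G2D

/-!
helper41 for helper18 (S4279, board #11843): piece (C5c) `cPhi_mem` of `tools/helper18_g2inv/SkelC.lean.txt`.
`CParam`, `cPhi` are verbatim copies of the skeleton's definitions; `cPhi_mem_core` is the same statement without them.
-/

set_option autoImplicit false
set_option maxRecDepth 100000

namespace Cfsg.Agent.Helper41.G2Cent

open Cfsg Cfsg.Lie Cfsg.Agent.Helper18 Cfsg.Agent.Helper18.G2Odd Cfsg.Agent.Helper40.SL2Hom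

variable {F : Type*} [Field F]

/-- the torus parameters are determined by the two characters `chr 7`, `chr 6` -/
theorem C5c_tor_eq (c₀ c₁ d₀ d₁ : Fˣ) (h7 : chr 7 c₀ c₁ = chr 7 d₀ d₁) (h6 : chr 6 c₀ c₁ = chr 6 d₀ d₁) :
    c₀ = d₀ ∧ c₁ = d₁ := by
  rw [chr7, chr7] at h7
  rw [chr6, chr6] at h6
  have e0 : ∀ a b : Fˣ, a = (a ^ (2 : ℤ) * b ^ (-1 : ℤ)) ^ (2 : ℤ) * (a ^ (-3 : ℤ) * b ^ (2 : ℤ)) := by
    intro a b
    rw [mul_zpow, ← zpow_mul, ← zpow_mul, mul_mul_mul_comm, ← zpow_add, ← zpow_add]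
    norm_num
  have e1 : ∀ a b : Fˣ, b = (a ^ (2 : ℤ) * b ^ (-1 : ℤ)) ^ (3 : ℤ) * (a ^ (-3 : ℤ) * b ^ (2 : ℤ)) ^ (2 : ℤ) := by
    intro a b
    rw [mul_zpow, mul_zpow, ← zpow_mul, ← zpow_mul, ← zpow_mul, ← zpow_mul, mul_mul_mul_comm, ← zpow_add,
      ← zpow_add]
    norm_num
  constructor
  · rw [e0 c₀ c₁, h7, h6, ← e0]
  · rw [e1 c₀ c₁, h7, h6, ← e1]

/-- an element of `H` is determined by its action on `X 6 1` and `X 7 1` -/
theorem C5c_diag_eq (k k' : GL chevG2.Idx F) (hk : k ∈ chevG2.diagonalSubgroup F)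
    (hk' : k' ∈ chevG2.diagonalSubgroup F)
    (h6 : k * X 6 (1 : F) * k⁻¹ = k' * X 6 1 * k'⁻¹) (h7 : k * X 7 (1 : F) * k⁻¹ = k' * X 7 1 * k'⁻¹) : k = k' := by
  obtain ⟨c₀, c₁, rfl⟩ := (mem_diagonal_iff k).mp hk
  obtain ⟨d₀, d₁, rfl⟩ := (mem_diagonal_iff k').mp hk'
  rw [tor_conj c₀ c₁ 6 (by decide), tor_conj d₀ d₁ 6 (by decide)] at h6
  rw [tor_conj c₀ c₁ 7 (by decide), tor_conj d₀ d₁ 7 (by decide)] at h7
  have e6 := X_injective 6 (by decide) _ _ h6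
  have e7 := X_injective 7 (by decide) _ _ h7
  rw [mul_one, mul_one] at e6 e7
  obtain ⟨a, b⟩ := C5c_tor_eq c₀ c₁ d₀ d₁ (Units.ext e7) (Units.ext e6)
  rw [a, b]

/-- `n_w` commutes with `τ` as soon as `w` preserves the sign of `τ` on the roots `6`, `7` -/
theorem C5c_nW_comm (w : List ℕ) (hw : ∀ i ∈ w, i < 2) (h6 : tsign (rho chevG2 w 6) = tsign 6)
    (h7 : tsign (rho chevG2 w 7) = tsign 7) : nW (F := F) w * tau = tau * nW w := by
  have hmem : (nW (F := F) w)⁻¹ * tau * nW w ∈ chevG2.diagonalSubgroup F := by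
    have := conj_mem_diagonal (nW (F := F) w)⁻¹ tau (inv_mem (nW_mem w hw)) tau_mem_diagonal
    rwa [inv_inv] at this
  have key : ∀ s < 12, tsign (rho chevG2 w s) = tsign s →
      ((nW (F := F) w)⁻¹ * tau * nW w) * X s (1 : F) * ((nW (F := F) w)⁻¹ * tau * nW w)⁻¹ =
        tau * X s 1 * tau⁻¹ := by
    intro s hs hsign
    obtain ⟨hlt, η, _, hc⟩ := nW_conj (F := F) w hw s hs
    have e1 : ((nW (F := F) w)⁻¹ * tau * nW w) * X s (1 : F) * ((nW (F := F) w)⁻¹ * tau * nW w)⁻¹ =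
        (nW (F := F) w)⁻¹ * (tau * (nW w * X s (1 : F) * (nW w)⁻¹) * tau⁻¹) * nW w := by group
    rw [e1, hc, tau_conj _ hlt, hsign, tau_conj s hs]
    have e2 : ((tsign s : ℤ) : F) * (η * 1) = η * (((tsign s : ℤ) : F) * 1) := by ring
    rw [e2, ← hc]
    group
  have := C5c_diag_eq _ _ hmem tau_mem_diagonal (key 6 (by decide) h6) (key 7 (by decide) h7)
  calc nW (F := F) w * tau = nW w * ((nW (F := F) w)⁻¹ * tau * nW w) := by rw [this]
    _ = tau * nW w := by group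

theorem C5c_X_comm (r : ℕ) (hr : r = 6 ∨ r = 9) (t : F) : Commute (X r t) (tau (F := F)) := by
  have h1 : tau * X r t * tau⁻¹ = X r t := by
    rcases hr with rfl | rfl
    · rw [tau_conj 6 (by decide)]
      simp [tsign]
    · rw [tau_conj 9 (by decide)]
      simp [tsign]
  have h2 : tau * X r t = X r t * tau := by
    calc tau * X r t = tau * X r t * tau⁻¹ * tau := by group
      _ = X r t * tau := by rw [h1]
  exact h2.symm

theorem C5c_w_lt : (∀ i ∈ [1], i < 2) ∧ (∀ i ∈ [0, 1, 0, 1, 0], i < 2) ∧ (∀ i ∈ [0, 1, 0, 1, 0, 1], i < 2) := by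
  decide

/-- (C5c) without `cPhi`: the four shapes of elements lie in `G` and commute with `τ` -/
theorem cPhi_mem_core (a b : F) (k : GL chevG2.Idx F) (hk : k ∈ chevG2.diagonalSubgroup F) (ν : GL chevG2.Idx F)
    (hν : ν = 1 ∨ (∃ s : F, ν = nW [1] * X 6 s) ∨ (∃ s' : F, ν = nW [0, 1, 0, 1, 0] * X 9 s') ∨
      ∃ s s' : F, ν = nW [0, 1, 0, 1, 0, 1] * (X 6 s * X 9 s')) :
    X 6 a * X 9 b * k * ν ∈ chevG2.group F ∧ X 6 a * X 9 b * k * ν * tau = tau * (X 6 a * X 9 b * k * ν) := by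
  obtain ⟨hw1, hw5, hw6⟩ := C5c_w_lt
  have hn1 : Commute (nW (F := F) [1]) tau := C5c_nW_comm [1] hw1 (by decide) (by decide)
  have hn5 : Commute (nW (F := F) [0, 1, 0, 1, 0]) tau := C5c_nW_comm _ hw5 (by decide) (by decide)
  have hn6 : Commute (nW (F := F) [0, 1, 0, 1, 0, 1]) tau := C5c_nW_comm _ hw6 (by decide) (by decide)
  have hkc : Commute k (tau (F := F)) := diag_comm k tau hk tau_mem_diagonal
  have hpre : X 6 a * X 9 b * k ∈ chevG2.group F :=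
    mul_mem (mul_mem (X_mem_group _ _) (X_mem_group _ _)) (diagonal_le_group hk)
  have hprec : Commute (X 6 a * X 9 b * k) (tau (F := F)) :=
    ((C5c_X_comm 6 (Or.inl rfl) a).mul_left (C5c_X_comm 9 (Or.inr rfl) b)).mul_left hkc
  have hνboth : ν ∈ chevG2.group F ∧ Commute ν (tau (F := F)) := by
    rcases hν with rfl | ⟨s, rfl⟩ | ⟨s', rfl⟩ | ⟨s, s', rfl⟩
    · exact ⟨one_mem _, Commute.one_left _⟩
    · exact ⟨mul_mem (monomial_le_group (nW_mem _ hw1)) (X_mem_group _ _),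
        hn1.mul_left (C5c_X_comm 6 (Or.inl rfl) s)⟩
    · exact ⟨mul_mem (monomial_le_group (nW_mem _ hw5)) (X_mem_group _ _),
        hn5.mul_left (C5c_X_comm 9 (Or.inr rfl) s')⟩
    · exact ⟨mul_mem (monomial_le_group (nW_mem _ hw6)) (mul_mem (X_mem_group _ _) (X_mem_group _ _)),
        hn6.mul_left ((C5c_X_comm 6 (Or.inl rfl) s).mul_left (C5c_X_comm 9 (Or.inr rfl) s'))⟩
  exact ⟨mul_mem hpre hνboth.1, (hprec.mul_left hνboth.2).eq⟩

/-- the parameter space of the centraliser: `(a, b, k)` and one of four cells -/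
abbrev CParam (F : Type*) [Field F] : Type _ :=
  (F × F × ↥(chevG2.diagonalSubgroup F)) × (Unit ⊕ F ⊕ F ⊕ (F × F))

/-- the parametrisation `X_6(a) X_9(b) k ν u` of the centraliser of `τ` -/
noncomputable def cPhi (p : CParam F) : GL chevG2.Idx F :=
  X 6 p.1.1 * X 9 p.1.2.1 * (p.1.2.2 : GL chevG2.Idx F) *
    (match p.2 with
      | Sum.inl _ => 1
      | Sum.inr (Sum.inl s) => nW [1] * X 6 s
      | Sum.inr (Sum.inr (Sum.inl s')) => nW [0, 1, 0, 1, 0] * X 9 s'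
      | Sum.inr (Sum.inr (Sum.inr (s, s'))) => nW [0, 1, 0, 1, 0, 1] * (X 6 s * X 9 s'))

/-- (C5c) the parametrised elements lie in `G` and commute with `τ`. -/
theorem cPhi_mem (p : CParam F) : cPhi p ∈ chevG2.group F ∧ cPhi p * tau = tau * cPhi p := by
  obtain ⟨⟨a, b, k⟩, (_ | s | s' | ⟨s, s'⟩)⟩ := p
  · exact cPhi_mem_core a b k k.2 _ (Or.inl rfl)
  · exact cPhi_mem_core a b k k.2 _ (Or.inr (Or.inl ⟨s, rfl⟩))
  · exact cPhi_mem_core a b k k.2 _ (Or.inr (Or.inr (Or.inl ⟨s', rfl⟩)))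
  · exact cPhi_mem_core a b k k.2 _ (Or.inr (Or.inr (Or.inr ⟨s, s', rfl⟩)))

end Cfsg.Agent.Helper41.G2Cent
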