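import Cfsg.Agent.Helper18.InvOdd.G2D

/-!
helper41 for helper18 (S4279, board #11843): piece (J) `phiR_injective` of `tools/helper18_g2inv/SkelC.lean.txt`.
-/

set_option autoImplicit false
set_option maxRecDepth 100000

namespace Cfsg.Agent.Helper41.G2Cent

open Cfsg Cfsg.Lie Cfsg.Agent.Helper18 Cfsg.Agent.Helper18.G2Odd Cfsg.Agent.Helper40.SL2Hom

variable {F : Type*} [Field F]

theorem J_phiR_apply (r : ℕ) (hr : r < 12) (A : Matrix.SpecialLinearGroup (Fin 2) F) :
    phiR r hr A = phi (X (F := F) r) (X (11 - r)) (A 0 0) (A 0 1) (A 1 0) (A 1 1) := rfl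

/-- (J) the rank-one homomorphisms of the roots `b` and `2a+b` are injective. -/
theorem phiR_injective (r : ℕ) (hr : r = 6 ∨ r = 9) :
    Function.Injective (phiR (F := F) r (by rcases hr with rfl | rfl <;> decide)) := by
  have hr12 : r < 12 := by rcases hr with rfl | rfl <;> decide
  have hr6 : 6 ≤ r ∧ r < 12 := by rcases hr with rfl | rfl <;> decide
  rw [injective_iff_map_eq_one]
  intro A hA
  rw [J_phiR_apply] at hA
  have hdet := sl2_det A
  unfold phi at hA
  by_cases hc : A 1 0 = 0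
  · rw [if_pos hc] at hA
    rw [hc, mul_zero, sub_zero] at hdet
    have ha0 : A 0 0 ≠ 0 := by
      intro h0
      rw [h0, zero_mul] at hdet
      exact zero_ne_one hdet
    -- `X r (a b) = (hh r a)⁻¹ ∈ U ⊓ H = ⊥`
    have hUH := (Cfsg.Agent.S1036.result (F := F) chevG2 hG2).2
    have hX : X r (A 0 0 * A 0 1) = (hh r (A 0 0))⁻¹ := eq_inv_of_mul_eq_one_left hA
    have m1 : X r (A 0 0 * A 0 1) ∈ chevG2.posUnipotent F ⊓ chevG2.diagonalSubgroup F := by
      refine ⟨X_mem_pos r hr6 _, ?_⟩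
      rw [hX]
      exact (chevG2.diagonalSubgroup F).inv_mem (hh_mem_diagonal r hr12 _ ha0)
    rw [hUH, Subgroup.mem_bot] at m1
    have hab : A 0 0 * A 0 1 = 0 := X_injective r hr12 _ _ (m1.trans (X_zero r).symm)
    have hb : A 0 1 = 0 := by
      rcases mul_eq_zero.mp hab with h | h
      · exact absurd h ha0
      · exact h
    have hh1 : hh r (A 0 0) = 1 := by
      rw [m1, one_mul] at hA
      exact hA
    have h7 := hh_conj r 7 hr12 (by decide) (A 0 0) (1 : F) ha0
    rw [hh1, one_mul, inv_one, mul_one] at h7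
    have h7' := X_injective 7 (by decide) _ _ h7
    have ha1 : A 0 0 = 1 := by
      rcases hr with rfl | rfl
      · have hp : pairing' chevG2 6 7 = -1 := by decide
        rw [hp, zpow_neg_one, mul_one] at h7'
        exact (inv_eq_one.mp h7'.symm)
      · have hp : pairing' chevG2 9 7 = 1 := by decide
        rw [hp, zpow_one, mul_one] at h7'
        exact h7'.symm
    have hd1 : A 1 1 = 1 := by
      rw [ha1, one_mul] at hdet
      exact hdet
    apply sl2_ext
    · rw [ha1]; rfl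
    · rw [hb]; rfl
    · rw [hc]; rfl
    · rw [hd1]; rfl
  · exfalso
    rw [if_neg hc] at hA
    have hBN := (Cfsg.Agent.S1040.result (F := F) chevG2 hG2).2
    have hc' : -(A 1 0)⁻¹ ≠ 0 := neg_ne_zero.2 (inv_ne_zero hc)
    have hn : nn (F := F) r = (hh r (-(A 1 0)⁻¹))⁻¹ * (X r (A 0 0 / A 1 0))⁻¹ * (X r (A 1 1 / A 1 0))⁻¹ := by
      have : w (X (F := F) r) (X (11 - r)) 1 = nn r := rfl
      rw [this] at hA
      have h2 : hh r (-(A 1 0)⁻¹) = h (X (F := F) r) (X (11 - r)) (-(A 1 0)⁻¹) := rfl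
      rw [← h2] at hA
      calc nn (F := F) r = (hh r (-(A 1 0)⁻¹))⁻¹ * (X r (A 0 0 / A 1 0))⁻¹ *
            (X r (A 0 0 / A 1 0) * hh r (-(A 1 0)⁻¹) * nn r * X r (A 1 1 / A 1 0)) * (X r (A 1 1 / A 1 0))⁻¹ := by
            group
        _ = _ := by rw [hA, mul_one]
    have m1 : nn (F := F) r ∈ chevG2.borelSubgroup F ⊓ chevG2.monomialSubgroup F := by
      refine ⟨?_, nn_mem_monomial r hr12⟩
      rw [hn]
      refine (chevG2.borelSubgroup F).mul_mem ((chevG2.borelSubgroup F).mul_mem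
        ((chevG2.borelSubgroup F).inv_mem ?_) ((chevG2.borelSubgroup F).inv_mem ?_))
        ((chevG2.borelSubgroup F).inv_mem ?_)
      · exact diagonal_le_borel (F := F) chevG2 hG2 (hh_mem_diagonal r hr12 _ hc')
      · exact posUnipotent_le_borel (F := F) chevG2 hG2 (X_mem_pos r hr6 _)
      · exact posUnipotent_le_borel (F := F) chevG2 hG2 (X_mem_pos r hr6 _)
    rw [hBN] at m1
    exact nn_not_mem_diagonal r hr12 m1

end Cfsg.Agent.Helper41.G2Cent
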