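import Cfsg.Agent.Helper18.InvOdd.G2B
import Cfsg.Agent.Helper72.G2InvFF1
import Cfsg.Agent.Helper72.G2InvR2
import Cfsg.Agent.Helper89.G2InvFF2

/-!
# Piece (E) for helper18 (S4278/S4279, involutions of `G₂(q)`, `q` odd): involutions over the longest
Weyl element
-/

set_option autoImplicit false
set_option maxRecDepth 100000

namespace Cfsg.Agent.Helper41.G2Inv

open Cfsg Cfsg.Lie Cfsg.Agent.Helper18 Cfsg.Agent.Helper18.G2Odd Cfsg.Agent.Helper40.SL2Hom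

variable {F : Type*} [Field F]

/-- the flip (the statement of piece (FL), proved here from (R2) and (FF1)) -/
theorem E_flip [Fintype F] (hF : Odd (Fintype.card F)) (r : ℕ) (hr : r < 12) (m : GL chevG2.Idx F)
    (hmm : m * m = 1) (c f : F) (hf : f ≠ 0) (hc : c * (f * f) = -1)
    (hx : ∀ t : F, m * X r t * m⁻¹ = X (11 - r) (c * t)) :
    ConjG m (m * hh r (-1)) := by
  obtain ⟨p, ρ, hs⟩ := Cfsg.Agent.Helper72.G2Inv.exists_sq_add_sq_eq_neg_one hF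
  have hminv : m⁻¹ = m := inv_eq_of_mul_eq_one_left hmm
  have hc0 : c ≠ 0 := by
    rintro rfl
    rw [zero_mul] at hc
    have h1 : (1 : F) = 0 := by linear_combination hc
    exact one_ne_zero h1
  have hy : ∀ t : F, m * X (11 - r) t * m⁻¹ = X r (c⁻¹ * t) := by
    intro t
    have h1 := hx (c⁻¹ * t)
    rw [← mul_assoc, mul_inv_cancel₀ hc0, one_mul] at h1
    rw [← h1, hminv]
    calc m * (m * X r (c⁻¹ * t) * m) * m
        = (m * m) * X r (c⁻¹ * t) * (m * m) := by group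
      _ = X r (c⁻¹ * t) := by rw [hmm, one_mul, mul_one]
  obtain ⟨g, hg, hgm⟩ := Cfsg.Agent.Helper72.G2Inv.rank1_flip (relX (F := F) r hr) m c f p ρ hf hc hs hx hy
  have hle : Subgroup.closure (Set.range (X (F := F) r) ∪ Set.range (X (F := F) (11 - r))) ≤
      chevG2.group F := by
    rw [Subgroup.closure_le]
    rintro z (⟨t, rfl⟩ | ⟨t, rfl⟩)
    · exact X_mem_group r t
    · exact X_mem_group (11 - r) t
  exact ⟨g, hle hg, hgm⟩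

/-- a nonzero square times a non-square is a non-square -/
theorem E_not_isSquare_mul {a b : F} (ha : IsSquare a) (ha0 : a ≠ 0) (hb : ¬ IsSquare b) :
    ¬ IsSquare (a * b) := by
  rintro ⟨l, hl⟩
  obtain ⟨j, hj⟩ := ha
  apply hb
  have hj0 : j ≠ 0 := by
    rintro rfl
    rw [mul_zero] at hj
    exact ha0 hj
  refine ⟨l / j, ?_⟩
  field_simp
  rw [hj] at hl
  linear_combination hl

/-- (E) an involution `m = k n_{w₀}` over the longest element is conjugate to an involution `m₂ = k₂ n_{w₀}`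
which sends `X_s(t)` to `X_{-s}(e² t)` for some `s ∈ {6, 7, 8}`. -/
theorem longest_invol_square [Fintype F] (hF : Odd (Fintype.card F)) (k : GL chevG2.Idx F)
    (hk : k ∈ chevG2.diagonalSubgroup F)
    (h2 : (k * nW [0, 1, 0, 1, 0, 1]) * (k * nW [0, 1, 0, 1, 0, 1]) = 1) :
    ∃ k₂ ∈ chevG2.diagonalSubgroup F, ConjG (k * nW [0, 1, 0, 1, 0, 1]) (k₂ * nW [0, 1, 0, 1, 0, 1]) ∧
      ∃ s : ℕ, (s = 6 ∨ s = 7 ∨ s = 8) ∧ ∃ e : F, e ≠ 0 ∧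
        ∀ t : F, (k₂ * nW [0, 1, 0, 1, 0, 1]) * X s t * (k₂ * nW [0, 1, 0, 1, 0, 1])⁻¹ = X (11 - s) (e * e * t) := by
  obtain ⟨c₀, c₁, rfl⟩ := (mem_diagonal_iff k).mp hk
  have hw : ∀ i ∈ [0, 1, 0, 1, 0, 1], i < 2 := by decide
  -- the action of `m` on the root groups
  have hconj : ∀ s, s < 12 → rho chevG2 [0, 1, 0, 1, 0, 1] s = 11 - s →
      ∃ c : F, c ≠ 0 ∧ (∃ η : F, (η = 1 ∨ η = -1) ∧ c = ((chr (11 - s) c₀ c₁ : Fˣ) : F) * η) ∧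
        ∀ t : F, (tor c₀ c₁ * nW [0, 1, 0, 1, 0, 1]) * X s t * (tor c₀ c₁ * nW [0, 1, 0, 1, 0, 1])⁻¹ =
          X (11 - s) (c * t) := by
    intro s hs hrho
    obtain ⟨-, η, hη, hcj⟩ := nW_conj (F := F) [0, 1, 0, 1, 0, 1] hw s hs
    have hη0 : η ≠ 0 := by
      rcases hη with rfl | rfl
      · exact one_ne_zero
      · exact neg_ne_zero.2 one_ne_zero
    refine ⟨((chr (11 - s) c₀ c₁ : Fˣ) : F) * η, mul_ne_zero (Units.ne_zero _) hη0, ⟨η, hη, rfl⟩, fun t => ?_⟩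
    rw [mul_inv_rev]
    calc tor c₀ c₁ * nW [0, 1, 0, 1, 0, 1] * X s t * ((nW [0, 1, 0, 1, 0, 1])⁻¹ * (tor c₀ c₁)⁻¹)
        = tor c₀ c₁ * (nW [0, 1, 0, 1, 0, 1] * X s t * (nW [0, 1, 0, 1, 0, 1])⁻¹) * (tor c₀ c₁)⁻¹ := by
          group
      _ = X (11 - s) (((chr (11 - s) c₀ c₁ : Fˣ) : F) * η * t) := by
          rw [hcj t, hrho, tor_conj c₀ c₁ (11 - s) (by omega), mul_assoc]
  have hr6 : rho chevG2 [0, 1, 0, 1, 0, 1] 6 = 11 - 6 := by decide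
  have hr7 : rho chevG2 [0, 1, 0, 1, 0, 1] 7 = 11 - 7 := by decide
  have hr8 : rho chevG2 [0, 1, 0, 1, 0, 1] 8 = 11 - 8 := by decide
  obtain ⟨c6, hc60, ⟨η6, hη6, hc6⟩, h6⟩ := hconj 6 (by decide) hr6
  obtain ⟨c7, hc70, ⟨η7, hη7, hc7⟩, h7⟩ := hconj 7 (by decide) hr7
  obtain ⟨c8, hc80, ⟨η8, hη8, hc8⟩, h8⟩ := hconj 8 (by decide) hr8
  -- the easy cases: some `c_s` is a square
  have heasy : ∀ s, (s = 6 ∨ s = 7 ∨ s = 8) → ∀ c : F, c ≠ 0 → IsSquare c →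
      (∀ t : F, (tor c₀ c₁ * nW [0, 1, 0, 1, 0, 1]) * X s t * (tor c₀ c₁ * nW [0, 1, 0, 1, 0, 1])⁻¹ =
          X (11 - s) (c * t)) →
      ∃ k₂ ∈ chevG2.diagonalSubgroup F,
        ConjG (tor c₀ c₁ * nW [0, 1, 0, 1, 0, 1]) (k₂ * nW [0, 1, 0, 1, 0, 1]) ∧
        ∃ s : ℕ, (s = 6 ∨ s = 7 ∨ s = 8) ∧ ∃ e : F, e ≠ 0 ∧
          ∀ t : F, (k₂ * nW [0, 1, 0, 1, 0, 1]) * X s t * (k₂ * nW [0, 1, 0, 1, 0, 1])⁻¹ =
            X (11 - s) (e * e * t) := by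
    intro s hs c hc0 ⟨e, he⟩ hcs
    have he0 : e ≠ 0 := by
      rintro rfl
      rw [mul_zero] at he
      exact hc0 he
    refine ⟨tor c₀ c₁, tor_mem c₀ c₁, ConjG.refl _, s, hs, e, he0, fun t => ?_⟩
    rw [hcs t, he]
  by_cases hs6 : IsSquare c6
  · exact heasy 6 (Or.inl rfl) c6 hc60 hs6 h6
  by_cases hs7 : IsSquare c7
  · exact heasy 7 (Or.inr (Or.inl rfl)) c7 hc70 hs7 h7
  by_cases hs8 : IsSquare c8
  · exact heasy 8 (Or.inr (Or.inr rfl)) c8 hc80 hs8 h8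
  -- all three are non-squares: `-1` is a non-square
  have hsq67 : IsSquare (c6 * c7) := Cfsg.Agent.Helper89.G2Inv.isSquare_mul_of_not_isSquare hF hs6 hs7
  have hns678 : ¬ IsSquare (c6 * c7 * c8) := E_not_isSquare_mul hsq67 (mul_ne_zero hc60 hc70) hs8
  -- characters
  have e5 : chr (11 - 6) c₀ c₁ = (chr 6 c₀ c₁)⁻¹ := by
    show c₀ ^ chevG2.cartan 0 5 * c₁ ^ chevG2.cartan 1 5 =
      (c₀ ^ chevG2.cartan 0 6 * c₁ ^ chevG2.cartan 1 6)⁻¹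
    rw [mul_inv, ← zpow_neg, ← zpow_neg]
    rfl
  have e4 : chr (11 - 7) c₀ c₁ = (chr 7 c₀ c₁)⁻¹ := by
    show c₀ ^ chevG2.cartan 0 4 * c₁ ^ chevG2.cartan 1 4 =
      (c₀ ^ chevG2.cartan 0 7 * c₁ ^ chevG2.cartan 1 7)⁻¹
    rw [mul_inv, ← zpow_neg, ← zpow_neg]
    rfl
  have e3 : chr (11 - 8) c₀ c₁ = (chr 7 c₀ c₁)⁻¹ * (chr 6 c₀ c₁)⁻¹ := by
    show c₀ ^ chevG2.cartan 0 3 * c₁ ^ chevG2.cartan 1 3 =
      (c₀ ^ chevG2.cartan 0 7 * c₁ ^ chevG2.cartan 1 7)⁻¹ *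
        (c₀ ^ chevG2.cartan 0 6 * c₁ ^ chevG2.cartan 1 6)⁻¹
    rw [mul_inv, mul_inv, ← zpow_neg, ← zpow_neg, ← zpow_neg, ← zpow_neg, mul_mul_mul_comm,
      ← zpow_add, ← zpow_add]
    rfl
  set u : F := (((chr 7 c₀ c₁)⁻¹ * (chr 6 c₀ c₁)⁻¹ : Fˣ) : F) with hu
  have hu0 : u ≠ 0 := Units.ne_zero _
  have hprod : c6 * c7 * c8 = (η6 * η7 * η8) * (u * u) := by
    rw [hc6, hc7, hc8, e5, e4, e3, hu]
    push_cast
    ring
  have hηprod : η6 * η7 * η8 = 1 ∨ η6 * η7 * η8 = -1 := by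
    rcases hη6 with rfl | rfl <;> rcases hη7 with rfl | rfl <;> rcases hη8 with rfl | rfl <;> simp
  have hneg1 : ¬ IsSquare (-1 : F) := by
    rintro ⟨j, hj⟩
    apply hns678
    rw [hprod]
    rcases hηprod with h1 | h1
    · rw [h1, one_mul]
      exact ⟨u, rfl⟩
    · rw [h1]
      exact ⟨j * u, by rw [hj]; ring⟩
  -- flip at the root `6`
  obtain ⟨j, hj⟩ := Cfsg.Agent.Helper89.G2Inv.isSquare_mul_of_not_isSquare hF hneg1 hs6
  have hj0 : j ≠ 0 := by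
    rintro rfl
    rw [mul_zero] at hj
    have : c6 = 0 := by linear_combination -hj
    exact hc60 this
  have hflip := E_flip hF 6 (by decide) (tor c₀ c₁ * nW [0, 1, 0, 1, 0, 1]) h2 c6 j⁻¹ (inv_ne_zero hj0)
    (by
      field_simp
      linear_combination (-1 : F) * hj) h6
  have hk₂ : tor c₀ c₁ * (nW [0, 1, 0, 1, 0, 1] * hh 6 (-1) * (nW [0, 1, 0, 1, 0, 1])⁻¹) ∈
      chevG2.diagonalSubgroup F :=
    mul_mem (tor_mem c₀ c₁) (conj_mem_diagonal _ _ (nW_mem _ hw)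
      (hh_mem_diagonal 6 (by decide) (-1) (neg_ne_zero.2 one_ne_zero)))
  have hk₂eq : tor c₀ c₁ * (nW [0, 1, 0, 1, 0, 1] * hh 6 (-1) * (nW [0, 1, 0, 1, 0, 1])⁻¹) *
      nW [0, 1, 0, 1, 0, 1] = tor c₀ c₁ * nW [0, 1, 0, 1, 0, 1] * hh 6 (-1 : F) := by
    group
  obtain ⟨e, he⟩ := Cfsg.Agent.Helper89.G2Inv.isSquare_mul_of_not_isSquare hF hneg1 hs7
  have he0 : e ≠ 0 := by
    rintro rfl
    rw [mul_zero] at he
    have : c7 = 0 := by linear_combination -he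
    exact hc70 this
  refine ⟨_, hk₂, ?_, 7, Or.inr (Or.inl rfl), e, he0, fun t => ?_⟩
  · rw [hk₂eq]
    exact hflip
  · rw [hk₂eq, mul_inv_rev]
    have hp : pairing' chevG2 6 7 = -1 := by decide
    calc tor c₀ c₁ * nW [0, 1, 0, 1, 0, 1] * hh 6 (-1 : F) * X 7 t *
          ((hh 6 (-1 : F))⁻¹ * (tor c₀ c₁ * nW [0, 1, 0, 1, 0, 1])⁻¹)
        = (tor c₀ c₁ * nW [0, 1, 0, 1, 0, 1]) * (hh 6 (-1 : F) * X 7 t * (hh 6 (-1 : F))⁻¹) *
            (tor c₀ c₁ * nW [0, 1, 0, 1, 0, 1])⁻¹ := by group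
      _ = X (11 - 7) (e * e * t) := by
          rw [hh_conj 6 7 (by decide) (by decide) (-1) t (neg_ne_zero.2 one_ne_zero), hp, h7]
          congr 1
          rw [zpow_neg_one, inv_neg_one]
          linear_combination t * he

end Cfsg.Agent.Helper41.G2Inv
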