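import Cfsg.Agent.Helper18.InvOdd.G2B
import Cfsg.Agent.Helper89.G2InvR1

/-!
# Piece (SP) for helper18 (S4278/S4279, involutions of `G₂(q)`, `q` odd): the split reduction
-/

set_option autoImplicit false

namespace Cfsg.Agent.Helper41.G2Inv

open Cfsg Cfsg.Lie Cfsg.Agent.Helper18 Cfsg.Agent.Helper18.G2Odd Cfsg.Agent.Helper40.SL2Hom

variable {F : Type*} [Field F]

/-- (SP) split reduction in `G₂`. -/
theorem split_reduce (r : ℕ) (hr : 6 ≤ r ∧ r < 12) (m : GL chevG2.Idx F) (hmm : m * m = 1) (e : F) (he : e ≠ 0)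
    (hx : ∀ t : F, m * X r t * m⁻¹ = X (11 - r) (e * e * t)) :
    ∃ b ∈ chevG2.borelSubgroup F, ConjG m ((nn r)⁻¹ * m * b) := by
  have hminv : m⁻¹ = m := inv_eq_of_mul_eq_one_left hmm
  have hee : e * e ≠ 0 := mul_ne_zero he he
  have hy : ∀ t : F, m * X (11 - r) t * m⁻¹ = X r ((e * e)⁻¹ * t) := by
    intro t
    have h1 := hx ((e * e)⁻¹ * t)
    rw [← mul_assoc, mul_inv_cancel₀ hee, one_mul] at h1
    rw [← h1, hminv]
    calc m * (m * X r ((e * e)⁻¹ * t) * m) * m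
        = (m * m) * X r ((e * e)⁻¹ * t) * (m * m) := by group
      _ = X r ((e * e)⁻¹ * t) := by rw [hmm, one_mul, mul_one]
  have h := Cfsg.Agent.Helper89.G2Inv.rank1_split (relX (F := F) r hr.2) m e he hx hy
  refine ⟨hh r e⁻¹ * X r e, ?_, (nn r)⁻¹ * X r e⁻¹, ?_, ?_⟩
  · exact mul_mem (diagonal_le_borel (F := F) chevG2 hG2 (hh_mem_diagonal r hr.2 e⁻¹ (inv_ne_zero he)))
      (posUnipotent_le_borel (F := F) chevG2 hG2 (X_mem_pos r hr e))
  · exact mul_mem (inv_mem (monomial_le_group (nn_mem_monomial r hr.2))) (X_mem_group r e⁻¹)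
  · rw [← mul_assoc ((nn r)⁻¹ * m)]
    exact h

end Cfsg.Agent.Helper41.G2Inv
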