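import Mathlib

/-!
# Piece (C4b-F) for helper62 (S3333): a subgroup of order 60 of `A₆` containing a 3-cycle is a
point stabilizer
-/

set_option autoImplicit false

namespace Cfsg.Agent.Helper41.S6

open Equiv Equiv.Perm MulAction

/-- a permutation of `Fin 6` of order 5 is a 5-cycle -/
theorem C4bF_isCycle {σ : Perm (Fin 6)} (h5 : orderOf σ = 5) :
    σ.IsCycle ∧ σ.support.card = 5 := by
  have hp : (orderOf σ).Prime := by rw [h5]; norm_num
  obtain ⟨n, hn⟩ := cycleType_prime_order hp
  have hsum : σ.cycleType.sum = σ.support.card := sum_cycleType σ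
  have hle : σ.cycleType.sum ≤ 6 := by
    have := sum_cycleType_le σ
    simpa using this
  rw [hn, h5] at hsum hle
  rw [Multiset.sum_replicate, smul_eq_mul] at hsum hle
  have hn0 : n = 0 := by omega
  subst hn0
  refine ⟨?_, by omega⟩
  rw [← card_cycleType_eq_one, hn]
  simp

/-- (C4b-F) a subgroup of order 60 of `A₆` containing a 3-cycle is a point stabilizer -/
theorem stabilizer_of_card_sixty (H : Subgroup (alternatingGroup (Fin 6))) (hH : Nat.card H = 60)
    (hc : ∃ c ∈ H, ((c : alternatingGroup (Fin 6)) : Equiv.Perm (Fin 6)).IsThreeCycle) :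
    ∃ i : Fin 6, H = MulAction.stabilizer (alternatingGroup (Fin 6)) i := by
  classical
  have : Fact (Nat.Prime 5) := ⟨by norm_num⟩
  obtain ⟨h, hh⟩ := exists_prime_orderOf_dvd_card' (G := H) 5 (by rw [hH]; norm_num)
  have h5 : orderOf (((h : alternatingGroup (Fin 6)) : Perm (Fin 6))) = 5 := by
    rw [Subgroup.orderOf_coe, Subgroup.orderOf_coe]; exact hh
  obtain ⟨hcyc, hsupp⟩ := C4bF_isCycle h5
  set σ : Perm (Fin 6) := ((h : alternatingGroup (Fin 6)) : Perm (Fin 6)) with hσ
  -- the image of `H` in `Perm (Fin 6)`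
  set K : Subgroup (Perm (Fin 6)) := H.map (alternatingGroup (Fin 6)).subtype with hK
  have hσK : σ ∈ K := ⟨h, h.2, rfl⟩
  have hKcard : Nat.card K = 60 := by
    rw [hK, Subgroup.card_map_of_injective (Subgroup.subtype_injective _), hH]
  -- the fixed point
  have hfix : ∃ i, σ i = i := by
    by_contra hne
    push Not at hne
    have : σ.support = Finset.univ := by
      ext x; simp [hne x]
    rw [this] at hsupp
    simp at hsupp
  obtain ⟨i, hi⟩ := hfix
  have hsup : σ.support = Finset.univ.erase i := by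
    apply Finset.eq_of_subset_of_card_le
    · intro x hx
      rw [Finset.mem_erase]
      refine ⟨?_, Finset.mem_univ _⟩
      rintro rfl
      exact (mem_support.1 hx) hi
    · rw [Finset.card_erase_of_mem (Finset.mem_univ _), hsupp]
      simp
  have hmove : ∀ a, a ≠ i → σ a ≠ a := by
    intro a ha
    rw [← mem_support, hsup, Finset.mem_erase]
    exact ⟨ha, Finset.mem_univ _⟩
  -- `σ` is transitive on the other points
  have T2 : ∀ a b, a ≠ i → b ≠ i → ∃ g ∈ K, g i = i ∧ g a = b := by
    intro a b ha hb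
    obtain ⟨k, hk⟩ := hcyc.exists_pow_eq (hmove a ha) (hmove b hb)
    refine ⟨σ ^ k, pow_mem hσK k, ?_, hk⟩
    exact (Perm.pow_apply_eq_self_of_apply_eq_self hi k)
  by_cases hall : ∀ g ∈ K, g i = i
  · -- `H` fixes `i`
    refine ⟨i, ?_⟩
    have hle : H ≤ MulAction.stabilizer (alternatingGroup (Fin 6)) i := by
      intro g hg
      rw [MulAction.mem_stabilizer_iff]
      exact hall _ ⟨g, hg, rfl⟩
    have htr : IsPretransitive (alternatingGroup (Fin 6)) (Fin 6) :=
      alternatingGroup.isPretransitive_of_three_le_card (Fin 6) (by simp)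
    have hidx := MulAction.index_stabilizer_of_transitive (alternatingGroup (Fin 6)) i
    have hmul := Subgroup.index_mul_card (MulAction.stabilizer (alternatingGroup (Fin 6)) i)
    rw [hidx, nat_card_alternatingGroup] at hmul
    have h6 : Nat.card (Fin 6) = 6 := by simp
    rw [h6] at hmul
    have hst : Nat.card (MulAction.stabilizer (alternatingGroup (Fin 6)) i) = 60 := by
      have : (Nat.factorial 6) / 2 = 360 := by decide
      rw [this] at hmul
      omega
    exact Subgroup.eq_of_le_of_card_ge hle (by rw [hst, hH])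
  · -- `H` moves `i`: it is 2-transitive, contradiction with Jordan's theorem
    exfalso
    push Not at hall
    obtain ⟨g₀, hg₀, hg₀i⟩ := hall
    have T1 : ∀ a, ∃ g ∈ K, g i = a := by
      intro a
      by_cases ha : a = i
      · exact ⟨1, one_mem _, by rw [ha]; rfl⟩
      · obtain ⟨g, hg, -, hga⟩ := T2 (g₀ i) a hg₀i ha
        exact ⟨g * g₀, mul_mem hg hg₀, by rw [Perm.mul_apply, hga]⟩
    have ainv : ∀ (g : Perm (Fin 6)) (x : Fin 6), g (g⁻¹ x) = x := fun g x => by
      rw [Perm.inv_def]; exact g.apply_symm_apply x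
    have inva : ∀ (g : Perm (Fin 6)) (x : Fin 6), g⁻¹ (g x) = x := fun g x => by
      rw [Perm.inv_def]; exact g.symm_apply_apply x
    have h2 : IsMultiplyPretransitive K (Fin 6) 2 := by
      rw [is_two_pretransitive_iff]
      intro a b c d hab hcd
      obtain ⟨g1, hg1, hg1a⟩ := T1 a
      obtain ⟨g2, hg2, hg2c⟩ := T1 c
      have hb' : g1⁻¹ b ≠ i := by
        intro hb
        apply hab
        rw [← hg1a, ← hb, ainv]
      have hd' : g2⁻¹ d ≠ i := by
        intro hd
        apply hcd
        rw [← hg2c, ← hd, ainv]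
      obtain ⟨g3, hg3, hg3i, hg3b⟩ := T2 _ _ hb' hd'
      refine ⟨⟨g2 * g3 * g1⁻¹, mul_mem (mul_mem hg2 hg3) (inv_mem hg1)⟩, ?_, ?_⟩
      · show (g2 * g3 * g1⁻¹) a = c
        rw [Perm.mul_apply, Perm.mul_apply, ← hg1a, inva, hg3i, hg2c]
      · show (g2 * g3 * g1⁻¹) b = d
        rw [Perm.mul_apply, Perm.mul_apply, hg3b, ainv]
    have hprim : IsPreprimitive K (Fin 6) := isPreprimitive_of_is_two_pretransitive h2
    obtain ⟨c, hcH, hc3⟩ := hc
    have hcK : ((c : alternatingGroup (Fin 6)) : Perm (Fin 6)) ∈ K := ⟨c, hcH, rfl⟩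
    have hA := alternatingGroup_le_of_isPreprimitive_of_isThreeCycle_mem hprim hc3 hcK
    have hcard := Subgroup.card_le_of_le hA
    rw [hKcard, nat_card_alternatingGroup] at hcard
    have h6 : Nat.card (Fin 6) = 6 := by simp
    rw [h6] at hcard
    have : (Nat.factorial 6) / 2 = 360 := by decide
    omega

end Cfsg.Agent.Helper41.S6
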