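import Mathlib
import Cfsg.Agent.Helper21.THDefs2

/-!
# Thompson S3797, piece (P1d2) of helper21's WANTED #5569: `SCfg.exists_R` (helper41)
-/

set_option autoImplicit false

namespace Cfsg.Agent.Helper41.TH

open Subgroup Cfsg
open Cfsg.Agent.Helper21.TH

universe u

variable {G : Type u} [Group G]

/-- `V` is normal in `G` (as `Ω₁` of the normal subgroup `O₂(G)`). -/
theorem SCfg.conj_mem_V {V T : Subgroup G} (h : SCfg G V T) {v : G} (hv : v ∈ V) (g : G) :
    g * v * g⁻¹ ∈ V := by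
  have hv' := (h.hV v).1 hv
  refine (h.hV _).2 ⟨(pCore_normal 2 G).conj_mem v hv'.1 g, ?_⟩
  rw [conj_pow, hv'.2]; group

theorem SCfg.V_normal {V T : Subgroup G} (h : SCfg G V T) : V.Normal :=
  ⟨fun _ hv g => SCfg.conj_mem_V h hv g⟩

/-- an involution in a nontrivial element of a 2-group -/
theorem exists_pow_involution {X : Subgroup G} (hX2 : IsPGroup 2 X) {x : G} (hx : x ∈ X) (hx1 : x ≠ 1) :
    ∃ n : ℕ, x ^ n ≠ 1 ∧ (x ^ n) ^ 2 = 1 := by
  obtain ⟨k, hk⟩ := hX2 ⟨x, hx⟩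
  have hk' : x ^ (2 ^ k) = 1 := by
    have := congrArg (Subtype.val) hk
    simpa using this
  -- minimal such k
  classical
  have hex : ∃ k : ℕ, x ^ (2 ^ k) = 1 := ⟨k, hk'⟩
  set m := Nat.find hex with hm
  have hm1 : x ^ (2 ^ m) = 1 := Nat.find_spec hex
  have hm0 : m ≠ 0 := by
    intro h0
    rw [h0] at hm1
    simp at hm1
    exact hx1 hm1
  obtain ⟨j, hj⟩ := Nat.exists_eq_succ_of_ne_zero hm0
  refine ⟨2 ^ j, ?_, ?_⟩
  · intro hc
    have : m ≤ j := Nat.find_min' hex hc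
    omega
  · rw [← pow_mul, ← pow_succ, ← Nat.succ_eq_add_one, ← hj]; exact hm1

/-- (P1d2) -/
theorem SCfg.exists_R [Finite G] {V T L X : Subgroup G} (h : SCfg G V T) (h1 : OneClass G)
    (hLN : L ≤ normalizer (T : Set G))
    (hX2 : IsPGroup 2 X) (hXL : X ≤ L) (hXsyl : ¬ 2 ∣ X.relIndex (normalizer (T : Set G)))
    (hLV : L ≤ centralizer (V : Set G))
    (hfrat : normalizer (T : Set G) ≤ L ⊔ (normalizer (X : Set G) ⊓ normalizer (T : Set G))) :
    ∃ R : Subgroup G, Odd (Nat.card R) ∧ R ≤ normalizer (T : Set G) ∧ R ≤ normalizer (X : Set G) ∧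
      (∀ v ∈ V, v ≠ 1 → ∀ w ∈ V, w ≠ 1 → ∃ r ∈ R, r * v * r⁻¹ = w) ∧
      (∀ x ∈ X, (∀ r ∈ R, r * x * r⁻¹ = x) → x = 1) := by
  classical
  set N : Subgroup G := normalizer (T : Set G) with hN
  set M₁ : Subgroup G := normalizer (X : Set G) ⊓ N with hM₁
  have hXM : X ≤ M₁ := le_inf le_normalizer (hXL.trans hLN)
  have hM₁N : M₁ ≤ N := inf_le_right
  have hM₁X : M₁ ≤ normalizer (X : Set G) := inf_le_left
  have hnorm : (X.subgroupOf M₁).Normal := by
    rw [← Subgroup.normal_subgroupOf_iff_le_normalizer hXM] at hM₁X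
    exact hM₁X
  -- the index of X in M₁ is odd
  have hidx : ¬ 2 ∣ X.relIndex M₁ := by
    intro hd
    apply hXsyl
    rw [← Subgroup.relIndex_mul_relIndex X M₁ N hXM hM₁N]
    exact Dvd.dvd.mul_right hd _
  have hcardX : ∃ k : ℕ, Nat.card (X.subgroupOf M₁) = 2 ^ k := by
    have : IsPGroup 2 (X.subgroupOf M₁) := hX2.comap_subtype
    exact (IsPGroup.iff_card).1 this
  obtain ⟨k, hk⟩ := hcardX
  have hidx' : (X.subgroupOf M₁).index = X.relIndex M₁ := rfl
  have hcop : Nat.Coprime (Nat.card (X.subgroupOf M₁)) (X.subgroupOf M₁).index := by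
    rw [hk, hidx']
    apply Nat.Coprime.pow_left
    exact (Nat.Prime.coprime_iff_not_dvd Nat.prime_two).2 hidx
  obtain ⟨R₀, hR₀⟩ := Subgroup.exists_right_complement'_of_coprime hcop
  set R : Subgroup G := R₀.map M₁.subtype with hR
  have hRM : R ≤ M₁ := Subgroup.map_subtype_le R₀
  have hcardR : Nat.card R = X.relIndex M₁ := by
    rw [hR, Subgroup.card_map_of_injective (Subgroup.subtype_injective M₁), ← hidx']
    exact hR₀.symm.index_eq_card.symm
  -- decomposition of `M₁`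
  have hdecomp : ∀ m ∈ M₁, ∃ x ∈ X, ∃ r ∈ R, m = x * r := by
    intro m hm
    obtain ⟨⟨a, b⟩, hab, -⟩ := hR₀.existsUnique ⟨m, hm⟩
    refine ⟨(a : M₁), a.2, (b : M₁), ⟨b, b.2, rfl⟩, ?_⟩
    have := congrArg Subtype.val hab
    simpa using this.symm
  have hVn : V.Normal := SCfg.V_normal h
  -- transitivity
  have htrans : ∀ v ∈ V, v ≠ 1 → ∀ w ∈ V, w ≠ 1 → ∃ r ∈ R, r * v * r⁻¹ = w := by
    intro v hv hv1 w hw hw1
    have hv2 := ((h.hV v).1 hv).2
    have hw2 := ((h.hV w).1 hw).2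
    obtain ⟨g, hg⟩ := isConj_iff.1 (h1 v w hv1 hv2 hw1 hw2)
    have hgtop : g ∈ N ⊔ pCore 2 G := by rw [hN, h.hfrat]; exact Subgroup.mem_top g
    obtain ⟨n, hn, p, hp, rfl⟩ := Subgroup.mem_sup_of_normal_right.1 hgtop
    have hpv : p * v = v * p := by
      have := h.hVZ hv
      rw [Subgroup.mem_centralizer_iff] at this
      exact this p hp
    have hnv : n * v * n⁻¹ = w := by
      rw [← hg]
      have : p * v * p⁻¹ = v := by rw [hpv]; group
      calc n * v * n⁻¹ = n * (p * v * p⁻¹) * n⁻¹ := by rw [this]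
        _ = n * p * v * (n * p)⁻¹ := by group
    have hn' : n ∈ centralizer (V : Set G) ⊔ R := by
      have h1' : L ⊔ M₁ ≤ centralizer (V : Set G) ⊔ R := by
        refine sup_le (hLV.trans le_sup_left) ?_
        intro m hm
        obtain ⟨x, hx, r, hr, rfl⟩ := hdecomp m hm
        exact Subgroup.mul_mem _ (Subgroup.mem_sup_left (hLV (hXL hx))) (Subgroup.mem_sup_right hr)
      exact h1' (hfrat hn)
    obtain ⟨c, hc, r, hr, rfl⟩ := Subgroup.mem_sup_of_normal_left.1 hn'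
    refine ⟨r, hr, ?_⟩
    have hrv : r * v * r⁻¹ ∈ V := hVn.conj_mem v hv r
    have hcc : c * (r * v * r⁻¹) = (r * v * r⁻¹) * c := by
      rw [Subgroup.mem_centralizer_iff] at hc
      exact (hc _ hrv).symm
    rw [← hnv]
    calc r * v * r⁻¹ = (r * v * r⁻¹) * c * c⁻¹ := by group
      _ = c * (r * v * r⁻¹) * c⁻¹ := by rw [hcc]
      _ = c * r * v * (c * r)⁻¹ := by group
  refine ⟨R, ?_, hRM.trans hM₁N, hRM.trans hM₁X, htrans, ?_⟩
  · rw [hcardR, ← Nat.not_even_iff_odd, even_iff_two_dvd]; exact hidx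
  · intro x hx hfix
    by_contra hx1
    obtain ⟨n, hn1, hn2⟩ := exists_pow_involution hX2 hx hx1
    set v := x ^ n with hv
    have hvV : v ∈ V := h.hinv v hn2
    have hvfix : ∀ r ∈ R, r * v * r⁻¹ = v := by
      intro r hr
      rw [hv, ← conj_pow, hfix r hr]
    -- a third element of V
    have : ∃ w ∈ V, w ≠ 1 ∧ w ≠ v := by
      by_contra hcon
      push Not at hcon
      have hsub : (V : Set G) ⊆ {1, v} := by
        intro w hw
        by_cases hw1 : w = 1
        · simp [hw1]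
        · simp [hcon w hw hw1]
      have hcard : Nat.card V ≤ 2 := by
        rw [← SetLike.coe_sort_coe, Nat.card_coe_set_eq]
        calc (V : Set G).ncard ≤ ({1, v} : Set G).ncard := Set.ncard_le_ncard hsub (Set.toFinite _)
          _ ≤ ({v} : Set G).ncard + 1 := Set.ncard_insert_le _ _
          _ = 2 := by rw [Set.ncard_singleton]
      have := h.hV4
      omega
    obtain ⟨w, hw, hw1, hwv⟩ := this
    obtain ⟨r, hr, hrw⟩ := htrans v hvV hn1 w hw hw1
    exact hwv (by rw [← hrw, hvfix r hr])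

end Cfsg.Agent.Helper41.TH
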