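import Mathlib
import Cfsg.Agent.Helper1.HKK.Basic
import Cfsg.Agent.Helper1.HKK.LoopDefs
import Cfsg.Agent.Helper71.Alp.Defs

/-!
# (E1) of #7711 for helper71 (S3782, Alperin): the modified eigen-family is a graded family
(helper41)
-/

set_option autoImplicit false
open Cfsg.Agent.Helper1.HKK
open Cfsg.Agent.Helper71.Alp

namespace Cfsg.Agent.Helper41.Alp

variable {p : ℕ} [Fact p.Prime] {L : Type*} [LieRing L]

/-- the modified eigen-family: `0 ↦ ⊥`, `k ↦ m • eigenFam φ k` -/
def mFam (φ : L →+ L) (m : ℕ) : ZMod p → AddSubgroup (Loop p L) := fun k =>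
  if k = 0 then ⊥ else (eigenFam (p := p) φ k).map (nsmulAddMonoidHom m)

/-- the bracket of eigen-elements is an eigen-element (no fixed-point hypothesis needed). -/
theorem lie_mem_eigenFam (φ : L →+ L) (hφ : ∀ x y, φ ⁅x, y⁆ = ⁅φ x, φ y⁆) {i j : ZMod p}
    {f g : Loop p L} (hf : f ∈ eigenFam (p := p) φ i) (hg : g ∈ eigenFam (p := p) φ j) :
    ⁅f, g⁆ ∈ eigenFam (p := p) φ (i + j) := by
  rw [mem_eigenFam] at hf hg ⊢
  intro k
  rw [Loop.lie_apply, Loop.lie_apply, map_sum]
  simp only [hφ, hf, hg]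
  refine Fintype.sum_equiv (Equiv.subRight i) _ _ (fun m => ?_)
  simp only [Equiv.subRight_apply]
  congr 2
  abel

/-- (E1) the modified eigen-family is a graded family. -/
theorem isGradedFam_mFam (φ : L →+ L) (hφ : ∀ x y, φ ⁅x, y⁆ = ⁅φ x, φ y⁆) (m : ℕ)
    (hfix : ∀ a, φ a = a → m • a = 0) : IsGradedFam (mFam (p := p) φ m) := by
  constructor
  · intro i j x y hx hy
    by_cases hi : i = 0
    · have hx0 : x = 0 := by
        simpa [mFam, hi] using hx
      rw [hx0, zero_lie]
      exact AddSubgroup.zero_mem _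
    by_cases hj : j = 0
    · have hy0 : y = 0 := by
        simpa [mFam, hj] using hy
      rw [hy0, lie_zero]
      exact AddSubgroup.zero_mem _
    have hx' : x ∈ (eigenFam (p := p) φ i).map (nsmulAddMonoidHom m) := by
      simpa [mFam, hi] using hx
    have hy' : y ∈ (eigenFam (p := p) φ j).map (nsmulAddMonoidHom m) := by
      simpa [mFam, hj] using hy
    obtain ⟨x', hx'm, rfl⟩ := AddSubgroup.mem_map.mp hx'
    obtain ⟨y', hy'm, rfl⟩ := AddSubgroup.mem_map.mp hy'
    have hw := lie_mem_eigenFam φ hφ hx'm hy'm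
    have hbr : ⁅(nsmulAddMonoidHom m) x', (nsmulAddMonoidHom m) y'⁆ = m • (m • ⁅x', y'⁆) := by
      simp only [nsmulAddMonoidHom_apply]
      rw [nsmul_lie, lie_nsmul]
    rw [hbr]
    by_cases hij : i + j = 0
    · have hz : m • ⁅x', y'⁆ = 0 := by
        apply Loop.ext
        intro k
        rw [Loop.nsmul_apply, Loop.zero_apply]
        apply hfix
        rw [mem_eigenFam] at hw
        have := hw k
        rw [hij, sub_zero] at this
        exact this
      rw [hz, smul_zero]
      exact AddSubgroup.zero_mem _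
    · have : mFam (p := p) φ m (i + j) = (eigenFam (p := p) φ (i + j)).map (nsmulAddMonoidHom m) := by
        simp [mFam, hij]
      rw [this]
      refine AddSubgroup.mem_map.mpr ⟨m • ⁅x', y'⁆, ?_, ?_⟩
      · exact AddSubgroup.nsmul_mem _ hw m
      · simp only [nsmulAddMonoidHom_apply]
  · simp [mFam]

end Cfsg.Agent.Helper41.Alp
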