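import Mathlib
import Cfsg.Agent.Helper1.HKK.Basic
import Cfsg.Agent.Helper1.HKK.LoopDefs
import Cfsg.Agent.Helper71.Alp.Defs
import Cfsg.Agent.Helper41.AlpE1

/-!
# (E2) of #7712 for helper71 (S3782, Alperin): `m • spread a` is a sum of modified
eigen-elements (helper41; adapted from helper53's `spread_mem_iSup`)
-/

set_option autoImplicit false
open Cfsg.Agent.Helper1.HKK
open Cfsg.Agent.Helper71.Alp

namespace Cfsg.Agent.Helper41.Alp

variable {p : ℕ} [Fact p.Prime] {L : Type*} [LieRing L]

/-- (E2) `m • spread a` is a sum of modified eigen-elements. -/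
theorem nsmul_spread_mem_iSup (φ : L →+ L) (hp : ∀ a, φ^[p] a = a) (m : ℕ)
    (hfix : ∀ a, φ a = a → m • a = 0) (a : L) :
    m • spread p a ∈ ⨆ k : ZMod p, mFam (p := p) φ m k := by
  classical
  have hpp : p.Prime := Fact.out
  have hpid : (⇑φ)^[p] = id := funext hp
  -- periodicity
  have hper : ∀ n : ℕ, (⇑φ)^[n] a = (⇑φ)^[n % p] a := by
    intro n
    conv_lhs => rw [← Nat.mod_add_div n p]
    rw [Function.iterate_add_apply, Function.iterate_mul, hpid, Function.iterate_id]
    rfl
  set F : ZMod p → L := fun m => (⇑φ)^[m.val] a with hF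
  have hFn : ∀ n : ℕ, (⇑φ)^[n] a = F (n : ZMod p) := by
    intro n
    rw [hF]
    simp only
    rw [ZMod.val_natCast, ← hper]
  have hFsucc : ∀ m : ZMod p, φ (F m) = F (m + 1) := by
    intro m
    have h1 : φ (F m) = (⇑φ)^[m.val + 1] a := by
      rw [Function.iterate_succ_apply']
    rw [h1, hFn]
    congr 1
    push_cast
    rw [ZMod.natCast_zmod_val]
  have hF0 : F 0 = a := by
    rw [hF]; simp
  -- the total sum is a fixed point
  set S : L := ∑ k : ZMod p, F k with hSdef
  have hS : m • S = 0 := by
    apply hfix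
    rw [hSdef, map_sum]
    calc ∑ k : ZMod p, φ (F k) = ∑ k : ZMod p, F (k + 1) :=
          Finset.sum_congr rfl (fun k _ => hFsucc k)
      _ = ∑ k : ZMod p, F k :=
          Fintype.sum_equiv (Equiv.addRight 1) _ _ (fun k => rfl)
  have hS' : ∑ k ∈ (Finset.univ.erase (0 : ZMod p)), F k = S - a := by
    have h1 := Finset.add_sum_erase Finset.univ F (Finset.mem_univ (0 : ZMod p))
    rw [hF0] at h1
    rw [hSdef, ← h1]
    abel
  -- the eigen-elements
  set f : ZMod p → Loop p L := fun k => ⟨fun i => F (-i * k⁻¹)⟩ with hf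
  have hmem : ∀ k : ZMod p, k ≠ 0 → f k ∈ eigenFam (p := p) φ k := by
    intro k hk
    rw [mem_eigenFam]
    intro i
    show φ (F (-i * k⁻¹)) = F (-(i - k) * k⁻¹)
    rw [hFsucc]
    congr 1
    field_simp
    ring
  set T : Loop p L := ⟨fun i => if i = 0 then 0 else S⟩ with hT
  have hsum : spread p a = ∑ k ∈ (Finset.univ.erase (0 : ZMod p)), f k - T := by
    apply Loop.ext
    intro i
    rw [Loop.sub_apply, Loop.sum_apply, spread_apply]
    show _ = ∑ k ∈ (Finset.univ.erase (0 : ZMod p)), F (-i * k⁻¹) - (if i = 0 then 0 else S)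
    split_ifs with hi
    · subst hi
      simp only [neg_zero, zero_mul, hF0, Finset.sum_const, sub_zero]
      congr 1
      rw [Finset.card_erase_of_mem (Finset.mem_univ _), Finset.card_univ, ZMod.card]
    · have hre : ∑ k ∈ (Finset.univ.erase (0 : ZMod p)), F (-i * k⁻¹) =
          ∑ k ∈ (Finset.univ.erase (0 : ZMod p)), F k := by
        refine Finset.sum_nbij' (fun k => -i * k⁻¹) (fun m => -i * m⁻¹) ?_ ?_ ?_ ?_ ?_
        · intro k hk
          rw [Finset.mem_erase] at hk ⊢
          refine ⟨?_, Finset.mem_univ _⟩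
          exact mul_ne_zero (neg_ne_zero.mpr hi) (inv_ne_zero hk.1)
        · intro m hm
          rw [Finset.mem_erase] at hm ⊢
          refine ⟨?_, Finset.mem_univ _⟩
          exact mul_ne_zero (neg_ne_zero.mpr hi) (inv_ne_zero hm.1)
        · intro k hk
          rw [Finset.mem_erase] at hk
          have hk0 := hk.1
          field_simp
        · intro m hm
          rw [Finset.mem_erase] at hm
          have hm0 := hm.1
          field_simp
        · intro k _
          rfl
      rw [hre, hS']
      abel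
  have hmT : m • T = 0 := by
    apply Loop.ext
    intro i
    rw [Loop.nsmul_apply, Loop.zero_apply]
    show m • (if i = 0 then (0 : L) else S) = 0
    split_ifs
    · exact smul_zero m
    · exact hS
  rw [hsum, smul_sub, hmT, sub_zero, Finset.smul_sum]
  refine AddSubgroup.sum_mem _ (fun k hk => ?_)
  rw [Finset.mem_erase] at hk
  refine AddSubgroup.mem_iSup_of_mem k ?_
  have : mFam (p := p) φ m k = (eigenFam (p := p) φ k).map (nsmulAddMonoidHom m) := by
    simp [mFam, hk.1]
  rw [this]
  exact AddSubgroup.mem_map.mpr ⟨f k, hmem k hk.1, by simp only [nsmulAddMonoidHom_apply]⟩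

end Cfsg.Agent.Helper41.Alp
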