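import Cfsg.Agent.Helper16.DT.Defs
import Cfsg.Agent.Helper87.DT_E4
import Cfsg.Agent.Helper74.CharBasic

/-!
# Fong–Swan farm (helper25, S4440), piece (PPI)

Over a group of order prime to `p`, every irreducible character is an irreducible Brauer character.
Proof: `χ = pRegularPart p χ = l.sum` with `l ⊆ IBr` (decomposition); every member of `l` is a nonzero
character; comparing multiplicities of irreducible constituents, the head of `l` is `χ`.
-/

set_option autoImplicit false
set_option linter.unusedSectionVars false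
set_option linter.unusedVariables false

namespace Cfsg.Agent.Helper41.FS

open Cfsg Cfsg.Agent.Helper16 Cfsg.Agent.Helper16.DT

universe u

variable {p : ℕ} [Fact p.Prime] {M : Ideal AlgInt} [M.IsMaximal] {G : Type u} [Group G]

/-- a sum of characters is a character -/
theorem PPI_isCharacter_list_sum (l : List (G → ℂ)) (h : ∀ φ ∈ l, IsCharacter G φ) :
    IsCharacter G l.sum := by
  induction l with
  | nil => exact Cfsg.Agent.Helper74.isCharacter_zero
  | cons a l ih =>
    rw [List.sum_cons]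
    exact Cfsg.Agent.Helper74.isCharacter_add (h a List.mem_cons_self)
      (ih fun φ hφ => h φ (List.mem_cons_of_mem _ hφ))

/-- if an irreducible character is the sum of a nonzero character and a character, it is the
former -/
theorem PPI_eq_of_add [Fintype G] (χ : IrrCharacter G) {φ θ : G → ℂ} (hφ : IsCharacter G φ)
    (hθ : IsCharacter G θ) (hφ0 : φ ≠ 0) (h : (χ : G → ℂ) = φ + θ) : φ = (χ : G → ℂ) := by
  classical
  let _ : Fintype (IrrCharacter G) := Cfsg.Agent.Helper74.irrFintype G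
  have key : ∀ ψ : IrrCharacter G, ψ ≠ χ → classInner φ (ψ : G → ℂ) = 0 := by
    intro ψ hψ
    obtain ⟨a, ha⟩ := Cfsg.Agent.Helper74.isCharacter_inner_irr_nat hφ ψ
    obtain ⟨b, hb⟩ := Cfsg.Agent.Helper74.isCharacter_inner_irr_nat hθ ψ
    have h1 : classInner (χ : G → ℂ) (ψ : G → ℂ) = 0 := Cfsg.Agent.Helper74.irr_inner_ne hψ.symm
    rw [h, Cfsg.Agent.Helper74.classInner_add_left, ha, hb] at h1
    have h2 : a + b = 0 := by exact_mod_cast h1
    have h3 : a = 0 := by omega
    rw [ha, h3, Nat.cast_zero]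
  obtain ⟨a, ha⟩ := Cfsg.Agent.Helper74.isCharacter_inner_irr_nat hφ χ
  obtain ⟨b, hb⟩ := Cfsg.Agent.Helper74.isCharacter_inner_irr_nat hθ χ
  have h1 : classInner (χ : G → ℂ) (χ : G → ℂ) = 1 := Cfsg.Agent.Helper74.irr_inner_self χ
  rw [h, Cfsg.Agent.Helper74.classInner_add_left] at h1
  rw [← h, ha, hb] at h1
  have h2 : a + b = 1 := by exact_mod_cast h1
  have hsum := Cfsg.Agent.Helper74.isCharacter_eq_sum_irr hφ
  rw [Finset.sum_eq_single χ (fun ψ _ hψ => by rw [key ψ hψ, zero_smul])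
    (fun hn => absurd (Finset.mem_univ _) hn), ha] at hsum
  rcases Nat.eq_zero_or_pos a with h0 | hpos
  · exfalso
    apply hφ0
    rw [hsum, h0, Nat.cast_zero, zero_smul]
  · have h3 : a = 1 := by omega
    rw [hsum, h3, Nat.cast_one, one_smul]

/-- (PPI) over a group of order prime to `p`, every irreducible character is an irreducible Brauer
character. -/
theorem irr_mem_IBr_of_pPrime (hpM : (p : AlgInt) ∈ M) [Finite G] (hG : ¬ p ∣ Nat.card G)
    (χ : IrrCharacter G) : (χ : G → ℂ) ∈ IBr p M G := by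
  classical
  let _ : Fintype G := Fintype.ofFinite G
  have hpR : ∀ f : G → ℂ, pRegularPart p f = f := fun f =>
    funext fun g => Cfsg.Agent.Helper87.DT.DEC_pReg_of_reg f (Cfsg.Agent.Helper87.DT.E4_allRegular hG g)
  obtain ⟨l, hl, hsum⟩ := Cfsg.Agent.Helper87.DT.decomposition (p := p) (M := M) hpM χ
  rw [hpR] at hsum
  have hIBI := Cfsg.Agent.Helper87.DT.E4_IBI (p := p) (M := M) (G := G) hpM
  have hmem : ∀ φ ∈ l, φ ∈ IBr p M G := by
    intro φ hφ
    obtain ⟨n, ρ, hirr, hφρ, -⟩ := hl φ hφ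
    exact ⟨n, ρ, hirr, hφρ⟩
  have hchar : ∀ φ ∈ l, IsCharacter G φ := fun φ hφ =>
    Cfsg.Agent.Helper87.DT.E4_IBr_isCharacter hpM hG
      (fun χ' => Cfsg.Agent.Helper87.DT.decomposition hpM χ') hIBI
      (fun ρ σ hρ hσ h => Cfsg.Agent.Helper87.DT.E4_INJ hpM ρ σ hρ hσ h) (hmem φ hφ)
  have hne : ∀ φ ∈ l, φ ≠ 0 := fun φ hφ =>
    hIBI.ne_zero (⟨φ, hmem φ hφ⟩ : IBr p M G)
  have hχ0 : (χ : G → ℂ) ≠ 0 := by
    intro h0
    have h1 : classInner (χ : G → ℂ) (χ : G → ℂ) = 1 := Cfsg.Agent.Helper74.irr_inner_self χ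
    rw [h0] at h1
    simp [classInner] at h1
  cases l with
  | nil =>
    exfalso
    apply hχ0
    rw [hsum, List.sum_nil]
  | cons φ l' =>
    rw [List.sum_cons] at hsum
    have hφχ : φ = (χ : G → ℂ) :=
      PPI_eq_of_add χ (hchar φ List.mem_cons_self)
        (PPI_isCharacter_list_sum l' fun ψ hψ => hchar ψ (List.mem_cons_of_mem _ hψ))
        (hne φ List.mem_cons_self) hsum
    rw [← hφχ]
    exact hmem φ List.mem_cons_self

end Cfsg.Agent.Helper41.FS
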