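import Mathlib

/-!
# Fong–Swan farm (helper25, S4440), piece (OP1)

A finite `p`-group acting linearly on a nonzero finite-dimensional vector space in characteristic
`p` fixes a nonzero vector.  Proof: the `ZMod p`-span `W` of the (finite) orbit of a basis vector is
a finite `H`-stable `p`-group containing a nonzero vector, so the fixed-point congruence for
`p`-groups gives a second fixed point besides `0`.
-/

set_option autoImplicit false

namespace Cfsg.Agent.Helper41.FS

variable {p : ℕ} [Fact p.Prime]

/-- (OP1) a finite `p`-group acting linearly on a nonzero space over a field of characteristic `p`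
fixes a nonzero vector. -/
theorem exists_fixed_vector {K : Type*} [Field K] [CharP K p] {H : Type*} [Group H] [Finite H]
    (hH : IsPGroup p H) {ι : Type*} [Fintype ι] [DecidableEq ι] [Nonempty ι]
    (τ : H →* Matrix ι ι K) : ∃ v : ι → K, v ≠ 0 ∧ ∀ h : H, (τ h).mulVec v = v := by
  classical
  let _ : Algebra (ZMod p) K := ZMod.algebra K p
  obtain ⟨i₀⟩ := ‹Nonempty ι›
  set w : ι → K := Pi.single i₀ 1 with hw
  have hw0 : w ≠ 0 := by
    intro h0
    have := congrFun h0 i₀
    simp [hw] at this
  let S : Set (ι → K) := Set.range (fun h : H => (τ h).mulVec w)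
  have hS : S.Finite := Set.finite_range _
  let W : Submodule (ZMod p) (ι → K) := Submodule.span (ZMod p) S
  have hfin : Module.Finite (ZMod p) W := Module.Finite.span_of_finite (ZMod p) hS
  have hWfin : Finite W := Module.finite_of_finite (ZMod p)
  have hinv : ∀ (h : H) (x : ι → K), x ∈ W → (τ h).mulVec x ∈ W := by
    intro h x hx
    induction hx using Submodule.span_induction with
    | mem y hy =>
      obtain ⟨g, rfl⟩ := hy
      apply Submodule.subset_span
      refine ⟨h * g, ?_⟩
      show (τ (h * g)).mulVec w = (τ h).mulVec ((τ g).mulVec w)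
      rw [map_mul, Matrix.mulVec_mulVec]
    | zero => rw [Matrix.mulVec_zero]; exact W.zero_mem
    | add y z _ _ hy hz => rw [Matrix.mulVec_add]; exact W.add_mem hy hz
    | smul c y _ hy => rw [Matrix.mulVec_smul]; exact W.smul_mem c hy
  let _ : MulAction H W :=
    { smul := fun h x => ⟨(τ h).mulVec x.1, hinv h x.1 x.2⟩
      one_smul := by
        intro x
        apply Subtype.ext
        show (τ 1).mulVec x.1 = x.1
        rw [map_one, Matrix.one_mulVec]
      mul_smul := by
        intro g h x
        apply Subtype.ext
        show (τ (g * h)).mulVec x.1 = (τ g).mulVec ((τ h).mulVec x.1)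
        rw [map_mul, Matrix.mulVec_mulVec] }
  have hsmul : ∀ (h : H) (x : W), ((h • x : W) : ι → K) = (τ h).mulVec x.1 := fun _ _ => rfl
  have hwW : w ∈ W := by
    apply Submodule.subset_span
    exact ⟨1, by show (τ 1).mulVec w = w; rw [map_one, Matrix.one_mulVec]⟩
  have hpw : p • (⟨w, hwW⟩ : W) = 0 := by
    apply Subtype.ext
    show p • w = 0
    funext i
    simp
  have hne : (⟨w, hwW⟩ : W) ≠ 0 := by
    intro h0
    exact hw0 (congrArg Subtype.val h0)
  have hord : addOrderOf (⟨w, hwW⟩ : W) = p := addOrderOf_eq_prime hpw hne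
  have hdvd : p ∣ Nat.card W := by
    have := addOrderOf_dvd_natCard (⟨w, hwW⟩ : W)
    rwa [hord] at this
  have h0fix : (0 : W) ∈ MulAction.fixedPoints H W := by
    intro h
    apply Subtype.ext
    rw [hsmul]
    show (τ h).mulVec 0 = 0
    rw [Matrix.mulVec_zero]
  obtain ⟨b, hb, hb0⟩ := hH.exists_fixed_point_of_prime_dvd_card_of_fixed_point W hdvd h0fix
  refine ⟨b.1, ?_, ?_⟩
  · intro h0
    exact hb0 (Subtype.ext h0.symm)
  · intro h
    have := hb h
    rw [← hsmul h b, this]

end Cfsg.Agent.Helper41.FS
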