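-- helper41: piece (NH) of helper84's S2282 (#8821): the monomial matrices `nM` and `hM` of the explicit design are
-- isometries of determinant one and involutions, with explicit action on vectors.
import Mathlib
import Cfsg.Agent.Helper84.RUn.Defs

set_option autoImplicit false
set_option linter.unusedSectionVars false
set_option linter.unusedSimpArgs false

namespace Cfsg.Agent.Helper41.RUn

open Matrix Cfsg.Agent.Helper84.RUn Cfsg.Agent.Helper84.PSU

variable {K : Type*} [Field K] {j : ℕ}

/-- a monomial matrix whose permutation commutes with `op` and whose signs are compatible is an isometry -/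
theorem isU_of_monomial {k r : ℕ} (bar : K →+* K) (M : Matrix (I k r) (I k r) K) (σ : Equiv.Perm (I k r))
    (ε : I k r → K) (hM : ∀ u : I k r → K, M *ᵥ u = fun y => ε y * u (σ y))
    (hσ : ∀ y, σ (op y) = op (σ y)) (hε : ∀ y, ε y * bar (ε (op y)) = 1) : IsU bar M := by
  intro u v
  rw [hM u, hM v]
  unfold hf
  rw [← Equiv.sum_comp σ (fun x => u x * bar (v (op x)))]
  apply Finset.sum_congr rfl
  intro x _
  simp only
  rw [hσ, map_mul]
  calc ε x * u (σ x) * (bar (ε (op x)) * bar (v (op (σ x))))
      = (ε x * bar (ε (op x))) * (u (σ x) * bar (v (op (σ x)))) := by ring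
    _ = u (σ x) * bar (v (op (σ x))) := by rw [hε, one_mul]

local notation "Vec" => (I (j + 2) 1 → K)
local notation "Mat" => Matrix (I (j + 2) 1) (I (j + 2) 1) K
local notation "Mk" => Matrix (Fin (j + 2)) (Fin (j + 2)) K

theorem i1_ne_i2 : (i1 : Fin (j + 2)) ≠ i2 := by
  intro h
  have := congrArg Fin.val h
  simp [i1, i2] at this

/-- the permutation of `nM` -/
def nP : Equiv.Perm (I (j + 2) 1) := Equiv.swap (eI i1) (fI i1) * Equiv.swap (eI i2) (fI i2)

/-- the permutation of `hM` -/
def hP : Equiv.Perm (I (j + 2) 1) := Equiv.swap (eI i1) (fI i1)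

/-- the signs of `hM` -/
def hE (K : Type*) [Field K] {j : ℕ} (y : I (j + 2) 1) : K := if y = eI i1 ∨ y = fI i1 then 1 else -1

theorem nP_apply (y : I (j + 2) 1) : nP y =
    if y = eI i1 then fI i1 else if y = fI i1 then eI i1
    else if y = eI i2 then fI i2 else if y = fI i2 then eI i2 else y := by
  have h12 : (i1 : Fin (j + 2)) ≠ i2 := i1_ne_i2
  have h21 : (i2 : Fin (j + 2)) ≠ i1 := fun h => h12 h.symm
  unfold nP
  rw [Equiv.Perm.mul_apply, Equiv.swap_apply_def, Equiv.swap_apply_def]
  rcases y with i | a | i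
  · by_cases h1 : i = i1
    · subst h1
      simp [h12]
    · by_cases h2 : i = i2
      · subst h2
        simp [h21]
      · simp [h1, h2]
  · simp
  · by_cases h1 : i = i1
    · subst h1
      simp [h12]
    · by_cases h2 : i = i2
      · subst h2
        simp [h21]
      · simp [h1, h2]

theorem hP_apply (y : I (j + 2) 1) : hP y =
    if y = eI i1 then fI i1 else if y = fI i1 then eI i1 else y := by
  unfold hP
  rw [Equiv.swap_apply_def]

theorem nP_op (y : I (j + 2) 1) : nP (op y) = op (nP y) := by
  have h12 : (i1 : Fin (j + 2)) ≠ i2 := i1_ne_i2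
  have h21 : (i2 : Fin (j + 2)) ≠ i1 := fun h => h12 h.symm
  rw [nP_apply, nP_apply]
  rcases y with i | a | i
  · by_cases h1 : i = i1
    · subst h1
      simp [op, h12]
    · by_cases h2 : i = i2
      · subst h2
        simp [op, h21]
      · simp [op, h1, h2]
  · simp [op]
  · by_cases h1 : i = i1
    · subst h1
      simp [op, h12]
    · by_cases h2 : i = i2
      · subst h2
        simp [op, h21]
      · simp [op, h1, h2]

theorem hP_op (y : I (j + 2) 1) : hP (op y) = op (hP y) := by
  rw [hP_apply, hP_apply]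
  rcases y with i | a | i
  · by_cases h1 : i = i1
    · subst h1
      simp [op]
    · simp [op, h1]
  · simp [op]
  · by_cases h1 : i = i1
    · subst h1
      simp [op]
    · simp [op, h1]

theorem hE_op (y : I (j + 2) 1) : hE K (op y) = hE K y := by
  unfold hE
  rcases y with i | a | i
  · simp [op]
  · simp [op]
  · simp [op]

theorem hE_mul_self (y : I (j + 2) 1) : hE K y * hE K y = 1 := by
  unfold hE
  split_ifs <;> simp

theorem nM_mulVec (x : Vec) : (nM : Mat) *ᵥ x = fun y =>
    if y = eI i1 then x (fI i1) else if y = fI i1 then x (eI i1)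
    else if y = eI i2 then x (fI i2) else if y = fI i2 then x (eI i2) else x y := by
  funext y
  simp only [Matrix.mulVec, dotProduct, nM, Matrix.of_apply]
  split_ifs with h1 h2 h3 h4
  · simp [ite_mul]
  · simp [ite_mul]
  · simp [ite_mul]
  · simp [ite_mul]
  · simp [ite_mul]

theorem nM_mulVec_perm (x : Vec) : (nM : Mat) *ᵥ x = fun y => x (nP y) := by
  rw [nM_mulVec]
  funext y
  rw [nP_apply]
  split_ifs <;> rfl

theorem hM_mulVec (x : Vec) : (hM : Mat) *ᵥ x = fun y =>
    if y = eI i1 then x (fI i1) else if y = fI i1 then x (eI i1) else -x y := by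
  funext y
  simp only [Matrix.mulVec, dotProduct, hM, Matrix.of_apply]
  split_ifs with h1 h2
  · simp [ite_mul]
  · simp [ite_mul]
  · simp [ite_mul]

theorem hM_mulVec_perm (x : Vec) : (hM : Mat) *ᵥ x = fun y => hE K y * x (hP y) := by
  rw [hM_mulVec]
  funext y
  rw [hP_apply]
  unfold hE
  by_cases h1 : y = eI i1
  · simp [h1]
  · by_cases h2 : y = fI i1
    · simp [h2]
    · simp [h1, h2]

theorem nM_mul_nM : (nM : Mat) * nM = 1 := by
  apply mat_ext_mulVec
  intro x
  rw [← Matrix.mulVec_mulVec, nM_mulVec_perm x, nM_mulVec_perm, Matrix.one_mulVec]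
  funext y
  have h : nP (nP y) = y := by
    have h12 : (i1 : Fin (j + 2)) ≠ i2 := i1_ne_i2
    have h21 : (i2 : Fin (j + 2)) ≠ i1 := fun h => h12 h.symm
    rw [nP_apply (nP y), nP_apply y]
    rcases y with i | a | i
    · by_cases h1 : i = i1
      · subst h1
        simp [h12]
      · by_cases h2 : i = i2
        · subst h2
          simp [h21]
        · simp [h1, h2]
    · simp
    · by_cases h1 : i = i1
      · subst h1
        simp [h12]
      · by_cases h2 : i = i2
        · subst h2
          simp [h21]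
        · simp [h1, h2]
  simp only [h]

theorem hM_mul_hM : (hM : Mat) * hM = 1 := by
  apply mat_ext_mulVec
  intro x
  rw [← Matrix.mulVec_mulVec, hM_mulVec x, hM_mulVec, Matrix.one_mulVec]
  funext y
  by_cases h1 : y = eI i1
  · simp [h1]
  · by_cases h2 : y = fI i1
    · simp [h2]
    · simp [h1, h2]

variable (bar : K →+* K) (hb : ∀ x, bar (bar x) = x)

include hb in
theorem isU_nM : IsU bar (nM : Mat) := by
  refine isU_of_monomial bar nM nP (fun _ => 1) ?_ nP_op ?_
  · intro u
    rw [nM_mulVec_perm]
    funext y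
    rw [one_mul]
  · intro y
    simp

include hb in
theorem isU_hM : IsU bar (hM : Mat) := by
  refine isU_of_monomial bar hM hP (hE K) hM_mulVec_perm hP_op ?_
  intro y
  rw [hE_op]
  have h : bar (hE K y) = hE K y := by
    unfold hE
    split_ifs <;> simp
  rw [h, hE_mul_self]

theorem nM_eq_submatrix : (nM : Mat) = (1 : Mat).submatrix nP id := by
  apply mat_ext_mulVec
  intro x
  have h := Matrix.submatrix_mulVec_equiv (1 : Mat) x nP (Equiv.refl _)
  rw [Equiv.coe_refl] at h
  rw [h, nM_mulVec_perm]
  funext y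
  simp

theorem det_nM : (nM : Mat).det = 1 := by
  rw [nM_eq_submatrix, Matrix.det_permute, Matrix.det_one, mul_one]
  unfold nP
  rw [Equiv.Perm.sign_mul, Equiv.Perm.sign_swap (by simp), Equiv.Perm.sign_swap (by simp)]
  simp

theorem hM_eq_submatrix : (hM : Mat) = (Matrix.diagonal (hE K)).submatrix hP id := by
  apply mat_ext_mulVec
  intro x
  have h := Matrix.submatrix_mulVec_equiv (Matrix.diagonal (hE K) : Mat) x hP (Equiv.refl _)
  rw [Equiv.coe_refl] at h
  rw [h, hM_mulVec_perm]
  funext y
  have hy : hE K (hP y) = hE K y := by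
    rw [hP_apply]
    unfold hE
    by_cases h1 : y = eI i1
    · simp [h1]
    · by_cases h2 : y = fI i1
      · simp [h2]
      · simp [h1, h2]
  simp [Matrix.mulVec_diagonal, hy]

theorem prod_hE : ∏ y : I (j + 2) 1, hE K y = -1 := by
  rw [Fintype.prod_sum_type, Fintype.prod_sum_type]
  have he : ∀ i : Fin (j + 2), hE K (Sum.inl i : I (j + 2) 1) = if i = i1 then 1 else -1 := by
    intro i
    unfold hE
    simp
  have hf' : ∀ i : Fin (j + 2), hE K (Sum.inr (Sum.inr i) : I (j + 2) 1) = if i = i1 then 1 else -1 := by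
    intro i
    unfold hE
    simp
  have hw : ∀ a : Fin 1, hE K (Sum.inr (Sum.inl a) : I (j + 2) 1) = -1 := by
    intro a
    unfold hE
    simp
  simp only [he, hf', hw]
  have hp : (∏ i : Fin (j + 2), (if i = i1 then (1 : K) else -1)) *
      (∏ i : Fin (j + 2), (if i = i1 then (1 : K) else -1)) = 1 := by
    rw [← Finset.prod_mul_distrib]
    apply Finset.prod_eq_one
    intro i _
    split_ifs <;> simp
  have h1 : ∏ _a : Fin 1, (-1 : K) = -1 := by simp
  rw [h1]
  calc (∏ i : Fin (j + 2), (if i = i1 then (1 : K) else -1)) *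
        (-1 * ∏ i : Fin (j + 2), (if i = i1 then (1 : K) else -1))
      = -((∏ i : Fin (j + 2), (if i = i1 then (1 : K) else -1)) *
        (∏ i : Fin (j + 2), (if i = i1 then (1 : K) else -1))) := by ring
    _ = -1 := by rw [hp]

theorem det_hM : (hM : Mat).det = 1 := by
  rw [hM_eq_submatrix, Matrix.det_permute, Matrix.det_diagonal, prod_hE]
  unfold hP
  rw [Equiv.Perm.sign_swap (by simp)]
  simp

end Cfsg.Agent.Helper41.RUn
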