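import Mathlib
import Cfsg.Agent.Helper3.Cov2P4Defs
import Cfsg.Agent.Helper5.UnitaryCenter

/-!
helper41 for helper3 (S2500 part 4, board #12132): piece (K1) `center_le_stabSU` of
`tools/helper3_cov2p4/Skel.lean.txt`.
-/

set_option autoImplicit false

namespace Cfsg.Agent.Helper41.Cov2P4

open Polynomial Module Matrix Cfsg.Agent.Helper3.Cov2

section concrete

variable {F : Type*} [Field F] [Fintype F] {q : ℕ}

/-- (K1) -/
theorem center_le_stabSU (hF : Fintype.card F = q ^ 2) (W : Submodule F (Fin 4 → F)) :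
    Subgroup.center (Cfsg.SU 4 F q) ≤ stabSU W := by
  intro z hz
  rw [mem_stabSU]
  intro v
  have hsc := Cfsg.Agent.Helper5.center_eq_scalar hF z hz 0
  have hdet : (z.1.1 : Matrix (Fin 4) (Fin 4) F).det = 1 := z.1.2
  have ha0 : (z.1.1 : Matrix (Fin 4) (Fin 4) F) 0 0 ≠ 0 := by
    intro h0
    rw [hsc, h0] at hdet
    simp at hdet
  have hmv : (z.1.1 : Matrix (Fin 4) (Fin 4) F) *ᵥ v = (z.1.1 : Matrix (Fin 4) (Fin 4) F) 0 0 • v := by
    conv_lhs => rw [hsc]
    rw [Matrix.scalar_apply, ← Matrix.smul_one_eq_diagonal, Matrix.smul_mulVec, Matrix.one_mulVec]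
  rw [hmv]
  exact Submodule.smul_mem_iff W ha0

end concrete

end Cfsg.Agent.Helper41.Cov2P4
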