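import Mathlib
import Cfsg.Agent.Helper3.Cov2P4Defs
import Cfsg.Agent.Helper5.UnitaryCenter
import Cfsg.Agent.Helper13.Involution
import Cfsg.Agent.S0837

/-!
helper41 for helper3 (S2500 part 4, board #12132): piece (K4) `conj_into_H` of
`tools/helper3_cov2p4/Skel.lean.txt` (with an own copy `K4_mem_stabSU_of_forall` of piece (K0)).
-/

set_option autoImplicit false

namespace Cfsg.Agent.Helper41.Cov2P4

open Polynomial Module Matrix Cfsg.Agent.Helper3.Cov2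

section concrete

variable {F : Type*} [Field F] [Fintype F] {q : ℕ}

/-- own copy of (K0): an element of `SU_n` mapping `W` into `W` stabilises `W` -/
theorem K4_mem_stabSU_of_forall {n : ℕ} (W : Submodule F (Fin n → F)) (A : Cfsg.SU n F q)
    (h : ∀ v ∈ W, (A.1.1 : Matrix (Fin n) (Fin n) F) *ᵥ v ∈ W) : A ∈ stabSU W := by
  rw [mem_stabSU]
  intro v
  refine ⟨fun hv => ?_, h v⟩
  have hinv : ((A⁻¹).1.1 : Matrix (Fin n) (Fin n) F) * A.1.1 = 1 := by
    have h1 : ((A⁻¹ * A).1.1 : Matrix (Fin n) (Fin n) F) = (A⁻¹).1.1 * A.1.1 := rfl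
    rw [← h1, inv_mul_cancel]
    rfl
  have hinj : Function.Injective (fun w : Fin n → F => (A.1.1 : Matrix (Fin n) (Fin n) F) *ᵥ w) := by
    intro x y hxy
    have h2 : ((A⁻¹).1.1 : Matrix (Fin n) (Fin n) F) *ᵥ ((A.1.1 : Matrix (Fin n) (Fin n) F) *ᵥ x) =
        ((A⁻¹).1.1 : Matrix (Fin n) (Fin n) F) *ᵥ ((A.1.1 : Matrix (Fin n) (Fin n) F) *ᵥ y) :=
      congrArg (fun u => ((A⁻¹).1.1 : Matrix (Fin n) (Fin n) F) *ᵥ u) hxy
    rwa [Matrix.mulVec_mulVec, Matrix.mulVec_mulVec, hinv, Matrix.one_mulVec, Matrix.one_mulVec] at h2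
  let f : W →ₗ[F] W := (Matrix.mulVecLin (A.1.1 : Matrix (Fin n) (Fin n) F)).restrict (fun w hw => h w hw)
  have hfinj : Function.Injective f := by
    intro x y hxy
    apply Subtype.ext
    apply hinj
    exact congrArg Subtype.val hxy
  have hfsurj : Function.Surjective f := LinearMap.surjective_of_injective hfinj
  obtain ⟨w, hw⟩ := hfsurj ⟨(A.1.1 : Matrix (Fin n) (Fin n) F) *ᵥ v, hv⟩
  have h2 : (A.1.1 : Matrix (Fin n) (Fin n) F) *ᵥ (w : Fin n → F) = (A.1.1 : Matrix (Fin n) (Fin n) F) *ᵥ v :=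
    congrArg Subtype.val hw
  have h3 : (w : Fin n → F) = v := hinj h2
  rw [← h3]
  exact w.2

/-- (K4) -/
theorem conj_into_H (hF : Fintype.card F = q ^ 2) (A : Cfsg.SU 4 F q) (v : Fin 4 → F)
    (hv : Cfsg.hermForm 4 F q v v ≠ 0) (c : F)
    (hAv : (A.1.1 : Matrix (Fin 4) (Fin 4) F) *ᵥ v = c • v) :
    ∃ x : Cfsg.SU 4 F q,
      x * A * x⁻¹ ∈ stabSU (Submodule.span F {(Pi.single 0 1 : Fin 4 → F)}) := by
  classical
  -- scale `v` to norm one
  have hNfix : Cfsg.Agent.S0837.frobHom hF (Cfsg.hermForm 4 F q v v) = Cfsg.hermForm 4 F q v v := by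
    rw [Cfsg.Agent.S0837.frobHom_apply]
    exact Cfsg.Agent.Helper13.hermForm_conj hF v v
  obtain ⟨d, hd⟩ := Cfsg.Agent.Helper13.exists_norm_eq (Cfsg.Agent.S0837.frobHom hF)
    (Cfsg.Agent.S0837.frobHom_ne_id hF) (Cfsg.Agent.S0837.frobHom_frobHom hF) hNfix hv
  rw [Cfsg.Agent.S0837.frobHom_apply] at hd
  have hd0 : d ≠ 0 := by
    rintro rfl
    rw [mul_zero] at hd
    exact hv hd.symm
  set v' : Fin 4 → F := d⁻¹ • v with hv'
  have hv'1 : Cfsg.Agent.Helper5.herm q v' v' = 1 := by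
    show Cfsg.hermForm 4 F q v' v' = 1
    rw [hv', Cfsg.Agent.Helper13.hermForm_smul_left, Cfsg.Agent.Helper13.hermForm_smul_right, ← hd, inv_pow]
    have : d ^ q ≠ 0 := pow_ne_zero _ hd0
    field_simp
  have he1 : Cfsg.Agent.Helper5.herm q (Pi.single 0 1 : Fin 4 → F) (Pi.single 0 1) = 1 := by
    show Cfsg.hermForm 4 F q (Pi.single 0 1) (Pi.single 0 1) = 1
    rw [Cfsg.Agent.Helper13.hermForm_single_left]
    simp
  obtain ⟨g, hg, hgv⟩ := Cfsg.Agent.Helper5.GUι_transitive hF v' (Pi.single 0 1) hv'1 he1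
  have hdetg := Cfsg.Agent.Helper5.det_pow_eq_one hF g hg
  have hdet0 : g.1.det ≠ 0 := by
    intro h0
    rw [h0, zero_pow (Nat.succ_ne_zero q)] at hdetg
    exact zero_ne_one hdetg
  set δ : F := (g.1.det)⁻¹ with hδ
  have hδ1 : δ * δ ^ q = 1 := by
    rw [← pow_succ', hδ, inv_pow, hdetg, inv_one]
  set D : Matrix (Fin 4) (Fin 4) F := Matrix.diagonal ![1, 1, 1, δ] with hD
  have hDpres : ∀ u w : Fin 4 → F, Cfsg.Agent.Helper5.herm q (D *ᵥ u) (D *ᵥ w) =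
      Cfsg.Agent.Helper5.herm q u w := by
    intro u w
    simp only [Cfsg.Agent.Helper5.herm, hD, Matrix.mulVec_diagonal, Fin.sum_univ_four]
    simp only [Matrix.cons_val_zero, Matrix.cons_val_one, Matrix.cons_val_two, Matrix.cons_val_three, one_mul,
      Matrix.head_cons, Matrix.tail_cons]
    rw [mul_pow]
    linear_combination (u 3 * w 3 ^ q) * hδ1
  have hMpres : ∀ u w : Fin 4 → F, Cfsg.Agent.Helper5.herm q ((D * g.1) *ᵥ u) ((D * g.1) *ᵥ w) =
      Cfsg.Agent.Helper5.herm q u w := by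
    intro u w
    rw [← Matrix.mulVec_mulVec, ← Matrix.mulVec_mulVec, hDpres]
    exact (Cfsg.Agent.Helper5.mem_GUι_iff g).1 hg u w
  have hMdet : (D * g.1).det = 1 := by
    rw [Matrix.det_mul, hD, Matrix.det_diagonal, Fin.prod_univ_four]
    simp only [Matrix.cons_val_zero, Matrix.cons_val_one, Matrix.cons_val_two, Matrix.cons_val_three, one_mul,
      Matrix.head_cons, Matrix.tail_cons]
    rw [hδ]
    exact inv_mul_cancel₀ hdet0
  set x : Cfsg.SU 4 F q := Cfsg.Agent.Helper5.mkSU (D * g.1) hMdet hMpres with hx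
  have hxM : (x.1.1 : Matrix (Fin 4) (Fin 4) F) = D * g.1 := rfl
  have hDe : D *ᵥ (Pi.single 0 1 : Fin 4 → F) = Pi.single 0 1 := by
    funext i
    rw [hD, Matrix.mulVec_diagonal]
    fin_cases i <;> simp
  have hxv : (x.1.1 : Matrix (Fin 4) (Fin 4) F) *ᵥ v' = Pi.single 0 1 := by
    rw [hxM, ← Matrix.mulVec_mulVec, hgv, hDe]
  have hxinv : ((x⁻¹).1.1 : Matrix (Fin 4) (Fin 4) F) * x.1.1 = 1 := by
    have h1 : ((x⁻¹ * x).1.1 : Matrix (Fin 4) (Fin 4) F) = (x⁻¹).1.1 * x.1.1 := rfl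
    rw [← h1, inv_mul_cancel]
    rfl
  have hxe : ((x⁻¹).1.1 : Matrix (Fin 4) (Fin 4) F) *ᵥ (Pi.single 0 1 : Fin 4 → F) = v' := by
    rw [← hxv, Matrix.mulVec_mulVec, hxinv, Matrix.one_mulVec]
  have hAv' : (A.1.1 : Matrix (Fin 4) (Fin 4) F) *ᵥ v' = c • v' := by
    rw [hv', Matrix.mulVec_smul, hAv, smul_comm]
  refine ⟨x, K4_mem_stabSU_of_forall _ _ ?_⟩
  intro w hw
  obtain ⟨a, rfl⟩ := Submodule.mem_span_singleton.mp hw
  have hprod : ((x * A * x⁻¹).1.1 : Matrix (Fin 4) (Fin 4) F) = x.1.1 * A.1.1 * (x⁻¹).1.1 := rfl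
  rw [hprod, Matrix.mulVec_smul, ← Matrix.mulVec_mulVec, ← Matrix.mulVec_mulVec, hxe, hAv', Matrix.mulVec_smul,
    hxv]
  exact Submodule.smul_mem _ _ (Submodule.smul_mem _ _ (Submodule.mem_span_singleton_self _))

end concrete

end Cfsg.Agent.Helper41.Cov2P4
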