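import Mathlib
import Cfsg.Agent.Helper88.U3O.Defs

/-!
helper41, leaf (SQ) of helper88's farm #14345 (S2786, `PSU₃(q)`, `q` odd): a quadratic polynomial over the fixed field
of the Frobenius takes a square value (`FiniteField.exists_root_sum_quadratic` on the fixed subfield).
-/

set_option autoImplicit false

namespace Cfsg.Agent.Helper41.U3O

open Matrix Polynomial Cfsg.Agent.Helper84.RU3 Cfsg.Agent.Helper86.RU3 Cfsg.Agent.Helper45.GU
  Cfsg.Agent.S2587 Cfsg.Agent.Helper38.Cov2 Cfsg.Agent.Helper97.U3E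

variable {F : Type*} [Field F]

/-- (SQ) a quadratic polynomial over the fixed field `F₀ = {x | bar x = x}` (`q` elements, `q` odd) takes a
square value. -/
theorem exists_sq_value [Fintype F] (q : ℕ) (hq : Odd q) (hF : Fintype.card F = q ^ 2)
    (bar : F →+* F) (hbar : ∀ x, bar x = x ^ q) (L c e : F) (hL : bar L = L) (hc : bar c = c)
    (he : bar e = e) (hL0 : L ≠ 0) :
    ∃ x y : F, bar x = x ∧ bar y = y ∧ L * x ^ 2 + c * x + e = y ^ 2 := by
  classical
  -- the fixed field
  let F₀ : Subfield F := bar.eqLocusField (RingHom.id F)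
  have hmem : ∀ x : F, x ∈ F₀ ↔ bar x = x := fun x => Iff.rfl
  have : Fintype F₀ := Fintype.ofFinite F₀
  -- the characteristic of `F` is odd
  have hcharF : ringChar F ≠ 2 := by
    intro h2
    have := FiniteField.even_card_of_char_two h2
    rw [hF] at this
    have hodd : Odd (q ^ 2) := hq.pow
    rw [Nat.odd_iff] at hodd
    omega
  have h2F : (2 : F) ≠ 0 := by
    intro h
    apply hcharF
    have hd : ringChar F ∣ 2 := (ringChar.spec F 2).mp (by exact_mod_cast h)
    have hp : (ringChar F).Prime := by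
      have : CharP F (ringChar F) := ringChar.charP F
      exact CharP.char_is_prime F (ringChar F)
    exact (Nat.prime_dvd_prime_iff_eq hp Nat.prime_two).mp hd
  have hchar0 : ringChar F₀ ≠ 2 := by
    intro h2
    apply h2F
    have h0 : (2 : F₀) = 0 := by
      have := (ringChar.spec F₀ 2).mpr (by rw [h2])
      exact_mod_cast this
    have h3 : ((2 : F₀) : F) = ((0 : F₀) : F) := by rw [h0]
    rw [Subfield.coe_zero] at h3
    rw [← h3]
    norm_cast
  have hcard0 : Fintype.card F₀ % 2 = 1 := FiniteField.odd_card_of_char_ne_two hchar0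
  -- the two quadratic polynomials
  let L₀ : F₀ := ⟨L, hL⟩
  let c₀ : F₀ := ⟨c, hc⟩
  let e₀ : F₀ := ⟨e, he⟩
  have hL₀ : L₀ ≠ 0 := by
    intro h
    exact hL0 (congrArg (Subtype.val : F₀ → F) h)
  have hf2 : (C L₀ * X ^ 2 + C c₀ * X + C e₀ : F₀[X]).degree = 2 := Polynomial.degree_quadratic hL₀
  have hg2 : (-(X ^ 2) : F₀[X]).degree = 2 := by
    rw [Polynomial.degree_neg, Polynomial.degree_X_pow]
    rfl
  obtain ⟨a, b, hab⟩ := FiniteField.exists_root_sum_quadratic hf2 hg2 hcard0
  refine ⟨a.1, b.1, a.2, b.2, ?_⟩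
  have h1 : L₀ * a ^ 2 + c₀ * a + e₀ = b ^ 2 := by
    simp only [eval_add, eval_mul, eval_C, eval_pow, eval_X, eval_neg] at hab
    linear_combination hab
  have h2 := congrArg (Subtype.val : F₀ → F) h1
  simpa using h2

end Cfsg.Agent.Helper41.U3O
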