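import Cfsg.Agent.Helper41.GL2

set_option autoImplicit false

namespace Cfsg.Agent.Helper41

open Matrix

variable {F : Type*} [Field F]

theorem mul_scalar_two (M : Matrix (Fin 2) (Fin 2) F) (r : F) :
    M * Matrix.scalar (Fin 2) r = r • M := by
  ext i j
  simp [Matrix.scalar_apply, Matrix.mul_diagonal, mul_comm]

theorem scalar_two_eq_smul_one (r : F) :
    Matrix.scalar (Fin 2) r = r • (1 : Matrix (Fin 2) (Fin 2) F) := by
  ext i j
  fin_cases i <;> fin_cases j <;> simp [Matrix.scalar_apply]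

theorem pgl2_mk_eq_one_iff (g : GL (Fin 2) F) :
    (QuotientGroup.mk g : GL (Fin 2) F ⧸ Subgroup.center (GL (Fin 2) F)) = 1 ↔
      ∃ r : F, (g : Matrix (Fin 2) (Fin 2) F) = Matrix.scalar (Fin 2) r := by
  rw [QuotientGroup.eq_one_iff, Matrix.GeneralLinearGroup.mem_center_iff_val_mem_range_scalar]
  constructor
  · rintro ⟨r, hr⟩; exact ⟨r, hr.symm⟩
  · rintro ⟨r, hr⟩; exact ⟨r, hr.symm⟩

/-- Commuting in `PGL₂` means commuting up to a scalar in `GL₂`. -/
theorem pgl2_commute_iff (g z : GL (Fin 2) F) :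
    (QuotientGroup.mk g : GL (Fin 2) F ⧸ Subgroup.center (GL (Fin 2) F)) * QuotientGroup.mk z =
        QuotientGroup.mk z * QuotientGroup.mk g ↔
      ∃ l : F, (g : Matrix (Fin 2) (Fin 2) F) * (z : Matrix (Fin 2) (Fin 2) F) =
        l • ((z : Matrix (Fin 2) (Fin 2) F) * (g : Matrix (Fin 2) (Fin 2) F)) := by
  rw [← QuotientGroup.mk_mul, ← QuotientGroup.mk_mul, eq_comm, QuotientGroup.eq,
    Matrix.GeneralLinearGroup.mem_center_iff_val_mem_range_scalar]
  constructor
  · rintro ⟨r, hr⟩
    refine ⟨r, ?_⟩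
    have h1 : (g * z : GL (Fin 2) F) = (z * g) * ((z * g)⁻¹ * (g * z)) := by group
    have h2 := congrArg (fun u : GL (Fin 2) F => (u : Matrix (Fin 2) (Fin 2) F)) h1
    simp only [Units.val_mul] at h2 hr
    rw [← hr, mul_scalar_two] at h2
    exact h2
  · rintro ⟨l, hl⟩
    refine ⟨l, ?_⟩
    have h3 : ((z * g : GL (Fin 2) F) : Matrix (Fin 2) (Fin 2) F) * Matrix.scalar (Fin 2) l =
        ((z * g : GL (Fin 2) F) : Matrix (Fin 2) (Fin 2) F) *
          (((z * g)⁻¹ * (g * z) : GL (Fin 2) F) : Matrix (Fin 2) (Fin 2) F) := by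
      rw [mul_scalar_two, ← Units.val_mul, mul_inv_cancel_left]
      simp only [Units.val_mul]
      exact hl.symm
    have hu : IsUnit ((z * g : GL (Fin 2) F) : Matrix (Fin 2) (Fin 2) F) := (z * g).isUnit
    exact hu.mul_left_cancel h3

/-- The order of `PGL₂(F)`. -/
theorem card_pgl2 [Fintype F] :
    Nat.card (GL (Fin 2) F ⧸ Subgroup.center (GL (Fin 2) F)) =
      Fintype.card F * (Fintype.card F - 1) * (Fintype.card F + 1) := by
  classical
  have hq : 1 < Fintype.card F := Fintype.one_lt_card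
  have h1 := Subgroup.card_eq_card_quotient_mul_card_subgroup (Subgroup.center (GL (Fin 2) F))
  have h2 : Nat.card (GL (Fin 2) F) =
      (Fintype.card F ^ 2 - 1) * (Fintype.card F ^ 2 - Fintype.card F) := by
    rw [Matrix.card_GL_field, Fin.prod_univ_two]
    simp
  have h3 : Nat.card (Subgroup.center (GL (Fin 2) F)) = Fintype.card F - 1 := by
    rw [Matrix.GeneralLinearGroup.center_eq_range_scalar]
    have hinj : Function.Injective (Matrix.GeneralLinearGroup.scalar (Fin 2) : Fˣ →* GL (Fin 2) F) := by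
      intro a b hab
      have := congrArg (fun g : GL (Fin 2) F => (g : Matrix (Fin 2) (Fin 2) F) 0 0) hab
      simp at this
      exact Units.ext this
    rw [Nat.card_congr (MonoidHom.ofInjective hinj).symm.toEquiv, Nat.card_eq_fintype_card,
      Fintype.card_units]
  rw [h2, h3] at h1
  obtain ⟨m, hm⟩ : ∃ m, Fintype.card F = m + 2 := ⟨Fintype.card F - 2, by omega⟩
  rw [hm] at h1 ⊢
  have e1 : (m + 2) ^ 2 - 1 = (m + 1) * (m + 3) := by
    have : (m + 2) ^ 2 = (m + 1) * (m + 3) + 1 := by ring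
    omega
  have e2 : (m + 2) ^ 2 - (m + 2) = (m + 2) * (m + 1) := by
    have : (m + 2) ^ 2 = (m + 2) * (m + 1) + (m + 2) := by ring
    omega
  rw [e1, e2] at h1
  have e3 : m + 2 - 1 = m + 1 := by omega
  rw [e3] at h1 ⊢
  have : (m + 1) * ((m + 2) * (m + 1) * (m + 2 + 1)) =
      (m + 1) * Nat.card (GL (Fin 2) F ⧸ Subgroup.center (GL (Fin 2) F)) := by
    rw [mul_comm (m + 1) (Nat.card _), ← h1]; ring
  exact (Nat.eq_of_mul_eq_mul_left (by omega) this).symm

/-- If `g z = l • z g` with `g`, `z` invertible then `l ^ 2 = 1`. -/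
theorem sq_eq_one_of_mul_eq_smul_mul (g z : Matrix (Fin 2) (Fin 2) F) (hg : g.det ≠ 0)
    (hz : z.det ≠ 0) (l : F) (h : g * z = l • (z * g)) : l ^ 2 = 1 := by
  have := congrArg Matrix.det h
  rw [Matrix.det_mul, Matrix.det_smul, Matrix.det_mul, Fintype.card_fin] at this
  have h2 : (l ^ 2 - 1) * (g.det * z.det) = 0 := by linear_combination -this
  rcases mul_eq_zero.mp h2 with h3 | h3
  · linear_combination h3
  · exact absurd h3 (mul_ne_zero hg hz)

/-- If `g z = l • z g` with `l ^ 2 = 1` then `g * g` commutes with `z`. -/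
theorem sq_commute_of_mul_eq_smul_mul (g z : Matrix (Fin 2) (Fin 2) F) (l : F) (hl : l ^ 2 = 1)
    (h : g * z = l • (z * g)) : (g * g) * z = z * (g * g) := by
  calc (g * g) * z = g * (g * z) := by rw [Matrix.mul_assoc]
    _ = g * (l • (z * g)) := by rw [h]
    _ = l • ((g * z) * g) := by rw [Matrix.mul_smul, Matrix.mul_assoc]
    _ = l • ((l • (z * g)) * g) := by rw [h]
    _ = (l ^ 2) • (z * (g * g)) := by
        rw [Matrix.smul_mul, smul_smul, ← pow_two, Matrix.mul_assoc]
    _ = z * (g * g) := by rw [hl, one_smul]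

/-- A trace-zero invertible matrix is not scalar (characteristic not 2). -/
theorem not_scalar_of_trace_zero (h2 : (2 : F) ≠ 0) (z : Matrix (Fin 2) (Fin 2) F)
    (hz : z.trace = 0) (hdet : z.det ≠ 0) : ∀ r : F, z ≠ Matrix.scalar (Fin 2) r := by
  intro r h
  rw [h, Matrix.trace_fin_two] at hz
  simp [Matrix.scalar_apply] at hz
  have hr : r = 0 := by
    have : (2 : F) * r = 0 := by linear_combination hz
    rcases mul_eq_zero.mp this with h' | h'
    · exact absurd h' h2
    · exact h'
  apply hdet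
  rw [h, hr]
  simp

section Finite

variable [Fintype F]

/-- Type I: `-det z` a non-square. Every element commuting with `z` up to a scalar has
`(g²)^(q+1)` scalar. -/
theorem sq_pow_card_add_one_scalar_of_not_isSquare (hodd : Fintype.card F % 2 = 1)
    (z g : Matrix (Fin 2) (Fin 2) F) (hz : z.trace = 0) (hns : ¬ IsSquare (-z.det))
    (hg : g.det ≠ 0) (l : F) (h : g * z = l • (z * g)) :
    ∃ r : F, (g * g) ^ (Fintype.card F + 1) = Matrix.scalar (Fin 2) r := by
  have hchar : ringChar F ≠ 2 := by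
    intro hc
    have := FiniteField.even_card_of_char_two hc
    omega
  have h2 : (2 : F) ≠ 0 := by
    intro h2
    apply hchar
    have : ((2 : ℕ) : F) = 0 := by exact_mod_cast h2
    have hdvd := (ringChar.spec F 2).mp this
    have hp : (ringChar F).Prime := by
      rcases CharP.char_is_prime_or_zero F (ringChar F) with hp | hp
      · exact hp
      · rw [hp] at hdvd; simp at hdvd
    exact (Nat.prime_dvd_prime_iff_eq hp Nat.prime_two).mp hdvd
  have hδ0 : -z.det ≠ 0 := by
    intro h0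
    apply hns
    rw [h0]
    exact ⟨0, by ring⟩
  have hzdet : z.det ≠ 0 := by
    intro h0; apply hδ0; rw [h0, neg_zero]
  have hl := sq_eq_one_of_mul_eq_smul_mul g z hg hzdet l h
  have hcomm := sq_commute_of_mul_eq_smul_mul g z l hl h
  have hzns := not_scalar_of_trace_zero h2 z hz hzdet
  obtain ⟨α, β, hαβ⟩ := exists_eq_add_smul_of_commute z (g * g) hzns hcomm
  have hzz := mul_self_of_trace_zero z hz
  have hpow : (-z.det) ^ (Fintype.card F / 2) = -1 := by
    rcases FiniteField.pow_dichotomy hchar hδ0 with h1 | h1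
    · exact absurd ((FiniteField.isSquare_iff hchar hδ0).mpr h1) hns
    · exact h1
  refine ⟨α ^ 2 - β ^ 2 * (-z.det), ?_⟩
  rw [hαβ, pow_succ, add_smul_pow_card hodd z (-z.det) hzz α β, hpow]
  rw [Matrix.add_mul, Matrix.mul_add, Matrix.mul_add]
  simp only [Matrix.smul_mul, Matrix.mul_smul, Matrix.one_mul, Matrix.mul_one, hzz, smul_smul]
  rw [scalar_two_eq_smul_one]
  module

/-- Type II: `-det z = e ^ 2`. Every invertible element commuting with `z` has `g ^ (q - 1) = 1`. -/
theorem pow_card_sub_one_eq_one_of_isSquare (hodd : Fintype.card F % 2 = 1)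
    (z g : Matrix (Fin 2) (Fin 2) F) (hz : z.trace = 0) (e : F) (he : e ≠ 0) (hsq : -z.det = e ^ 2)
    (hg : g.det ≠ 0) (h : g * z = z * g) :
    g ^ (Fintype.card F - 1) = 1 := by
  have hchar : ringChar F ≠ 2 := by
    intro hc
    have := FiniteField.even_card_of_char_two hc
    omega
  have h2 : (2 : F) ≠ 0 := by
    intro h2
    apply hchar
    have : ((2 : ℕ) : F) = 0 := by exact_mod_cast h2
    have hdvd := (ringChar.spec F 2).mp this
    have hp : (ringChar F).Prime := by
      rcases CharP.char_is_prime_or_zero F (ringChar F) with hp | hp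
      · exact hp
      · rw [hp] at hdvd; simp at hdvd
    exact (Nat.prime_dvd_prime_iff_eq hp Nat.prime_two).mp hdvd
  have hzdet : z.det ≠ 0 := by
    intro h0
    rw [h0, neg_zero] at hsq
    exact he (pow_eq_zero_iff (by decide) |>.mp hsq.symm)
  have hzns := not_scalar_of_trace_zero h2 z hz hzdet
  obtain ⟨α, β, hαβ⟩ := exists_eq_add_smul_of_commute z g hzns h
  have hzz := mul_self_of_trace_zero z hz
  have hq1 : 1 < Fintype.card F := Fintype.one_lt_card
  have hpow : (-z.det) ^ (Fintype.card F / 2) = 1 := by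
    rw [hsq, ← pow_mul]
    have : 2 * (Fintype.card F / 2) = Fintype.card F - 1 := by omega
    rw [this]
    exact FiniteField.pow_card_sub_one_eq_one e he
  have hgq : g ^ Fintype.card F = g := by
    rw [hαβ, add_smul_pow_card hodd z (-z.det) hzz α β, hpow, mul_one]
  have hu : IsUnit g := (Matrix.isUnit_iff_isUnit_det g).mpr (isUnit_iff_ne_zero.mpr hg)
  have h3 : g ^ (Fintype.card F - 1) * g = 1 * g := by
    rw [← pow_succ, Nat.sub_add_cancel (by omega), hgq, one_mul]
  exact hu.mul_right_cancel h3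

omit [Fintype F] in
/-- Type II: among elements commuting with `z`, the ones with scalar square are scalars or
scalar multiples of `z`. -/
theorem scalar_or_smul_of_sq_scalar (h2 : (2 : F) ≠ 0)
    (z g : Matrix (Fin 2) (Fin 2) F) (hz : z.trace = 0) (hzdet : z.det ≠ 0)
    (h : g * z = z * g) (r : F) (hr : g * g = Matrix.scalar (Fin 2) r) :
    (∃ α : F, g = Matrix.scalar (Fin 2) α) ∨ (∃ β : F, g = β • z) := by
  have hzns := not_scalar_of_trace_zero h2 z hz hzdet
  obtain ⟨α, β, hαβ⟩ := exists_eq_add_smul_of_commute z g hzns h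
  have hzz := mul_self_of_trace_zero z hz
  -- g * g = (α² + β² δ) + 2αβ z
  have hgg : g * g = (α ^ 2 + β ^ 2 * (-z.det)) • (1 : Matrix (Fin 2) (Fin 2) F) + (2 * α * β) • z := by
    rw [hαβ, Matrix.add_mul, Matrix.mul_add, Matrix.mul_add]
    simp only [Matrix.smul_mul, Matrix.mul_smul, Matrix.one_mul, Matrix.mul_one, hzz, smul_smul]
    module
  rw [hgg, scalar_two_eq_smul_one] at hr
  have h3 : (2 * α * β) • z = (r - (α ^ 2 + β ^ 2 * (-z.det))) • (1 : Matrix (Fin 2) (Fin 2) F) := by
    rw [sub_smul, ← hr]; abel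
  have h4 : 2 * α * β = 0 := by
    by_contra hne
    apply hzns ((2 * α * β)⁻¹ * (r - (α ^ 2 + β ^ 2 * (-z.det))))
    rw [scalar_two_eq_smul_one, mul_smul, ← h3, smul_smul, inv_mul_cancel₀ hne, one_smul]
  rcases mul_eq_zero.mp h4 with h5 | h5
  · rcases mul_eq_zero.mp h5 with h6 | h6
    · exact absurd h6 h2
    · right
      exact ⟨β, by rw [hαβ, h6]; simp⟩
  · left
    exact ⟨α, by rw [hαβ, h5, scalar_two_eq_smul_one]; simp⟩

end Finite

end Cfsg.Agent.Helper41
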