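import Mathlib
import Cfsg.Agent.Helper38.VL.Defs

/-!
helper41, leaf (LA4) of helper38's farm #13454 for S3777 (Vaughan-Lee): functionals outside a line.
-/

set_option autoImplicit false

namespace Cfsg.Agent.Helper41.VL

/-- a finite vector space over `ZMod p` has as many functionals as vectors -/
theorem card_dual_eq_card {p : ℕ} [Fact p.Prime] {V : Type*} [AddCommGroup V]
    [Module (ZMod p) V] [Finite V] : Nat.card (Module.Dual (ZMod p) V) = Nat.card V := by
  have b := Module.Free.chooseBasis (ZMod p) V
  exact (Nat.card_congr b.toDualEquiv.toEquiv).symm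

/-- the complement count in a finite type -/
theorem card_compl_add_card {X : Type*} [Finite X] (S : Set X) :
    Nat.card {x : X // x ∉ S} + Nat.card S = Nat.card X := by
  classical
  have := Fintype.ofFinite X
  rw [Nat.card_eq_fintype_card, Nat.card_eq_fintype_card, Nat.card_eq_fintype_card]
  have h := Fintype.card_subtype_compl (fun x => x ∈ S)
  have h2 : Fintype.card {x // x ∈ S} ≤ Fintype.card X := Fintype.card_subtype_le _
  have h3 : Fintype.card (↥S) = Fintype.card {x // x ∈ S} := rfl
  omega

/-- (LA4) functionals outside the line spanned by `α₀`. -/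
theorem card_dual_not_mem_span {p : ℕ} [Fact p.Prime] {V : Type*} [AddCommGroup V]
    [Module (ZMod p) V] [Finite V] (α₀ : Module.Dual (ZMod p) V) (hα₀ : α₀ ≠ 0) :
    Nat.card {α : Module.Dual (ZMod p) V // α ∉ Submodule.span (ZMod p) {α₀}} + p =
      Nat.card V := by
  have : Finite (Module.Dual (ZMod p) V) := by
    apply Nat.finite_of_card_ne_zero
    rw [card_dual_eq_card]
    exact Nat.card_pos.ne'
  have h1 := card_compl_add_card ((Submodule.span (ZMod p) {α₀} : Submodule (ZMod p) (Module.Dual (ZMod p) V)) :
    Set (Module.Dual (ZMod p) V))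
  have h2 : Nat.card ((Submodule.span (ZMod p) {α₀} : Submodule (ZMod p) (Module.Dual (ZMod p) V)) :
      Set (Module.Dual (ZMod p) V)) = p := by
    have e := LinearEquiv.toSpanNonzeroSingleton (ZMod p) (Module.Dual (ZMod p) V) α₀ hα₀
    have := Nat.card_congr e.toEquiv
    rw [Nat.card_zmod] at this
    exact this.symm
  rw [card_dual_eq_card, h2] at h1
  exact h1

end Cfsg.Agent.Helper41.VL
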