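import Mathlib
import Cfsg.Prelude.Def_Characters
import Cfsg.Prelude.Def_ParabolicCharacters
import Cfsg.Agent.Helper39.SL2Cosets
import Cfsg.Agent.Helper15.IndFun

set_option autoImplicit false

/-!
# Functions on `SL₂(F)` induced from linear characters of the upper triangular subgroup

The explicit formula `indFun_borelTheta` for `R(α) = Ind_B^{SL₂} (b ↦ α(b₀₀))`, and a parametrisation
`borelEquiv : Fˣ × F ≃ B`. (Adapted from helper39's `Cfsg.Agent.S2306`, on top of
`Cfsg.Agent.Helper39.SL2Cosets`.)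
-/

namespace Cfsg.Agent.Helper41

open Matrix Cfsg Cfsg.Agent.Helper39
open scoped ComplexConjugate

variable {F : Type*} [Field F]

/-- The linear character `b ↦ α(b₀₀)` of the upper triangular subgroup of `SL₂`. -/
noncomputable def borelTheta (α : MulChar F ℂ) : BSL F → ℂ :=
  fun b => α (((b : Matrix.SpecialLinearGroup (Fin 2) F) : Matrix (Fin 2) (Fin 2) F) 0 0)

theorem borelTheta_mul (α : MulChar F ℂ) (b b' : BSL F) :
    borelTheta α (b * b') = borelTheta α b * borelTheta α b' := by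
  have hb' : ((b' : Matrix.SpecialLinearGroup (Fin 2) F) : Matrix (Fin 2) (Fin 2) F) 1 0 = 0 :=
    (mem_BSL_iff _).mp b'.2
  unfold borelTheta
  rw [Subgroup.coe_mul, Matrix.SpecialLinearGroup.coe_mul, Matrix.mul_apply, Fin.sum_univ_two, hb',
    mul_zero, add_zero, map_mul]

theorem borelTheta_one (α : MulChar F ℂ) : borelTheta α 1 = 1 := by
  unfold borelTheta
  simp

theorem borelTheta_conj (α : MulChar F ℂ) (b y : BSL F) :
    borelTheta α (b⁻¹ * y * b) = borelTheta α y := by
  have h1 : borelTheta α (b⁻¹ * y * b) = borelTheta α b⁻¹ * borelTheta α y * borelTheta α b := by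
    rw [borelTheta_mul, borelTheta_mul]
  have h2 : borelTheta α b⁻¹ * borelTheta α b = 1 := by
    rw [← borelTheta_mul, inv_mul_cancel, borelTheta_one]
  rw [h1, mul_comm (borelTheta α b⁻¹), mul_assoc, h2, mul_one]

/-- The explicit value of the induced function. -/
noncomputable def borelIndVal [Fintype F] [DecidableEq F] (α : MulChar F ℂ)
    (g : Matrix.SpecialLinearGroup (Fin 2) F) : ℂ :=
  (if (g : Matrix (Fin 2) (Fin 2) F) 1 0 = 0 then α ((g : Matrix (Fin 2) (Fin 2) F) 0 0) else 0) +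
    ∑ c : F, if (g : Matrix (Fin 2) (Fin 2) F) 0 0 * c + (g : Matrix (Fin 2) (Fin 2) F) 0 1 -
        c * ((g : Matrix (Fin 2) (Fin 2) F) 1 0 * c + (g : Matrix (Fin 2) (Fin 2) F) 1 1) = 0 then
      α ((g : Matrix (Fin 2) (Fin 2) F) 1 0 * c + (g : Matrix (Fin 2) (Fin 2) F) 1 1) else 0

theorem extendByZero_borelTheta [DecidableEq F] (α : MulChar F ℂ)
    (y : Matrix.SpecialLinearGroup (Fin 2) F) :
    Cfsg.extendByZero (BSL F) (borelTheta α) y =
      if (y : Matrix (Fin 2) (Fin 2) F) 1 0 = 0 then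
        α ((y : Matrix (Fin 2) (Fin 2) F) 0 0) else 0 := by
  split_ifs with h
  · rw [Cfsg.Agent.Helper15.extendByZero_of_mem _ _ ((mem_BSL_iff y).mpr h)]
    rfl
  · rw [Cfsg.Agent.Helper15.extendByZero_of_not_mem _ _ (fun hy => h ((mem_BSL_iff y).mp hy))]

theorem indFun_borelTheta [Fintype F] [DecidableEq F] (α : MulChar F ℂ)
    (g : Matrix.SpecialLinearGroup (Fin 2) F) :
    Cfsg.indFun (BSL F) (borelTheta α) g = borelIndVal α g := by
  rw [indFun_BSL (borelTheta α) (borelTheta_conj α) g, Fintype.sum_option, conj_srep_none,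
    extendByZero_borelTheta]
  unfold borelIndVal
  congr 1
  apply Finset.sum_congr rfl
  intro c _
  rw [extendByZero_borelTheta, conj_srep_some_10, conj_srep_some_00]
  simp only [neg_eq_zero]

/-- The element `!![a, x; 0, a⁻¹]` of the upper triangular subgroup. -/
noncomputable def borelElt (p : Fˣ × F) : BSL F :=
  ⟨mkSL2 !![(p.1 : F), p.2; 0, ((p.1⁻¹ : Fˣ) : F)] (by simp [Matrix.det_fin_two]),
    (mem_BSL_iff _).mpr rfl⟩

theorem borelElt_00 (p : Fˣ × F) :
    (((borelElt p : BSL F) : Matrix.SpecialLinearGroup (Fin 2) F) : Matrix (Fin 2) (Fin 2) F) 0 0 =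
      p.1 := rfl
theorem borelElt_01 (p : Fˣ × F) :
    (((borelElt p : BSL F) : Matrix.SpecialLinearGroup (Fin 2) F) : Matrix (Fin 2) (Fin 2) F) 0 1 =
      p.2 := rfl
theorem borelElt_10 (p : Fˣ × F) :
    (((borelElt p : BSL F) : Matrix.SpecialLinearGroup (Fin 2) F) : Matrix (Fin 2) (Fin 2) F) 1 0 =
      0 := rfl
theorem borelElt_11 (p : Fˣ × F) :
    (((borelElt p : BSL F) : Matrix.SpecialLinearGroup (Fin 2) F) : Matrix (Fin 2) (Fin 2) F) 1 1 =
      ((p.1⁻¹ : Fˣ) : F) := rfl

theorem borelElt_bijective : Function.Bijective (borelElt (F := F)) := by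
  constructor
  · intro p p' h
    have h0 := congrArg (fun b : BSL F =>
      ((b : Matrix.SpecialLinearGroup (Fin 2) F) : Matrix (Fin 2) (Fin 2) F) 0 0) h
    have h1 := congrArg (fun b : BSL F =>
      ((b : Matrix.SpecialLinearGroup (Fin 2) F) : Matrix (Fin 2) (Fin 2) F) 0 1) h
    simp only [borelElt_00, borelElt_01] at h0 h1
    exact Prod.ext (Units.ext h0) h1
  · intro b
    have hb : ((b : Matrix.SpecialLinearGroup (Fin 2) F) : Matrix (Fin 2) (Fin 2) F) 1 0 = 0 :=
      (mem_BSL_iff _).mp b.2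
    have hdet : ((b : Matrix.SpecialLinearGroup (Fin 2) F) : Matrix (Fin 2) (Fin 2) F).det = 1 :=
      (b : Matrix.SpecialLinearGroup (Fin 2) F).2
    rw [Matrix.det_fin_two, hb, mul_zero, sub_zero] at hdet
    have h0 : ((b : Matrix.SpecialLinearGroup (Fin 2) F) : Matrix (Fin 2) (Fin 2) F) 0 0 ≠ 0 := by
      intro h
      rw [h, zero_mul] at hdet
      exact zero_ne_one hdet
    refine ⟨(Units.mk0 _ h0,
      ((b : Matrix.SpecialLinearGroup (Fin 2) F) : Matrix (Fin 2) (Fin 2) F) 0 1), ?_⟩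
    apply Subtype.ext
    apply Matrix.SpecialLinearGroup.ext
    intro i j
    fin_cases i <;> fin_cases j
    · rfl
    · rfl
    · exact hb.symm
    · show ((Units.mk0 _ h0)⁻¹ : Fˣ).val = _
      rw [Units.val_inv_eq_inv_val, Units.val_mk0]
      exact (eq_inv_of_mul_eq_one_right hdet).symm

/-- The parametrisation of the upper triangular subgroup. -/
noncomputable def borelEquiv : Fˣ × F ≃ BSL F := Equiv.ofBijective borelElt borelElt_bijective

theorem card_BSL' [Fintype F] [DecidableEq F] :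
    Nat.card (BSL F) = Fintype.card Fˣ * Fintype.card F := by
  rw [← Nat.card_congr (borelEquiv (F := F)), Nat.card_eq_fintype_card, Fintype.card_prod]

theorem conj_mulChar' [Fintype F] (α : MulChar F ℂ) (a : F) : conj (α a) = α a⁻¹ := by
  have := MulChar.star_apply' α a
  rw [MulChar.inv_apply'] at this
  exact this

theorem sum_units_mulChar' [Fintype F] [DecidableEq F] (χ : MulChar F ℂ) :
    ∑ a : Fˣ, χ a = if χ = 1 then (Fintype.card Fˣ : ℂ) else 0 := by
  have h1 : ∑ a : F, χ a = ∑ a : Fˣ, χ a := by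
    rw [← Finset.sum_subset (Finset.subset_univ (Finset.univ.map ⟨fun a : Fˣ => (a : F), fun _ _ h => Units.ext h⟩))]
    · rw [Finset.sum_map]
      rfl
    · intro a _ ha
      apply MulChar.map_nonunit
      intro hu
      apply ha
      rw [Finset.mem_map]
      exact ⟨hu.unit, Finset.mem_univ _, rfl⟩
  rw [← h1]
  split_ifs with h
  · rw [h, MulChar.sum_one_eq_card_units]
  · exact MulChar.sum_eq_zero_of_ne_one h

end Cfsg.Agent.Helper41
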