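import Cfsg.Agent.Helper41.SL2Char2
import Cfsg.Agent.Helper41.GL2
import Cfsg.Agent.S0228

set_option autoImplicit false

/-!
# `A₄` inside `SL₂` in characteristic two
-/

namespace Cfsg.Agent.Helper41

open Matrix

section char2A4

variable {F : Type*} [Field F]

local notation "SL2F" => Matrix.SpecialLinearGroup (Fin 2) F
local notation "M2F" => Matrix (Fin 2) (Fin 2) F
local notation "PSL2F" => Matrix.ProjectiveSpecialLinearGroup (Fin 2) F

/-- If `SL₂(F)`, `F` of characteristic two, contains commuting involutions `A`, `B` and `T` with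
`T A T⁻¹ = B`, `T B T⁻¹ = A B`, then `F` contains a primitive cube root of unity. -/
theorem exists_root_of_klein_cycle (h2 : (2 : F) = 0) (A B T : SL2F) (hA1 : A ≠ 1)
    (hAA : A * A = 1) (hBB : B * B = 1) (hAB : A * B = B * A) (hTA : T * A * T⁻¹ = B)
    (hTB : T * B * T⁻¹ = A * B) : ∃ α : F, α ^ 2 + α + 1 = 0 := by
  have hneg : ∀ Y : M2F, -Y = Y := by
    intro Y
    have h : (2 : F) • Y = 0 := by rw [h2, zero_smul]
    rw [two_smul] at h
    exact (eq_neg_of_add_eq_zero_right h).symm
  have hnegF : ∀ c : F, -c = c := by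
    intro c
    have h : (2 : F) * c = 0 := by rw [h2, zero_mul]
    rw [two_mul] at h
    exact (eq_neg_of_add_eq_zero_right h).symm
  set M := (A : M2F) with hM
  set Bm := (B : M2F) with hBm
  set Tm := (T : M2F) with hTm
  have hMM : M * M = 1 := by
    have := congrArg (fun Y : SL2F => (Y : M2F)) hAA
    simpa only [Matrix.SpecialLinearGroup.coe_mul, Matrix.SpecialLinearGroup.coe_one] using this
  have hBB' : Bm * Bm = 1 := by
    have := congrArg (fun Y : SL2F => (Y : M2F)) hBB
    simpa only [Matrix.SpecialLinearGroup.coe_mul, Matrix.SpecialLinearGroup.coe_one] using this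
  have hns : ∀ r : F, M ≠ Matrix.scalar (Fin 2) r := by
    intro r hr
    apply hA1
    apply sl2_eq_one_of_mem_center_of_two_eq_zero h2
    rw [sl2_mem_center_iff]
    refine ⟨r, ?_, hr⟩
    have hdet := A.det_coe
    rw [← hM, hr, Matrix.det_fin_two] at hdet
    simp [Matrix.scalar_apply] at hdet
    rw [pow_two]; exact hdet
  have hcomm : Bm * M = M * Bm := by
    have := congrArg (fun Y : SL2F => (Y : M2F)) hAB
    simp only [Matrix.SpecialLinearGroup.coe_mul] at this
    exact this.symm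
  obtain ⟨x, y, hxy⟩ := exists_eq_add_smul_of_commute M Bm hns hcomm
  -- `x² + y² = 1`
  have hBsq : Bm * Bm = (x ^ 2 + y ^ 2) • (1 : M2F) := by
    rw [hxy]
    simp only [add_mul, mul_add, Matrix.smul_mul, Matrix.mul_smul, Matrix.one_mul, Matrix.mul_one,
      hMM, smul_smul]
    have : (x * y) • M + (y * x) • M = 0 := by
      rw [mul_comm y x, ← two_smul F ((x * y) • M), h2, zero_smul]
    rw [add_smul, pow_two, pow_two]
    rw [add_assoc, ← add_assoc ((x * y) • M), this, zero_add]
  have hx : x = 1 + y := by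
    rw [hBB'] at hBsq
    have h00 := congr_fun (congr_fun hBsq 0) 0
    simp at h00
    have hsq : (x + y + 1) ^ 2 = 0 := by
      have : (x + y + 1) ^ 2 = x ^ 2 + y ^ 2 + 1 + 2 * (x * y + x + y) := by ring
      rw [this, h2, zero_mul, add_zero, ← h00]
      have := hnegF 1
      linear_combination -this
    have := pow_eq_zero_iff (two_ne_zero) |>.1 hsq
    have h3 : x = -(1 + y) := by linear_combination this
    rw [h3, hnegF]
  set N := (1 : M2F) + M with hN
  have hBN : Bm = 1 + y • N := by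
    rw [hxy, hx, hN, smul_add, add_smul, one_smul]
    abel
  have hN0 : N ≠ 0 := by
    intro h0
    apply hA1
    apply Subtype.ext
    rw [Matrix.SpecialLinearGroup.coe_one, ← hM]
    have : M = -1 := by
      rw [hN] at h0
      exact (eq_neg_of_add_eq_zero_right h0)
    rw [this, hneg]
  -- `T A = B T`
  have hTA' : Tm * M = Bm * Tm := by
    have : T * A = B * T := by rw [← hTA]; group
    have := congrArg (fun Y : SL2F => (Y : M2F)) this
    simpa only [Matrix.SpecialLinearGroup.coe_mul] using this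
  have hTB' : Tm * Bm = M * Bm * Tm := by
    have : T * B = A * B * T := by rw [← hTB]; group
    have := congrArg (fun Y : SL2F => (Y : M2F)) this
    simpa only [Matrix.SpecialLinearGroup.coe_mul] using this
  have h1 : Tm * N = y • (N * Tm) := by
    rw [hN, mul_add, Matrix.mul_one, hTA', hBN, add_mul, Matrix.one_mul, Matrix.smul_mul, ← hN]
    have : Tm + (Tm + y • (N * Tm)) = (Tm + Tm) + y • (N * Tm) := by abel
    rw [this, ← two_smul F Tm, h2, zero_smul, zero_add]
  have hMN : M * N = N := by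
    rw [hN, mul_add, Matrix.mul_one, hMM, add_comm]
  have hM1N : M = 1 + N := by
    rw [hN, ← add_assoc, ← two_smul F (1 : M2F), h2, zero_smul, zero_add]
  have h2' : (y ^ 2) • (N * Tm) = (1 + y) • (N * Tm) := by
    have e1 : Tm * Bm = Tm + (y ^ 2) • (N * Tm) := by
      rw [hBN, mul_add, Matrix.mul_one, Matrix.mul_smul, h1, smul_smul, ← pow_two]
    have e2 : M * Bm * Tm = Tm + (1 + y) • (N * Tm) := by
      rw [hBN, mul_add, Matrix.mul_one, Matrix.mul_smul, hMN, add_mul, Matrix.smul_mul]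
      nth_rewrite 1 [hM1N]
      rw [add_mul, Matrix.one_mul, add_smul, one_smul, add_assoc]
    rw [e1, e2] at hTB'
    exact add_left_cancel hTB'
  have h3 : (y ^ 2 + y + 1) • (N * Tm) = 0 := by
    have : (y ^ 2 + y + 1) • (N * Tm) = (y ^ 2) • (N * Tm) + (1 + y) • (N * Tm) := by
      rw [← add_smul]; congr 1; ring
    rw [this, h2', ← two_smul F ((1 + y) • (N * Tm)), h2, zero_smul]
  refine ⟨y, ?_⟩
  by_contra hne
  apply hN0
  have h4 : N * Tm = 0 := by
    rcases smul_eq_zero.mp h3 with h | h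
    · exact absurd h hne
    · exact h
  have hTinv : Tm * ((T⁻¹ : SL2F) : M2F) = 1 := by
    rw [hTm, ← Matrix.SpecialLinearGroup.coe_mul, mul_inv_cancel,
      Matrix.SpecialLinearGroup.coe_one]
  calc N = N * (Tm * ((T⁻¹ : SL2F) : M2F)) := by rw [hTinv, Matrix.mul_one]
    _ = (N * Tm) * ((T⁻¹ : SL2F) : M2F) := by rw [Matrix.mul_assoc]
    _ = 0 := by rw [h4, Matrix.zero_mul]


/-- The group of upper triangular matrices with diagonal entries cube roots of unity and
off-diagonal entry in the field of four elements. -/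
def borelFour (h2 : (2 : F) = 0) : Subgroup SL2F where
  carrier := {g | (g : M2F) 1 0 = 0 ∧ ((g : M2F) 0 0) ^ 3 = 1 ∧ ((g : M2F) 0 1) ^ 4 = (g : M2F) 0 1}
  one_mem' := by simp
  mul_mem' := by
    rintro g k ⟨hg10, hg00, hg01⟩ ⟨hk10, hk00, hk01⟩
    have hkdet := sl2_det k
    rw [hk10, mul_zero, sub_zero] at hkdet
    have hk11 : ((k : M2F) 1 1) ^ 3 = 1 := by
      have : ((k : M2F) 0 0 * (k : M2F) 1 1) ^ 3 = 1 := by rw [hkdet, one_pow]
      rw [mul_pow, hk00, one_mul] at this
      exact this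
    refine ⟨?_, ?_, ?_⟩
    · simp [Matrix.mul_apply, Fin.sum_univ_two, hg10, hk10]
    · simp only [Matrix.SpecialLinearGroup.coe_mul, Matrix.mul_apply, Fin.sum_univ_two, hk10,
        mul_zero, add_zero, mul_pow, hg00, hk00, one_mul]
    · simp only [Matrix.SpecialLinearGroup.coe_mul, Matrix.mul_apply, Fin.sum_univ_two]
      have e : ∀ u v : F, (u + v) ^ 4 = u ^ 4 + v ^ 4 := by
        intro u v
        linear_combination (2 * u ^ 3 * v + 3 * u ^ 2 * v ^ 2 + 2 * u * v ^ 3) * h2
      rw [e, mul_pow, mul_pow, hk01, hg01]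
      have e1 : ((g : M2F) 0 0) ^ 4 = (g : M2F) 0 0 := by
        rw [pow_succ, hg00, one_mul]
      have e2 : ((k : M2F) 1 1) ^ 4 = (k : M2F) 1 1 := by
        rw [pow_succ, hk11, one_mul]
      rw [e1, e2]
  inv_mem' := by
    rintro g ⟨hg10, hg00, hg01⟩
    have hgdet := sl2_det g
    rw [hg10, mul_zero, sub_zero] at hgdet
    have hg11 : ((g : M2F) 1 1) ^ 3 = 1 := by
      have : ((g : M2F) 0 0 * (g : M2F) 1 1) ^ 3 = 1 := by rw [hgdet, one_pow]
      rw [mul_pow, hg00, one_mul] at this
      exact this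
    refine ⟨?_, ?_, ?_⟩
    · simp [Matrix.SpecialLinearGroup.coe_inv, Matrix.adjugate_fin_two, hg10]
    · simp [Matrix.SpecialLinearGroup.coe_inv, Matrix.adjugate_fin_two, hg11]
    · simp only [Matrix.SpecialLinearGroup.coe_inv, Matrix.adjugate_fin_two, Matrix.of_apply,
        Matrix.cons_val', Matrix.cons_val_zero, Matrix.cons_val_one, Matrix.cons_val_fin_one]
      have : (-(g : M2F) 0 1) ^ 4 = ((g : M2F) 0 1) ^ 4 := by ring
      rw [this, hg01]
      have h : (2 : F) * (g : M2F) 0 1 = 0 := by rw [h2, zero_mul]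
      linear_combination h

theorem mem_borelFour (h2 : (2 : F) = 0) (g : SL2F) :
    g ∈ borelFour h2 ↔ (g : M2F) 1 0 = 0 ∧ ((g : M2F) 0 0) ^ 3 = 1 ∧
      ((g : M2F) 0 1) ^ 4 = (g : M2F) 0 1 := Iff.rfl


section withRoot

variable (h2 : (2 : F) = 0) (ζ : F) (hζ : ζ ^ 2 + ζ + 1 = 0)

include hζ

theorem root_pow_three : ζ ^ 3 = 1 := by
  linear_combination (ζ - 1) * hζ

theorem root_ne_zero : ζ ≠ 0 := by
  rintro rfl
  have : (1 : F) = 0 := by linear_combination hζ
  exact one_ne_zero this

theorem cube_roots (t : F) (ht : t ^ 3 = 1) : t = 1 ∨ t = ζ ∨ t = ζ ^ 2 := by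
  have h : (t - 1) * ((t - ζ) * (t - ζ ^ 2)) = 0 := by
    linear_combination ht + (t - 1) * (ζ - 1 - t) * hζ
  rcases mul_eq_zero.mp h with h | h
  · left; exact sub_eq_zero.mp h
  · rcases mul_eq_zero.mp h with h | h
    · right; left; exact sub_eq_zero.mp h
    · right; right; exact sub_eq_zero.mp h

theorem fourth_roots (x : F) (hx : x ^ 4 = x) : x = 0 ∨ x = 1 ∨ x = ζ ∨ x = ζ ^ 2 := by
  by_cases h0 : x = 0
  · left; exact h0
  · right
    apply cube_roots ζ hζ
    have : x * (x ^ 3 - 1) = 0 := by linear_combination hx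
    rcases mul_eq_zero.mp this with h | h
    · exact absurd h h0
    · exact sub_eq_zero.mp h

include h2

theorem root_ne_one : ζ ≠ 1 := by
  rintro rfl
  have : (1 : F) = 0 := by linear_combination hζ - h2
  exact one_ne_zero this


theorem card_borelFour [Fintype F] [DecidableEq F] : Nat.card (borelFour h2) = 12 := by
  classical
  have h3 := root_pow_three ζ hζ
  have hz0 := root_ne_zero ζ hζ
  have hz1 := root_ne_one h2 ζ hζ
  have hzz1 : ζ ^ 2 ≠ 1 := by
    intro h
    apply hz1
    calc ζ = ζ ^ 3 * (ζ ^ 2)⁻¹ := by field_simp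
      _ = 1 := by rw [h3, h]; simp
  have hzz : ζ ^ 2 ≠ ζ := by
    intro h
    have : ζ * (ζ - 1) = 0 := by linear_combination h
    rcases mul_eq_zero.mp this with h' | h'
    · exact hz0 h'
    · exact hz1 (sub_eq_zero.mp h')
  have hzz0 : ζ ^ 2 ≠ 0 := pow_ne_zero 2 hz0
  have hR3 : ({1, ζ, ζ ^ 2} : Finset F).card = 3 := by
    rw [Finset.card_insert_of_notMem, Finset.card_insert_of_notMem, Finset.card_singleton]
    · simp only [Finset.mem_singleton]; exact fun h => hzz h.symm
    · simp only [Finset.mem_insert, Finset.mem_singleton, not_or]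
      exact ⟨fun h => hz1 h.symm, fun h => hzz1 h.symm⟩
  have hR4 : ({0, 1, ζ, ζ ^ 2} : Finset F).card = 4 := by
    rw [Finset.card_insert_of_notMem, hR3]
    simp only [Finset.mem_insert, Finset.mem_singleton, not_or]
    exact ⟨zero_ne_one, fun h => hz0 h.symm, fun h => hzz0 h.symm⟩
  rw [Nat.card_eq_fintype_card, Fintype.card_subtype]
  have : (12 : ℕ) = (({1, ζ, ζ ^ 2} : Finset F) ×ˢ ({0, 1, ζ, ζ ^ 2} : Finset F)).card := by
    rw [Finset.card_product, hR3, hR4]
  rw [this]
  apply Finset.card_bij (fun (g : SL2F) _ => ((g : M2F) 0 0, (g : M2F) 0 1))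
  · intro g hg
    rw [Finset.mem_filter] at hg
    obtain ⟨-, hg10, hg00, hg01⟩ := hg
    rw [Finset.mem_product]
    constructor
    · simp only [Finset.mem_insert, Finset.mem_singleton]
      exact cube_roots ζ hζ _ hg00
    · simp only [Finset.mem_insert, Finset.mem_singleton]
      exact fourth_roots ζ hζ _ hg01
  · intro g hg k hk hgk
    rw [Finset.mem_filter] at hg hk
    obtain ⟨-, hg10, hg00, hg01⟩ := hg
    obtain ⟨-, hk10, hk00, hk01⟩ := hk
    have e00 := congrArg Prod.fst hgk
    have e01 := congrArg Prod.snd hgk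
    simp only at e00 e01
    have hgdet := sl2_det g
    have hkdet := sl2_det k
    rw [hg10, mul_zero, sub_zero] at hgdet
    rw [hk10, mul_zero, sub_zero, ← e00] at hkdet
    have hne : (g : M2F) 0 0 ≠ 0 := by
      intro h
      rw [h, zero_mul] at hgdet
      exact zero_ne_one hgdet
    have e11 : (g : M2F) 1 1 = (k : M2F) 1 1 := by
      apply mul_left_cancel₀ hne
      rw [hgdet, hkdet]
    apply Subtype.ext
    ext i j
    fin_cases i <;> fin_cases j
    · exact e00
    · exact e01
    · simp only [Fin.mk_one, Fin.zero_eta]; rw [hg10, hk10]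
    · exact e11
  · rintro ⟨t, x⟩ htx
    rw [Finset.mem_product] at htx
    simp only [Finset.mem_insert, Finset.mem_singleton] at htx
    obtain ⟨ht, hx⟩ := htx
    have ht3 : t ^ 3 = 1 := by
      rcases ht with rfl | rfl | rfl
      · simp
      · exact h3
      · rw [← pow_mul, mul_comm, pow_mul, h3, one_pow]
    have hx4 : x ^ 4 = x := by
      rcases hx with rfl | rfl | rfl | rfl
      · simp
      · simp
      · rw [pow_succ, h3, one_mul]
      · calc (ζ ^ 2) ^ 4 = (ζ ^ 3) ^ 2 * ζ ^ 2 := by ring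
          _ = ζ ^ 2 := by rw [h3, one_pow, one_mul]
    have hdet : (!![t, x; 0, t ^ 2] : M2F).det = 1 := by
      rw [Matrix.det_fin_two]; simp; linear_combination ht3
    let g : SL2F := ⟨!![t, x; 0, t ^ 2], hdet⟩
    have hg00 : (g : M2F) 0 0 = t := rfl
    have hg01 : (g : M2F) 0 1 = x := rfl
    have hg10 : (g : M2F) 1 0 = 0 := rfl
    refine ⟨g, ?_, ?_⟩
    · refine Finset.mem_filter.mpr ⟨Finset.mem_univ _, ?_⟩
      refine (mem_borelFour h2 g).mpr ?_
      rw [hg00, hg01, hg10]
      exact ⟨rfl, ht3, hx4⟩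
    · rw [hg00, hg01]

/-- `borelFour` has no central involution. -/
theorem borelFour_not_mem_center (z : borelFour h2) (hz : orderOf z = 2) :
    z ∉ Subgroup.center (borelFour h2) := by
  intro hc
  have h3 := root_pow_three ζ hζ
  have hz0 := root_ne_zero ζ hζ
  have hz1 := root_ne_one h2 ζ hζ
  obtain ⟨hz10, hz00, hz01⟩ := (mem_borelFour h2 z.1).mp z.2
  have hzz : z * z = 1 := by
    have := pow_orderOf_eq_one z
    rwa [hz, pow_two] at this
  have hzz' : (z.1 : M2F) * (z.1 : M2F) = 1 := by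
    have := congrArg (fun y : borelFour h2 => ((y : SL2F) : M2F)) hzz
    simpa using this
  have e00 := congr_fun (congr_fun hzz' 0) 0
  simp only [Matrix.mul_apply, Fin.sum_univ_two, hz10, mul_zero, add_zero,
    Matrix.one_apply_eq] at e00
  have h00 : (z.1 : M2F) 0 0 = 1 := by
    calc (z.1 : M2F) 0 0 = (z.1 : M2F) 0 0 * ((z.1 : M2F) 0 0 * (z.1 : M2F) 0 0) := by
          rw [e00, mul_one]
      _ = ((z.1 : M2F) 0 0) ^ 3 := by ring
      _ = 1 := hz00
  have hdet := sl2_det z.1
  rw [hz10, mul_zero, sub_zero, h00, one_mul] at hdet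
  have h01 : (z.1 : M2F) 0 1 ≠ 0 := by
    intro h
    have hz1' : z = 1 := by
      apply Subtype.ext
      apply Subtype.ext
      ext i j
      fin_cases i <;> fin_cases j <;> simp [h00, h, hz10, hdet]
    rw [hz1', orderOf_one] at hz
    omega
  let d : SL2F := ⟨!![ζ, 0; 0, ζ ^ 2], by rw [Matrix.det_fin_two]; simp; linear_combination h3⟩
  have hd : d ∈ borelFour h2 := by
    rw [mem_borelFour]
    simp [d, h3]
  rw [Subgroup.mem_center_iff] at hc
  have hcd := congrArg Subtype.val (hc ⟨d, hd⟩)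
  simp only [Subgroup.coe_mul] at hcd
  have hcd' := congrArg (fun y : SL2F => (y : M2F) 0 1) hcd
  simp only [Matrix.SpecialLinearGroup.coe_mul, Matrix.mul_apply, Fin.sum_univ_two] at hcd'
  have hd00 : (d : M2F) 0 0 = ζ := rfl
  have hd01 : (d : M2F) 0 1 = 0 := rfl
  have hd11 : (d : M2F) 1 1 = ζ ^ 2 := rfl
  rw [hd00, hd01, hd11] at hcd'
  have : (z.1 : M2F) 0 1 * (ζ * (ζ - 1)) = 0 := by linear_combination -hcd'
  rcases mul_eq_zero.mp this with h' | h'
  · exact h01 h'
  · rcases mul_eq_zero.mp h' with h'' | h''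
    · exact hz0 h''
    · exact hz1 (sub_eq_zero.mp h'')

end withRoot


/-- In characteristic two, with a primitive cube root of unity, `PSL₂(F)` contains `A₄`. -/
theorem exists_alternating_of_root [Fintype F] (h2 : (2 : F) = 0) (ζ : F)
    (hζ : ζ ^ 2 + ζ + 1 = 0) :
    ∃ H : Subgroup PSL2F, Nonempty (H ≃* alternatingGroup (Fin 4)) := by
  classical
  have hcard := card_borelFour h2 ζ hζ
  obtain ⟨e⟩ := Cfsg.Agent.S0228.result (G := borelFour h2) hcard
    (fun z hz => borelFour_not_mem_center h2 ζ hζ z hz)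
  let ψ : alternatingGroup (Fin 4) →* PSL2F :=
    (QuotientGroup.mk' (Subgroup.center SL2F)).comp
      ((borelFour h2).subtype.comp e.symm.toMonoidHom)
  refine ⟨ψ.range, ⟨(MonoidHom.ofInjective ?_).symm⟩⟩
  intro x y hxy
  have h1 : ((e.symm x : borelFour h2) : SL2F) = ((e.symm y : borelFour h2) : SL2F) :=
    mk_injective_of_two_eq_zero h2 hxy
  exact e.symm.injective (Subtype.ext h1)

end char2A4

theorem exists_klein_cycle_alternating : ∃ a b t : alternatingGroup (Fin 4),
    a ≠ 1 ∧ a * a = 1 ∧ b * b = 1 ∧ a * b = b * a ∧ t * a * t⁻¹ = b ∧ t * b * t⁻¹ = a * b := by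
  have ha : (Equiv.swap (0 : Fin 4) 1 * Equiv.swap 2 3) ∈ alternatingGroup (Fin 4) :=
    Equiv.Perm.mem_alternatingGroup.mpr (by decide)
  have hb : (Equiv.swap (0 : Fin 4) 2 * Equiv.swap 1 3) ∈ alternatingGroup (Fin 4) :=
    Equiv.Perm.mem_alternatingGroup.mpr (by decide)
  have ht : (Equiv.swap (1 : Fin 4) 2 * Equiv.swap 2 3) ∈ alternatingGroup (Fin 4) :=
    Equiv.Perm.mem_alternatingGroup.mpr (by decide)
  refine ⟨⟨_, ha⟩, ⟨_, hb⟩, ⟨_, ht⟩, ?_, ?_, ?_, ?_, ?_, ?_⟩
  · intro h
    have h1 : (Equiv.swap (0 : Fin 4) 1 * Equiv.swap 2 3) = 1 := congrArg Subtype.val h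
    revert h1
    decide
  · apply Subtype.ext; simp only [Subgroup.coe_mul, Subgroup.coe_one]; decide
  · apply Subtype.ext; simp only [Subgroup.coe_mul, Subgroup.coe_one]; decide
  · apply Subtype.ext; simp only [Subgroup.coe_mul]; decide
  · apply Subtype.ext; simp only [Subgroup.coe_mul, Subgroup.coe_inv]; decide
  · apply Subtype.ext; simp only [Subgroup.coe_mul, Subgroup.coe_inv]; decide

section char2A4'

variable {F : Type*} [Field F]

local notation "SL2F" => Matrix.SpecialLinearGroup (Fin 2) F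
local notation "PSL2F" => Matrix.ProjectiveSpecialLinearGroup (Fin 2) F

/-- In characteristic two, if `PSL₂(F)` contains `A₄` then `F` has a primitive cube root of
unity. -/
theorem exists_root_of_alternating (h2 : (2 : F) = 0)
    (h : ∃ H : Subgroup PSL2F, Nonempty (H ≃* alternatingGroup (Fin 4))) :
    ∃ α : F, α ^ 2 + α + 1 = 0 := by
  obtain ⟨H, ⟨e⟩⟩ := h
  obtain ⟨a, b, t, ha1, haa, hbb, hab, hta, htb⟩ := exists_klein_cycle_alternating
  obtain ⟨A, hA⟩ := QuotientGroup.mk_surjective ((e.symm a : H) : PSL2F)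
  obtain ⟨B, hB⟩ := QuotientGroup.mk_surjective ((e.symm b : H) : PSL2F)
  obtain ⟨T, hT⟩ := QuotientGroup.mk_surjective ((e.symm t : H) : PSL2F)
  have hinj := mk_injective_of_two_eq_zero h2
  apply exists_root_of_klein_cycle h2 A B T
  · intro h1
    apply ha1
    have : ((e.symm a : H) : PSL2F) = 1 := by rw [← hA, h1, QuotientGroup.mk_one]
    have h3 : e.symm a = 1 := Subtype.ext this
    have := congrArg e h3
    rwa [MulEquiv.apply_symm_apply, map_one] at this
  · apply hinj
    rw [QuotientGroup.mk_mul, hA, ← Subgroup.coe_mul, ← map_mul, haa, map_one, Subgroup.coe_one,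
      QuotientGroup.mk_one]
  · apply hinj
    rw [QuotientGroup.mk_mul, hB, ← Subgroup.coe_mul, ← map_mul, hbb, map_one, Subgroup.coe_one,
      QuotientGroup.mk_one]
  · apply hinj
    rw [QuotientGroup.mk_mul, QuotientGroup.mk_mul, hA, hB, ← Subgroup.coe_mul, ← Subgroup.coe_mul,
      ← map_mul, ← map_mul, hab]
  · apply hinj
    rw [QuotientGroup.mk_mul, QuotientGroup.mk_mul, QuotientGroup.mk_inv, hA, hT, hB,
      ← Subgroup.coe_inv, ← Subgroup.coe_mul, ← Subgroup.coe_mul, ← map_inv, ← map_mul, ← map_mul,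
      hta]
  · apply hinj
    rw [QuotientGroup.mk_mul, QuotientGroup.mk_mul, QuotientGroup.mk_inv, QuotientGroup.mk_mul, hA,
      hT, hB, ← Subgroup.coe_inv, ← Subgroup.coe_mul, ← Subgroup.coe_mul, ← Subgroup.coe_mul,
      ← map_inv, ← map_mul, ← map_mul, ← map_mul, htb]

/-- A field with `2 ^ n` elements, `n` odd, has no primitive cube root of unity. -/
theorem no_root_of_odd [Fintype F] (h2 : (2 : F) = 0) (n : ℕ) (hn : Odd n)
    (hF : Fintype.card F = 2 ^ n) (α : F) (hα : α ^ 2 + α + 1 = 0) : False := by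
  classical
  have h3 := root_pow_three α hα
  have h0 := root_ne_zero α hα
  have h1 := root_ne_one h2 α hα
  let u : Fˣ := Units.mk0 α h0
  have hu3 : u ^ 3 = 1 := by
    apply Units.ext
    rw [Units.val_pow_eq_pow_val, Units.val_one]
    exact h3
  have hu1 : u ≠ 1 := by
    intro h
    apply h1
    have := congrArg Units.val h
    simpa [u] using this
  have hord : orderOf u = 3 := orderOf_eq_prime hu3 hu1
  have hdvd : 3 ∣ Fintype.card Fˣ := by
    rw [← hord]; exact orderOf_dvd_card
  rw [Fintype.card_units, hF] at hdvd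
  obtain ⟨k, rfl⟩ := hn
  have hmod : 2 ^ (2 * k + 1) % 3 = 2 := by
    rw [pow_succ, pow_mul, Nat.mul_mod, Nat.pow_mod]
    norm_num
  have hpos : 0 < 2 ^ (2 * k + 1) := by positivity
  generalize 2 ^ (2 * k + 1) = m at *
  omega

/-- A field with `2 ^ n` elements, `n` even, has a primitive cube root of unity. -/
theorem exists_root_of_even [Fintype F] (n : ℕ) (hn : Even n)
    (hF : Fintype.card F = 2 ^ n) : ∃ α : F, α ^ 2 + α + 1 = 0 := by
  classical
  obtain ⟨k, rfl⟩ := hn
  have hmod : 2 ^ (k + k) % 3 = 1 := by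
    rw [← two_mul, pow_mul, Nat.pow_mod]
    norm_num
  have hpos : 0 < 2 ^ (k + k) := by positivity
  have hdvd : 3 ∣ Fintype.card Fˣ := by
    rw [Fintype.card_units, hF]
    generalize 2 ^ (k + k) = m at *
    omega
  have : Fact (Nat.Prime 3) := ⟨by norm_num⟩
  obtain ⟨u, hu⟩ := exists_prime_orderOf_dvd_card 3 hdvd
  have hu3 : (u : F) ^ 3 = 1 := by
    rw [← Units.val_pow_eq_pow_val, ← hu, pow_orderOf_eq_one, Units.val_one]
  have hu1 : (u : F) ≠ 1 := by
    intro h
    have : u = 1 := Units.ext h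
    rw [this, orderOf_one] at hu
    omega
  refine ⟨(u : F), ?_⟩
  have : ((u : F) - 1) * ((u : F) ^ 2 + (u : F) + 1) = 0 := by linear_combination hu3
  rcases mul_eq_zero.mp this with h | h
  · exact absurd (sub_eq_zero.mp h) hu1
  · exact h

end char2A4'

end Cfsg.Agent.Helper41
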