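import Cfsg.Agent.Helper40.D4Tor.Defs
import Cfsg.Agent.Helper18.Tw.P_Rel

/-!
helper41, piece (CONJ) of helper40's market #13182 for S2376: the rank one computation conjugating the generator of the
torus into the split torus.
-/

set_option autoImplicit false
set_option maxRecDepth 100000

namespace Cfsg.Agent.Helper41.D4Tor

open Cfsg Cfsg.Lie Cfsg.Agent.Helper18 Cfsg.Agent.Helper19.Twist Cfsg.Agent.Helper40.D4Tor
  Cfsg.Agent.Helper40.SL2Hom Cfsg.Agent.Helper18.Tw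

/-- `h_s(t) x_r(a) = x_r(t^⟨r,s⟩ a) h_s(t)` -/
theorem conj_hG_xGL {K : Type*} [Field K] (s r : ℕ) (hs : s < chevD4.nroots) (hr : r < chevD4.nroots) (t : K)
    (ht : t ≠ 0) (a : K) :
    hG chevD4 K s t * xGL chevD4 K r a = xGL chevD4 K r (t ^ pairing' chevD4 s r * a) * hG chevD4 K s t :=
  hMat_comm_xGL chevD4 memD4 (hG chevD4 K s t) s hs t ht (hWordGL_val chevD4 memD4 s t) r hr a

/-- `T x_{14}(u) = x_{14}((t t' t'')⁻¹ u) T` -/
theorem conj_T_x14 {K : Type*} [Field K] (t t' t'' : K) (ht : t ≠ 0) (ht' : t' ≠ 0) (ht'' : t'' ≠ 0) (u : K) :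
    T t t' t'' * xGL chevD4 K 14 u = xGL chevD4 K 14 ((t * t' * t'')⁻¹ * u) * T t t' t'' := by
  have p18 : pairing' chevD4 18 14 = -1 := by decide
  have p13 : pairing' chevD4 13 14 = -1 := by decide
  have p12 : pairing' chevD4 12 14 = -1 := by decide
  have e3 := conj_hG_xGL 12 14 (by decide) (by decide) t'' ht'' u
  have e2 := conj_hG_xGL 13 14 (by decide) (by decide) t' ht' (t''⁻¹ * u)
  have e1 := conj_hG_xGL 18 14 (by decide) (by decide) t ht (t'⁻¹ * (t''⁻¹ * u))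
  rw [p12, zpow_neg_one] at e3
  rw [p13, zpow_neg_one] at e2
  rw [p18, zpow_neg_one] at e1
  have e5 : (t * t' * t'')⁻¹ * u = t⁻¹ * (t'⁻¹ * (t''⁻¹ * u)) := by
    rw [mul_inv, mul_inv, mul_assoc, mul_assoc]
  unfold T
  rw [e5, mul_assoc (hG chevD4 K 18 t * hG chevD4 K 13 t'), e3, ← mul_assoc,
    mul_assoc (hG chevD4 K 18 t), e2, ← mul_assoc, e1]
  group

/-- `T x_9(u) = x_9(t t' t'' u) T` -/
theorem conj_T_x9 {K : Type*} [Field K] (t t' t'' : K) (ht : t ≠ 0) (ht' : t' ≠ 0) (ht'' : t'' ≠ 0) (u : K) :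
    T t t' t'' * xGL chevD4 K 9 u = xGL chevD4 K 9 ((t * t' * t'') * u) * T t t' t'' := by
  have p18 : pairing' chevD4 18 9 = 1 := by decide
  have p13 : pairing' chevD4 13 9 = 1 := by decide
  have p12 : pairing' chevD4 12 9 = 1 := by decide
  have e3 := conj_hG_xGL 12 9 (by decide) (by decide) t'' ht'' u
  have e2 := conj_hG_xGL 13 9 (by decide) (by decide) t' ht' (t'' * u)
  have e1 := conj_hG_xGL 18 9 (by decide) (by decide) t ht (t' * (t'' * u))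
  rw [p12, zpow_one] at e3
  rw [p13, zpow_one] at e2
  rw [p18, zpow_one] at e1
  have e5 : (t * t' * t'') * u = t * (t' * (t'' * u)) := by
    rw [mul_assoc, mul_assoc]
  unfold T
  rw [e5, mul_assoc (hG chevD4 K 18 t * hG chevD4 K 13 t'), e3, ← mul_assoc,
    mul_assoc (hG chevD4 K 18 t), e2, ← mul_assoc, e1]
  group

/-- the diagonal matrix `diag(β, β⁻¹)` of `SL₂` -/
def dSL {K : Type*} [Field K] (β : K) (hβ : β ≠ 0) : Matrix.SpecialLinearGroup (Fin 2) K :=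
  ⟨!![β, 0; 0, β⁻¹], by simp [Matrix.det_fin_two, hβ]⟩

theorem dSL_coe {K : Type*} [Field K] (β : K) (hβ : β ≠ 0) :
    ((dSL β hβ : Matrix.SpecialLinearGroup (Fin 2) K) : Matrix (Fin 2) (Fin 2) K) = !![β, 0; 0, β⁻¹] := rfl

/-- the image of `diag(β, β⁻¹)` under the rank one homomorphism of the root `14` is `h_{14}(β)` -/
theorem hom_dSL {K : Type*} [Field K] (β : K) (hβ : β ≠ 0) :
    (RE_rel14 (K := K)).hom (dSL β hβ) = hG chevD4 K 14 β := by
  have R := RE_rel14 (K := K)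
  change phiFun (xGL chevD4 K 14) (xGL chevD4 K 9) (dSL β hβ) = _
  unfold phiFun phi
  have h10 : (dSL β hβ : Matrix.SpecialLinearGroup (Fin 2) K) 1 0 = 0 := by simp [dSL_coe]
  have h00 : (dSL β hβ : Matrix.SpecialLinearGroup (Fin 2) K) 0 0 = β := by simp [dSL_coe]
  have h01 : (dSL β hβ : Matrix.SpecialLinearGroup (Fin 2) K) 0 1 = 0 := by simp [dSL_coe]
  rw [h10, h00, h01, if_pos rfl, mul_zero, R.x_zero, one_mul]
  exact h_b_eq β hβ

/-- the identity in `SL₂` -/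
theorem sl2_identity {K : Type*} [Field K] (β γ : K) (hβ : β ≠ 0) (hγ : γ ≠ 0) (hne : γ ≠ β) :
    (U ((β * γ)⁻¹) * L ((β - 1) * (β * γ)) * U ((β * γ)⁻¹ * (γ - β)⁻¹) : Matrix.SpecialLinearGroup (Fin 2) K) =
      L (β * γ - γ) * U (γ - β)⁻¹ * dSL β hβ := by
  have hd : γ - β ≠ 0 := sub_ne_zero.mpr hne
  apply sl2_ext
  · simp only [Matrix.SpecialLinearGroup.coe_mul, U_coe, L_coe, dSL_coe]
    simp
    field_simp
    ring
  · simp only [Matrix.SpecialLinearGroup.coe_mul, U_coe, L_coe, dSL_coe]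
    simp
    field_simp
    ring
  · simp only [Matrix.SpecialLinearGroup.coe_mul, U_coe, L_coe, dSL_coe]
    simp
    ring
  · simp only [Matrix.SpecialLinearGroup.coe_mul, U_coe, L_coe, dSL_coe]
    simp
    field_simp
    ring

/-- (CONJ) the rank one computation. -/
theorem conj_eq {K : Type*} [Field K] (t t' t'' β γ : K) (ht : t ≠ 0) (ht' : t' ≠ 0) (ht'' : t'' ≠ 0) (hβ : β ≠ 0)
    (hγ : γ ≠ 0) (hne : γ ≠ β) (hN : β * γ = t * t' * t'') :
    (T t t' t'' * xGL chevD4 K 14 1 * xGL chevD4 K 9 (β + γ - 1 - β * γ)) * g0 (β * γ - γ) (γ - β)⁻¹ =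
      g0 (β * γ - γ) (γ - β)⁻¹ * (hG chevD4 K 14 β * T t t' t'') := by
  have R := RE_rel14 (K := K)
  have key := congrArg R.hom (sl2_identity β γ hβ hγ hne)
  rw [map_mul, map_mul, map_mul, map_mul, R.hom_U, R.hom_L, R.hom_U, R.hom_L, R.hom_U, hom_dSL] at key
  unfold g0
  have e1 : xGL chevD4 K 9 (β + γ - 1 - β * γ) * (xGL chevD4 K 9 (β * γ - γ) * xGL chevD4 K 14 (γ - β)⁻¹) =
      xGL chevD4 K 9 (β - 1) * xGL chevD4 K 14 (γ - β)⁻¹ := by
    rw [← mul_assoc, ← R.y_add]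
    congr 2
    ring
  have c1 := conj_T_x14 t t' t'' ht ht' ht'' 1
  have c2 := conj_T_x9 t t' t'' ht ht' ht'' (β - 1)
  have c3 := conj_T_x14 t t' t'' ht ht' ht'' (γ - β)⁻¹
  rw [← hN] at c1 c2 c3
  rw [mul_one] at c1
  have e2 : β * γ * (β - 1) = (β - 1) * (β * γ) := mul_comm _ _
  rw [e2] at c2
  calc T t t' t'' * xGL chevD4 K 14 1 * xGL chevD4 K 9 (β + γ - 1 - β * γ) *
        (xGL chevD4 K 9 (β * γ - γ) * xGL chevD4 K 14 (γ - β)⁻¹)
      = T t t' t'' * xGL chevD4 K 14 1 * (xGL chevD4 K 9 (β + γ - 1 - β * γ) *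
        (xGL chevD4 K 9 (β * γ - γ) * xGL chevD4 K 14 (γ - β)⁻¹)) := by rw [mul_assoc]
    _ = T t t' t'' * xGL chevD4 K 14 1 * (xGL chevD4 K 9 (β - 1) * xGL chevD4 K 14 (γ - β)⁻¹) := by rw [e1]
    _ = xGL chevD4 K 14 (β * γ)⁻¹ * (T t t' t'' * xGL chevD4 K 9 (β - 1)) * xGL chevD4 K 14 (γ - β)⁻¹ := by
        rw [c1]; group
    _ = xGL chevD4 K 14 (β * γ)⁻¹ * xGL chevD4 K 9 ((β - 1) * (β * γ)) * (T t t' t'' * xGL chevD4 K 14 (γ - β)⁻¹) := by
        rw [c2]; group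
    _ = xGL chevD4 K 14 (β * γ)⁻¹ * xGL chevD4 K 9 ((β - 1) * (β * γ)) * xGL chevD4 K 14 ((β * γ)⁻¹ * (γ - β)⁻¹) *
          T t t' t'' := by
        rw [c3]; group
    _ = xGL chevD4 K 9 (β * γ - γ) * xGL chevD4 K 14 (γ - β)⁻¹ * hG chevD4 K 14 β * T t t' t'' := by rw [key]
    _ = xGL chevD4 K 9 (β * γ - γ) * xGL chevD4 K 14 (γ - β)⁻¹ * (hG chevD4 K 14 β * T t t' t'') := by
        rw [mul_assoc]

end Cfsg.Agent.Helper41.D4Tor
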