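import Cfsg.Agent.Helper40.D4Tor.Defs

/-!
helper41, piece (MAP) of helper40's market #13182 for S2376: the Chevalley group `D₄` is functorial in the field.
-/

set_option autoImplicit false
set_option maxRecDepth 100000

namespace Cfsg.Agent.Helper41.D4Tor

open Cfsg Cfsg.Lie Cfsg.Agent.Helper18 Cfsg.Agent.Helper19.Twist Cfsg.Agent.Helper40.D4Tor

/-- the underlying matrix of `GL.map φ g` is the entrywise image -/
theorem gmap_val {n : Type*} [Fintype n] [DecidableEq n] {K K' : Type*} [Field K] [Field K'] (φ : K →+* K')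
    (g : GL n K) :
    ((Matrix.GeneralLinearGroup.map φ g : GL n K') : Matrix n n K') = (g : Matrix n n K).map φ := by
  ext i j
  rw [Matrix.GeneralLinearGroup.map_apply, Matrix.map_apply]

/-- (MAP-X) as helper70's `G2Tor.map_X`, with `x_map'` of `Helper18.ScalarExt`. -/
theorem gmap_xGL {K K' : Type*} [Field K] [Field K'] (φ : K →+* K') (r : ℕ) (t : K) :
    Matrix.GeneralLinearGroup.map φ (xGL chevD4 K r t) = xGL chevD4 K' r (φ t) := by
  apply Units.ext
  rw [gmap_val, xGL_val chevD4 _ (triOK_of_mem chevD4 memD4), xGL_val chevD4 _ (triOK_of_mem chevD4 memD4), x_map']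

/-- `GL.map φ (n_r(t)) = n_r(φ t)` -/
theorem gmap_nG {K K' : Type*} [Field K] [Field K'] (φ : K →+* K') (r : ℕ) (t : K) :
    Matrix.GeneralLinearGroup.map φ (nG chevD4 K r t) = nG chevD4 K' r (φ t) := by
  rw [nG_eq, nG_eq, map_mul, map_mul, gmap_xGL, gmap_xGL, map_neg, map_inv₀]

/-- (MAP-H) from (MAP-X), `hG_eq`, `nG_eq`. -/
theorem gmap_hG {K K' : Type*} [Field K] [Field K'] (φ : K →+* K') (r : ℕ) (t : K) :
    Matrix.GeneralLinearGroup.map φ (hG chevD4 K r t) = hG chevD4 K' r (φ t) := by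
  rw [hG_eq, hG_eq, map_mul, gmap_nG, gmap_nG, map_neg, map_one]

/-- (MAP-G) as helper70's `G2Tor.map_mem_group`. -/
theorem gmap_mem_group {K K' : Type*} [Field K] [Field K'] (φ : K →+* K') (g : GL chevD4.Idx K)
    (hg : g ∈ chevD4.group K) : Matrix.GeneralLinearGroup.map φ g ∈ chevD4.group K' := by
  unfold ChevalleyDatum.group at hg
  induction hg using Subgroup.closure_induction with
  | mem y hy =>
    obtain ⟨r, t, hrt⟩ := hy
    have hy' : y = xGL chevD4 K r.val t := by
      apply Units.ext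
      rw [hrt, xGL_val chevD4 _ (triOK_of_mem chevD4 memD4)]
      unfold ChevalleyDatum.x
      rw [dif_pos r.2]
    rw [hy', gmap_xGL]
    unfold ChevalleyDatum.group
    apply Subgroup.subset_closure
    refine ⟨r, φ t, ?_⟩
    rw [xGL_val chevD4 _ (triOK_of_mem chevD4 memD4)]
    unfold ChevalleyDatum.x
    rw [dif_pos r.2]
  | one => rw [map_one]; exact one_mem _
  | mul a b _ _ ha hb => rw [map_mul]; exact mul_mem ha hb
  | inv a _ ha => rw [map_inv]; exact inv_mem ha

/-- (MAP-S) -/
theorem gmap_sElt {K K' : Type*} [Field K] [Field K'] (φ : K →+* K') (f : K ≃+* K) (f' : K' ≃+* K')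
    (hφ : ∀ x, f' (φ x) = φ (f x)) (t v : K) :
    Matrix.GeneralLinearGroup.map φ (sElt f t v) = sElt f' (φ t) (φ v) := by
  unfold sElt T
  simp only [map_mul, gmap_hG, gmap_xGL, map_one, hφ]

/-- (MAP-I) entrywise injectivity. -/
theorem gmap_injective {K K' : Type*} [Field K] [Field K'] (φ : K →+* K') :
    Function.Injective (Matrix.GeneralLinearGroup.map (n := chevD4.Idx) φ) := by
  intro g h hgh
  apply Units.ext
  have h1 := congrArg (fun z : GL chevD4.Idx K' => (z : Matrix chevD4.Idx chevD4.Idx K')) hgh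
  simp only [gmap_val] at h1
  ext i j
  have h2 := congrFun (congrFun h1 i) j
  rw [Matrix.map_apply, Matrix.map_apply] at h2
  exact φ.injective h2

end Cfsg.Agent.Helper41.D4Tor
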