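import Mathlib

set_option autoImplicit false

namespace Cfsg.Agent.Helper41

open Equiv Equiv.Perm

/-- Element orders of the alternating group of degree `n`, in terms of cycle types. -/
theorem mem_range_orderOf_alternatingGroup_iff (n m : ℕ) :
    m ∈ Set.range (orderOf : alternatingGroup (Fin n) → ℕ) ↔
      ∃ s : Multiset ℕ, s.sum ≤ n ∧ (∀ a ∈ s, 2 ≤ a) ∧ Even (s.sum + Multiset.card s) ∧ s.lcm = m := by
  constructor
  · rintro ⟨g, rfl⟩
    refine ⟨(g : Perm (Fin n)).cycleType, ?_, ?_, ?_, ?_⟩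
    · simpa using (g : Perm (Fin n)).sum_cycleType_le
    · intro a ha
      exact two_le_of_mem_cycleType ha
    · have h1 : sign (g : Perm (Fin n)) = 1 := Equiv.Perm.mem_alternatingGroup.mp g.2
      rw [sign_of_cycleType] at h1
      by_contra hodd
      rw [Nat.not_even_iff_odd] at hodd
      rw [hodd.neg_one_pow] at h1
      exact absurd h1 (by decide)
    · rw [lcm_cycleType]
      exact (Subgroup.orderOf_coe g)
  · rintro ⟨s, hsum, h2, heven, rfl⟩
    obtain ⟨g, hg⟩ := (Equiv.Perm.exists_with_cycleType_iff (α := Fin n)).mpr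
      ⟨by simpa using hsum, h2⟩
    have hsign : sign g = 1 := by
      rw [sign_of_cycleType, hg, heven.neg_one_pow]
    refine ⟨⟨g, Equiv.Perm.mem_alternatingGroup.mpr hsign⟩, ?_⟩
    rw [← hg, lcm_cycleType]
    exact (Subgroup.orderOf_mk g _)

/-- A prime dividing the lcm of a multiset of naturals divides one of its members. -/
theorem exists_dvd_of_prime_dvd_multiset_lcm {p : ℕ} (hp : p.Prime) (s : Multiset ℕ)
    (h : p ∣ s.lcm) : ∃ a ∈ s, p ∣ a := by
  induction s using Multiset.induction_on with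
  | empty =>
    simp at h
    exact absurd h hp.one_lt.ne'
  | cons a s ih =>
    rw [Multiset.lcm_cons] at h
    have h' : p ∣ a * s.lcm := dvd_trans h (lcm_dvd_mul a s.lcm)
    rcases (Nat.Prime.dvd_mul hp).mp h' with h1 | h1
    · exact ⟨a, Multiset.mem_cons_self a s, h1⟩
    · obtain ⟨b, hb, hpb⟩ := ih h1
      exact ⟨b, Multiset.mem_cons_of_mem hb, hpb⟩

end Cfsg.Agent.Helper41
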