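import Cfsg.Agent.Helper57.BP.Lemmas

/-!
# (V1) of #8294 for helper57 (S4504): the second moment of an irreducible character (helper41)
-/

set_option autoImplicit false

namespace Cfsg.Agent.Helper41.BP

open Cfsg Cfsg.Agent.Helper16 Cfsg.Agent.Helper16.DefOne Cfsg.Agent.Helper82.DefOne
  Cfsg.Agent.Helper77.DefOne Cfsg.Agent.Helper57.BH Cfsg.Agent.Helper57.BP
open scoped ComplexConjugate

universe u

variable {G : Type u} [Group G] [Fintype G] {p : ℕ} [Fact p.Prime] (P : Sylow p G)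

/-- `∑_g ‖f g‖² = |G| ⟨f, f⟩` as a complex identity -/
theorem sum_normSq_eq_card_mul_classInner (f : G → ℂ) :
    ((∑ g : G, ‖f g‖ ^ 2 : ℝ) : ℂ) = (Nat.card G : ℂ) * classInner f f := by
  have hN : (Nat.card G : ℂ) ≠ 0 := by exact_mod_cast Nat.card_pos.ne'
  unfold classInner
  rw [← mul_assoc, mul_inv_cancel₀ hN, one_mul]
  push_cast
  refine Finset.sum_congr rfl (fun g _ => ?_)
  rw [Complex.mul_conj, Complex.normSq_eq_norm_sq]
  push_cast
  rfl

/-- (V1) the second moment (any finite group) -/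
theorem sum_normSq_irr (ψ : IrrCharacter G) :
    ∑ g : G, ‖(ψ : G → ℂ) g‖ ^ 2 = (Nat.card G : ℝ) := by
  have h := sum_normSq_eq_card_mul_classInner (ψ : G → ℂ)
  rw [Cfsg.Agent.Helper74.irr_inner_self ψ, mul_one] at h
  exact_mod_cast h

end Cfsg.Agent.Helper41.BP
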