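import Cfsg.Agent.Helper57.BP.Lemmas
import Cfsg.Agent.Helper41.BPV1

/-!
# (V2) of #8294 for helper57 (S4504): the fourth moments of `ψ` (helper41)
-/

set_option autoImplicit false

namespace Cfsg.Agent.Helper41.BP

open Cfsg Cfsg.Agent.Helper16 Cfsg.Agent.Helper16.DefOne Cfsg.Agent.Helper82.DefOne
  Cfsg.Agent.Helper77.DefOne Cfsg.Agent.Helper57.BH Cfsg.Agent.Helper57.BP
open scoped ComplexConjugate

universe u

variable {G : Type u} [Group G] [Fintype G] {p : ℕ} [Fact p.Prime] (P : Sylow p G)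

/-- `∑_g ‖Ξ g‖² = |G| ∑_χ n_χ²` for a character with multiplicities `n` -/
theorem V2_sum_normSq_char (Ξ : G → ℂ) (hΞ : IsCharacter G Ξ) (n : IrrCharacter G → ℕ)
    (hn : ∀ χ : IrrCharacter G, classInner Ξ (χ : G → ℂ) = n χ) [Fintype (IrrCharacter G)] :
    ∑ g : G, ‖Ξ g‖ ^ 2 = (Nat.card G : ℝ) * ((∑ χ : IrrCharacter G, n χ ^ 2 : ℕ) : ℝ) := by
  have h := sum_normSq_eq_card_mul_classInner Ξ
  rw [Cfsg.Agent.Helper74.classInner_self_eq_sum_sq hΞ] at h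
  have h2 : (∑ ψ : IrrCharacter G, classInner Ξ (ψ : G → ℂ) * classInner Ξ (ψ : G → ℂ)) =
      ((∑ χ : IrrCharacter G, n χ ^ 2 : ℕ) : ℂ) := by
    push_cast
    refine Finset.sum_congr rfl (fun χ _ => ?_)
    rw [hn χ]; ring
  rw [h2] at h
  exact_mod_cast h

/-- naturals with sum `≤ 1` are idempotent -/
theorem V2_sum_sq_eq {ι : Type*} (S : Finset ι) (n : ι → ℕ) (h : ∑ i ∈ S, n i ≤ 1) :
    ∑ i ∈ S, n i ^ 2 = ∑ i ∈ S, n i := by
  refine Finset.sum_congr rfl (fun i hi => ?_)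
  have h1 : n i ≤ ∑ j ∈ S, n j := Finset.single_le_sum (fun j _ => Nat.zero_le (n j)) hi
  have h2 : n i ≤ 1 := h1.trans h
  interval_cases (n i) <;> rfl

/-- (V2) the fourth moments -/
theorem sum_norm_four {ψ ψ₂ : IrrCharacter G}
    {X Y : Set (IrrCharacter G)} {ε : IrrCharacter G → ℤ} {δ : ℤ}
    (hP : Nat.card P = p) (hD : IsPslData P ψ ψ₂ X Y ε δ) :
    ∑ g : G, (‖(ψ : G → ℂ) g‖ ^ 4 + ‖(ψ : G → ℂ) g‖ ^ 2 * ‖(ψ₂ : G → ℂ) g‖ ^ 2) =
      (((cen P).relIndex (nor P) : ℝ) + 1) * (Nat.card G : ℝ) := by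
  classical
  have : Fintype (IrrCharacter G) := Helper74.irrFintype G
  have hΞ₁ := isCharacter_mulConj ψ ψ
  have hΞ₂ := isCharacter_mulConj ψ ψ₂
  choose n₁ hn₁ using fun χ : IrrCharacter G => Helper74.isCharacter_inner_irr_nat hΞ₁ χ
  choose n₂ hn₂ using fun χ : IrrCharacter G => Helper74.isCharacter_inner_irr_nat hΞ₂ χ
  -- the two sums
  have e1 : ∀ g : G, ‖(ψ : G → ℂ) g‖ ^ 4 = ‖mulConj (ψ : G → ℂ) (ψ : G → ℂ) g‖ ^ 2 := by
    intro g
    unfold mulConj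
    rw [norm_mul, Complex.norm_conj]; ring
  have e2 : ∀ g : G, ‖(ψ : G → ℂ) g‖ ^ 2 * ‖(ψ₂ : G → ℂ) g‖ ^ 2 =
      ‖mulConj (ψ : G → ℂ) (ψ₂ : G → ℂ) g‖ ^ 2 := by
    intro g
    unfold mulConj
    rw [norm_mul, Complex.norm_conj]; ring
  rw [Finset.sum_add_distrib, Finset.sum_congr rfl (fun g _ => e1 g),
    Finset.sum_congr rfl (fun g _ => e2 g), V2_sum_normSq_char _ hΞ₁ n₁ hn₁,
    V2_sum_normSq_char _ hΞ₂ n₂ hn₂]
  -- the multiplicities
  have hX1 : ∀ χ ∈ X, n₁ χ = if ε χ = 1 then 1 else 0 := by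
    intro χ hχ
    have h := hD.n1X χ hχ
    rw [hn₁ χ] at h
    split_ifs at h ⊢ with hc
    · exact_mod_cast h
    · exact_mod_cast h
  have hX2 : ∀ χ ∈ X, n₂ χ = if ε χ = 1 then 0 else 1 := by
    intro χ hχ
    have h := hD.n2X χ hχ
    rw [hn₂ χ] at h
    split_ifs at h ⊢ with hc
    · exact_mod_cast h
    · exact_mod_cast h
  have hout1 : ∀ χ : IrrCharacter G, χ ∉ X → χ ∉ Y → n₁ χ = 0 := by
    intro χ h1 h2
    have h := hD.n1out χ h1 h2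
    rw [hn₁ χ] at h
    exact_mod_cast h
  have hout2 : ∀ χ : IrrCharacter G, χ ∉ X → χ ∉ Y → n₂ χ = 0 := by
    intro χ h1 h2
    have h := hD.n2out χ h1 h2
    rw [hn₂ χ] at h
    exact_mod_cast h
  have hYfin : (Set.toFinite Y).toFinset = Finset.univ.filter (· ∈ Y) := by
    ext χ; simp
  have hY1 : ∑ χ ∈ Finset.univ.filter (· ∈ Y), n₁ χ = if δ = 1 then 0 else 1 := by
    have h := hD.n1Y
    rw [finsum_mem_eq_finite_toFinset_sum _ (Set.toFinite Y), hYfin,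
      Finset.sum_congr rfl (fun χ _ => hn₁ χ)] at h
    split_ifs at h ⊢ with hc
    · exact_mod_cast h
    · exact_mod_cast h
  have hY2 : ∑ χ ∈ Finset.univ.filter (· ∈ Y), n₂ χ = if δ = 1 then 1 else 0 := by
    have h := hD.n2Y
    rw [finsum_mem_eq_finite_toFinset_sum _ (Set.toFinite Y), hYfin,
      Finset.sum_congr rfl (fun χ _ => hn₂ χ)] at h
    split_ifs at h ⊢ with hc
    · exact_mod_cast h
    · exact_mod_cast h
  have hYsum : ∑ χ ∈ Finset.univ.filter (· ∈ Y), (n₁ χ ^ 2 + n₂ χ ^ 2) = 1 := by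
    rw [Finset.sum_add_distrib, V2_sum_sq_eq _ n₁ (by rw [hY1]; split_ifs <;> omega),
      V2_sum_sq_eq _ n₂ (by rw [hY2]; split_ifs <;> omega), hY1, hY2]
    split_ifs <;> rfl
  have hXsum : ∑ χ ∈ Finset.univ.filter (· ∈ X), (n₁ χ ^ 2 + n₂ χ ^ 2) =
      (cen P).relIndex (nor P) := by
    have h1 : ∀ χ ∈ Finset.univ.filter (· ∈ X), n₁ χ ^ 2 + n₂ χ ^ 2 = 1 := by
      intro χ hχ
      have hχX : χ ∈ X := (Finset.mem_filter.mp hχ).2
      rw [hX1 χ hχX, hX2 χ hχX]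
      split_ifs <;> rfl
    rw [Finset.sum_congr rfl h1, Finset.sum_const, smul_eq_mul, mul_one]
    have h2 := hD.D.cardX
    rw [inertia_oneIrr P hP] at h2
    rw [← h2, Nat.card_eq_fintype_card, Fintype.card_subtype]
  have hdisj : ∀ χ : IrrCharacter G, χ ∈ X → χ ∉ Y := by
    intro χ h1 h2
    exact (Set.disjoint_left.mp hD.D.disj) h1 h2
  have htot : ∑ χ : IrrCharacter G, (n₁ χ ^ 2 + n₂ χ ^ 2) = (cen P).relIndex (nor P) + 1 := by
    rw [← Finset.sum_filter_add_sum_filter_not Finset.univ (· ∈ X), hXsum]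
    congr 1
    rw [← Finset.sum_filter_add_sum_filter_not (Finset.univ.filter (fun χ => ¬ χ ∈ X)) (· ∈ Y)]
    have h3 : ∑ χ ∈ (Finset.univ.filter (fun χ => ¬ χ ∈ X)).filter (fun χ => ¬ χ ∈ Y),
        (n₁ χ ^ 2 + n₂ χ ^ 2) = 0 := by
      apply Finset.sum_eq_zero
      intro χ hχ
      rw [Finset.mem_filter, Finset.mem_filter] at hχ
      rw [hout1 χ hχ.1.2 hχ.2, hout2 χ hχ.1.2 hχ.2]
      rfl
    have h4 : (Finset.univ.filter (fun χ => ¬ χ ∈ X)).filter (· ∈ Y) =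
        Finset.univ.filter (· ∈ Y) := by
      ext χ
      simp only [Finset.mem_filter, Finset.mem_univ, true_and]
      exact ⟨fun h => h.2, fun h => ⟨fun hx => hdisj χ hx h, h⟩⟩
    rw [h3, h4, hYsum]
  have hfinal : (∑ χ : IrrCharacter G, n₁ χ ^ 2) + (∑ χ : IrrCharacter G, n₂ χ ^ 2) =
      (cen P).relIndex (nor P) + 1 := by
    rw [← Finset.sum_add_distrib]; exact htot
  have hfinalR : ((∑ χ : IrrCharacter G, n₁ χ ^ 2 : ℕ) : ℝ) +
      ((∑ χ : IrrCharacter G, n₂ χ ^ 2 : ℕ) : ℝ) = ((cen P).relIndex (nor P) : ℝ) + 1 := by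
    exact_mod_cast hfinal
  rw [← mul_add, hfinalR, mul_comm]

end Cfsg.Agent.Helper41.BP
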