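import Mathlib
import Cfsg.Agent.Helper78.Brandt.Defs

/-!
# (B-R6) for S4607 (helper78): two simple components and a cocenter of dimension `≤ 2` force
semisimplicity
-/

set_option autoImplicit false
set_option linter.unusedSectionVars false
set_option linter.unusedVariables false
set_option linter.unusedSimpArgs false

namespace Cfsg.Agent.Helper41.BrandtR6

open Module Cfsg.Agent.Helper78.Brandt

variable {k : Type*} [Field k] {A : Type*} [Ring A] [Algebra k A]

/-- the left ideal generated by the lift of a matrix unit `E₀₀` of the `i`-th factor has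
dimension `n i` -/
theorem finrank_leftSpace_single {ι : Type*} [Fintype ι] [DecidableEq ι] (n : ι → ℕ)
    [∀ i, NeZero (n i)]
    (ψ : A ≃ₐ[k] ((i : ι) → Matrix (Fin (n i)) (Fin (n i)) k)) (i : ι) :
    finrank k (leftSpace k (ψ.symm (Pi.single i (Matrix.single 0 0 1)))) = n i := by
  classical
  let C : A →ₗ[k] (Fin (n i) → k) :=
    { toFun := fun a r => (ψ a) i r 0
      map_add' := fun a b => by ext r; simp
      map_smul' := fun c a => by ext r; simp }
  let D0 : (Fin (n i) → k) →ₗ[k] Matrix (Fin (n i)) (Fin (n i)) k :=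
    { toFun := fun v => Matrix.of fun a b => if b = 0 then v a else 0
      map_add' := fun v w => by
        ext a b
        simp only [Matrix.of_apply, Matrix.add_apply, Pi.add_apply]
        split_ifs <;> simp
      map_smul' := fun c v => by
        ext a b
        simp only [Matrix.of_apply, Matrix.smul_apply, Pi.smul_apply, RingHom.id_apply]
        split_ifs <;> simp }
  let D : (Fin (n i) → k) →ₗ[k] A :=
    ψ.symm.toLinearMap ∘ₗ
      (LinearMap.single k (fun i => Matrix (Fin (n i)) (Fin (n i)) k) i) ∘ₗ D0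
  have hCD : ∀ v, C (D v) = v := by
    intro v
    ext r
    show (ψ (ψ.symm (Pi.single i (D0 v)))) i r 0 = v r
    rw [AlgEquiv.apply_symm_apply, Pi.single_eq_same]
    show (if (0 : Fin (n i)) = 0 then v r else 0) = v r
    rw [if_pos rfl]
  have hDC : LinearMap.mulRight k (ψ.symm (Pi.single i (Matrix.single 0 0 1))) = D ∘ₗ C := by
    apply LinearMap.ext
    intro a
    show a * ψ.symm (Pi.single i (Matrix.single 0 0 1)) = ψ.symm (Pi.single i (D0 (C a)))
    apply ψ.injective
    rw [map_mul, AlgEquiv.apply_symm_apply, AlgEquiv.apply_symm_apply]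
    funext j
    by_cases hj : j = i
    · subst hj
      rw [Pi.mul_apply, Pi.single_eq_same, Pi.single_eq_same]
      ext r c
      show ((ψ a) j * Matrix.single 0 0 1 : Matrix (Fin (n j)) (Fin (n j)) k) r c =
        if c = 0 then (ψ a) j r 0 else 0
      by_cases hc : c = 0
      · subst hc
        rw [if_pos rfl, Matrix.mul_single_apply_same, mul_one]
      · rw [if_neg hc]
        exact Matrix.mul_single_apply_of_ne (1 : k) 0 0 r c hc ((ψ a) j)
    · rw [Pi.mul_apply, Pi.single_eq_of_ne hj, Pi.single_eq_of_ne hj, mul_zero]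
  have hCsurj : LinearMap.range C = ⊤ := by
    rw [LinearMap.range_eq_top]
    intro v
    exact ⟨D v, hCD v⟩
  have hDinj : Function.Injective D := by
    intro v w hvw
    rw [← hCD v, ← hCD w, hvw]
  unfold leftSpace
  rw [hDC, LinearMap.range_comp_of_range_eq_top D hCsurj, LinearMap.finrank_range_of_inj hDinj,
    Module.finrank_fin_fun]

/-- (B-R6) two simple components and cocenter of dimension `≤ 2`: the algebra is semisimple. -/
theorem structure_of_two_components [FiniteDimensional k A] (lam : A →ₗ[k] k)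
    (h : IsSymmForm k lam) (J : Ideal A) [J.IsTwoSided]
    (d : Fin 2 → ℕ) (hd : ∀ i, NeZero (d i))
    (φ : (A ⧸ J) ≃ₐ[k] ((i : Fin 2) → Matrix (Fin (d i)) (Fin (d i)) k))
    (hcodim : finrank k A ≤ finrank k (commSpan k A) + 2) :
    ∃ e₁ e₂ : A, IsIdempotentElem e₁ ∧ IsIdempotentElem e₂ ∧
      finrank k A = d 0 ^ 2 + d 1 ^ 2 ∧ finrank k (leftSpace k e₁) = d 0 ∧
      finrank k (leftSpace k e₂) = d 1 := by
  classical
  have := hd
  set Φ : A →ₐ[k] ((i : Fin 2) → Matrix (Fin (d i)) (Fin (d i)) k) :=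
    (φ : (A ⧸ J) →ₐ[k] _).comp (Ideal.Quotient.mkₐ k J) with hΦ
  have hΦsurj : Function.Surjective Φ :=
    φ.surjective.comp (Ideal.Quotient.mkₐ_surjective k J)
  have hΦker : ∀ a, Φ a = 0 ↔ a ∈ J := by
    intro a
    show φ (Ideal.Quotient.mk J a) = 0 ↔ _
    rw [map_eq_zero_iff φ φ.injective, Ideal.Quotient.eq_zero_iff_mem]
  -- the trace functionals
  let T : A →ₗ[k] (Fin 2 → k) := LinearMap.pi fun i =>
    (Matrix.traceLinearMap (Fin (d i)) k k) ∘ₗ
      (LinearMap.proj i : ((i : Fin 2) → Matrix (Fin (d i)) (Fin (d i)) k) →ₗ[k] _) ∘ₗ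
        Φ.toLinearMap
  have hT : ∀ a i, T a i = Matrix.trace (Φ a i) := fun a i => rfl
  have hTcomm : commSpan k A ≤ LinearMap.ker T := by
    unfold commSpan
    rw [Submodule.span_le]
    rintro z ⟨a, b, rfl⟩
    rw [SetLike.mem_coe, LinearMap.mem_ker]
    funext i
    rw [hT, map_sub, map_mul, map_mul, Pi.sub_apply, Pi.mul_apply, Pi.mul_apply, Matrix.trace_sub,
      Matrix.trace_mul_comm, sub_self]
    rfl
  have hTsurj : Function.Surjective T := by
    intro v
    obtain ⟨a, ha⟩ := hΦsurj (fun i => Matrix.single 0 0 (v i))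
    refine ⟨a, ?_⟩
    funext i
    rw [hT, ha, Matrix.trace_single_eq_same]
  have hker : finrank k (LinearMap.ker T) + 2 = finrank k A := by
    have := LinearMap.finrank_range_add_finrank_ker T
    rw [LinearMap.range_eq_top.mpr hTsurj, finrank_top, Module.finrank_fin_fun] at this
    omega
  have heq : commSpan k A = LinearMap.ker T :=
    Submodule.eq_of_le_of_finrank_le hTcomm (by omega)
  have hlam : commSpan k A ≤ LinearMap.ker lam := by
    unfold commSpan
    rw [Submodule.span_le]
    rintro z ⟨a, b, rfl⟩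
    rw [SetLike.mem_coe, LinearMap.mem_ker, map_sub, h.comm a b, sub_self]
  have hJ : ∀ j ∈ J, j = 0 := by
    intro j hj
    apply h.nondeg
    intro b
    apply LinearMap.mem_ker.mp
    apply hlam
    rw [heq, LinearMap.mem_ker]
    have h0 : Φ (j * b) = 0 := (hΦker _).mpr (J.mul_mem_right b hj)
    funext i
    rw [hT, h0]
    simp
  have hΦinj : Function.Injective Φ := by
    rw [injective_iff_map_eq_zero]
    intro a ha
    exact hJ a ((hΦker a).mp ha)
  set ψ : A ≃ₐ[k] ((i : Fin 2) → Matrix (Fin (d i)) (Fin (d i)) k) :=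
    AlgEquiv.ofBijective Φ ⟨hΦinj, hΦsurj⟩ with hψ
  have hidem : ∀ i : Fin 2, IsIdempotentElem (ψ.symm (Pi.single i (Matrix.single 0 0 1))) := by
    intro i
    unfold IsIdempotentElem
    rw [← map_mul, ← Pi.single_mul, Matrix.single_mul_single_same, mul_one]
  refine ⟨ψ.symm (Pi.single 0 (Matrix.single 0 0 1)), ψ.symm (Pi.single 1 (Matrix.single 0 0 1)),
    hidem 0, hidem 1, ?_, finrank_leftSpace_single d ψ 0, finrank_leftSpace_single d ψ 1⟩
  rw [ψ.toLinearEquiv.finrank_eq, Module.finrank_pi_fintype, Fin.sum_univ_two,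
    Module.finrank_matrix, Module.finrank_matrix, Module.finrank_self, Fintype.card_fin,
    Fintype.card_fin]
  ring

end Cfsg.Agent.Helper41.BrandtR6
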