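import Cfsg.Agent.Helper19.CT.Simple
import Cfsg.Agent.Helper40.StMono

/-!
helper41, piece (COMM) of helper19's farm #15616 (S1164, Curtis–Tits presentation): Steinberg's commutator relations
for all pairs of roots `s ≠ ± r` in the Curtis–Tits group.  A word `w` in the fundamental reflections moves `r, s` into
the positive part of a standard subsystem `Φ_{jk}` of rank at most two; conjugating by `N = n̂_w` moves both sides of
the relation into `UGon D (gen D K) Φ_{jk} φ`, where the projection to the Chevalley group is injective (transfer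
principle), and the relation holds in the Chevalley group.
-/

set_option autoImplicit false
set_option linter.unusedSectionVars false
set_option linter.unusedVariables false

namespace Cfsg.Agent.Helper41.CT

open Cfsg Cfsg.Lie Cfsg.Agent.Helper18 Cfsg.Agent.Helper40.St Cfsg.Agent.Helper40.ChevAdd Cfsg.Agent.Helper40.UProd
  Cfsg.Agent.Helper40.SL2Hom Cfsg.Agent.Helper40.NMono Cfsg.Agent.Helper19.CT

universe u v

/-- `a` is the combination `p · r + q · s`, on the level of the rows of the Cartan table -/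
def COMM_Lin (D : ChevalleyDatum) (a r s : ℕ) (p q : ℤ) : Prop :=
  ∀ k < D.rank, D.cartan k a = p * D.cartan k r + q * D.cartan k s

theorem COMM_wordG_map {K : Type*} [Field K] {Γ Γ' : Type*} [Group Γ] [Group Γ'] (f : Γ →* Γ') (x : ℕ → K → Γ)
    (w : List (ℕ × K)) : f (wordG x w) = wordG (fun r t => f (x r t)) w := by
  unfold wordG
  rw [map_list_prod, List.map_map]
  rfl

theorem COMM_sum_lin (l : List ℕ) (f g h : ℕ → ℤ) (p q : ℤ) (H : ∀ k ∈ l, f k = p * g k + q * h k) :
    (l.map f).sum = p * (l.map g).sum + q * (l.map h).sum := by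
  induction l with
  | nil => simp
  | cons a l ih =>
    rw [List.map_cons, List.map_cons, List.map_cons, List.sum_cons, List.sum_cons, List.sum_cons,
      ih (fun k hk => H k (List.mem_cons_of_mem _ hk)), H a List.mem_cons_self]
    ring

theorem COMM_lvlF_lin {D : ChevalleyDatum} (m : List ℤ) {a r s : ℕ} {p q : ℤ} (h : COMM_Lin D a r s p q) :
    lvlF D m a = p * lvlF D m r + q * lvlF D m s := by
  unfold lvlF
  apply COMM_sum_lin
  intro k hk
  rw [h k (List.mem_range.mp hk)]
  ring

section seven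
variable {D : ChevalleyDatum} (hD7 : D ∈ [chevG2, chevB2, chevD4, chevF4, chevE6, chevE7, chevE8])
include hD7

theorem COMM_lin_reflect {a r s : ℕ} {p q : ℤ} (ha : a < D.nroots) (hr : r < D.nroots) (hs : s < D.nroots)
    (d : ℕ) (hd : d < D.rank) (h : COMM_Lin D a r s p q) :
    COMM_Lin D (D.reflectRoot d a) (D.reflectRoot d r) (D.reflectRoot d s) p q := by
  intro k hk
  rw [cartan_reflect D hD7 d k a hd hk ha, cartan_reflect D hD7 d k r hd hk hr,
    cartan_reflect D hD7 d k s hd hk hs, h k hk, h d hd]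
  ring

theorem COMM_rho_lt (w : List ℕ) (hw : ∀ i ∈ w, i < D.rank) (a : ℕ) (ha : a < D.nroots) :
    rho D w a < D.nroots := by
  induction w with
  | nil => exact ha
  | cons i w ih =>
    exact reflectRoot_lt D hD7 i _ (hw i List.mem_cons_self)
      (ih fun j hj => hw j (List.mem_cons_of_mem _ hj))

theorem COMM_lin_rho (w : List ℕ) (hw : ∀ i ∈ w, i < D.rank) {a r s : ℕ} {p q : ℤ} (ha : a < D.nroots)
    (hr : r < D.nroots) (hs : s < D.nroots) (h : COMM_Lin D a r s p q) :
    COMM_Lin D (rho D w a) (rho D w r) (rho D w s) p q := by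
  induction w with
  | nil => exact h
  | cons i w ih =>
    have hw' : ∀ j ∈ w, j < D.rank := fun j hj => hw j (List.mem_cons_of_mem _ hj)
    exact COMM_lin_reflect hD7 (COMM_rho_lt hD7 w hw' a ha) (COMM_rho_lt hD7 w hw' r hr)
      (COMM_rho_lt hD7 w hw' s hs) i (hw i List.mem_cons_self) (ih hw')

end seven

theorem COMM_exists_posReg {D : ChevalleyDatum} (hD : D ∈ [chevD4, chevF4, chevE6, chevE7, chevE8]) :
    ∃ m : List ℤ, posRegOK D m = true := by
  simp only [List.mem_cons, List.not_mem_nil, or_false] at hD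
  rcases hD with rfl | rfl | rfl | rfl | rfl
  · exact ⟨_, posRegOK_D4⟩
  · exact ⟨_, posRegOK_F4⟩
  · exact ⟨_, posRegOK_E6⟩
  · exact ⟨_, posRegOK_E7⟩
  · exact ⟨_, posRegOK_E8⟩

section CT
variable {D : ChevalleyDatum} (hD : D ∈ [chevD4, chevF4, chevE6, chevE7, chevE8]) (K : Type u) [Field K]

/-- conjugation by `n̂_w` permutes the root elements `x̂_a(v)` along `ρ_w`, up to a sign -/
theorem COMM_conj (xh : ℕ → K → D.CurtisTitsGroup K) (hX : Param K hD xh) (w : List ℕ)
    (hw : ∀ i ∈ w, i < D.rank) (a : ℕ) (ha : a < D.nroots) :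
    rho D w a < D.nroots ∧ ∃ e : K, (e = 1 ∨ e = -1) ∧ ∀ v : K,
      nuW D (gen D K) w * xh a v * (nuW D (gen D K) w)⁻¹ = xh (rho D w a) (e * v) := by
  have hD7 := mem7_of_mem5 hD
  induction w with
  | nil =>
    refine ⟨ha, 1, Or.inl rfl, fun v => ?_⟩
    rw [nuW_nil, one_mul, inv_one, mul_one, one_mul]
    rfl
  | cons i w ih =>
    obtain ⟨h1, e, he, h2⟩ := ih (fun j hj => hw j (List.mem_cons_of_mem _ hj))
    have hi := hw i List.mem_cons_self
    obtain ⟨e', he', h3, -⟩ := hX.conj i hi (rho D w a) h1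
    refine ⟨reflectRoot_lt D hD7 i _ hi h1, e' * e, ?_, fun v => ?_⟩
    · rcases he with rfl | rfl <;> rcases he' with rfl | rfl <;> simp
    · rw [nuW_cons]
      have e0 : nbar D (gen D K) (D.simple i) 1 * nuW D (gen D K) w * xh a v *
          (nbar D (gen D K) (D.simple i) 1 * nuW D (gen D K) w)⁻¹ =
          nbar D (gen D K) (D.simple i) 1 * (nuW D (gen D K) w * xh a v * (nuW D (gen D K) w)⁻¹) *
            (nbar D (gen D K) (D.simple i) 1)⁻¹ := by group
      rw [e0, h2 v]
      have h4 := h3 (e * v)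
      unfold nhat at h4
      rw [h4, mul_assoc]
      rfl

/-- (COMM) Steinberg's commutator relations for all pairs of roots -/
theorem comm_of (hP : PairsS D) (xh : ℕ → K → D.CurtisTitsGroup K) (hX : Param K hD xh) :
    ∀ r s, r < D.nroots → s < D.nroots → s ≠ r → s ≠ D.neg r → ∀ t u : K,
      xh s u * xh r t = xh r t * xh s u * wordG xh (D.commWord K r s t u) := by
  intro r s hr hs h1 h2 t u
  have hD7 := mem7_of_mem5 hD
  -- the standard regular functional
  obtain ⟨mφ, hmφ⟩ := COMM_exists_posReg hD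
  unfold posRegOK at hmφ
  rw [Bool.and_eq_true, List.all_eq_true] at hmφ
  have hreg : Reg D (lvlF D mφ) := reg_of_regOK D hD7 mφ hmφ.1
  have hpos : ∀ a < D.nroots, (0 < lvlF D mφ a ↔ hlfOf D ≤ a) := by
    intro a ha
    have h3 := hmφ.2 a (List.mem_range.mpr ha)
    rw [Bool.and_eq_true, beq_iff_eq, decide_eq_decide, decide_eq_true_eq] at h3
    rw [← lvlFast_eq D (addAllOK_of_mem D hD7) mφ a ha]
    exact h3.1
  obtain ⟨rows, hrows⟩ := exists_coord D hD
  -- additivity of the rows of the Cartan table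
  have haddAll := addAllOK_of_mem D hD7
  unfold addAllOK at haddAll
  rw [List.all_eq_true] at haddAll
  have hcart : ∀ k < D.rank, ∀ v < D.nroots, IsAdditiveAt D (D.cartan k) v := fun k hk v hv =>
    isAdditiveAt_cartan D k (haddAll k (List.mem_range.mpr hk)) v hv
  -- the word moving `r, s` into the positive part of a standard subsystem
  obtain ⟨w, hw, j, k, hPr, hPs, hpr, hps⟩ := hP r s hr hs h1 h2
  have hρr := COMM_rho_lt hD7 w hw r hr
  have hρs := COMM_rho_lt hD7 w hw s hs
  have hφr : 0 < lvlF D mφ (rho D w r) := (hpos _ hρr).mpr hpr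
  have hφs : 0 < lvlF D mφ (rho D w s) := (hpos _ hρs).mpr hps
  have hPr' := (inRankTwoSub_iff hD hrows j k (rho D w r)).mp hPr
  have hPs' := (inRankTwoSub_iff hD hrows j k (rho D w s)).mp hPs
  set N := nuW D (gen D K) w with hN
  have O := overOn_gen hD K j k
  have hcl := closedOn_inRankTwoSub hD j k
  -- membership of the conjugated root elements
  have hmemU : ∀ a < D.nroots, D.InRankTwoSub j k (rho D w a) → 0 < lvlF D mφ (rho D w a) → ∀ v : K,
      N * xh a v * N⁻¹ ∈ UGon D (gen D K) (D.InRankTwoSub j k) (lvlF D mφ) := by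
    intro a ha hPa hφa v
    obtain ⟨hρa, ea, hea, hca⟩ := COMM_conj hD K xh hX w hw a ha
    rw [hN, hca v, hX.eq_gen _ ⟨j, k, hPa⟩]
    exact X_mem_UGon _ _ hρa hPa hφa _
  -- the roots of the commutator formula
  have hterm : ∀ c ∈ D.commTerms r s, c.1 < D.nroots ∧ D.InRankTwoSub j k (rho D w c.1) ∧
      0 < lvlF D mφ (rho D w c.1) := by
    intro c hc
    obtain ⟨hc1, -, hp1, hq1⟩ := commTerms_lvl D hD7 (fun _ => 0) (fun v hv => ⟨by simp, by simp⟩) r s hr hs c hc
    have hlin : COMM_Lin D c.1 r s (c.2.2.1 : ℤ) (c.2.2.2 : ℤ) := fun l hl =>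
      (commTerms_lvl D hD7 (D.cartan l) (hcart l hl) r s hr hs c hc).2.1
    have hlin' := COMM_lin_rho hD7 w hw hc1 hr hs hlin
    have hρc := COMM_rho_lt hD7 w hw c.1 hc1
    refine ⟨hc1, ?_, ?_⟩
    · rw [inRankTwoSub_iff hD hrows]
      refine ⟨hρc, hPr'.2.1, hPr'.2.2.1, fun l hl hlj hlk => ?_⟩
      rw [COMM_lvlF_lin _ hlin', hPr'.2.2.2 l hl hlj hlk, hPs'.2.2.2 l hl hlj hlk]
      ring
    · rw [COMM_lvlF_lin _ hlin']
      have hp2 : (1 : ℤ) ≤ (c.2.2.1 : ℤ) := by exact_mod_cast hp1
      have hq2 : (1 : ℤ) ≤ (c.2.2.2 : ℤ) := by exact_mod_cast hq1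
      have := mul_pos (lt_of_lt_of_le one_pos hp2) hφr
      have := mul_pos (lt_of_lt_of_le one_pos hq2) hφs
      omega
  have hwd : ∀ e ∈ D.commWord K r s t u, e.1 < D.nroots := by
    intro e he
    unfold ChevalleyDatum.commWord at he
    obtain ⟨c, hc, rfl⟩ := List.mem_map.mp he
    exact (hterm c hc).1
  have hconj : ∀ g : D.CurtisTitsGroup K, MulAut.conj N g = N * g * N⁻¹ := fun g => MulAut.conj_apply N g
  have hg1 : MulAut.conj N (xh s u * xh r t) ∈ UGon D (gen D K) (D.InRankTwoSub j k) (lvlF D mφ) := by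
    rw [map_mul, hconj, hconj]
    exact Subgroup.mul_mem _ (hmemU s hs hPs hφs u) (hmemU r hr hPr hφr t)
  have hg2 : MulAut.conj N (xh r t * xh s u * wordG xh (D.commWord K r s t u)) ∈
      UGon D (gen D K) (D.InRankTwoSub j k) (lvlF D mφ) := by
    rw [map_mul, map_mul, hconj, hconj]
    refine Subgroup.mul_mem _ (Subgroup.mul_mem _ (hmemU r hr hPr hφr t) (hmemU s hs hPs hφs u)) ?_
    unfold wordG
    rw [map_list_prod, List.map_map]
    apply Subgroup.list_prod_mem
    intro g hg
    obtain ⟨e, he, rfl⟩ := List.mem_map.mp hg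
    unfold ChevalleyDatum.commWord at he
    obtain ⟨c, hc, rfl⟩ := List.mem_map.mp he
    show MulAut.conj N (xh c.1 _) ∈ _
    rw [hconj]
    exact hmemU c.1 (hterm c hc).1 (hterm c hc).2.1 (hterm c hc).2.2 _
  -- the relation in the Chevalley group
  have Ost := stOver hD K
  have hx1 : ∀ a < D.nroots, ∀ v : K, piCT hD K (xh a v) = xGL D (addOK_of_mem hD7) K a v := hX.pi
  have e1 : piCT hD K (wordG xh (D.commWord K r s t u)) =
      wordG (fun a v => xGL D (addOK_of_mem hD7) K a v) (D.commWord K r s t u) := by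
    rw [COMM_wordG_map]
    apply wordG_congr
    intro e he
    exact hx1 e.1 (hwd e he) e.2
  have e2 : PresentedGroup.toGroup (lift_rels D (addOK_of_mem hD7) hD7)
      (wordG (fun a v => D.stGen K a v) (D.commWord K r s t u)) =
      wordG (fun a v => xGL D (addOK_of_mem hD7) K a v) (D.commWord K r s t u) := by
    rw [COMM_wordG_map]
    apply wordG_congr
    intro e he
    exact Ost.π_X e.1 (hwd e he) e.2
  have e3 : PresentedGroup.toGroup (lift_rels D (addOK_of_mem hD7) hD7) (D.stGen K s u * D.stGen K r t) =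
      PresentedGroup.toGroup (lift_rels D (addOK_of_mem hD7) hD7)
        (D.stGen K r t * D.stGen K s u * wordG (fun a v => D.stGen K a v) (D.commWord K r s t u)) :=
    congrArg _ (Ost.comm r s hr hs h1 h2 t u)
  rw [map_mul, map_mul, map_mul, e2] at e3
  have hs2 := Ost.π_X s hs u
  have hr2 := Ost.π_X r hr t
  rw [hs2, hr2] at e3
  have eG : piCT hD K (xh s u * xh r t) = piCT hD K (xh r t * xh s u * wordG xh (D.commWord K r s t u)) := by
    rw [map_mul, map_mul, map_mul, hx1 s hs, hx1 r hr, e1]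
    exact e3
  have hπc : ∀ g : D.CurtisTitsGroup K,
      piCT hD K (N * g * N⁻¹) = piCT hD K N * piCT hD K g * (piCT hD K N)⁻¹ := fun g => by
    rw [map_mul, map_mul, map_inv]
  have hπ : piCT hD K (MulAut.conj N (xh s u * xh r t)) =
      piCT hD K (MulAut.conj N (xh r t * xh s u * wordG xh (D.commWord K r s t u))) := by
    rw [hconj, hconj, hπc, hπc, eG]
  have hfin := transferOn hD7 O hcl hreg _ _ hg1 hg2 hπ
  exact (MulAut.conj N).injective hfin

end CT

end Cfsg.Agent.Helper41.CT
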