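import Cfsg.Agent.Helper19.CT.Simple
import Cfsg.Agent.Helper40.StMono

/-!
helper41, piece (TOST) of helper19's farm #15616 (S1164, Curtis–Tits presentation): the evident homomorphism `toSt`
from the Curtis–Tits group to the group of Steinberg's presentation maps `x̂_r(t)` to `x̄_r(t)` for every root `r`.
Induction on the level of `r`; the scalar is pinned down by projecting to the Chevalley group.
-/

set_option autoImplicit false
set_option linter.unusedSectionVars false
set_option linter.unusedVariables false

namespace Cfsg.Agent.Helper41.CT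

open Cfsg Cfsg.Lie Cfsg.Agent.Helper18 Cfsg.Agent.Helper40.St Cfsg.Agent.Helper40.ChevAdd Cfsg.Agent.Helper40.UProd
  Cfsg.Agent.Helper40.SL2Hom Cfsg.Agent.Helper40.NMono Cfsg.Agent.Helper19.CT

universe u v

section CT
variable {D : ChevalleyDatum} (hD : D ∈ [chevD4, chevF4, chevE6, chevE7, chevE8]) (K : Type u) [Field K]

/-- (TOST) `toSt` maps `x̂_r(t)` to `x̄_r(t)` -/
theorem toSt_xh_of (hC : CombS D) (xh : ℕ → K → D.CurtisTitsGroup K) (hX : Param K hD xh) :
    ∀ r < D.nroots, ∀ t : K, toSt hD K (xh r t) = D.stGen K r t := by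
  have hD7 := mem7_of_mem5 hD
  obtain ⟨φ, S⟩ := exists_std D hD7
  have O := stOver hD K
  have hrank : 0 < D.rank := by
    simp only [List.mem_cons, List.not_mem_nil, or_false] at hD
    rcases hD with rfl | rfl | rfl | rfl | rfl <;> decide
  -- the scalar is determined by the projection to the Chevalley group
  have hkey : ∀ r < D.nroots, ∀ t v : K, toSt hD K (xh r t) = D.stGen K r v → v = t := by
    intro r hr t v h
    have h1 := hX.pi r hr t
    rw [piCT_eq, h] at h1
    have h2 := O.π_X r hr v
    rw [h2] at h1
    exact xGL_inj hD7 r hr _ _ h1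
  have base : ∀ r < D.nroots, Cfsg.Agent.Helper19.CT.lvl D r ≤ 1 → ∀ t : K, toSt hD K (xh r t) = D.stGen K r t := by
    intro r hr hl t
    obtain ⟨k, hk⟩ := hC.base r hr hl 0 hrank
    have hR : R2 D r := ⟨0, k, hk⟩
    rw [hX.eq_gen r hR t, toSt_gen hD K r hR t]
  have main : ∀ n : ℕ, ∀ r < D.nroots, Cfsg.Agent.Helper19.CT.lvl D r ≤ n → ∀ t : K, toSt hD K (xh r t) = D.stGen K r t := by
    intro n
    induction n with
    | zero =>
      intro r hr hl t
      exact base r hr (by omega) t
    | succ n ih =>
      intro r hr hl t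
      by_cases h2 : 2 ≤ Cfsg.Agent.Helper19.CT.lvl D r
      · obtain ⟨d, hd, hlt, -⟩ := hC.desc r hr h2
        have hr' : D.reflectRoot d r < D.nroots := hC.σ_lt d hd r hr
        have hinv : D.reflectRoot d (D.reflectRoot d r) = r := hC.σ_invol d hd r hr
        obtain ⟨e, he, h1, -⟩ := hX.conj d hd (D.reflectRoot d r) hr'
        obtain ⟨e', he', g1, -⟩ := nbar_one_act (K := K) hD7 O S d hd (D.reflectRoot d r) hr'
        have ihr' := ih (D.reflectRoot d r) hr' (by omega)
        have hee : e * (e * t) = t := by
          rcases he with rfl | rfl <;> ring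
        have h3 := h1 (e * t)
        rw [hinv, hee] at h3
        have g1' := g1 (e * t)
        rw [hinv] at g1'
        have h4 : toSt hD K (xh r t) = D.stGen K r (e' * (e * t)) := by
          rw [← h3, map_mul, map_mul, map_inv, toSt_nhat hD K d hd, ihr' (e * t), g1']
        have h5 := hkey r hr t _ h4
        rw [h4, h5]
      · exact base r hr (by omega) t
  intro r hr t
  exact main (Cfsg.Agent.Helper19.CT.lvl D r) r hr le_rfl t

end CT

end Cfsg.Agent.Helper41.CT
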