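import Cfsg.Agent.Helper36.ChevAutDefs
import Cfsg.Agent.S1081
import Cfsg.Agent.S1098
import Cfsg.Agent.S1099

/-!
Helper41: piece G of the automorphism theorem of the Chevalley groups (S2156, helper36):
for every symmetry of the Dynkin diagram that the characteristic allows there is a graph automorphism.
-/

set_option autoImplicit false

namespace Cfsg.Agent.Helper41.ChevAutG

open Cfsg Cfsg.Lie Cfsg.Agent.Helper36.ChevAut Cfsg.Agent.Helper40.GraphAut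

/-! ### Classification of the diagram symmetries (pruned search, by kernel evaluation) -/

/-- bond numbers of `chevG2` on `Fin 2` -/
def bG2 (i j : Fin 2) : ℤ := chevG2.bonds i.val j.val

theorem nestG2 :
    ∀ a0 : Fin 2,
    ∀ a1 : Fin 2, (a1 ≠ a0 ∧ bG2 a1 a0 = bG2 1 0) →
      [a0.val, a1.val] ∈ ([[0, 1], [1, 0]] : List (List ℕ)) := by
  decide +kernel

theorem classG2 (π : Equiv.Perm (Fin 2))
    (h : ∀ i j : Fin 2, i ≠ j → chevG2.bonds (π i) (π j) = chevG2.bonds i j) :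
    ∃ L ∈ ([[0, 1], [1, 0]] : List (List ℕ)), ∀ i : Fin 2, (π i).val = L.getD i.val 0 := by
  have hne : ∀ i j : Fin 2, i ≠ j → π i ≠ π j := fun i j hij e => hij (π.injective e)
  have hmem := nestG2 (π 0)
    (π 1) ⟨hne 1 0 (by decide), h 1 0 (by decide)⟩
  exact ⟨_, hmem, fun i => by fin_cases i <;> rfl⟩

/-- bond numbers of `chevB2` on `Fin 2` -/
def bB2 (i j : Fin 2) : ℤ := chevB2.bonds i.val j.val

theorem nestB2 :
    ∀ a0 : Fin 2,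
    ∀ a1 : Fin 2, (a1 ≠ a0 ∧ bB2 a1 a0 = bB2 1 0) →
      [a0.val, a1.val] ∈ ([[0, 1], [1, 0]] : List (List ℕ)) := by
  decide +kernel

theorem classB2 (π : Equiv.Perm (Fin 2))
    (h : ∀ i j : Fin 2, i ≠ j → chevB2.bonds (π i) (π j) = chevB2.bonds i j) :
    ∃ L ∈ ([[0, 1], [1, 0]] : List (List ℕ)), ∀ i : Fin 2, (π i).val = L.getD i.val 0 := by
  have hne : ∀ i j : Fin 2, i ≠ j → π i ≠ π j := fun i j hij e => hij (π.injective e)
  have hmem := nestB2 (π 0)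
    (π 1) ⟨hne 1 0 (by decide), h 1 0 (by decide)⟩
  exact ⟨_, hmem, fun i => by fin_cases i <;> rfl⟩

/-- bond numbers of `chevD4` on `Fin 4` -/
def bD4 (i j : Fin 4) : ℤ := chevD4.bonds i.val j.val

theorem nestD4 :
    ∀ a0 : Fin 4,
    ∀ a1 : Fin 4, (a1 ≠ a0 ∧ bD4 a1 a0 = bD4 1 0) →
    ∀ a2 : Fin 4, (a2 ≠ a0 ∧ a2 ≠ a1 ∧ bD4 a2 a0 = bD4 2 0 ∧ bD4 a2 a1 = bD4 2 1) →
    ∀ a3 : Fin 4, (a3 ≠ a0 ∧ a3 ≠ a1 ∧ a3 ≠ a2 ∧ bD4 a3 a0 = bD4 3 0 ∧ bD4 a3 a1 = bD4 3 1 ∧ bD4 a3 a2 = bD4 3 2) →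
      [a0.val, a1.val, a2.val, a3.val] ∈ ([[0, 1, 2, 3], [2, 1, 3, 0], [3, 1, 0, 2], [0, 1, 3, 2], [2, 1, 0, 3], [3, 1, 2, 0]] : List (List ℕ)) := by
  decide +kernel

theorem classD4 (π : Equiv.Perm (Fin 4))
    (h : ∀ i j : Fin 4, i ≠ j → chevD4.bonds (π i) (π j) = chevD4.bonds i j) :
    ∃ L ∈ ([[0, 1, 2, 3], [2, 1, 3, 0], [3, 1, 0, 2], [0, 1, 3, 2], [2, 1, 0, 3], [3, 1, 2, 0]] : List (List ℕ)), ∀ i : Fin 4, (π i).val = L.getD i.val 0 := by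
  have hne : ∀ i j : Fin 4, i ≠ j → π i ≠ π j := fun i j hij e => hij (π.injective e)
  have hmem := nestD4 (π 0)
    (π 1) ⟨hne 1 0 (by decide), h 1 0 (by decide)⟩
    (π 2) ⟨hne 2 0 (by decide), hne 2 1 (by decide), h 2 0 (by decide), h 2 1 (by decide)⟩
    (π 3) ⟨hne 3 0 (by decide), hne 3 1 (by decide), hne 3 2 (by decide), h 3 0 (by decide), h 3 1 (by decide), h 3 2 (by decide)⟩
  exact ⟨_, hmem, fun i => by fin_cases i <;> rfl⟩

/-- bond numbers of `chevF4` on `Fin 4` -/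
def bF4 (i j : Fin 4) : ℤ := chevF4.bonds i.val j.val

theorem nestF4 :
    ∀ a0 : Fin 4,
    ∀ a1 : Fin 4, (a1 ≠ a0 ∧ bF4 a1 a0 = bF4 1 0) →
    ∀ a2 : Fin 4, (a2 ≠ a0 ∧ a2 ≠ a1 ∧ bF4 a2 a0 = bF4 2 0 ∧ bF4 a2 a1 = bF4 2 1) →
    ∀ a3 : Fin 4, (a3 ≠ a0 ∧ a3 ≠ a1 ∧ a3 ≠ a2 ∧ bF4 a3 a0 = bF4 3 0 ∧ bF4 a3 a1 = bF4 3 1 ∧ bF4 a3 a2 = bF4 3 2) →
      [a0.val, a1.val, a2.val, a3.val] ∈ ([[0, 1, 2, 3], [3, 2, 1, 0]] : List (List ℕ)) := by
  decide +kernel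

theorem classF4 (π : Equiv.Perm (Fin 4))
    (h : ∀ i j : Fin 4, i ≠ j → chevF4.bonds (π i) (π j) = chevF4.bonds i j) :
    ∃ L ∈ ([[0, 1, 2, 3], [3, 2, 1, 0]] : List (List ℕ)), ∀ i : Fin 4, (π i).val = L.getD i.val 0 := by
  have hne : ∀ i j : Fin 4, i ≠ j → π i ≠ π j := fun i j hij e => hij (π.injective e)
  have hmem := nestF4 (π 0)
    (π 1) ⟨hne 1 0 (by decide), h 1 0 (by decide)⟩
    (π 2) ⟨hne 2 0 (by decide), hne 2 1 (by decide), h 2 0 (by decide), h 2 1 (by decide)⟩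
    (π 3) ⟨hne 3 0 (by decide), hne 3 1 (by decide), hne 3 2 (by decide), h 3 0 (by decide), h 3 1 (by decide), h 3 2 (by decide)⟩
  exact ⟨_, hmem, fun i => by fin_cases i <;> rfl⟩

/-- bond numbers of `chevE6` on `Fin 6` -/
def bE6 (i j : Fin 6) : ℤ := chevE6.bonds i.val j.val

set_option synthInstance.maxHeartbeats 0 in
set_option synthInstance.maxSize 4096 in
set_option maxHeartbeats 0 in
theorem nestE6 :
    ∀ a0 : Fin 6,
    ∀ a1 : Fin 6, (a1 ≠ a0 ∧ bE6 a1 a0 = bE6 1 0) →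
    ∀ a2 : Fin 6, (a2 ≠ a0 ∧ a2 ≠ a1 ∧ bE6 a2 a0 = bE6 2 0 ∧ bE6 a2 a1 = bE6 2 1) →
    ∀ a3 : Fin 6, (a3 ≠ a0 ∧ a3 ≠ a1 ∧ a3 ≠ a2 ∧ bE6 a3 a0 = bE6 3 0 ∧ bE6 a3 a1 = bE6 3 1 ∧ bE6 a3 a2 = bE6 3 2) →
    ∀ a4 : Fin 6, (a4 ≠ a0 ∧ a4 ≠ a1 ∧ a4 ≠ a2 ∧ a4 ≠ a3 ∧ bE6 a4 a0 = bE6 4 0 ∧ bE6 a4 a1 = bE6 4 1 ∧ bE6 a4 a2 = bE6 4 2 ∧ bE6 a4 a3 = bE6 4 3) →
    ∀ a5 : Fin 6, (a5 ≠ a0 ∧ a5 ≠ a1 ∧ a5 ≠ a2 ∧ a5 ≠ a3 ∧ a5 ≠ a4 ∧ bE6 a5 a0 = bE6 5 0 ∧ bE6 a5 a1 = bE6 5 1 ∧ bE6 a5 a2 = bE6 5 2 ∧ bE6 a5 a3 = bE6 5 3 ∧ bE6 a5 a4 = bE6 5 4) →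
      [a0.val, a1.val, a2.val, a3.val, a4.val, a5.val] ∈ ([[0, 1, 2, 3, 4, 5], [5, 1, 4, 3, 2, 0]] : List (List ℕ)) := by
  decide +kernel

theorem classE6 (π : Equiv.Perm (Fin 6))
    (h : ∀ i j : Fin 6, i ≠ j → chevE6.bonds (π i) (π j) = chevE6.bonds i j) :
    ∃ L ∈ ([[0, 1, 2, 3, 4, 5], [5, 1, 4, 3, 2, 0]] : List (List ℕ)), ∀ i : Fin 6, (π i).val = L.getD i.val 0 := by
  have hne : ∀ i j : Fin 6, i ≠ j → π i ≠ π j := fun i j hij e => hij (π.injective e)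
  have hmem := nestE6 (π 0)
    (π 1) ⟨hne 1 0 (by decide), h 1 0 (by decide)⟩
    (π 2) ⟨hne 2 0 (by decide), hne 2 1 (by decide), h 2 0 (by decide), h 2 1 (by decide)⟩
    (π 3) ⟨hne 3 0 (by decide), hne 3 1 (by decide), hne 3 2 (by decide), h 3 0 (by decide), h 3 1 (by decide), h 3 2 (by decide)⟩
    (π 4) ⟨hne 4 0 (by decide), hne 4 1 (by decide), hne 4 2 (by decide), hne 4 3 (by decide), h 4 0 (by decide), h 4 1 (by decide), h 4 2 (by decide), h 4 3 (by decide)⟩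
    (π 5) ⟨hne 5 0 (by decide), hne 5 1 (by decide), hne 5 2 (by decide), hne 5 3 (by decide), hne 5 4 (by decide), h 5 0 (by decide), h 5 1 (by decide), h 5 2 (by decide), h 5 3 (by decide), h 5 4 (by decide)⟩
  exact ⟨_, hmem, fun i => by fin_cases i <;> rfl⟩

/-- bond numbers of `chevE7` on `Fin 7` -/
def bE7 (i j : Fin 7) : ℤ := chevE7.bonds i.val j.val

set_option synthInstance.maxHeartbeats 0 in
set_option synthInstance.maxSize 4096 in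
set_option maxHeartbeats 0 in
theorem nestE7 :
    ∀ a0 : Fin 7,
    ∀ a1 : Fin 7, (a1 ≠ a0 ∧ bE7 a1 a0 = bE7 1 0) →
    ∀ a2 : Fin 7, (a2 ≠ a0 ∧ a2 ≠ a1 ∧ bE7 a2 a0 = bE7 2 0 ∧ bE7 a2 a1 = bE7 2 1) →
    ∀ a3 : Fin 7, (a3 ≠ a0 ∧ a3 ≠ a1 ∧ a3 ≠ a2 ∧ bE7 a3 a0 = bE7 3 0 ∧ bE7 a3 a1 = bE7 3 1 ∧ bE7 a3 a2 = bE7 3 2) →
    ∀ a4 : Fin 7, (a4 ≠ a0 ∧ a4 ≠ a1 ∧ a4 ≠ a2 ∧ a4 ≠ a3 ∧ bE7 a4 a0 = bE7 4 0 ∧ bE7 a4 a1 = bE7 4 1 ∧ bE7 a4 a2 = bE7 4 2 ∧ bE7 a4 a3 = bE7 4 3) →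
    ∀ a5 : Fin 7, (a5 ≠ a0 ∧ a5 ≠ a1 ∧ a5 ≠ a2 ∧ a5 ≠ a3 ∧ a5 ≠ a4 ∧ bE7 a5 a0 = bE7 5 0 ∧ bE7 a5 a1 = bE7 5 1 ∧ bE7 a5 a2 = bE7 5 2 ∧ bE7 a5 a3 = bE7 5 3 ∧ bE7 a5 a4 = bE7 5 4) →
    ∀ a6 : Fin 7, (a6 ≠ a0 ∧ a6 ≠ a1 ∧ a6 ≠ a2 ∧ a6 ≠ a3 ∧ a6 ≠ a4 ∧ a6 ≠ a5 ∧ bE7 a6 a0 = bE7 6 0 ∧ bE7 a6 a1 = bE7 6 1 ∧ bE7 a6 a2 = bE7 6 2 ∧ bE7 a6 a3 = bE7 6 3 ∧ bE7 a6 a4 = bE7 6 4 ∧ bE7 a6 a5 = bE7 6 5) →
      [a0.val, a1.val, a2.val, a3.val, a4.val, a5.val, a6.val] ∈ ([[0, 1, 2, 3, 4, 5, 6]] : List (List ℕ)) := by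
  decide +kernel

theorem classE7 (π : Equiv.Perm (Fin 7))
    (h : ∀ i j : Fin 7, i ≠ j → chevE7.bonds (π i) (π j) = chevE7.bonds i j) :
    ∃ L ∈ ([[0, 1, 2, 3, 4, 5, 6]] : List (List ℕ)), ∀ i : Fin 7, (π i).val = L.getD i.val 0 := by
  have hne : ∀ i j : Fin 7, i ≠ j → π i ≠ π j := fun i j hij e => hij (π.injective e)
  have hmem := nestE7 (π 0)
    (π 1) ⟨hne 1 0 (by decide), h 1 0 (by decide)⟩
    (π 2) ⟨hne 2 0 (by decide), hne 2 1 (by decide), h 2 0 (by decide), h 2 1 (by decide)⟩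
    (π 3) ⟨hne 3 0 (by decide), hne 3 1 (by decide), hne 3 2 (by decide), h 3 0 (by decide), h 3 1 (by decide), h 3 2 (by decide)⟩
    (π 4) ⟨hne 4 0 (by decide), hne 4 1 (by decide), hne 4 2 (by decide), hne 4 3 (by decide), h 4 0 (by decide), h 4 1 (by decide), h 4 2 (by decide), h 4 3 (by decide)⟩
    (π 5) ⟨hne 5 0 (by decide), hne 5 1 (by decide), hne 5 2 (by decide), hne 5 3 (by decide), hne 5 4 (by decide), h 5 0 (by decide), h 5 1 (by decide), h 5 2 (by decide), h 5 3 (by decide), h 5 4 (by decide)⟩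
    (π 6) ⟨hne 6 0 (by decide), hne 6 1 (by decide), hne 6 2 (by decide), hne 6 3 (by decide), hne 6 4 (by decide), hne 6 5 (by decide), h 6 0 (by decide), h 6 1 (by decide), h 6 2 (by decide), h 6 3 (by decide), h 6 4 (by decide), h 6 5 (by decide)⟩
  exact ⟨_, hmem, fun i => by fin_cases i <;> rfl⟩

/-- bond numbers of `chevE8` on `Fin 8` -/
def bE8 (i j : Fin 8) : ℤ := chevE8.bonds i.val j.val

set_option synthInstance.maxHeartbeats 0 in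
set_option synthInstance.maxSize 4096 in
set_option maxHeartbeats 0 in
theorem nestE8 :
    ∀ a0 : Fin 8,
    ∀ a1 : Fin 8, (a1 ≠ a0 ∧ bE8 a1 a0 = bE8 1 0) →
    ∀ a2 : Fin 8, (a2 ≠ a0 ∧ a2 ≠ a1 ∧ bE8 a2 a0 = bE8 2 0 ∧ bE8 a2 a1 = bE8 2 1) →
    ∀ a3 : Fin 8, (a3 ≠ a0 ∧ a3 ≠ a1 ∧ a3 ≠ a2 ∧ bE8 a3 a0 = bE8 3 0 ∧ bE8 a3 a1 = bE8 3 1 ∧ bE8 a3 a2 = bE8 3 2) →
    ∀ a4 : Fin 8, (a4 ≠ a0 ∧ a4 ≠ a1 ∧ a4 ≠ a2 ∧ a4 ≠ a3 ∧ bE8 a4 a0 = bE8 4 0 ∧ bE8 a4 a1 = bE8 4 1 ∧ bE8 a4 a2 = bE8 4 2 ∧ bE8 a4 a3 = bE8 4 3) →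
    ∀ a5 : Fin 8, (a5 ≠ a0 ∧ a5 ≠ a1 ∧ a5 ≠ a2 ∧ a5 ≠ a3 ∧ a5 ≠ a4 ∧ bE8 a5 a0 = bE8 5 0 ∧ bE8 a5 a1 = bE8 5 1 ∧ bE8 a5 a2 = bE8 5 2 ∧ bE8 a5 a3 = bE8 5 3 ∧ bE8 a5 a4 = bE8 5 4) →
    ∀ a6 : Fin 8, (a6 ≠ a0 ∧ a6 ≠ a1 ∧ a6 ≠ a2 ∧ a6 ≠ a3 ∧ a6 ≠ a4 ∧ a6 ≠ a5 ∧ bE8 a6 a0 = bE8 6 0 ∧ bE8 a6 a1 = bE8 6 1 ∧ bE8 a6 a2 = bE8 6 2 ∧ bE8 a6 a3 = bE8 6 3 ∧ bE8 a6 a4 = bE8 6 4 ∧ bE8 a6 a5 = bE8 6 5) →
    ∀ a7 : Fin 8, (a7 ≠ a0 ∧ a7 ≠ a1 ∧ a7 ≠ a2 ∧ a7 ≠ a3 ∧ a7 ≠ a4 ∧ a7 ≠ a5 ∧ a7 ≠ a6 ∧ bE8 a7 a0 = bE8 7 0 ∧ bE8 a7 a1 = bE8 7 1 ∧ bE8 a7 a2 = bE8 7 2 ∧ bE8 a7 a3 = bE8 7 3 ∧ bE8 a7 a4 = bE8 7 4 ∧ bE8 a7 a5 = bE8 7 5 ∧ bE8 a7 a6 = bE8 7 6) →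
      [a0.val, a1.val, a2.val, a3.val, a4.val, a5.val, a6.val, a7.val] ∈ ([[0, 1, 2, 3, 4, 5, 6, 7]] : List (List ℕ)) := by
  decide +kernel

theorem classE8 (π : Equiv.Perm (Fin 8))
    (h : ∀ i j : Fin 8, i ≠ j → chevE8.bonds (π i) (π j) = chevE8.bonds i j) :
    ∃ L ∈ ([[0, 1, 2, 3, 4, 5, 6, 7]] : List (List ℕ)), ∀ i : Fin 8, (π i).val = L.getD i.val 0 := by
  have hne : ∀ i j : Fin 8, i ≠ j → π i ≠ π j := fun i j hij e => hij (π.injective e)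
  have hmem := nestE8 (π 0)
    (π 1) ⟨hne 1 0 (by decide), h 1 0 (by decide)⟩
    (π 2) ⟨hne 2 0 (by decide), hne 2 1 (by decide), h 2 0 (by decide), h 2 1 (by decide)⟩
    (π 3) ⟨hne 3 0 (by decide), hne 3 1 (by decide), hne 3 2 (by decide), h 3 0 (by decide), h 3 1 (by decide), h 3 2 (by decide)⟩
    (π 4) ⟨hne 4 0 (by decide), hne 4 1 (by decide), hne 4 2 (by decide), hne 4 3 (by decide), h 4 0 (by decide), h 4 1 (by decide), h 4 2 (by decide), h 4 3 (by decide)⟩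
    (π 5) ⟨hne 5 0 (by decide), hne 5 1 (by decide), hne 5 2 (by decide), hne 5 3 (by decide), hne 5 4 (by decide), h 5 0 (by decide), h 5 1 (by decide), h 5 2 (by decide), h 5 3 (by decide), h 5 4 (by decide)⟩
    (π 6) ⟨hne 6 0 (by decide), hne 6 1 (by decide), hne 6 2 (by decide), hne 6 3 (by decide), hne 6 4 (by decide), hne 6 5 (by decide), h 6 0 (by decide), h 6 1 (by decide), h 6 2 (by decide), h 6 3 (by decide), h 6 4 (by decide), h 6 5 (by decide)⟩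
    (π 7) ⟨hne 7 0 (by decide), hne 7 1 (by decide), hne 7 2 (by decide), hne 7 3 (by decide), hne 7 4 (by decide), hne 7 5 (by decide), hne 7 6 (by decide), h 7 0 (by decide), h 7 1 (by decide), h 7 2 (by decide), h 7 3 (by decide), h 7 4 (by decide), h 7 5 (by decide), h 7 6 (by decide)⟩
  exact ⟨_, hmem, fun i => by fin_cases i <;> rfl⟩

/-! ### New certificates: the three transpositions of the outer nodes of `D₄` -/

def rhoA : ℕ → ℕ := fun i => ([0, 1, 3, 2] : List ℕ).getD i 0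
def piA : ℕ → ℕ := fun i => ([0, 1, 3, 2, 4, 5, 6, 8, 7, 9, 11, 10, 13, 12, 14, 16, 15, 17, 18, 19, 21, 20, 22, 23] : List ℕ).getD i 0
def epsA : ℕ → ℤ := fun i => ([1, 1, 1, 1, 1, 1, 1, 1, 1, 1, 1, 1, 1, 1, 1, 1, 1, 1, 1, 1, 1, 1, 1, 1] : List ℤ).getD i 0
theorem allOKA : allOK chevD4 rhoA rhoA piA piA epsA = true := by decide +kernel

def rhoB : ℕ → ℕ := fun i => ([2, 1, 0, 3] : List ℕ).getD i 0
def piB : ℕ → ℕ := fun i => ([0, 1, 2, 6, 7, 10, 3, 4, 8, 9, 5, 11, 12, 18, 14, 15, 19, 20, 13, 16, 17, 21, 22, 23] : List ℕ).getD i 0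
def epsB : ℕ → ℤ := fun i => ([1, 1, 1, -1, -1, 1, -1, -1, 1, 1, 1, 1, 1, 1, 1, 1, -1, -1, 1, -1, -1, 1, 1, 1] : List ℤ).getD i 0
theorem allOKB : allOK chevD4 rhoB rhoB piB piB epsB = true := by decide +kernel

def rhoC : ℕ → ℕ := fun i => ([3, 1, 2, 0] : List ℕ).getD i 0
def piC : ℕ → ℕ := fun i => ([0, 1, 6, 3, 8, 11, 2, 7, 4, 9, 10, 5, 18, 13, 14, 19, 16, 21, 12, 15, 20, 17, 22, 23] : List ℕ).getD i 0
def epsC : ℕ → ℤ := fun i => ([1, 1, -1, 1, -1, 1, -1, 1, -1, 1, 1, 1, 1, 1, 1, -1, 1, -1, 1, -1, 1, -1, 1, 1] : List ℤ).getD i 0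
theorem allOKC : allOK chevD4 rhoC rhoC piC piC epsC = true := by decide +kernel

/-! ### From value tables to `GraphAutFor` -/

section General

variable {F : Type*} [Field F] (D : ChevalleyDatum)

theorem graphExp_self (c i : ℕ) : D.graphExp c i i = 1 := by
  unfold ChevalleyDatum.graphExp
  cases D.isLong (D.simple i) <;> simp

/-- a graph automorphism from an automorphism with the given node table `ρ` and exponent table `e` -/
theorem graphAutFor_of_table (π : Equiv.Perm (Fin D.rank)) (ρ e : ℕ → ℕ)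
    (α : ↥(D.group F) ≃* ↥(D.group F))
    (hρ : ∀ i : Fin D.rank, (π i).val = ρ i.val)
    (he : ∀ i : Fin D.rank, D.graphExp (ringChar F) i.val (ρ i.val) = e i.val)
    (hα : ∀ (g : ↥(D.group F)) (i : ℕ) (t : F), i < D.rank →
      (((g : GL D.Idx F) : Matrix D.Idx D.Idx F) = D.x F (D.simple i) t →
        ((α g : GL D.Idx F) : Matrix D.Idx D.Idx F) = D.x F (D.simple (ρ i)) (t ^ e i)) ∧
      (((g : GL D.Idx F) : Matrix D.Idx D.Idx F) = D.x F (D.neg (D.simple i)) t →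
        ((α g : GL D.Idx F) : Matrix D.Idx D.Idx F) = D.x F (D.neg (D.simple (ρ i))) (t ^ e i))) :
    GraphAutFor D π α := by
  intro g i t
  rw [hρ i, he i]
  exact hα g i.val t i.2

/-- the same with all exponents `1` (the shape of S1081) -/
theorem graphAutFor_of_table_one (π : Equiv.Perm (Fin D.rank)) (ρ : ℕ → ℕ)
    (α : ↥(D.group F) ≃* ↥(D.group F))
    (hρ : ∀ i : Fin D.rank, (π i).val = ρ i.val)
    (he : ∀ i : Fin D.rank, D.graphExp (ringChar F) i.val (ρ i.val) = 1)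
    (hα : ∀ (g : ↥(D.group F)) (i : ℕ) (t : F), i < D.rank →
      (((g : GL D.Idx F) : Matrix D.Idx D.Idx F) = D.x F (D.simple i) t →
        ((α g : GL D.Idx F) : Matrix D.Idx D.Idx F) = D.x F (D.simple (ρ i)) t) ∧
      (((g : GL D.Idx F) : Matrix D.Idx D.Idx F) = D.x F (D.neg (D.simple i)) t →
        ((α g : GL D.Idx F) : Matrix D.Idx D.Idx F) = D.x F (D.neg (D.simple (ρ i))) t)) :
    GraphAutFor D π α := by
  apply graphAutFor_of_table D π ρ (fun _ => 1) α hρ he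
  intro g i t hi
  simp only [pow_one]
  exact hα g i t hi

/-- the identity is a graph automorphism for a permutation with the identity table -/
theorem graphAutFor_refl (π : Equiv.Perm (Fin D.rank)) (hρ : ∀ i : Fin D.rank, (π i).val = i.val) :
    GraphAutFor D π (MulEquiv.refl ↥(D.group F)) := by
  apply graphAutFor_of_table_one D π (fun i => i) (MulEquiv.refl _) hρ (fun i => graphExp_self D _ _)
  intro g i t _
  exact ⟨fun h => h, fun h => h⟩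

end General

/-! ### The exponent tables -/

section Exp

variable (D : ChevalleyDatum)

theorem graphExp_of_short (c i j : ℕ) (h : D.isLong (D.simple j) = false) : D.graphExp c i j = 1 := by
  unfold ChevalleyDatum.graphExp
  simp [h]

end Exp

theorem shortD4 : ∀ j : Fin 4, chevD4.isLong (chevD4.simple j.val) = false := by decide +kernel
theorem shortE6 : ∀ j : Fin 6, chevE6.isLong (chevE6.simple j.val) = false := by decide +kernel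

theorem expD4 (c : ℕ) (L : List ℕ) (hL : ∀ i : Fin 4, L.getD i.val 0 < 4) (i : Fin 4) :
    chevD4.graphExp c i.val (L.getD i.val 0) = 1 :=
  graphExp_of_short chevD4 c _ _ (shortD4 ⟨_, hL i⟩)

theorem expE6 (c : ℕ) (L : List ℕ) (hL : ∀ i : Fin 6, L.getD i.val 0 < 6) (i : Fin 6) :
    chevE6.graphExp c i.val (L.getD i.val 0) = 1 :=
  graphExp_of_short chevE6 c _ _ (shortE6 ⟨_, hL i⟩)

/-- the table of S1098 for `B₂` -/
def tabB2 : List (ℕ × ℕ) := [(1, 2), (0, 1)]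
/-- the table of S1098 for `F₄` -/
def tabF4 : List (ℕ × ℕ) := [(3, 2), (2, 2), (1, 1), (0, 1)]

theorem expB2 : ∀ i : Fin 2, chevB2.graphExp 2 i.val (tabB2.getD i.val (0, 1)).1 = (tabB2.getD i.val (0, 1)).2 := by
  decide +kernel
theorem expF4 : ∀ i : Fin 4, chevF4.graphExp 2 i.val (tabF4.getD i.val (0, 1)).1 = (tabF4.getD i.val (0, 1)).2 := by
  decide +kernel
theorem expG2 : ∀ i : Fin 2, chevG2.graphExp 3 i.val (([1, 0] : List ℕ).getD i.val 0) = ([3, 1] : List ℕ).getD i.val 1 := by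
  decide +kernel

theorem valB2 : ∀ i : Fin 2, ([1, 0] : List ℕ).getD i.val 0 = (tabB2.getD i.val (0, 1)).1 := by decide
theorem valF4 : ∀ i : Fin 4, ([3, 2, 1, 0] : List ℕ).getD i.val 0 = (tabF4.getD i.val (0, 1)).1 := by decide

theorem id2 : ∀ i : Fin 2, ([0, 1] : List ℕ).getD i.val 0 = i.val := by decide
theorem id4 : ∀ i : Fin 4, ([0, 1, 2, 3] : List ℕ).getD i.val 0 = i.val := by decide
theorem id6 : ∀ i : Fin 6, ([0, 1, 2, 3, 4, 5] : List ℕ).getD i.val 0 = i.val := by decide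
theorem id7 : ∀ i : Fin 7, ([0, 1, 2, 3, 4, 5, 6] : List ℕ).getD i.val 0 = i.val := by decide
theorem id8 : ∀ i : Fin 8, ([0, 1, 2, 3, 4, 5, 6, 7] : List ℕ).getD i.val 0 = i.val := by decide

theorem bondsB2 : chevB2.bonds 0 1 = 2 := by decide +kernel
theorem bondsF4 : chevF4.bonds 1 2 = 2 := by decide +kernel
theorem bondsG2 : chevG2.bonds 0 1 = 3 := by decide +kernel

/-! ### The seven types -/

section Types

variable {F : Type*} [Field F] [Finite F]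

/-- square roots in a finite field of characteristic 2 -/
theorem perfect_two (h2 : ringChar F = 2) : ∀ x : F, ∃ y : F, y ^ 2 = x := by
  intro x
  have : CharP F 2 := ringChar.of_eq h2
  have : Fact (Nat.Prime 2) := ⟨Nat.prime_two⟩
  obtain ⟨y, hy⟩ := (bijective_frobenius F 2).2 x
  exact ⟨y, hy⟩

/-- cube roots in a finite field of characteristic 3 -/
theorem perfect_three (h3 : ringChar F = 3) : ∀ x : F, ∃ y : F, y ^ 3 = x := by
  intro x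
  have : CharP F 3 := ringChar.of_eq h3
  have : Fact (Nat.Prime 3) := ⟨Nat.prime_three⟩
  obtain ⟨y, hy⟩ := (bijective_frobenius F 3).2 x
  exact ⟨y, hy⟩

/-- a permutation whose table is not the identity table is not `1` -/
theorem ne_one_of_val {n : ℕ} (π : Equiv.Perm (Fin n)) (i : Fin n) (k : ℕ) (h : (π i).val = k)
    (hk : k ≠ i.val) : π ≠ 1 := by
  rintro rfl
  exact hk h.symm

theorem pieceG_E8 (π : Equiv.Perm (Fin chevE8.rank)) (hπ : chevE8.IsDiagramSymmetry π) :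
    ∃ g : ↥(chevE8.group F) ≃* ↥(chevE8.group F), GraphAutFor chevE8 π g := by
  obtain ⟨L, hL, hval⟩ := classE8 π hπ
  simp only [List.mem_cons, List.not_mem_nil, or_false] at hL
  subst hL
  exact ⟨MulEquiv.refl _, graphAutFor_refl chevE8 π (fun i => (hval i).trans (id8 i))⟩

theorem pieceG_E7 (π : Equiv.Perm (Fin chevE7.rank)) (hπ : chevE7.IsDiagramSymmetry π) :
    ∃ g : ↥(chevE7.group F) ≃* ↥(chevE7.group F), GraphAutFor chevE7 π g := by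
  obtain ⟨L, hL, hval⟩ := classE7 π hπ
  simp only [List.mem_cons, List.not_mem_nil, or_false] at hL
  subst hL
  exact ⟨MulEquiv.refl _, graphAutFor_refl chevE7 π (fun i => (hval i).trans (id7 i))⟩

theorem pieceG_E6 (π : Equiv.Perm (Fin chevE6.rank)) (hπ : chevE6.IsDiagramSymmetry π) :
    ∃ g : ↥(chevE6.group F) ≃* ↥(chevE6.group F), GraphAutFor chevE6 π g := by
  obtain ⟨L, hL, hval⟩ := classE6 π hπ
  simp only [List.mem_cons, List.not_mem_nil, or_false] at hL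
  rcases hL with rfl | rfl
  · exact ⟨MulEquiv.refl _, graphAutFor_refl chevE6 π (fun i => (hval i).trans (id6 i))⟩
  · obtain ⟨α, hα⟩ := Cfsg.Agent.S1081.result (F := F) (chevE6, [5, 1, 4, 3, 2, 0]) (by simp)
    exact ⟨α, graphAutFor_of_table_one chevE6 π (fun i => ([5, 1, 4, 3, 2, 0] : List ℕ).getD i 0) α hval
      (expE6 _ _ (by decide)) hα⟩

theorem pieceG_D4 (π : Equiv.Perm (Fin chevD4.rank)) (hπ : chevD4.IsDiagramSymmetry π) :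
    ∃ g : ↥(chevD4.group F) ≃* ↥(chevD4.group F), GraphAutFor chevD4 π g := by
  obtain ⟨L, hL, hval⟩ := classD4 π hπ
  simp only [List.mem_cons, List.not_mem_nil, or_false] at hL
  rcases hL with rfl | rfl | rfl | rfl | rfl | rfl
  · exact ⟨MulEquiv.refl _, graphAutFor_refl chevD4 π (fun i => (hval i).trans (id4 i))⟩
  · obtain ⟨α, hα⟩ := Cfsg.Agent.S1081.result (F := F) (chevD4, [2, 1, 3, 0]) (by simp)
    exact ⟨α, graphAutFor_of_table_one chevD4 π (fun i => ([2, 1, 3, 0] : List ℕ).getD i 0) α hval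
      (expD4 _ _ (by decide)) hα⟩
  · obtain ⟨α, hα⟩ := Cfsg.Agent.S1081.result (F := F) (chevD4, [3, 1, 0, 2]) (by simp)
    exact ⟨α, graphAutFor_of_table_one chevD4 π (fun i => ([3, 1, 0, 2] : List ℕ).getD i 0) α hval
      (expD4 _ _ (by decide)) hα⟩
  · obtain ⟨α, hα⟩ := exists_graph_aut (F := F) chevD4 rhoA rhoA piA piA epsA allOKA
    exact ⟨α, graphAutFor_of_table_one chevD4 π rhoA α hval (expD4 _ _ (by decide)) hα⟩
  · obtain ⟨α, hα⟩ := exists_graph_aut (F := F) chevD4 rhoB rhoB piB piB epsB allOKB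
    exact ⟨α, graphAutFor_of_table_one chevD4 π rhoB α hval (expD4 _ _ (by decide)) hα⟩
  · obtain ⟨α, hα⟩ := exists_graph_aut (F := F) chevD4 rhoC rhoC piC piC epsC allOKC
    exact ⟨α, graphAutFor_of_table_one chevD4 π rhoC α hval (expD4 _ _ (by decide)) hα⟩

theorem pieceG_F4 (π : Equiv.Perm (Fin chevF4.rank)) (hπ : chevF4.IsDiagramSymmetry π)
    (hc : CharOK chevF4 F π) :
    ∃ g : ↥(chevF4.group F) ≃* ↥(chevF4.group F), GraphAutFor chevF4 π g := by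
  obtain ⟨L, hL, hval⟩ := classF4 π hπ
  simp only [List.mem_cons, List.not_mem_nil, or_false] at hL
  rcases hL with rfl | rfl
  · exact ⟨MulEquiv.refl _, graphAutFor_refl chevF4 π (fun i => (hval i).trans (id4 i))⟩
  · have hne : π ≠ 1 := ne_one_of_val (n := 4) π 0 _ (hval 0) (by decide)
    have h2 : ringChar F = 2 := ((hc hne) (1 : Fin 4) (2 : Fin 4)).1 bondsF4
    have : CharP F 2 := ringChar.of_eq h2
    obtain ⟨α, hα⟩ := Cfsg.Agent.S1098.result (K := F) (perfect_two h2) (chevF4, tabF4) (by simp [tabF4])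
    refine ⟨α, graphAutFor_of_table chevF4 π (fun i => (tabF4.getD i (0, 1)).1)
      (fun i => (tabF4.getD i (0, 1)).2) α (fun i => (hval i).trans (valF4 i)) (fun i => ?_) hα⟩
    rw [h2]
    exact expF4 i

theorem pieceG_B2 (π : Equiv.Perm (Fin chevB2.rank)) (hπ : chevB2.IsDiagramSymmetry π)
    (hc : CharOK chevB2 F π) :
    ∃ g : ↥(chevB2.group F) ≃* ↥(chevB2.group F), GraphAutFor chevB2 π g := by
  obtain ⟨L, hL, hval⟩ := classB2 π hπ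
  simp only [List.mem_cons, List.not_mem_nil, or_false] at hL
  rcases hL with rfl | rfl
  · exact ⟨MulEquiv.refl _, graphAutFor_refl chevB2 π (fun i => (hval i).trans (id2 i))⟩
  · have hne : π ≠ 1 := ne_one_of_val (n := 2) π 0 _ (hval 0) (by decide)
    have h2 : ringChar F = 2 := ((hc hne) (0 : Fin 2) (1 : Fin 2)).1 bondsB2
    have : CharP F 2 := ringChar.of_eq h2
    obtain ⟨α, hα⟩ := Cfsg.Agent.S1098.result (K := F) (perfect_two h2) (chevB2, tabB2) (by simp [tabB2])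
    refine ⟨α, graphAutFor_of_table chevB2 π (fun i => (tabB2.getD i (0, 1)).1)
      (fun i => (tabB2.getD i (0, 1)).2) α (fun i => (hval i).trans (valB2 i)) (fun i => ?_) hα⟩
    rw [h2]
    exact expB2 i

theorem pieceG_G2 (π : Equiv.Perm (Fin chevG2.rank)) (hπ : chevG2.IsDiagramSymmetry π)
    (hc : CharOK chevG2 F π) :
    ∃ g : ↥(chevG2.group F) ≃* ↥(chevG2.group F), GraphAutFor chevG2 π g := by
  obtain ⟨L, hL, hval⟩ := classG2 π hπ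
  simp only [List.mem_cons, List.not_mem_nil, or_false] at hL
  rcases hL with rfl | rfl
  · exact ⟨MulEquiv.refl _, graphAutFor_refl chevG2 π (fun i => (hval i).trans (id2 i))⟩
  · have hne : π ≠ 1 := ne_one_of_val (n := 2) π 0 _ (hval 0) (by decide)
    have h3 : ringChar F = 3 := ((hc hne) (0 : Fin 2) (1 : Fin 2)).2 bondsG2
    have : CharP F 3 := ringChar.of_eq h3
    obtain ⟨α, hα⟩ := Cfsg.Agent.S1099.result (K := F) (perfect_three h3)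
    refine ⟨α, graphAutFor_of_table chevG2 π (fun i => ([1, 0] : List ℕ).getD i 0)
      (fun i => ([3, 1] : List ℕ).getD i 1) α hval (fun i => ?_) ?_⟩
    · rw [h3]
      exact expG2 i
    · intro g i t hi
      have hi' : i = 0 ∨ i = 1 := by
        have : i < 2 := hi
        omega
      rcases hi' with rfl | rfl
      · exact ⟨fun h => (hα g t).1 h, fun h => (hα g t).2.2.1 h⟩
      · refine ⟨fun h => ?_, fun h => ?_⟩
        · rw [(hα g t).2.1 h]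
          show chevG2.x F g2a t = chevG2.x F g2a (t ^ 1)
          rw [pow_one]
        · rw [(hα g t).2.2.2 h]
          show chevG2.x F g2ma t = chevG2.x F g2ma (t ^ 1)
          rw [pow_one]

end Types

section Main

variable {F : Type*} [Field F] [Finite F] (D : ChevalleyDatum)
  (hD : D ∈ [chevG2, chevB2, chevD4, chevF4, chevE6, chevE7, chevE8])

include hD in
/-- piece G: every diagram symmetry allowed by the characteristic is induced by a graph automorphism -/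
theorem pieceG (π : Equiv.Perm (Fin D.rank)) (hπ : D.IsDiagramSymmetry π) (hc : CharOK D F π) :
    ∃ g : ↥(D.group F) ≃* ↥(D.group F), GraphAutFor D π g := by
  simp only [List.mem_cons, List.not_mem_nil, or_false] at hD
  rcases hD with rfl | rfl | rfl | rfl | rfl | rfl | rfl
  · exact pieceG_G2 π hπ hc
  · exact pieceG_B2 π hπ hc
  · exact pieceG_D4 π hπ
  · exact pieceG_F4 π hπ hc
  · exact pieceG_E6 π hπ
  · exact pieceG_E7 π hπ
  · exact pieceG_E8 π hπ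

end Main

end Cfsg.Agent.Helper41.ChevAutG
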