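import Cfsg.Agent.Helper43.Cov2.P7Defs
import Cfsg.Agent.Helper43.SpRegFin
import Cfsg.Agent.Helper87.Cov2P7U6SIM
import Cfsg.Agent.Helper87.Cov2P7U6CONJ
import Cfsg.Agent.Helper87.Cov2P7U6REG
import Cfsg.Agent.Helper49.Cov2P7U6ADJ
import Cfsg.Agent.Helper49.Cov2P7U6SA

/-!
helper41 for helper43 (S2500 part 7, board #12305): piece (U6) `normCubic_of_regular`, in the CORRECTED form
with the unipotency hypothesis `h6 : (u - 1) ^ 6 = 0` (the statement without it is false for `q ≥ 9`, see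
board #12305 replies).  Sub-farm #12437: (SIM), (CONJ), (REG) by helper87, (ADJ), (SA) by helper49; the explicit
example (EX) and the assembly are here.

The example: `P` the 3-cycle permutation matrix, `Λ = diag(0,-1,1) - w (P + P²)` (symmetric, `P Λ = (Λ + 1) P`,
`Λ³ - Λ = w³`), `u₀ = [[P, 0], [P Λ², P]]`, `ℓ = diag(Λ, Λ)`: `u₀ ℓ = (ℓ + 1) u₀`, `(u₀ - 1)³ = [[0,0],[-1,0]]`.
-/

set_option autoImplicit false
set_option linter.unusedSimpArgs false
set_option linter.unnecessarySeqFocus false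
set_option linter.unusedVariables false

namespace Cfsg.Agent.Helper41.Cov2.P7

open Matrix Cfsg.Agent.Helper43.Cov2.P7 Cfsg.Agent.Helper43.SpReg Cfsg.Agent.Helper43

variable {F : Type*} [Field F]

/-- the 3-cycle permutation matrix -/
def exP : Matrix (Fin 3) (Fin 3) F := !![0, 0, 1; 1, 0, 0; 0, 1, 0]

/-- the symmetric matrix `Λ` with `P Λ P⁻¹ = Λ + 1` -/
def exL (w : F) : Matrix (Fin 3) (Fin 3) F := !![0, -w, -w; -w, -1, -w; -w, -w, 1]

theorem ex_PPt : (exP : Matrix (Fin 3) (Fin 3) F) * exPᵀ = 1 := by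
  ext i j
  fin_cases i <;> fin_cases j <;> simp [exP, Matrix.mul_apply, Fin.sum_univ_three]

theorem ex_Lt (w : F) : (exL w)ᵀ = exL w := by
  ext i j
  fin_cases i <;> fin_cases j <;> simp [exL]

theorem ex_PL (h3 : (3 : F) = 0) (w : F) : exP * exL w = (exL w + 1) * exP := by
  have h : exP * exL w = (exL w + 1) * exP + (3 : F) • !![0, 0, 0; 0, 0, 0; 0, -1, 0] := by
    ext i j
    fin_cases i <;> fin_cases j <;>
      simp [exP, exL, Matrix.mul_apply, Fin.sum_univ_three, Matrix.add_apply, Matrix.one_apply] <;> ring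
  rw [h, h3, zero_smul, add_zero]

theorem ex_L3 (h3 : (3 : F) = 0) (w : F) : exL w * exL w * exL w - exL w = (w ^ 3) • (1 : Matrix (Fin 3) (Fin 3) F) := by
  have h : exL w * exL w * exL w - exL w = (w ^ 3) • (1 : Matrix (Fin 3) (Fin 3) F) +
      (3 : F) • !![-w ^ 3, -w ^ 3, -w ^ 3; -w ^ 3, -w ^ 2 - w ^ 3, -w ^ 3; -w ^ 3, -w ^ 3, w ^ 2 - w ^ 3] := by
    ext i j
    fin_cases i <;> fin_cases j <;>
      simp [exL, Matrix.mul_apply, Fin.sum_univ_three, Matrix.add_apply, Matrix.sub_apply, Matrix.one_apply] <;> ring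
  rw [h, h3, zero_smul, add_zero]

theorem ex_Q3 (h3 : (3 : F) = 0) :
    ((exP : Matrix (Fin 3) (Fin 3) F) - 1) * (exP - 1) * (exP - 1) = 0 := by
  have h : ((exP : Matrix (Fin 3) (Fin 3) F) - 1) * (exP - 1) * (exP - 1) =
      (3 : F) • !![0, -1, 1; 1, 0, -1; -1, 1, 0] := by
    ext i j
    fin_cases i <;> fin_cases j <;>
      simp [exP, Matrix.mul_apply, Fin.sum_univ_three, Matrix.sub_apply, Matrix.one_apply] <;> ring
  rw [h, h3, zero_smul]

theorem ex_C (w : F) : exP * exL w * exL w =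
    !![-w + w ^ 2, w ^ 2, 1 + 2 * w ^ 2; 2 * w ^ 2, w + w ^ 2, -w + w ^ 2; w + w ^ 2, 1 + 2 * w ^ 2, w ^ 2] := by
  ext i j
  fin_cases i <;> fin_cases j <;>
    simp [exP, exL, Matrix.mul_apply, Fin.sum_univ_three] <;> ring

theorem ex_Q : (exP - 1 : Matrix (Fin 3) (Fin 3) F) = !![-1, 0, 1; 1, -1, 0; 0, 1, -1] := by
  ext i j
  fin_cases i <;> fin_cases j <;> simp [exP, Matrix.sub_apply, Matrix.one_apply]

theorem ex_X (h3 : (3 : F) = 0) (w : F) :
    (exP * exL w * exL w) * (exP - 1) * (exP - 1) + (exP - 1) * (exP * exL w * exL w) * (exP - 1) +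
      (exP - 1) * (exP - 1) * (exP * exL w * exL w) = -1 := by
  have h : (exP * exL w * exL w) * (exP - 1) * (exP - 1) + (exP - 1) * (exP * exL w * exL w) * (exP - 1) +
      (exP - 1) * (exP - 1) * (exP * exL w * exL w) = -1 +
      (3 : F) • !![1 - 2 * w + w ^ 2, -2 - 2 * w ^ 2, 1 + w + w ^ 2;
                  w ^ 2, 1 + 2 * w + w ^ 2, -1 - w - 2 * w ^ 2;
                  -1 + w - 2 * w ^ 2, 1 - w + w ^ 2, 1 + w ^ 2] := by
    rw [ex_C, ex_Q]
    ext i j
    fin_cases i <;> fin_cases j <;>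
      simp [Matrix.mul_apply, Fin.sum_univ_three, Matrix.add_apply,
        Matrix.one_apply, Matrix.neg_apply, Matrix.vecMul, dotProduct] <;> ring
  rw [h, h3, zero_smul, add_zero]

theorem ex_Q2 (M : Matrix (Fin 3) (Fin 3) F) (hM : M = (exP - 1) * (exP - 1)) : M 0 0 = 1 := by
  rw [hM, ex_Q]
  simp [Matrix.mul_apply, Fin.sum_univ_three]


theorem ex_PtP : (exPᵀ : Matrix (Fin 3) (Fin 3) F) * exP = 1 := mul_eq_one_comm.mp ex_PPt

/-- the regular unipotent example -/
def exU (w : F) : M6 F := fromBlocks exP 0 (exP * exL w * exL w) exP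

/-- the generator of the cubic field -/
def exEll (w : F) : M6 F := fromBlocks (exL w) 0 0 (exL w)

theorem exU_mem (w : F) : exU w ∈ Matrix.symplecticGroup (Fin 3) F := by
  unfold exU
  rw [SymplecticGroup.fromBlocks_mem_iff]
  refine ⟨?_, by simp, ?_⟩
  · rw [transpose_mul, transpose_mul, ex_Lt]
    calc exPᵀ * (exP * exL w * exL w) = (exPᵀ * exP) * exL w * exL w := by simp only [mul_assoc]
      _ = exL w * (exL w * (exPᵀ * exP)) := by rw [ex_PtP, one_mul, mul_one]
      _ = exL w * (exL w * exPᵀ) * exP := by simp only [mul_assoc]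
  · rw [mul_zero, sub_zero, ex_PtP]

theorem exU_mul_exEll (h3 : (3 : F) = 0) (w : F) : exU w * exEll w = (exEll w + 1) * exU w := by
  have h1 : exEll w + 1 = fromBlocks (exL w + 1) 0 0 (exL w + 1) := by
    unfold exEll
    rw [← fromBlocks_one, fromBlocks_add]
    simp
  rw [h1]
  unfold exU exEll
  rw [fromBlocks_multiply, fromBlocks_multiply]
  have hPL := ex_PL h3 w
  have hC : exP * exL w * exL w * exL w = (exL w + 1) * (exP * exL w * exL w) := by
    rw [← mul_assoc, ← mul_assoc, ← hPL]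
  simp only [mul_zero, zero_mul, add_zero, zero_add]
  rw [hC, hPL]

theorem exU_sub_one (w : F) :
    exU w - 1 = fromBlocks (exP - 1) 0 (exP * exL w * exL w) (exP - 1) := by
  unfold exU
  rw [← fromBlocks_one, sub_eq_add_neg, fromBlocks_neg, fromBlocks_add]
  simp [sub_eq_add_neg]

theorem exU_pow_two (w : F) : (exU w - 1) ^ 2 =
    fromBlocks ((exP - 1) * (exP - 1)) 0
      ((exP * exL w * exL w) * (exP - 1) + (exP - 1) * (exP * exL w * exL w)) ((exP - 1) * (exP - 1)) := by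
  rw [pow_two, exU_sub_one, fromBlocks_multiply]
  simp only [mul_zero, zero_mul, add_zero, zero_add]

theorem exU_pow_three (h3 : (3 : F) = 0) (w : F) : (exU w - 1) ^ 3 = fromBlocks 0 0 (-1) 0 := by
  rw [pow_succ, exU_pow_two, exU_sub_one, fromBlocks_multiply]
  simp only [mul_zero, zero_mul, add_zero, zero_add]
  rw [ex_Q3 h3, add_mul, ex_X h3 w]

theorem exU_pow_six (h3 : (3 : F) = 0) (w : F) : (exU w - 1) ^ 6 = 0 := by
  have : (exU w - 1) ^ 6 = (exU w - 1) ^ 3 * (exU w - 1) ^ 3 := by rw [← pow_add]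
  rw [this, exU_pow_three h3, fromBlocks_multiply]
  simp

theorem exU_pow_five (h3 : (3 : F) = 0) (w : F) : (exU w - 1) ^ 5 ≠ 0 := by
  have : (exU w - 1) ^ 5 = (exU w - 1) ^ 3 * (exU w - 1) ^ 2 := by rw [← pow_add]
  rw [this, exU_pow_three h3, exU_pow_two, fromBlocks_multiply]
  simp only [mul_zero, zero_mul, add_zero, zero_add, neg_mul, one_mul]
  intro h0
  have h1 := congrFun (congrFun h0 (Sum.inr 0)) (Sum.inl 0)
  rw [fromBlocks_apply₂₁, Matrix.neg_apply, ex_Q2 _ rfl] at h1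
  simp at h1

theorem exEll_pow_three (w : F) : exEll w ^ 3 = fromBlocks (exL w * exL w * exL w) 0 0 (exL w * exL w * exL w) := by
  unfold exEll
  rw [pow_succ, pow_two, fromBlocks_multiply, fromBlocks_multiply]
  simp only [mul_zero, zero_mul, add_zero, zero_add]

theorem exEll_root (h3 : (3 : F) = 0) (w : F) :
    Polynomial.aeval (exEll w) (Polynomial.X ^ 3 - Polynomial.X - Polynomial.C (w ^ 3) : Polynomial F) = 0 := by
  rw [map_sub, map_sub, map_pow, Polynomial.aeval_X, Polynomial.aeval_C, Algebra.algebraMap_eq_smul_one,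
    exEll_pow_three]
  have h1 : (w ^ 3) • (1 : M6 F) = fromBlocks ((w ^ 3) • (1 : Matrix (Fin 3) (Fin 3) F)) 0 0
      ((w ^ 3) • (1 : Matrix (Fin 3) (Fin 3) F)) := by
    rw [← fromBlocks_one, fromBlocks_smul]
    simp
  rw [h1]
  unfold exEll
  rw [sub_eq_add_neg, sub_eq_add_neg, fromBlocks_neg, fromBlocks_neg, fromBlocks_add, fromBlocks_add]
  have h2 : exL w * exL w * exL w + -exL w + -((w ^ 3) • (1 : Matrix (Fin 3) (Fin 3) F)) = 0 := by
    rw [← sub_eq_add_neg, ← sub_eq_add_neg, ex_L3 h3 w, sub_self]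
  rw [h2]
  simp

theorem exEll_selfAdj (w : F) : (exEll w)ᵀ * Matrix.J (Fin 3) F = Matrix.J (Fin 3) F * exEll w := by
  unfold exEll Matrix.J
  rw [fromBlocks_transpose, fromBlocks_multiply, fromBlocks_multiply, ex_Lt]
  simp

theorem ex_irreducible (h3 : (3 : F) = 0) (w : F) (hw : ∀ b : F, b ^ 3 - b ≠ w ^ 3) :
    Irreducible (Polynomial.X ^ 3 - Polynomial.X - Polynomial.C (w ^ 3) : Polynomial F) := by
  have hdeg : (Polynomial.X ^ 3 - Polynomial.X - Polynomial.C (w ^ 3) : Polynomial F).natDegree = 3 := by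
    compute_degree!
  have hmonic : (Polynomial.X ^ 3 - Polynomial.X - Polynomial.C (w ^ 3) : Polynomial F).Monic := by
    monicity!
  rw [hmonic.irreducible_iff_roots_eq_zero_of_degree_le_three (by rw [hdeg]; omega) (by rw [hdeg])]
  rw [Multiset.eq_zero_iff_forall_notMem]
  intro b hb
  rw [Polynomial.mem_roots hmonic.ne_zero, Polynomial.IsRoot.def] at hb
  simp only [Polynomial.eval_sub, Polynomial.eval_pow, Polynomial.eval_X, Polynomial.eval_C] at hb
  exact hw b (sub_eq_zero.mp hb)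

theorem ex_natDegree (w : F) :
    (Polynomial.X ^ 3 - Polynomial.X - Polynomial.C (w ^ 3) : Polynomial F).natDegree = 3 := by
  compute_degree!

theorem exU_normCubic (h3 : (3 : F) = 0) (w : F) (hw : ∀ b : F, b ^ 3 - b ≠ w ^ 3) : NormCubic (exU w) := by
  refine ⟨Algebra.adjoin F {exEll w}, ⟨?_, Cfsg.Agent.Helper49.Cov2P7U6.isSelfAdjointFor_adjoin _ (exEll_selfAdj w)⟩, ?_⟩
  · have := Cfsg.Agent.Helper49.Cov2P7U6.isFieldSubalgebra_adjoin (exEll w) _ (ex_irreducible h3 w hw) (exEll_root h3 w)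
    rwa [ex_natDegree] at this
  · intro k hk
    induction hk using Algebra.adjoin_induction with
    | mem x hx =>
      rw [Set.mem_singleton_iff] at hx
      subst hx
      exact ⟨exEll w + 1, Subalgebra.add_mem _ (Algebra.subset_adjoin rfl) (Subalgebra.one_mem _),
        exU_mul_exEll h3 w⟩
    | algebraMap r =>
      exact ⟨algebraMap F (M6 F) r, Subalgebra.algebraMap_mem _ r, (Algebra.commutes r (exU w)).symm⟩
    | add x y _ _ ihx ihy =>
      obtain ⟨x', hx', ex⟩ := ihx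
      obtain ⟨y', hy', ey⟩ := ihy
      exact ⟨x' + y', Subalgebra.add_mem _ hx' hy', by rw [mul_add, add_mul, ex, ey]⟩
    | mul x y _ _ ihx ihy =>
      obtain ⟨x', hx', ex⟩ := ihx
      obtain ⟨y', hy', ey⟩ := ihy
      exact ⟨x' * y', Subalgebra.mul_mem _ hx' hy', by rw [← mul_assoc, ex, mul_assoc, ey, mul_assoc]⟩

theorem exists_w [Fintype F] (h3 : (3 : F) = 0) : ∃ w : F, ∀ b : F, b ^ 3 - b ≠ w ^ 3 := by
  have hcube : ∀ x y : F, (x - y) ^ 3 = x ^ 3 - y ^ 3 := by
    intro x y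
    linear_combination (-(x ^ 2 * y) + x * y ^ 2) * h3
  have hnotsurj : ¬ Function.Surjective (fun b : F => b ^ 3 - b) := by
    intro hs
    have hinj := Finite.injective_iff_surjective.mpr hs
    have : (1 : F) = 0 := hinj (by simp)
    exact one_ne_zero this
  simp only [Function.Surjective, not_forall, not_exists] at hnotsurj
  obtain ⟨w, hw⟩ := hnotsurj
  refine ⟨w, fun b hb => hw (b - w) ?_⟩
  show (b - w) ^ 3 - (b - w) = w
  rw [hcube]
  linear_combination hb

/-- (EX) the example -/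
theorem exists_example [Fintype F] (a : ℕ) (ha : 1 ≤ a) (hF : Fintype.card F = 3 ^ a) :
    ∃ u0 : M6 F, u0 ∈ Matrix.symplecticGroup (Fin 3) F ∧ (u0 - 1) ^ 6 = 0 ∧ (u0 - 1) ^ 5 ≠ 0 ∧
      NormCubic u0 := by
  have hchar : CharP F 3 := by
    obtain ⟨p, hp⟩ := CharP.exists F
    have := hp
    have : Fact p.Prime := ⟨CharP.char_is_prime F p⟩
    have h1 : p ∣ Fintype.card F := by
      have : ((Fintype.card F : ℕ) : F) = 0 := Nat.cast_card_eq_zero F
      exact (CharP.cast_eq_zero_iff F p _).1 this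
    rw [hF] at h1
    have h2 : p ∣ 3 := (Fact.out : p.Prime).dvd_of_dvd_pow h1
    have h3 : p = 3 := (Nat.prime_dvd_prime_iff_eq Fact.out Nat.prime_three).1 h2
    exact h3 ▸ hp
  have h3 : (3 : F) = 0 := by
    have := (CharP.cast_eq_zero_iff F 3 3).2 (dvd_refl 3)
    exact_mod_cast this
  obtain ⟨w, hw⟩ := exists_w h3
  exact ⟨exU w, exU_mem w, exU_pow_six h3 w, exU_pow_five h3 w, exU_normCubic h3 w hw⟩

theorem char_three' [Fintype F] (a : ℕ) (ha : 1 ≤ a) (hF : Fintype.card F = 3 ^ a) : CharP F 3 := by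
  obtain ⟨p, hp⟩ := CharP.exists F
  have := hp
  have : Fact p.Prime := ⟨CharP.char_is_prime F p⟩
  have h1 : p ∣ Fintype.card F := by
    have : ((Fintype.card F : ℕ) : F) = 0 := Nat.cast_card_eq_zero F
    exact (CharP.cast_eq_zero_iff F p _).1 this
  rw [hF] at h1
  have h2 : p ∣ 3 := (Fact.out : p.Prime).dvd_of_dvd_pow h1
  have h3 : p = 3 := (Nat.prime_dvd_prime_iff_eq Fact.out Nat.prime_three).1 h2
  exact h3 ▸ hp

/-- (U6), corrected statement (with the unipotency hypothesis `h6`) -/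
theorem normCubic_of_regular [Fintype F] (a : ℕ) (ha : 1 ≤ a) (hF : Fintype.card F = 3 ^ a)
    (u : Sp6 F) (h6 : ((u : M6 F) - 1) ^ 6 = 0) (h5 : ((u : M6 F) - 1) ^ 5 ≠ 0) :
    NormCubic (u : M6 F) := by
  classical
  have hchar := char_three' a ha hF
  have h2 : (2 : F) ≠ 0 := by
    intro h
    have h3 : ((2 : ℕ) : F) = 0 := by exact_mod_cast h
    have := (CharP.cast_eq_zero_iff F 3 2).1 h3
    omega
  obtain ⟨u0, hu0mem, h06, h05, hN0⟩ := exists_example a ha hF
  have hreg0 := Cfsg.Agent.Helper87.Cov2.P7.isRegNilp_of_pow h06 h05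
  have hreg := Cfsg.Agent.Helper87.Cov2.P7.isRegNilp_of_pow h6 h5
  have hfin : Module.finrank F (Fin 3 ⊕ Fin 3 → F) = 6 := by
    rw [Module.finrank_fintype_fun_eq_card, Fintype.card_sum, Fintype.card_fin]
  have hpos : 0 < Module.finrank F (Fin 3 ⊕ Fin 3 → F) := by rw [hfin]; omega
  obtain ⟨v0, hv0⟩ := hreg0.exists_cyclic hpos
  have hdata : SpData u0 v0 := ⟨hu0mem, ⟨hreg0, hpos, hv0⟩, h2⟩
  obtain ⟨g, gi, hggi, hg⟩ := exists_conj_mat hreg0 hreg
  rw [commute_sub_one_iff'] at hg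
  obtain ⟨c, hc⟩ := FiniteField.exists_nonsquare (F := F) (by
    rw [ringChar.eq F 3]; omega)
  have hc0 : c ≠ 0 := by
    rintro rfl
    exact hc ⟨0, by simp⟩
  have hu' : adj (u : M6 F) * (u : M6 F) = 1 := adj_mul_self_of_mem u.2
  obtain ⟨s, hs, hcase⟩ := hdata.conj_cases (u' := (u : M6 F)) (g := g) (gi := gi)
    (hh := simil c) (hi := simil c⁻¹) hc (simil_inv_mul hc0) (simil_hhi2 hc0) hu' hg hggi
  have hs' : s * adj s = 1 := mul_eq_one_comm.mp hs
  have hs1 : adj s * s = (1 : F) • 1 := by rw [hs, one_smul]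
  rcases hcase with h | h
  · have hu : (u : M6 F) = s * u0 * adj s := by
      calc (u : M6 F) = (u : M6 F) * (s * adj s) := by rw [hs', mul_one]
        _ = ((u : M6 F) * s) * adj s := by rw [mul_assoc]
        _ = s * u0 * adj s := by rw [← h]
    rw [hu]
    exact Cfsg.Agent.Helper87.Cov2.P7.normCubic_conj one_ne_zero hs' (Cfsg.Agent.Helper87.Cov2.P7.sympForm_of_adj hs1) hN0
  · have hu : (u : M6 F) = s * (simil c * u0 * simil c⁻¹) * adj s := by
      calc (u : M6 F) = (u : M6 F) * (s * adj s) := by rw [hs', mul_one]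
        _ = ((u : M6 F) * s) * adj s := by rw [mul_assoc]
        _ = s * (simil c * u0 * simil c⁻¹) * adj s := by rw [← h]
    rw [hu]
    have hsc : (simil c : M6 F) * simil c⁻¹ = 1 := by
      rw [simil_mul, mul_inv_cancel₀ hc0, simil_one]
    exact Cfsg.Agent.Helper87.Cov2.P7.normCubic_conj one_ne_zero hs' (Cfsg.Agent.Helper87.Cov2.P7.sympForm_of_adj hs1)
      (Cfsg.Agent.Helper87.Cov2.P7.normCubic_conj hc0 hsc (Cfsg.Agent.Helper87.Cov2.P7.sympForm_of_adj (adj_simil_mul c)) hN0)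

end Cfsg.Agent.Helper41.Cov2.P7
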