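import Cfsg.Agent.Helper41.HalfChar
import Cfsg.Agent.Helper76.CharCentral

set_option autoImplicit false
set_option linter.unusedSectionVars false
set_option linter.unusedVariables false

/-!
# A character of an even cyclic group which is "twice the regular character minus `θ + θ⁻¹`"

Let `A` be a cyclic group of order `2m` with involution `z`, and `φ` a real-valued character of `A`
of degree `2m - 2` with `φ z = ε (2m - 2)`, `∑ φ φ̄ = 2 (2m-2)² + 2 (2m - 4)` and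
`∑ φ = (1 + ε) 2m`. Then `φ a = -(θ a + θ a⁻¹)` off `{1, z}` for a linear character `θ` of `A`
with `θ² ≠ 1`.
-/

namespace Cfsg.Agent.Helper41

open Cfsg
open scoped ComplexConjugate

section norm_two

variable {G : Type*} [Group G] [Fintype G]

theorem int_mul_self_eq_one_of_le_two {n : ℤ} (h0 : n ≠ 0) (h2 : n * n ≤ 2) : n * n = 1 := by
  have h1 : -1 ≤ n := by nlinarith
  have h3 : n ≤ 1 := by nlinarith
  have : n = -1 ∨ n = 0 ∨ n = 1 := by omega
  rcases this with rfl | rfl | rfl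
  · norm_num
  · exact absurd rfl h0
  · norm_num

/-- A generalized character of norm two is `± χ₁ ± χ₂` for two distinct irreducible characters. -/
theorem genChar_norm_two {α : G → ℂ} (hα : IsGeneralizedCharacter G α)
    (h2 : classInner α α = 2) :
    ∃ (χ₁ χ₂ : IrrCharacter G) (s₁ s₂ : ℤ), χ₁ ≠ χ₂ ∧ (s₁ = 1 ∨ s₁ = -1) ∧ (s₂ = 1 ∨ s₂ = -1) ∧
      α = (s₁ : ℂ) • (χ₁ : G → ℂ) + (s₂ : ℂ) • (χ₂ : G → ℂ) := by
  classical
  let _ := Cfsg.Agent.Helper74.irrFintype G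
  choose a ha using fun ψ : IrrCharacter G =>
    Cfsg.Agent.Helper25.isGenChar_inner_int hα
      (Cfsg.Agent.Helper25.isGenChar_of_isCharacter (Cfsg.Agent.Helper74.isCharacter_of_isIrr ψ.2))
  have hpars := Cfsg.Agent.Helper15.classInner_eq_sum_irr
    (Cfsg.Agent.Helper25.isGenChar_isClassFunction hα) α
  rw [h2] at hpars
  have hsum : (2 : ℤ) = ∑ ψ : IrrCharacter G, a ψ * a ψ := by
    have : ((2 : ℤ) : ℂ) = ((∑ ψ : IrrCharacter G, a ψ * a ψ : ℤ) : ℂ) := by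
      push_cast
      rw [hpars]
      refine Finset.sum_congr rfl (fun ψ _ => ?_)
      rw [ha ψ]; simp
    exact_mod_cast this
  have hex : ∃ ψ, a ψ ≠ 0 := by
    by_contra hcon
    push Not at hcon
    simp [hcon] at hsum
  obtain ⟨χ₁, hχ₁⟩ := hex
  have hsplit : ∑ ψ : IrrCharacter G, a ψ * a ψ =
      a χ₁ * a χ₁ + ∑ ψ ∈ Finset.univ.erase χ₁, a ψ * a ψ :=
    (Finset.add_sum_erase _ _ (Finset.mem_univ χ₁)).symm
  have hnn : 0 ≤ ∑ ψ ∈ Finset.univ.erase χ₁, a ψ * a ψ :=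
    Finset.sum_nonneg (fun ψ _ => mul_self_nonneg _)
  have hχ₁1 : a χ₁ * a χ₁ = 1 := int_mul_self_eq_one_of_le_two hχ₁ (by omega)
  have hrest : ∑ ψ ∈ Finset.univ.erase χ₁, a ψ * a ψ = 1 := by omega
  have hex2 : ∃ ψ ∈ Finset.univ.erase χ₁, a ψ ≠ 0 := by
    by_contra hcon
    push Not at hcon
    rw [Finset.sum_eq_zero (fun ψ hψ => by rw [hcon ψ hψ, mul_zero])] at hrest
    omega
  obtain ⟨χ₂, hχ₂mem, hχ₂⟩ := hex2
  have hne : χ₂ ≠ χ₁ := (Finset.mem_erase.mp hχ₂mem).1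
  have hsplit2 : ∑ ψ ∈ Finset.univ.erase χ₁, a ψ * a ψ =
      a χ₂ * a χ₂ + ∑ ψ ∈ (Finset.univ.erase χ₁).erase χ₂, a ψ * a ψ :=
    (Finset.add_sum_erase _ _ hχ₂mem).symm
  have hnn2 : 0 ≤ ∑ ψ ∈ (Finset.univ.erase χ₁).erase χ₂, a ψ * a ψ :=
    Finset.sum_nonneg (fun ψ _ => mul_self_nonneg _)
  have hχ₂1 : a χ₂ * a χ₂ = 1 := int_mul_self_eq_one_of_le_two hχ₂ (by omega)
  have hrest2 : ∑ ψ ∈ (Finset.univ.erase χ₁).erase χ₂, a ψ * a ψ = 0 := by omega
  have hzero : ∀ ψ, ψ ≠ χ₁ → ψ ≠ χ₂ → a ψ = 0 := by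
    intro ψ h1 h2'
    have := (Finset.sum_eq_zero_iff_of_nonneg (fun ψ _ => mul_self_nonneg (a ψ))).mp hrest2 ψ
      (Finset.mem_erase.mpr ⟨h2', Finset.mem_erase.mpr ⟨h1, Finset.mem_univ _⟩⟩)
    exact mul_self_eq_zero.mp this
  refine ⟨χ₁, χ₂, a χ₁, a χ₂, hne.symm, ?_, ?_, ?_⟩
  · rcases mul_self_eq_one_iff.mp hχ₁1 with h | h
    · left; exact h
    · right; exact h
  · rcases mul_self_eq_one_iff.mp hχ₂1 with h | h
    · left; exact h
    · right; exact h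
  · conv_lhs => rw [Cfsg.Agent.Helper25.isGenChar_eq_sum hα]
    rw [← Finset.add_sum_erase _ _ (Finset.mem_univ χ₁), ← Finset.add_sum_erase _ _ hχ₂mem,
      Finset.sum_eq_zero, add_zero, ha χ₁, ha χ₂]
    intro ψ hψ
    have h2' := (Finset.mem_erase.mp hψ).1
    have h1 := (Finset.mem_erase.mp (Finset.mem_erase.mp hψ).2).1
    rw [ha ψ, hzero ψ h1 h2']; simp

/-- A generalized character of norm two and degree two of a commutative group is the sum of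
two distinct linear characters. -/
theorem genChar_norm_two_of_comm (hcomm : ∀ a b : G, a * b = b * a) {α : G → ℂ}
    (hα : IsGeneralizedCharacter G α) (h2 : classInner α α = 2) (h1 : α 1 = 2) :
    ∃ θ₁ θ₂ : G →* ℂˣ, θ₁ ≠ θ₂ ∧ ∀ g, α g = ((θ₁ g : ℂˣ) : ℂ) + ((θ₂ g : ℂˣ) : ℂ) := by
  obtain ⟨χ₁, χ₂, s₁, s₂, hne, hs₁, hs₂, hαeq⟩ := genChar_norm_two hα h2
  have hχ₁1 := Cfsg.Agent.Helper76.irr_one_of_comm hcomm χ₁.2
  have hχ₂1 := Cfsg.Agent.Helper76.irr_one_of_comm hcomm χ₂.2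
  have h1' : (s₁ : ℂ) + (s₂ : ℂ) = 2 := by
    have := congrFun hαeq 1
    rw [h1] at this
    simp only [Pi.add_apply, Pi.smul_apply, smul_eq_mul, hχ₁1, hχ₂1, mul_one] at this
    exact this.symm
  have h1'' : s₁ + s₂ = 2 := by exact_mod_cast h1'
  have hs₁' : s₁ = 1 := by rcases hs₁ with h | h <;> rcases hs₂ with h' | h' <;> omega
  have hs₂' : s₂ = 1 := by omega
  subst hs₁' hs₂'
  have hc₁ := Cfsg.Agent.Helper74.isCharacter_of_isIrr χ₁.2
  have hc₂ := Cfsg.Agent.Helper74.isCharacter_of_isIrr χ₂.2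
  refine ⟨Cfsg.Agent.Helper15.linCharUnits hc₁ hχ₁1, Cfsg.Agent.Helper15.linCharUnits hc₂ hχ₂1,
    ?_, ?_⟩
  · intro h
    apply hne
    apply Subtype.ext
    funext g
    have := congrArg (fun θ : G →* ℂˣ => ((θ g : ℂˣ) : ℂ)) h
    simpa using this
  · intro g
    have := congrFun hαeq g
    simpa using this

end norm_two

section cusp

variable {A : Type*} [Group A] [Fintype A]

theorem hom_eq_of_generator {c₀ : A} (hc₀ : ∀ a : A, a ∈ Subgroup.zpowers c₀) (θ θ' : A →* ℂˣ)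
    (h : θ c₀ = θ' c₀) : θ = θ' := by
  ext a
  obtain ⟨k, rfl⟩ := hc₀ a
  rw [map_zpow, map_zpow, h]

theorem sum_hom_units (θ : A →* ℂˣ) (hθ : θ ≠ 1) : ∑ a, ((θ a : ℂˣ) : ℂ) = 0 := by
  have := sum_hom_units_eq_zero ((Units.coeHom ℂ).comp θ) (by
    intro h
    apply hθ
    ext a
    have := congrArg (fun f : A →* ℂ => f a) h
    simpa using this)
  simpa using this

theorem conj_hom_units (θ : A →* ℂˣ) (a : A) :
    conj ((θ a : ℂˣ) : ℂ) = (((θ a)⁻¹ : ℂˣ) : ℂ) := by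
  have hpow : ((θ a : ℂˣ) : ℂ) ^ orderOf a = 1 := by
    rw [← Units.val_pow_eq_pow_val, ← map_pow, pow_orderOf_eq_one, map_one, Units.val_one]
  have hn : ‖((θ a : ℂˣ) : ℂ)‖ = 1 :=
    Complex.norm_eq_one_of_pow_eq_one hpow (orderOf_pos a).ne'
  rw [Units.val_inv_eq_inv_val, Complex.inv_eq_conj hn]

/-- The main lemma: the values of `φ` off `{1, z}`. -/
theorem cusp_char_on_cyclic [DecidableEq A] (hcomm : ∀ a b : A, a * b = b * a) [IsCyclic A]
    (m : ℕ) (hcard : Nat.card A = 2 * m) (z : A) (hz1 : z ≠ 1) (hzz : z * z = 1)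
    (ε : ℂ) (hε : ε = 1 ∨ ε = -1) {φ : A → ℂ} (hφ : IsCharacter A φ)
    (hφ1 : φ 1 = 2 * (m : ℂ) - 2) (hφz : φ z = ε * (2 * (m : ℂ) - 2))
    (hreal : ∀ a, conj (φ a) = φ a)
    (hnorm : ∑ a, φ a * conj (φ a) = 2 * (2 * (m : ℂ) - 2) ^ 2 + 2 * (2 * (m : ℂ) - 4))
    (hsum : ∑ a, φ a = (1 + ε) * (2 * (m : ℂ))) :
    ∃ θ : A →* ℂˣ, (∃ a, θ a ^ 2 ≠ 1) ∧ ((θ z : ℂˣ) : ℂ) = ε ∧
      ∀ a : A, a ≠ 1 → a ≠ z → φ a = -(((θ a : ℂˣ) : ℂ) + (((θ a)⁻¹ : ℂˣ) : ℂ)) := by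
  have hmpos : 0 < m := by
    have : 0 < Nat.card A := Nat.card_pos
    omega
  have hm0 : (m : ℂ) ≠ 0 := by exact_mod_cast hmpos.ne'
  have hεε : ε * ε = 1 := by rcases hε with rfl | rfl <;> ring
  have hεc : conj ε = ε := by rcases hε with rfl | rfl <;> simp
  set ρ := twoPoint z ε (m : ℂ) with hρdef
  have hρ : IsCharacter A ρ := isCharacter_twoPoint hcomm z hz1 hzz ε hε m hcard
  have hρ1 : ρ 1 = (m : ℂ) := twoPoint_one hz1 ε m
  have hρz : ρ z = ε * (m : ℂ) := twoPoint_z hz1 ε m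
  have hρne : ∀ a : A, a ≠ 1 → a ≠ z → ρ a = 0 := fun a h1 hz => twoPoint_of_ne z ε _ h1 hz
  have hρinner : ∀ h : A → ℂ, classInner ρ h =
      (Nat.card A : ℂ)⁻¹ * ((m : ℂ) * conj (h 1) + ε * (m : ℂ) * conj (h z)) :=
    fun h => classInner_twoPoint z ε m h
  have hρsum : ∑ a, ρ a = (m : ℂ) + ε * (m : ℂ) := by
    rw [hρdef]
    unfold twoPoint
    simp only [Finset.sum_add_distrib, Finset.sum_ite_eq', Finset.mem_univ, if_true]
  set ξ : A → ℂ := ρ + ρ - φ with hξdef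
  have hρgc := Cfsg.Agent.Helper25.isGenChar_of_isCharacter hρ
  have hξgc : IsGeneralizedCharacter A ξ :=
    Cfsg.Agent.Helper25.isGenChar_sub (Cfsg.Agent.Helper25.isGenChar_add hρgc hρgc)
      (Cfsg.Agent.Helper25.isGenChar_of_isCharacter hφ)
  -- inner products
  have hcardC : (Nat.card A : ℂ) = 2 * (m : ℂ) := by rw [hcard]; push_cast; ring
  have hρρ : classInner ρ ρ = (m : ℂ) := by
    rw [hρinner, hcardC, hρ1, hρz, map_mul, hεc, Complex.conj_natCast]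
    have h3 : ε * (m : ℂ) * (ε * (m : ℂ)) = (m : ℂ) * (m : ℂ) := by
      linear_combination (m : ℂ) * (m : ℂ) * hεε
    rw [h3]
    field_simp
    ring
  have hρφ : classInner ρ φ = 2 * (m : ℂ) - 2 := by
    rw [hρinner, hcardC, hφ1, hφz, map_mul, hεc, map_sub, map_mul, Complex.conj_natCast]
    have h2c : conj (2 : ℂ) = 2 := by
      rw [show (2 : ℂ) = ((2 : ℕ) : ℂ) by norm_num, Complex.conj_natCast]
    rw [h2c]
    have h3 : ε * (m : ℂ) * (ε * (2 * (m : ℂ) - 2)) = (m : ℂ) * (2 * (m : ℂ) - 2) := by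
      linear_combination (m : ℂ) * (2 * (m : ℂ) - 2) * hεε
    rw [h3]
    field_simp
    ring
  have hφρ : classInner φ ρ = 2 * (m : ℂ) - 2 := by
    rw [← Cfsg.Agent.Helper74.classInner_conj_symm, hρφ, map_sub, map_mul, Complex.conj_natCast]
    have h2c : conj (2 : ℂ) = 2 := by
      rw [show (2 : ℂ) = ((2 : ℕ) : ℂ) by norm_num, Complex.conj_natCast]
    rw [h2c]
  have hφφ : classInner φ φ = 4 * (m : ℂ) - 6 := by
    rw [Cfsg.Agent.Helper15.classInner_apply, hnorm, hcardC]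
    field_simp
    ring
  have hξξ : classInner ξ ξ = 2 := by
    rw [hξdef, Cfsg.Agent.Helper74.classInner_sub_left, Cfsg.Agent.Helper74.classInner_sub_right,
      Cfsg.Agent.Helper74.classInner_sub_right, Cfsg.Agent.Helper74.classInner_add_left,
      Cfsg.Agent.Helper74.classInner_add_left, Cfsg.Agent.Helper74.classInner_add_right,
      Cfsg.Agent.Helper74.classInner_add_right, hρρ, hρφ, hφρ, hφφ]
    ring
  have hξ1 : ξ 1 = 2 := by
    rw [hξdef, Pi.sub_apply, Pi.add_apply, hρ1, hφ1]; ring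
  have hξz : ξ z = 2 * ε := by
    rw [hξdef, Pi.sub_apply, Pi.add_apply, hρz, hφz]; ring
  obtain ⟨θ₁, θ₂, hne, hξeq⟩ := genChar_norm_two_of_comm hcomm hξgc hξξ hξ1
  -- ξ is real
  have hξreal : ∀ a, conj (ξ a) = ξ a := by
    intro a
    rw [hξdef, Pi.sub_apply, Pi.add_apply, map_sub, map_add, hreal]
    congr 1
    by_cases h1 : a = 1
    · rw [h1, hρ1, Complex.conj_natCast]
    · by_cases hz : a = z
      · rw [hz, hρz, map_mul, hεc, Complex.conj_natCast]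
      · rw [hρne a h1 hz, map_zero]
  have hreal' : ∀ a, (((θ₁ a)⁻¹ : ℂˣ) : ℂ) + (((θ₂ a)⁻¹ : ℂˣ) : ℂ) =
      ((θ₁ a : ℂˣ) : ℂ) + ((θ₂ a : ℂˣ) : ℂ) := by
    intro a
    have := hξreal a
    rwa [hξeq, map_add, conj_hom_units, conj_hom_units] at this
  -- the sum of ξ vanishes
  have hξsum : ∑ a, ξ a = 0 := by
    rw [hξdef]
    simp only [Pi.sub_apply, Pi.add_apply, Finset.sum_sub_distrib, Finset.sum_add_distrib]
    rw [hsum, hρsum]
    ring
  have hsum12 : ∑ a, ((θ₁ a : ℂˣ) : ℂ) + ∑ a, ((θ₂ a : ℂˣ) : ℂ) = 0 := by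
    rw [← Finset.sum_add_distrib, ← hξsum]
    exact Finset.sum_congr rfl (fun a _ => (hξeq a).symm)
  have hcard0 : (Fintype.card A : ℂ) ≠ 0 := by
    exact_mod_cast Fintype.card_ne_zero
  have hsum_one : ∑ a : A, (((1 : A →* ℂˣ) a : ℂˣ) : ℂ) = (Fintype.card A : ℂ) := by
    simp
  have hθ₁ne : θ₁ ≠ 1 := by
    intro h
    have h2 : θ₂ ≠ 1 := fun h' => hne (h.trans h'.symm)
    rw [h, hsum_one, sum_hom_units θ₂ h2, add_zero] at hsum12
    exact hcard0 hsum12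
  have hθ₂ne : θ₂ ≠ 1 := by
    intro h
    rw [h, hsum_one, sum_hom_units θ₁ hθ₁ne, zero_add] at hsum12
    exact hcard0 hsum12
  -- the generator
  obtain ⟨c₀, hc₀⟩ := IsCyclic.exists_generator (α := A)
  obtain ⟨x, hx⟩ : ∃ x : ℂˣ, x = θ₁ c₀ := ⟨_, rfl⟩
  obtain ⟨y, hy⟩ : ∃ y : ℂˣ, y = θ₂ c₀ := ⟨_, rfl⟩
  have hx1 : x ≠ 1 := by
    intro h
    apply hθ₁ne
    apply hom_eq_of_generator hc₀
    rw [← hx, h, MonoidHom.one_apply]
  have hy1 : y ≠ 1 := by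
    intro h
    apply hθ₂ne
    apply hom_eq_of_generator hc₀
    rw [← hy, h, MonoidHom.one_apply]
  have hr1 := hreal' c₀
  rw [← hx, ← hy] at hr1
  have hr2 := hreal' (c₀ ^ 2)
  rw [map_pow, map_pow, ← hx, ← hy] at hr2
  have hx0 : (x : ℂ) ≠ 0 := x.ne_zero
  have hy0 : (y : ℂ) ≠ 0 := y.ne_zero
  have hprod : ((x : ℂ) + (y : ℂ)) * (1 - (x : ℂ) * (y : ℂ)) = 0 := by
    rw [Units.val_inv_eq_inv_val, Units.val_inv_eq_inv_val] at hr1
    field_simp at hr1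
    linear_combination hr1
  have hxy : (x : ℂ) * (y : ℂ) = 1 := by
    rcases mul_eq_zero.mp hprod with h | h
    · -- x = -y
      have hyx : (y : ℂ) = -(x : ℂ) := by linear_combination h
      rw [Units.val_inv_eq_inv_val, Units.val_inv_eq_inv_val, Units.val_pow_eq_pow_val,
        Units.val_pow_eq_pow_val, hyx] at hr2
      have hw : (x : ℂ) ^ 2 ≠ 0 := pow_ne_zero 2 hx0
      have hneg : (-(x : ℂ)) ^ 2 = (x : ℂ) ^ 2 := by ring
      rw [hneg] at hr2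
      have h' : ((x : ℂ) ^ 2)⁻¹ = (x : ℂ) ^ 2 := by linear_combination (1 / 2 : ℂ) * hr2
      have hx4 : (x : ℂ) ^ 2 * (x : ℂ) ^ 2 = 1 := by
        nth_rewrite 2 [← h']
        exact mul_inv_cancel₀ hw
      have hfac : ((x : ℂ) ^ 2 - 1) * ((x : ℂ) ^ 2 + 1) = 0 := by linear_combination hx4
      rcases mul_eq_zero.mp hfac with h2 | h2
      · exfalso
        have hfac2 : ((x : ℂ) - 1) * ((x : ℂ) + 1) = 0 := by linear_combination h2
        rcases mul_eq_zero.mp hfac2 with h3 | h3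
        · apply hx1
          apply Units.ext
          rw [Units.val_one]
          linear_combination h3
        · apply hy1
          apply Units.ext
          rw [Units.val_one, hyx]
          linear_combination -h3
      · rw [hyx]
        linear_combination -h2
    · linear_combination -h
  -- θ₂ = θ₁⁻¹
  have hθ₂ : θ₂ = θ₁⁻¹ := by
    apply hom_eq_of_generator hc₀
    rw [MonoidHom.inv_apply, ← hx, ← hy]
    apply Units.ext
    rw [Units.val_inv_eq_inv_val]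
    exact eq_inv_of_mul_eq_one_right hxy
  refine ⟨θ₁, ⟨c₀, ?_⟩, ?_, ?_⟩
  · rw [← hx]
    intro h
    apply hne
    rw [hθ₂]
    apply hom_eq_of_generator hc₀
    rw [MonoidHom.inv_apply, ← hx]
    apply eq_inv_of_mul_eq_one_right
    rw [← h, pow_two]
  · have h1 := hξeq z
    rw [hξz, hθ₂, MonoidHom.inv_apply] at h1
    have hz2 : ((θ₁ z : ℂˣ) : ℂ) * ((θ₁ z : ℂˣ) : ℂ) = 1 := by
      rw [← Units.val_mul, ← map_mul, hzz, map_one, Units.val_one]
    have hinv : (((θ₁ z)⁻¹ : ℂˣ) : ℂ) = ((θ₁ z : ℂˣ) : ℂ) := by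
      rw [Units.val_inv_eq_inv_val]
      exact inv_eq_of_mul_eq_one_right hz2
    rw [hinv] at h1
    linear_combination (-1 / 2 : ℂ) * h1
  · intro a ha1 haz
    have h1 := hξeq a
    rw [hξdef, Pi.sub_apply, Pi.add_apply, hρne a ha1 haz, hθ₂, MonoidHom.inv_apply] at h1
    linear_combination -h1

end cusp

end Cfsg.Agent.Helper41
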