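-- helper41: piece (K4) of helper62's S3716 (#9665): the embedding of type 4 is impossible.
-- `E1 - E2 = 0` forces the signed degrees of `e₂`, `e₃` to agree, and then `Σ d w₂ - Σ d w₃ = 0` makes `f₁` a
-- linear character, so `f₁ = o`, against `Nodup`.
import Mathlib
import Cfsg.Agent.Helper62.D8.Defs

set_option autoImplicit false
set_option linter.unusedSimpArgs false

namespace Cfsg.Agent.Helper41.D8

open Cfsg Cfsg.Agent.Helper62.D8 Finset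

section arith2
variable {ι : Type*} [Fintype ι] [DecidableEq ι]

/-- a sum over `ι` of a function supported on the image of an injective `c : Fin m → ι` -/
theorem sum_eq_sum_fin {R : Type*} [AddCommMonoid R] {m : ℕ} (c : Fin m → ι) (hc : Function.Injective c)
    (g : ι → R) (h0 : ∀ i, (∀ j, i ≠ c j) → g i = 0) : ∑ i, g i = ∑ j, g (c j) := by
  rw [← Finset.sum_image (s := Finset.univ) (g := c) (f := g) (fun a _ b _ h => hc h)]
  symm
  apply Finset.sum_subset (Finset.subset_univ _)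
  intro i _ hi
  apply h0
  intro j hj
  apply hi
  rw [hj]
  exact Finset.mem_image_of_mem c (Finset.mem_univ j)

/-- (K4) type 4 is impossible. -/
theorem shape4_false (o : ι) (d : ι → ℕ) (A B P Q : ι → ℤ) (n : ℕ) (h : Arith o d A B P Q n)
    (w₁ w₂ w₃ w₄ : ι → ℤ)
    (hA : ∀ i, A i = 2 * (w₃ i + w₄ i) - (w₁ i + w₂ i))
    (hB : ∀ i, B i = 2 * (w₁ i + w₂ i) - (w₃ i + w₄ i))
    (hP : ∀ i, P i = w₁ i - w₂ i) (hQ : ∀ i, Q i = w₃ i - w₄ i)
    (hs : Shape4 o w₁ w₂ w₃ w₄) : False := by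
  obtain ⟨e₃, e₂, f₁, k₁, f₃, f₃', k₂, hnd, σ₃, σ₂, τ₁, κ₁, τ₃, τ₃', κ₂, hσ₃, hσ₂, hτ₁, hκ₁, hτ₃, hτ₃', hκ₂,
    hw₁, hw₂, hw₃, hw₄⟩ := hs
  obtain ⟨c, hcdef⟩ : ∃ c : Fin 8 → ι, c = ![o, e₃, e₂, f₁, k₁, f₃, f₃', k₂] := ⟨_, rfl⟩
  have hc : Function.Injective c := by
    rw [hcdef, ← List.nodup_ofFn]
    simpa using hnd
  have c0 : o = c 0 := by rw [hcdef]; rfl
  have c1 : e₃ = c 1 := by rw [hcdef]; rfl
  have c2 : e₂ = c 2 := by rw [hcdef]; rfl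
  have c3 : f₁ = c 3 := by rw [hcdef]; rfl
  have c4 : k₁ = c 4 := by rw [hcdef]; rfl
  have c5 : f₃ = c 5 := by rw [hcdef]; rfl
  have c6 : f₃' = c 6 := by rw [hcdef]; rfl
  have c7 : k₂ = c 7 := by rw [hcdef]; rfl
  rw [c0, c5, c6, c7] at hw₁
  rw [c2, c3, c4, c7] at hw₂
  rw [c0, c1, c4, c7] at hw₃
  rw [c3, c4, c5, c6] at hw₄
  have ind_c : ∀ j k : Fin 8, ind (c k) (c j) = if j = k then 1 else 0 := by
    intro j k
    unfold ind
    simp only [hc.eq_iff]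
  have hz : ∀ i, (∀ j, i ≠ c j) → A i = 0 ∧ B i = 0 ∧ P i = 0 ∧ Q i = 0 := by
    intro i hi
    have h0 : ∀ k, ind (c k) i = 0 := fun k => if_neg (hi k)
    simp [hA, hB, hP, hQ, hw₁, hw₂, hw₃, hw₄, h0]
  -- the values at the eight points
  have vA : ∀ j, A (c j) = ![1, 2 * σ₃, -σ₂, τ₁, 3 * κ₁, τ₃, τ₃', 0] j := by
    intro j
    rw [hA, hw₁, hw₂, hw₃, hw₄]
    simp only [ind_c]
    fin_cases j <;> simp <;> ring
  have vB : ∀ j, B (c j) = ![1, -σ₃, 2 * σ₂, τ₁, 0, τ₃, τ₃', 3 * κ₂] j := by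
    intro j
    rw [hB, hw₁, hw₂, hw₃, hw₄]
    simp only [ind_c]
    fin_cases j <;> simp <;> ring
  have vP : ∀ j, P (c j) = ![1, 0, -σ₂, -τ₁, -κ₁, τ₃, τ₃', 0] j := by
    intro j
    rw [hP, hw₁, hw₂]
    simp only [ind_c]
    fin_cases j <;> simp
  have vQ : ∀ j, Q (c j) = ![1, σ₃, 0, -τ₁, 0, -τ₃, -τ₃', κ₂] j := by
    intro j
    rw [hQ, hw₃, hw₄]
    simp only [ind_c]
    fin_cases j <;> simp
  -- the linear relations
  have SA : ∑ j : Fin 8, (d (c j) : ℤ) * A (c j) = 0 := by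
    rw [← sum_eq_sum_fin c hc (fun i => (d i : ℤ) * A i) (fun i hi => by simp [(hz i hi).1])]
    exact h.dA
  have SB : ∑ j : Fin 8, (d (c j) : ℤ) * B (c j) = 0 := by
    rw [← sum_eq_sum_fin c hc (fun i => (d i : ℤ) * B i) (fun i hi => by simp [(hz i hi).2.1])]
    exact h.dB
  have SP : ∑ j : Fin 8, (d (c j) : ℤ) * P (c j) = 0 := by
    rw [← sum_eq_sum_fin c hc (fun i => (d i : ℤ) * P i) (fun i hi => by simp [(hz i hi).2.2.1])]
    exact h.dP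
  have SQ : ∑ j : Fin 8, (d (c j) : ℤ) * Q (c j) = 0 := by
    rw [← sum_eq_sum_fin c hc (fun i => (d i : ℤ) * Q i) (fun i hi => by simp [(hz i hi).2.2.2])]
    exact h.dQ
  have SE : ∑ j : Fin 8, (((A (c j) : ℚ) ^ 2 * (B (c j) : ℚ)) / (d (c j) : ℚ)
      - ((A (c j) : ℚ) * (B (c j) : ℚ) ^ 2) / (d (c j) : ℚ)) = 0 := by
    rw [← sum_eq_sum_fin c hc (fun i => ((A i : ℚ) ^ 2 * (B i : ℚ)) / (d i : ℚ)
      - ((A i : ℚ) * (B i : ℚ) ^ 2) / (d i : ℚ)) (fun i hi => by simp [(hz i hi).1, (hz i hi).2.1])]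
    rw [Finset.sum_sub_distrib, h.E1, h.E2, sub_self]
  rw [Fin.sum_univ_eight] at SA SB SP SQ SE
  simp only [vA, vB, vP, vQ] at SA SB SP SQ SE
  have p1 := h.dpos (c 1)
  have p2 := h.dpos (c 2)
  have p3 := h.dpos (c 3)
  have hl := h.lin (c 3)
  have hd0 : (d (c 0) : ℤ) = 1 := by
    rw [← c0, h.d_o]
    rfl
  have q1 : (0 : ℚ) < (d (c 1) : ℚ) := by exact_mod_cast p1
  have q2 : (0 : ℚ) < (d (c 2) : ℚ) := by exact_mod_cast p2
  have z5 : ((τ₃ : ℚ) ^ 2 * τ₃ / (d (c 5) : ℚ) - (τ₃ : ℚ) * τ₃ ^ 2 / (d (c 5) : ℚ)) = 0 := by ring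
  have z6 : ((τ₃' : ℚ) ^ 2 * τ₃' / (d (c 6) : ℚ) - (τ₃' : ℚ) * τ₃' ^ 2 / (d (c 6) : ℚ)) = 0 := by ring
  have h30 : c 3 ≠ c 0 := by
    intro h30
    have := hc h30
    exact absurd this (by decide)
  rcases hσ₃ with rfl | rfl <;> rcases hσ₂ with rfl | rfl <;> rcases hτ₁ with rfl | rfl
  all_goals
    simp at SA SB SP SQ SE
    rw [z5, z6, add_zero, add_zero] at SE
    field_simp at SE
  all_goals
    first
    | (exfalso; linarith)
    | (have hD : (d (c 1) : ℚ) = (d (c 2) : ℚ) := by linarith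
       have hD' : (d (c 1) : ℤ) = (d (c 2) : ℤ) := by exact_mod_cast hD
       have p3' : (0 : ℤ) < (d (c 3) : ℤ) := by exact_mod_cast p3
       first
       | (exfalso; linarith)
       | (have h31 : (d (c 3) : ℤ) = 1 := by linarith
          have h31' : d (c 3) = 1 := by exact_mod_cast h31
          exact h30 (by rw [hl h31', c0])))

end arith2

end Cfsg.Agent.Helper41.D8
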