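-- helper41: piece (KD6) of helper62's S3716 (#9665): the Diophantine core of type 6 has no solution.
import Mathlib

set_option autoImplicit false

namespace Cfsg.Agent.Helper41.D8

theorem inv_bounds (a p q : ℚ) (hp : 0 < p) (hq : 0 < q) (h : p ≤ a ∨ a ≤ -q) :
    -q⁻¹ ≤ a⁻¹ ∧ a⁻¹ ≤ p⁻¹ := by
  rcases h with h | h
  · have ha : 0 < a := lt_of_lt_of_le hp h
    refine ⟨?_, ?_⟩
    · have h1 : 0 < a⁻¹ := inv_pos.mpr ha
      have h2 : 0 < q⁻¹ := inv_pos.mpr hq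
      linarith
    · exact inv_anti₀ hp h
  · have ha : 0 < -a := by linarith
    have h1 : (-a)⁻¹ ≤ q⁻¹ := inv_anti₀ hq (by linarith)
    rw [inv_neg] at h1
    refine ⟨by linarith, ?_⟩
    have h2 : 0 < (-a)⁻¹ := inv_pos.mpr ha
    rw [inv_neg] at h2
    have h3 : 0 < p⁻¹ := inv_pos.mpr hp
    linarith

/-- (KD6) the Diophantine core of type 6. `X = -Y - 2K`, `F = -1 - Y - K`. -/
theorem dioph_6 (Y K : ℤ) (n : ℕ) (hY : Y % 9 = 1) (hK : K % 9 = 6)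
    (rY : 10 ≤ Y ∨ Y ≤ -17) (rK : 6 ≤ K ∨ K ≤ -12)
    (rX : 5 ≤ -Y - 2 * K ∨ -Y - 2 * K ≤ -13) (rF : 10 ≤ -1 - Y - K ∨ -1 - Y - K ≤ -17)
    (hn : 10 ≤ n)
    (hE : (1 : ℚ) - 2 / (-Y - 2 * K) + 2 / Y + 1 / (-1 - Y - K) = 9 / n)
    (hS : 1 + 2 * (-Y - 2 * K) ^ 2 + 2 * Y ^ 2 + 2 * K ^ 2 + (-1 - Y - K) ^ 2 ≤ 72 * (n : ℤ)) :
    False := by
  -- rational versions of the ranges
  have rXq : (5 : ℚ) ≤ (-(Y : ℚ) - 2 * K) ∨ (-(Y : ℚ) - 2 * K) ≤ -13 := by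
    rcases rX with h | h
    · left; exact_mod_cast h
    · right; exact_mod_cast h
  have rYq : (10 : ℚ) ≤ (Y : ℚ) ∨ (Y : ℚ) ≤ -17 := by
    rcases rY with h | h
    · left; exact_mod_cast h
    · right; exact_mod_cast h
  have rFq : (10 : ℚ) ≤ (-1 - (Y : ℚ) - K) ∨ (-1 - (Y : ℚ) - K) ≤ -17 := by
    rcases rF with h | h
    · left; exact_mod_cast h
    · right; exact_mod_cast h
  have bX := inv_bounds _ 5 13 (by norm_num) (by norm_num) rXq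
  have bY := inv_bounds _ 10 17 (by norm_num) (by norm_num) rYq
  have bF := inv_bounds _ 10 17 (by norm_num) (by norm_num) rFq
  have hX0 : (-(Y : ℚ) - 2 * K) ≠ 0 := by
    rcases rXq with h | h
    · intro h0; rw [h0] at h; norm_num at h
    · intro h0; rw [h0] at h; norm_num at h
  have hY0 : (Y : ℚ) ≠ 0 := by
    rcases rYq with h | h
    · intro h0; rw [h0] at h; norm_num at h
    · intro h0; rw [h0] at h; norm_num at h
  have hF0 : (-1 - (Y : ℚ) - K) ≠ 0 := by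
    rcases rFq with h | h
    · intro h0; rw [h0] at h; norm_num at h
    · intro h0; rw [h0] at h; norm_num at h
  have hn0 : (n : ℚ) ≠ 0 := by
    have : (10 : ℚ) ≤ n := by exact_mod_cast hn
    intro h0; rw [h0] at this; norm_num at this
  -- `n ≤ 21`
  have hn21 : n ≤ 21 := by
    by_contra hcon
    push Not at hcon
    have h22 : (22 : ℚ) ≤ n := by exact_mod_cast hcon
    have hninv : (n : ℚ)⁻¹ ≤ (22 : ℚ)⁻¹ := inv_anti₀ (by norm_num) h22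
    have hE' : (1 : ℚ) - 2 * (-(Y : ℚ) - 2 * K)⁻¹ + 2 * (Y : ℚ)⁻¹ + (-1 - (Y : ℚ) - K)⁻¹ = 9 * (n : ℚ)⁻¹ := by
      simpa only [div_eq_mul_inv, one_mul] using hE
    obtain ⟨bX1, bX2⟩ := bX
    obtain ⟨bY1, bY2⟩ := bY
    obtain ⟨bF1, bF2⟩ := bF
    norm_num at bX1 bX2 bY1 bY2 bF1 bF2 hninv
    linarith
  -- the integer form of the equation
  have hint : (n : ℤ) * ((-Y - 2 * K) * Y * (-1 - Y - K) - 2 * Y * (-1 - Y - K)
      + 2 * (-Y - 2 * K) * (-1 - Y - K) + (-Y - 2 * K) * Y) = 9 * (-Y - 2 * K) * Y * (-1 - Y - K) := by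
    have hq : (n : ℚ) * ((-(Y : ℚ) - 2 * K) * Y * (-1 - (Y : ℚ) - K) - 2 * Y * (-1 - (Y : ℚ) - K)
        + 2 * (-(Y : ℚ) - 2 * K) * (-1 - (Y : ℚ) - K) + (-(Y : ℚ) - 2 * K) * Y)
        = 9 * (-(Y : ℚ) - 2 * K) * Y * (-1 - (Y : ℚ) - K) := by
      calc (n : ℚ) * ((-(Y : ℚ) - 2 * K) * Y * (-1 - (Y : ℚ) - K) - 2 * Y * (-1 - (Y : ℚ) - K)
            + 2 * (-(Y : ℚ) - 2 * K) * (-1 - (Y : ℚ) - K) + (-(Y : ℚ) - 2 * K) * Y)
          = (n : ℚ) * (-(Y : ℚ) - 2 * K) * Y * (-1 - (Y : ℚ) - K) *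
            ((1 : ℚ) - 2 / (-Y - 2 * K) + 2 / Y + 1 / (-1 - Y - K)) := by
            field_simp
        _ = (n : ℚ) * (-(Y : ℚ) - 2 * K) * Y * (-1 - (Y : ℚ) - K) * (9 / n) := by rw [hE]
        _ = 9 * (-(Y : ℚ) - 2 * K) * Y * (-1 - (Y : ℚ) - K) := by
            field_simp
    exact_mod_cast hq
  -- bounds on `Y`, `K`
  have hnZ : (n : ℤ) ≤ 21 := by exact_mod_cast hn21
  have hnZ' : (10 : ℤ) ≤ n := by exact_mod_cast hn
  have hY1 : Y ≤ 27 := by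
    by_contra hcon
    push Not at hcon
    nlinarith [sq_nonneg (-Y - 2 * K), sq_nonneg K, sq_nonneg (-1 - Y - K)]
  have hY2 : -27 ≤ Y := by
    by_contra hcon
    push Not at hcon
    nlinarith [sq_nonneg (-Y - 2 * K), sq_nonneg K, sq_nonneg (-1 - Y - K)]
  have hK1 : K ≤ 27 := by
    by_contra hcon
    push Not at hcon
    nlinarith [sq_nonneg (-Y - 2 * K), sq_nonneg Y, sq_nonneg (-1 - Y - K)]
  have hK2 : -27 ≤ K := by
    by_contra hcon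
    push Not at hcon
    nlinarith [sq_nonneg (-Y - 2 * K), sq_nonneg Y, sq_nonneg (-1 - Y - K)]
  obtain ⟨a, rfl⟩ : ∃ a, Y = 9 * a + 1 := ⟨Y / 9, by omega⟩
  obtain ⟨b, rfl⟩ : ∃ b, K = 9 * b + 6 := ⟨K / 9, by omega⟩
  have ha1 : -3 ≤ a := by omega
  have ha2 : a ≤ 2 := by omega
  have hb1 : -3 ≤ b := by omega
  have hb2 : b ≤ 2 := by omega
  clear hE rXq rYq rFq bX bY bF hX0 hY0 hF0 hn0 hY hK
  interval_cases a <;> interval_cases b <;> (try norm_num at rX) <;> (try norm_num at rF) <;>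
    (try norm_num at rY) <;> (try norm_num at rK) <;> (try norm_num at hint) <;> (try norm_num at hS) <;> omega

end Cfsg.Agent.Helper41.D8
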