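import Cfsg.Agent.Helper41.PSL2Borel
import Cfsg.Agent.Helper41.PGL2
import Cfsg.Agent.S0805

set_option autoImplicit false

/-!
# Using Dickson's list of subgroups of `PSL₂(q)` as a black box

`DicksonList p H` is the conclusion of Dickson's theorem (statement S0799) for a subgroup `H` of
`PSL₂(F)`.  We show that a subgroup in the list containing a copy of `A₄` (odd characteristic), or
containing non-commuting involutions and of order divisible by `4` (characteristic two), is of
type `A₄`, `S₄`, `A₅` or of subfield type, and compute the possible orders.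
-/

namespace Cfsg.Agent.Helper41

open Matrix

/-- The conclusion of Dickson's theorem for the subgroup `H` of `PSL₂(F)`. -/
def DicksonList {F : Type*} [Field F] [Fintype F] (p : ℕ) [Fact p.Prime]
    (H : Subgroup (Matrix.ProjectiveSpecialLinearGroup (Fin 2) F)) : Prop :=
  (∃ k : ℕ, (k ∣ (Fintype.card F + 1) / Nat.gcd 2 (Fintype.card F - 1) ∨
      k ∣ (Fintype.card F - 1) / Nat.gcd 2 (Fintype.card F - 1)) ∧
      ((IsCyclic H ∧ Nat.card H = k) ∨ Nonempty (H ≃* DihedralGroup k))) ∨
  (∃ (P : Sylow p (Matrix.ProjectiveSpecialLinearGroup (Fin 2) F))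
      (K : Subgroup (Matrix.ProjectiveSpecialLinearGroup (Fin 2) F)),
      K ≤ Subgroup.normalizer ((P : Subgroup (Matrix.ProjectiveSpecialLinearGroup (Fin 2) F)) :
        Set (Matrix.ProjectiveSpecialLinearGroup (Fin 2) F)) ∧ Nonempty (H ≃* K)) ∨
  Nonempty (H ≃* alternatingGroup (Fin 4)) ∨ Nonempty (H ≃* Equiv.Perm (Fin 4)) ∨
  Nonempty (H ≃* alternatingGroup (Fin 5)) ∨
  (∃ (K : Type) (_ : Field K) (_ : Fintype K) (m : ℕ), Fintype.card K ^ m = Fintype.card F ∧
    (Nonempty (H ≃* Matrix.ProjectiveSpecialLinearGroup (Fin 2) K) ∨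
      Nonempty (H ≃* Matrix.ProjGenLinGroup (Fin 2) K)))

/-- The subfield alternative of Dickson's list. -/
def SubfieldType {F : Type*} [Field F] [Fintype F]
    (H : Subgroup (Matrix.ProjectiveSpecialLinearGroup (Fin 2) F)) : Prop :=
  ∃ (K : Type) (_ : Field K) (_ : Fintype K) (m : ℕ), Fintype.card K ^ m = Fintype.card F ∧
    (Nonempty (H ≃* Matrix.ProjectiveSpecialLinearGroup (Fin 2) K) ∨
      Nonempty (H ≃* Matrix.ProjGenLinGroup (Fin 2) K))

section witnesses

/-- Two non-commuting elements of order dividing three. -/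
def HasNoncommThree (H : Type*) [Group H] : Prop :=
  ∃ x y : H, x ^ 3 = 1 ∧ y ^ 3 = 1 ∧ x * y ≠ y * x

/-- Two distinct commuting involutions. -/
def HasKleinPair (H : Type*) [Group H] : Prop :=
  ∃ x y : H, x ≠ 1 ∧ y ≠ 1 ∧ x * x = 1 ∧ y * y = 1 ∧ (x * y) * (x * y) = 1 ∧ x ≠ y

/-- Two non-commuting involutions. -/
def HasNoncommInvol (H : Type*) [Group H] : Prop :=
  ∃ x y : H, x * x = 1 ∧ y * y = 1 ∧ x * y ≠ y * x

variable {H M : Type*} [Group H] [Group M]

theorem HasNoncommThree.map (f : H →* M) (hf : Function.Injective f) (h : HasNoncommThree H) :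
    HasNoncommThree M := by
  obtain ⟨x, y, hx, hy, hxy⟩ := h
  refine ⟨f x, f y, by rw [← map_pow, hx, map_one], by rw [← map_pow, hy, map_one], ?_⟩
  rw [← map_mul, ← map_mul]
  exact fun h => hxy (hf h)

theorem HasKleinPair.map (f : H →* M) (hf : Function.Injective f) (h : HasKleinPair H) :
    HasKleinPair M := by
  obtain ⟨x, y, hx1, hy1, hxx, hyy, hxy, hne⟩ := h
  refine ⟨f x, f y, ?_, ?_, by rw [← map_mul, hxx, map_one], by rw [← map_mul, hyy, map_one],
    by rw [← map_mul, ← map_mul, hxy, map_one], fun h => hne (hf h)⟩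
  · intro h; apply hx1; apply hf; rw [h, map_one]
  · intro h; apply hy1; apply hf; rw [h, map_one]

theorem HasNoncommInvol.map (f : H →* M) (hf : Function.Injective f) (h : HasNoncommInvol H) :
    HasNoncommInvol M := by
  obtain ⟨x, y, hxx, hyy, hxy⟩ := h
  refine ⟨f x, f y, by rw [← map_mul, hxx, map_one], by rw [← map_mul, hyy, map_one], ?_⟩
  rw [← map_mul, ← map_mul]
  exact fun h => hxy (hf h)

theorem hasNoncommThree_A4 : HasNoncommThree (alternatingGroup (Fin 4)) := by
  refine ⟨⟨c[0,1,2], by rw [Equiv.Perm.mem_alternatingGroup]; decide⟩,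
    ⟨c[0,1,3], by rw [Equiv.Perm.mem_alternatingGroup]; decide⟩, by decide, by decide, by decide⟩

theorem hasKleinPair_A4 : HasKleinPair (alternatingGroup (Fin 4)) := by
  refine ⟨⟨c[0,1] * c[2,3], by rw [Equiv.Perm.mem_alternatingGroup]; decide⟩,
    ⟨c[0,2] * c[1,3], by rw [Equiv.Perm.mem_alternatingGroup]; decide⟩,
    by decide, by decide, by decide, by decide, by decide, by decide⟩

theorem hasNoncommThree_A5 : HasNoncommThree (alternatingGroup (Fin 5)) := by
  refine ⟨⟨c[0,1,2], by rw [Equiv.Perm.mem_alternatingGroup]; decide⟩,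
    ⟨c[0,1,3], by rw [Equiv.Perm.mem_alternatingGroup]; decide⟩, by decide, by decide, by decide⟩

theorem hasKleinPair_A5 : HasKleinPair (alternatingGroup (Fin 5)) := by
  refine ⟨⟨c[0,1] * c[2,3], by rw [Equiv.Perm.mem_alternatingGroup]; decide⟩,
    ⟨c[0,2] * c[1,3], by rw [Equiv.Perm.mem_alternatingGroup]; decide⟩,
    by decide, by decide, by decide, by decide, by decide, by decide⟩

/-- In a cyclic group elements commute. -/
theorem comm_of_isCyclic [IsCyclic M] (x y : M) : x * y = y * x := by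
  obtain ⟨g, hg⟩ := IsCyclic.exists_generator (α := M)
  obtain ⟨i, rfl⟩ := Subgroup.mem_zpowers_iff.mp (hg x)
  obtain ⟨j, rfl⟩ := Subgroup.mem_zpowers_iff.mp (hg y)
  rw [← _root_.zpow_add, ← _root_.zpow_add, add_comm]

/-- In a dihedral group the elements of order dividing three commute. -/
theorem comm_of_pow_three_dihedral (k : ℕ) (x y : DihedralGroup k) (hx : x ^ 3 = 1)
    (hy : y ^ 3 = 1) : x * y = y * x := by
  have key : ∀ z : DihedralGroup k, z ^ 3 = 1 → ∃ i, z = DihedralGroup.r i := by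
    intro z hz
    rcases z with i | i
    · exact ⟨i, rfl⟩
    · exfalso
      have : (DihedralGroup.sr i : DihedralGroup k) ^ 3 = DihedralGroup.sr i := by
        simp [pow_succ]
      rw [this, DihedralGroup.one_def] at hz
      cases hz
  obtain ⟨i, rfl⟩ := key x hx
  obtain ⟨j, rfl⟩ := key y hy
  rw [DihedralGroup.r_mul_r, DihedralGroup.r_mul_r, add_comm]

/-- A group with non-commuting elements of order three is neither cyclic nor dihedral. -/
theorem HasNoncommThree.not_cyclic_or_dihedral (h : HasNoncommThree M) (k : ℕ) :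
    ¬ (IsCyclic M ∨ Nonempty (M ≃* DihedralGroup k)) := by
  obtain ⟨x, y, hx, hy, hxy⟩ := h
  rintro (hc | ⟨⟨e⟩⟩)
  · exact hxy (comm_of_isCyclic x y)
  · apply hxy
    apply e.injective
    rw [map_mul, map_mul]
    apply comm_of_pow_three_dihedral
    · rw [← map_pow, hx, map_one]
    · rw [← map_pow, hy, map_one]

end witnesses

section main

variable {F : Type*} [Field F] [Fintype F]

local notation "PSL2F" => Matrix.ProjectiveSpecialLinearGroup (Fin 2) F

/-- Odd characteristic: a subgroup in Dickson's list that has two non-commuting elements of order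
three and a Klein four-subgroup is isomorphic to `A₄`, `S₄`, `A₅` or is of subfield type. -/
theorem DicksonList.of_witnesses (p : ℕ) [Fact p.Prime] [CharP F p] (h2 : (2 : F) ≠ 0)
    (M : Subgroup PSL2F) (hD : DicksonList p M)
    (h3 : HasNoncommThree M) (hV : HasKleinPair M) :
    Nonempty (M ≃* alternatingGroup (Fin 4)) ∨ Nonempty (M ≃* Equiv.Perm (Fin 4)) ∨
      Nonempty (M ≃* alternatingGroup (Fin 5)) ∨ SubfieldType M := by
  rcases hD with ⟨k, -, hk⟩ | ⟨P, K, hK, ⟨e⟩⟩ | h
  · exfalso
    refine h3.not_cyclic_or_dihedral k ?_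
    rcases hk with ⟨hc, -⟩ | hd
    · exact Or.inl hc
    · exact Or.inr hd
  · exfalso
    obtain ⟨x, y, hx1, hy1, hxx, hyy, hxy, hne⟩ := hV.map e.toMonoidHom e.injective
    apply hne
    apply Subtype.ext
    apply eq_of_invol_of_mem_normalizer_sylow p h2 P x.1 y.1 (hK x.2) (hK y.2)
    · exact fun h => hx1 (Subtype.ext h)
    · exact fun h => hy1 (Subtype.ext h)
    · exact congrArg Subtype.val hxx
    · exact congrArg Subtype.val hyy
    · exact congrArg Subtype.val hxy
  · exact h

/-- Odd characteristic: a subgroup in Dickson's list that contains a copy of `A₄` is isomorphic to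
`A₄`, `S₄`, `A₅` or is of subfield type. -/
theorem DicksonList.of_A4 (p : ℕ) [Fact p.Prime] [CharP F p] (h2 : (2 : F) ≠ 0)
    (M : Subgroup PSL2F) (hD : DicksonList p M)
    (f : alternatingGroup (Fin 4) →* M) (hf : Function.Injective f) :
    Nonempty (M ≃* alternatingGroup (Fin 4)) ∨ Nonempty (M ≃* Equiv.Perm (Fin 4)) ∨
      Nonempty (M ≃* alternatingGroup (Fin 5)) ∨ SubfieldType M :=
  DicksonList.of_witnesses p h2 M hD (hasNoncommThree_A4.map f hf) (hasKleinPair_A4.map f hf)

/-- Characteristic two: a subgroup in Dickson's list of order divisible by four with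
non-commuting involutions is isomorphic to `A₄`, `S₄`, `A₅` or is of subfield type. -/
theorem DicksonList.of_char_two (p : ℕ) [Fact p.Prime] [CharP F p] (h2 : (2 : F) = 0)
    (heven : Even (Fintype.card F))
    (M : Subgroup PSL2F) (hD : DicksonList p M) (h4 : 4 ∣ Nat.card M)
    (hM : HasNoncommInvol M) :
    Nonempty (M ≃* alternatingGroup (Fin 4)) ∨ Nonempty (M ≃* Equiv.Perm (Fin 4)) ∨
      Nonempty (M ≃* alternatingGroup (Fin 5)) ∨ SubfieldType M := by
  rcases hD with ⟨k, hkdvd, hk⟩ | ⟨P, K, hK, ⟨e⟩⟩ | h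
  · exfalso
    have hq1 : 1 ≤ Fintype.card F := Fintype.card_pos
    have hgcd : Nat.gcd 2 (Fintype.card F - 1) = 1 := by
      obtain ⟨t, ht⟩ := heven
      have : Fintype.card F - 1 = 2 * (t - 1) + 1 := by omega
      rw [this]
      simp
    rw [hgcd, Nat.div_one, Nat.div_one] at hkdvd
    have hkodd : ¬ 2 ∣ k := by
      intro h2k
      obtain ⟨t, ht⟩ := heven
      rcases hkdvd with h | h
      · have := h2k.trans h; omega
      · have := h2k.trans h; omega
    apply hkodd
    rcases hk with ⟨-, hc⟩ | ⟨⟨e⟩⟩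
    · rw [hc] at h4
      exact (show 2 ∣ 4 by norm_num).trans h4
    · rw [Nat.card_congr e.toEquiv, DihedralGroup.nat_card] at h4
      obtain ⟨t, ht⟩ := h4
      exact ⟨t, by omega⟩
  · exfalso
    obtain ⟨x, y, hxx, hyy, hxy⟩ := hM.map e.toMonoidHom e.injective
    apply hxy
    apply Subtype.ext
    exact comm_of_invol_of_mem_normalizer_sylow p h2 P x.1 y.1 (hK x.2) (hK y.2)
      (congrArg Subtype.val hxx) (congrArg Subtype.val hyy)
  · exact h

end main

section orders

theorem card_alternatingGroup_four : Nat.card (alternatingGroup (Fin 4)) = 12 := by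
  have := two_mul_card_alternatingGroup (α := Fin 4)
  rw [Nat.card_eq_fintype_card]
  rw [Fintype.card_perm, Fintype.card_fin] at this
  have h4 : Nat.factorial 4 = 24 := by decide
  omega

theorem card_perm_four : Nat.card (Equiv.Perm (Fin 4)) = 24 := by
  rw [Nat.card_eq_fintype_card, Fintype.card_perm, Fintype.card_fin]; decide

theorem card_alternatingGroup_five : Nat.card (alternatingGroup (Fin 5)) = 60 := by
  have := two_mul_card_alternatingGroup (α := Fin 5)
  rw [Nat.card_eq_fintype_card]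
  rw [Fintype.card_perm, Fintype.card_fin] at this
  have h4 : Nat.factorial 5 = 120 := by decide
  omega

theorem mul_pred_mul_succ (k : ℕ) (hk : 1 ≤ k) : k * (k - 1) * (k + 1) = k * (k ^ 2 - 1) := by
  obtain ⟨j, rfl⟩ : ∃ j, k = j + 1 := ⟨k - 1, by omega⟩
  have : (j + 1) ^ 2 - 1 = j * (j + 2) := by
    have : (j + 1) ^ 2 = j * (j + 2) + 1 := by ring
    omega
  rw [this]
  simp
  ring

/-- The order of `PSL₂(K)`. -/
theorem gcd_mul_card_PSL2 (K : Type*) [Field K] [Fintype K] :
    Nat.gcd 2 (Fintype.card K - 1) * Nat.card (Matrix.ProjectiveSpecialLinearGroup (Fin 2) K) =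
      Fintype.card K * (Fintype.card K ^ 2 - 1) := by
  have h1 := Cfsg.Agent.Helper5.card_PSL2_mul (F := K)
  have hk : 1 ≤ Fintype.card K := Fintype.card_pos
  rcases Nat.even_or_odd (Fintype.card K) with he | ho
  · have h2 := Cfsg.Agent.Helper5.two_eq_zero_of_even_card he
    rw [Cfsg.Agent.Helper5.card_center_SL2_of_two_eq_zero h2, mul_one] at h1
    have hgcd : Nat.gcd 2 (Fintype.card K - 1) = 1 := by
      obtain ⟨t, ht⟩ := he
      have : Fintype.card K - 1 = 2 * (t - 1) + 1 := by omega
      rw [this]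
      simp
    rw [hgcd, one_mul, h1]
  · have h2 := Cfsg.Agent.Helper5.two_ne_zero_of_odd_card ho
    rw [Cfsg.Agent.Helper5.card_center_SL2_of_two_ne_zero h2] at h1
    have hgcd : Nat.gcd 2 (Fintype.card K - 1) = 2 := by
      obtain ⟨t, ht⟩ := ho
      have : Fintype.card K - 1 = 2 * t := by omega
      rw [this]
      simp
    rw [hgcd, mul_comm, h1]

/-- The order of `PGL₂(K)`. -/
theorem card_PGL2 (K : Type*) [Field K] [Fintype K] :
    Nat.card (Matrix.ProjGenLinGroup (Fin 2) K) = Fintype.card K * (Fintype.card K ^ 2 - 1) := by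
  have h := card_pgl2 (F := K)
  rw [mul_pred_mul_succ _ Fintype.card_pos] at h
  exact h

variable {F : Type*} [Field F] [Fintype F]

local notation "PSL2F" => Matrix.ProjectiveSpecialLinearGroup (Fin 2) F

/-- The possible orders of the subgroups of type `A₄`, `S₄`, `A₅` and of subfield type. -/
theorem card_of_types (M : Subgroup PSL2F)
    (h : Nonempty (M ≃* alternatingGroup (Fin 4)) ∨ Nonempty (M ≃* Equiv.Perm (Fin 4)) ∨
      Nonempty (M ≃* alternatingGroup (Fin 5)) ∨ SubfieldType M) :
    Nat.card M = 12 ∨ Nat.card M = 24 ∨ Nat.card M = 60 ∨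
    ∃ k m : ℕ, IsPrimePow k ∧ 1 ≤ m ∧ k ^ m = Fintype.card F ∧
      (Nat.gcd 2 (k - 1) * Nat.card M = k * (k ^ 2 - 1) ∨
        (Nat.card M = k * (k ^ 2 - 1) ∧ (Odd (Fintype.card F) → Even m))) := by
  rcases h with ⟨⟨e⟩⟩ | ⟨⟨e⟩⟩ | ⟨⟨e⟩⟩ | ⟨K, _, _, m, hm, hiso⟩
  · left; rw [Nat.card_congr e.toEquiv, card_alternatingGroup_four]
  · right; left; rw [Nat.card_congr e.toEquiv, card_perm_four]
  · right; right; left; rw [Nat.card_congr e.toEquiv, card_alternatingGroup_five]
  · right; right; right
    have hm1 : 1 ≤ m := by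
      rcases Nat.eq_zero_or_pos m with h0 | h0
      · exfalso
        rw [h0, pow_zero] at hm
        have := Fintype.one_lt_card (α := F)
        omega
      · exact h0
    refine ⟨Fintype.card K, m, Fintype.isPrimePow_card_of_field, hm1, hm, ?_⟩
    rcases hiso with ⟨⟨e⟩⟩ | ⟨⟨e⟩⟩
    · left
      rw [Nat.card_congr e.toEquiv, gcd_mul_card_PSL2]
    · right
      refine ⟨by rw [Nat.card_congr e.toEquiv, card_PGL2], ?_⟩
      intro hodd
      exact (Cfsg.Agent.S0805.result (F := F) (K := K) rfl hodd m hm1 hm).2.mp ⟨M, ⟨e⟩⟩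

end orders

end Cfsg.Agent.Helper41
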