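import Cfsg.Agent.Helper25.GenChar
import Cfsg.Agent.Helper15.LinChar
import Cfsg.Agent.Helper15.IndChar
import Cfsg.Agent.Helper39.SL2Stable

set_option autoImplicit false
set_option linter.unusedSectionVars false
set_option linter.unusedVariables false

/-!
# A character of an even cyclic group which is "almost induced from the involution"

Let `A` be a cyclic group of order `2m` with involution `z`, and `φ` a real-valued character of `A`
of degree `m - 1` with `φ z = ε (m - 1)`, `⟨φ, φ⟩ = m - 1` and `⟨φ, 1⟩ = (1 + ε) / 2`. Then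
`φ a = -λ a` off `{1, z}`, where `λ` is the character of order two of `A`.
-/

namespace Cfsg.Agent.Helper41

open Cfsg
open scoped ComplexConjugate

section

variable {A : Type*} [Group A] [Fintype A]

/-- A central involution acts on an irreducible character by a sign. -/
theorem irr_central_sign {θ : A → ℂ} (hθ : IsIrrCharacter A θ) (z : A)
    (hz : ∀ a, z * a = a * z) (hzz : z * z = 1) :
    ∃ c : ℂ, (c = 1 ∨ c = -1) ∧ ∀ a, θ (z * a) = c * θ a := by
  obtain ⟨c, -, hc⟩ := Cfsg.Agent.Helper39.irr_central_mul hθ z hz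
  obtain ⟨d, hd, hd1⟩ := Cfsg.Agent.Helper15.irr_degree_pos hθ
  have h1 : θ 1 = c * (c * θ 1) := by
    rw [← hc, ← hc, ← mul_assoc, hzz, one_mul]
  have hθ1 : θ 1 ≠ 0 := by
    rw [hd1]
    exact_mod_cast hd.ne'
  have hcc : c * c = 1 := by
    have : (c * c - 1) * θ 1 = 0 := by linear_combination -h1
    rcases mul_eq_zero.mp this with h | h
    · linear_combination h
    · exact absurd h hθ1
  have : (c - 1) * (c + 1) = 0 := by linear_combination hcc
  refine ⟨c, ?_, hc⟩
  rcases mul_eq_zero.mp this with h | h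
  · left; linear_combination h
  · right; linear_combination h

/-- The function `m (δ_1 + ε δ_z)`. -/
noncomputable def twoPoint [DecidableEq A] (z : A) (ε m : ℂ) : A → ℂ :=
  fun c => (if c = 1 then m else 0) + (if c = z then ε * m else 0)

theorem classInner_twoPoint [DecidableEq A] (z : A) (ε m : ℂ) (h : A → ℂ) :
    classInner (twoPoint z ε m) h =
      (Nat.card A : ℂ)⁻¹ * (m * conj (h 1) + ε * m * conj (h z)) := by
  rw [Cfsg.Agent.Helper15.classInner_apply]
  congr 1
  unfold twoPoint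
  simp only [add_mul, ite_mul, zero_mul, Finset.sum_add_distrib, Finset.sum_ite_eq',
    Finset.mem_univ, if_true]

theorem twoPoint_one [DecidableEq A] {z : A} (hz1 : z ≠ 1) (ε m : ℂ) :
    twoPoint z ε m 1 = m := by
  unfold twoPoint
  rw [if_pos rfl, if_neg (Ne.symm hz1), add_zero]

theorem twoPoint_z [DecidableEq A] {z : A} (hz1 : z ≠ 1) (ε m : ℂ) :
    twoPoint z ε m z = ε * m := by
  unfold twoPoint
  rw [if_neg hz1, if_pos rfl, zero_add]

theorem twoPoint_of_ne [DecidableEq A] (z : A) (ε m : ℂ) {a : A} (h1 : a ≠ 1) (hz : a ≠ z) :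
    twoPoint z ε m a = 0 := by
  unfold twoPoint
  rw [if_neg h1, if_neg hz, add_zero]

theorem isCharacter_twoPoint [DecidableEq A] (hcomm : ∀ a b : A, a * b = b * a) (z : A)
    (hz1 : z ≠ 1) (hzz : z * z = 1) (ε : ℂ) (hε : ε = 1 ∨ ε = -1) (m : ℕ)
    (hcard : Nat.card A = 2 * m) : IsCharacter A (twoPoint z ε m) := by
  apply Cfsg.Agent.Helper15.isCharacter_of_classFunction_of_inner_nat
  · intro g h
    have : h * g * h⁻¹ = g := by rw [hcomm h g, mul_inv_cancel_right]
    rw [this]
  · intro θ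
    obtain ⟨c, hc, hcθ⟩ := irr_central_sign θ.2 z (fun a => hcomm z a) hzz
    obtain ⟨d, -, hd1⟩ := Cfsg.Agent.Helper15.irr_degree_pos θ.2
    have hm0 : (m : ℂ) ≠ 0 := by
      have : 0 < Nat.card A := Nat.card_pos
      have hm : 0 < m := by omega
      exact_mod_cast hm.ne'
    have hθz : (θ : A → ℂ) z = c * d := by
      have := hcθ 1
      rwa [mul_one, hd1] at this
    rw [classInner_twoPoint, hcard, hθz, hd1]
    have hconj : conj (c * (d : ℂ)) = c * d := by
      rcases hc with rfl | rfl <;> simp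
    rw [hconj, Complex.conj_natCast]
    rcases hε with rfl | rfl <;> rcases hc with rfl | rfl
    · refine ⟨d, ?_⟩
      push_cast; field_simp; ring
    · refine ⟨0, ?_⟩
      push_cast; field_simp; ring
    · refine ⟨0, ?_⟩
      push_cast; field_simp; ring
    · refine ⟨d, ?_⟩
      push_cast; field_simp; ring

/-- The main lemma: the values of `φ` off `{1, z}`. -/
theorem half_char_on_cyclic [DecidableEq A] (hcomm : ∀ a b : A, a * b = b * a) [IsCyclic A]
    (m : ℕ) (hcard : Nat.card A = 2 * m) (z : A) (hz1 : z ≠ 1) (hzz : z * z = 1)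
    (ε : ℂ) (hε : ε = 1 ∨ ε = -1) {φ : A → ℂ} (hφ : IsCharacter A φ)
    (hφ1 : φ 1 = (m : ℂ) - 1) (hφz : φ z = ε * ((m : ℂ) - 1))
    (hreal : ∀ a, conj (φ a) = φ a)
    (hnorm : ∑ a, φ a * conj (φ a) = 2 * ((m : ℂ) - 1) ^ 2 + 2 * ((m : ℂ) - 1))
    (hsum : ∑ a, φ a = (1 + ε) * (m : ℂ)) :
    ∀ a : A, a ≠ 1 → a ≠ z → (a ^ m = 1 → φ a = -1) ∧ (a ^ m ≠ 1 → φ a = 1) := by
  have hmpos : 0 < m := by
    have : 0 < Nat.card A := Nat.card_pos
    omega
  have hm0 : (m : ℂ) ≠ 0 := by exact_mod_cast hmpos.ne'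
  have hεε : ε * ε = 1 := by rcases hε with rfl | rfl <;> ring
  have hεc : conj ε = ε := by rcases hε with rfl | rfl <;> simp
  set ρ := twoPoint z ε (m : ℂ) with hρdef
  have hρ : IsCharacter A ρ := isCharacter_twoPoint hcomm z hz1 hzz ε hε m hcard
  have hρ1 : ρ 1 = (m : ℂ) := twoPoint_one hz1 ε m
  have hρz : ρ z = ε * (m : ℂ) := twoPoint_z hz1 ε m
  have hρne : ∀ a : A, a ≠ 1 → a ≠ z → ρ a = 0 := fun a h1 hz => twoPoint_of_ne z ε _ h1 hz
  have hρinner : ∀ h : A → ℂ, classInner ρ h =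
      (Nat.card A : ℂ)⁻¹ * ((m : ℂ) * conj (h 1) + ε * (m : ℂ) * conj (h z)) :=
    fun h => classInner_twoPoint z ε m h
  have hρsum : ∑ a, ρ a = (m : ℂ) + ε * (m : ℂ) := by
    rw [hρdef]
    unfold twoPoint
    simp only [Finset.sum_add_distrib, Finset.sum_ite_eq', Finset.mem_univ, if_true]
  set ξ : A → ℂ := ρ - φ with hξdef
  have hξgc : IsGeneralizedCharacter A ξ :=
    Cfsg.Agent.Helper25.isGenChar_sub (Cfsg.Agent.Helper25.isGenChar_of_isCharacter hρ)
      (Cfsg.Agent.Helper25.isGenChar_of_isCharacter hφ)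
  -- inner products
  have hcardC : (Nat.card A : ℂ) = 2 * (m : ℂ) := by rw [hcard]; push_cast; ring
  have hρρ : classInner ρ ρ = (m : ℂ) := by
    rw [hρinner, hcardC, hρ1, hρz, map_mul, hεc, Complex.conj_natCast]
    have h3 : ε * (m : ℂ) * (ε * (m : ℂ)) = (m : ℂ) * (m : ℂ) := by
      linear_combination (m : ℂ) * (m : ℂ) * hεε
    rw [h3]
    field_simp
    ring
  have hρφ : classInner ρ φ = (m : ℂ) - 1 := by
    rw [hρinner, hcardC, hφ1, hφz, map_mul, hεc, map_sub, Complex.conj_natCast, map_one]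
    have h3 : ε * (m : ℂ) * (ε * ((m : ℂ) - 1)) = (m : ℂ) * ((m : ℂ) - 1) := by
      linear_combination (m : ℂ) * ((m : ℂ) - 1) * hεε
    rw [h3]
    field_simp
    ring
  have hφρ : classInner φ ρ = (m : ℂ) - 1 := by
    rw [← Cfsg.Agent.Helper74.classInner_conj_symm, hρφ, map_sub, Complex.conj_natCast, map_one]
  have hφφ : classInner φ φ = (m : ℂ) - 1 := by
    rw [Cfsg.Agent.Helper15.classInner_apply, hnorm, hcardC]
    field_simp
    ring
  have hξξ : classInner ξ ξ = 1 := by
    rw [hξdef, Cfsg.Agent.Helper74.classInner_sub_left, Cfsg.Agent.Helper74.classInner_sub_right,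
      Cfsg.Agent.Helper74.classInner_sub_right, hρρ, hρφ, hφρ, hφφ]
    ring
  have hξ1 : ξ 1 = 1 := by
    rw [hξdef, Pi.sub_apply, hρ1, hφ1]; ring
  have hξirr : IsIrrCharacter A ξ := by
    rcases Cfsg.Agent.Helper25.signedIrr_of_inner_self_eq_one hξgc hξξ with h | h
    · exact h
    · exfalso
      obtain ⟨d, hd, hd1⟩ := Cfsg.Agent.Helper15.irr_degree_pos h
      rw [Pi.neg_apply, hξ1] at hd1
      have h3 : ((d : ℤ) : ℂ) = ((-1 : ℤ) : ℂ) := by push_cast; exact hd1.symm
      have h4 : (d : ℤ) = -1 := by exact_mod_cast h3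
      omega
  have hξc : IsCharacter A ξ := Cfsg.Agent.Helper74.isCharacter_of_isIrr hξirr
  -- ξ is real of norm one, hence ξ ^ 2 = 1
  have hξreal : ∀ a, conj (ξ a) = ξ a := by
    intro a
    rw [hξdef, Pi.sub_apply, map_sub, hreal]
    congr 1
    by_cases h1 : a = 1
    · rw [h1, hρ1, Complex.conj_natCast]
    · by_cases hz : a = z
      · rw [hz, hρz, map_mul, hεc, Complex.conj_natCast]
      · rw [hρne a h1 hz, map_zero]
  have hξsq : ∀ a, ξ a * ξ a = 1 := by
    intro a
    have hn := Cfsg.Agent.Helper15.linChar_norm hξc hξ1 a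
    have h3 : ξ a * conj (ξ a) = 1 := by
      rw [Complex.mul_conj, Complex.normSq_eq_norm_sq, hn]; simp
    rwa [hξreal] at h3
  have hξpm : ∀ a, ξ a = 1 ∨ ξ a = -1 := by
    intro a
    have : (ξ a - 1) * (ξ a + 1) = 0 := by linear_combination hξsq a
    rcases mul_eq_zero.mp this with h | h
    · left; linear_combination h
    · right; linear_combination h
  -- the sum of ξ vanishes
  have hξsum : ∑ a, ξ a = 0 := by
    rw [hξdef]
    simp only [Pi.sub_apply, Finset.sum_sub_distrib]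
    rw [hsum, hρsum]
    ring
  -- the generator
  obtain ⟨c₀, hc₀⟩ := IsCyclic.exists_generator (α := A)
  have hord : orderOf c₀ = 2 * m := by
    rw [orderOf_eq_card_of_forall_mem_zpowers hc₀, hcard]
  have hξc₀ : ξ c₀ = -1 := by
    rcases hξpm c₀ with h | h
    · exfalso
      have hall : ∀ a, ξ a = 1 := by
        intro a
        obtain ⟨k, hk⟩ := (mem_powers_iff_mem_zpowers).mpr (hc₀ a)
        rw [← hk]
        show ξ (c₀ ^ k) = 1
        rw [Cfsg.Agent.Helper15.linChar_pow hξc hξ1, h, one_pow]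
      rw [Finset.sum_congr rfl (fun a _ => hall a), Finset.sum_const, Finset.card_univ,
        nsmul_eq_mul, mul_one] at hξsum
      have : Fintype.card A ≠ 0 := Fintype.card_ne_zero
      exact this (by exact_mod_cast hξsum)
    · exact h
  intro a ha1 haz
  have hρa : ρ a = 0 := hρne a ha1 haz
  have hφa : φ a = -ξ a := by
    rw [hξdef, Pi.sub_apply, hρa]; ring
  obtain ⟨k, hk⟩ := (mem_powers_iff_mem_zpowers).mpr (hc₀ a)
  have hk' : c₀ ^ k = a := hk
  have hξa : ξ a = (-1) ^ k := by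
    rw [← hk', Cfsg.Agent.Helper15.linChar_pow hξc hξ1, hξc₀]
  have hiff : a ^ m = 1 ↔ Even k := by
    rw [← hk', ← pow_mul, ← orderOf_dvd_iff_pow_eq_one, hord]
    constructor
    · intro h
      have : 2 ∣ k := by
        have h3 : 2 * m ∣ k * m := h
        rw [mul_comm k m, mul_comm 2 m] at h3
        exact (Nat.mul_dvd_mul_iff_left hmpos).mp h3
      exact even_iff_two_dvd.mpr this
    · intro h
      obtain ⟨r, hr⟩ := h
      exact ⟨r, by rw [hr]; ring⟩
  constructor
  · intro h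
    rw [hφa, hξa, (hiff.mp h).neg_one_pow]
  · intro h
    have hodd : Odd k := Nat.not_even_iff_odd.mp (fun he => h (hiff.mpr he))
    rw [hφa, hξa, hodd.neg_one_pow]; ring

end

end Cfsg.Agent.Helper41
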