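import Cfsg.Agent.Helper41.KleinCount

set_option autoImplicit false

/-!
# Normalizers of self-centralizing Klein four-subgroups

Abstract analysis: `V = {1, a, b, ab}` self-centralizing in `G`, with an element `w` permuting
`a → b → ab → a`.  Then `|N_G(V)| ∈ {12, 24}`, `N_G(V)` has no element of order six and no central
involution.
-/

namespace Cfsg.Agent.Helper41

section conjclass

variable {G : Type*} [Group G]

theorem map_conj_mul (V : Subgroup G) (g h : G) :
    V.map (MulAut.conj (g * h)).toMonoidHom =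
      (V.map (MulAut.conj h).toMonoidHom).map (MulAut.conj g).toMonoidHom := by
  rw [Subgroup.map_map]
  congr 1
  ext x
  simp [MulAut.conj_apply, mul_assoc]

theorem map_conj_eq_self_iff (V : Subgroup G) (n : G) :
    V.map (MulAut.conj n).toMonoidHom = V ↔ n ∈ Subgroup.normalizer (V : Set G) :=
  Subgroup.mem_normalizer_iff_map_conj_eq.symm

theorem map_conj_one (V : Subgroup G) : V.map (MulAut.conj (1 : G)).toMonoidHom = V := by
  rw [map_conj_eq_self_iff]
  exact Subgroup.one_mem _

theorem map_conj_inv_map_conj (V : Subgroup G) (g : G) :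
    (V.map (MulAut.conj g).toMonoidHom).map (MulAut.conj g⁻¹).toMonoidHom = V := by
  rw [← map_conj_mul, inv_mul_cancel, map_conj_one]

/-- The number of conjugates of `V` times the order of its normalizer is the group order. -/
theorem card_conjugates_mul_card_normalizer [Fintype G] [DecidableEq (Subgroup G)]
    (V : Subgroup G) :
    (Finset.univ.image (fun g : G => V.map (MulAut.conj g).toMonoidHom)).card *
      Nat.card (Subgroup.normalizer (V : Set G)) = Nat.card G := by
  classical
  have hmaps : ∀ g ∈ (Finset.univ : Finset G), V.map (MulAut.conj g).toMonoidHom ∈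
      Finset.univ.image (fun g : G => V.map (MulAut.conj g).toMonoidHom) :=
    fun g _ => Finset.mem_image_of_mem _ (Finset.mem_univ g)
  have h := Finset.card_eq_sum_card_fiberwise hmaps
  rw [Finset.card_univ, ← Nat.card_eq_fintype_card] at h
  rw [h]
  have hfiber : ∀ W ∈ Finset.univ.image (fun g : G => V.map (MulAut.conj g).toMonoidHom),
      (Finset.univ.filter (fun g : G => V.map (MulAut.conj g).toMonoidHom = W)).card =
        Nat.card (Subgroup.normalizer (V : Set G)) := by
    intro W hW
    obtain ⟨g₀, -, rfl⟩ := Finset.mem_image.mp hW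
    rw [Nat.card_eq_fintype_card, Fintype.card_subtype]
    symm
    apply Finset.card_bij (fun n _ => g₀ * n)
    · intro n hn
      rw [Finset.mem_filter] at hn ⊢
      refine ⟨Finset.mem_univ _, ?_⟩
      rw [map_conj_mul, (map_conj_eq_self_iff V n).mpr hn.2]
    · intro x _ y _ hxy
      exact mul_left_cancel hxy
    · intro g hg
      rw [Finset.mem_filter] at hg
      refine ⟨g₀⁻¹ * g, ?_, by group⟩
      rw [Finset.mem_filter]
      refine ⟨Finset.mem_univ _, ?_⟩
      rw [← map_conj_eq_self_iff, map_conj_mul, hg.2, map_conj_inv_map_conj]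
  rw [Finset.sum_congr rfl hfiber, Finset.sum_const, smul_eq_mul]

end conjclass

section kleinpair

variable {G : Type*} [Group G]

/-- A Klein four-subgroup contains two distinct non-identity elements. -/
theorem exists_pair_of_isKleinFour (V : Subgroup G) (hV : IsKleinFour V) :
    ∃ a b : G, a ∈ V ∧ b ∈ V ∧ a ≠ 1 ∧ b ≠ 1 ∧ a ≠ b := by
  classical
  have hfin : Finite V := Nat.finite_of_card_ne_zero (by rw [hV.card_four]; norm_num)
  let _ : Fintype V := Fintype.ofFinite V
  have h4 : Fintype.card V = 4 := by rw [← Nat.card_eq_fintype_card]; exact hV.card_four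
  have h2 : 2 < Fintype.card V := by rw [h4]; norm_num
  obtain ⟨x, y, z, hxy, hxz, hyz⟩ := Fintype.two_lt_card_iff.mp h2
  have key : ∀ u v : V, u ≠ 1 → v ≠ 1 → u ≠ v →
      ∃ a b : G, a ∈ V ∧ b ∈ V ∧ a ≠ 1 ∧ b ≠ 1 ∧ a ≠ b := by
    intro u v hu hv huv
    refine ⟨u.1, v.1, u.2, v.2, ?_, ?_, ?_⟩
    · intro h; exact hu (Subtype.ext h)
    · intro h; exact hv (Subtype.ext h)
    · intro h; exact huv (Subtype.ext h)
  by_cases hx : x = 1
  · exact key y z (fun h => hxy (hx.trans h.symm)) (fun h => hxz (hx.trans h.symm)) hyz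
  · by_cases hy : y = 1
    · exact key x z hx (fun h => hyz (hy.trans h.symm)) hxz
    · exact key x y hx hy hxy

end kleinpair

section kleindata

variable {G : Type*} [Group G]

/-- A self-centralizing four-group `{1, a, b, ab}` with an element `w` cycling `a → b → ab`. -/
structure KleinData (a b w : G) : Prop where
  a_ne : a ≠ 1
  b_ne : b ≠ 1
  aa : a * a = 1
  bb : b * b = 1
  ne : a ≠ b
  comm : a * b = b * a
  cent : ∀ g : G, g * a = a * g → g * b = b * g → g = 1 ∨ g = a ∨ g = b ∨ g = a * b
  wa : w * a * w⁻¹ = b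
  wb : w * b * w⁻¹ = a * b

namespace KleinData

variable {a b w : G} (h : KleinData a b w)

/-- The four-group of a `KleinData`. -/
def V : Subgroup G := kleinOf a b h.aa h.bb h.comm

theorem mem_V (x : G) : x ∈ h.V ↔ x = 1 ∨ x = a ∨ x = b ∨ x = a * b := Iff.rfl

include h in
theorem ab_ne_one : a * b ≠ 1 := by
  intro h1
  apply h.ne
  calc a = a * (b * b) := by rw [h.bb, mul_one]
    _ = (a * b) * b := by rw [mul_assoc]
    _ = b := by rw [h1, one_mul]

include h in
theorem ab_ne_a : a * b ≠ a := by
  intro h1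
  apply h.b_ne
  calc b = (a * a) * b := by rw [h.aa, one_mul]
    _ = a * (a * b) := by rw [mul_assoc]
    _ = 1 := by rw [h1, h.aa]

include h in
theorem ab_ne_b : a * b ≠ b := by
  intro h1
  apply h.a_ne
  calc a = a * (b * b) := by rw [h.bb, mul_one]
    _ = (a * b) * b := by rw [mul_assoc]
    _ = 1 := by rw [h1, h.bb]

include h in
theorem bab : b * (a * b) = a := by
  rw [← mul_assoc, ← h.comm, mul_assoc, h.bb, mul_one]

include h in
theorem aab : a * (a * b) = b := by
  rw [← mul_assoc, h.aa, one_mul]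

include h in
theorem abb : a * b * b = a := by
  rw [mul_assoc, h.bb, mul_one]

include h in
theorem aba : a * b * a = b := by
  rw [h.comm, mul_assoc, h.aa, mul_one]

theorem card_V [DecidableEq G] : Nat.card h.V = 4 :=
  card_kleinOf h.aa h.bb h.comm h.a_ne h.b_ne h.ne

theorem isKleinFour_V : IsKleinFour h.V := by
  classical
  exact isKleinFour_kleinOf h.aa h.bb h.comm h.a_ne h.b_ne h.ne

include h in
/-- An element fixing `a` and `b` under conjugation lies in `V`. -/
theorem mem_V_of_fix (g : G) (ha : MulAut.conj g a = a) (hb : MulAut.conj g b = b) : g ∈ h.V := by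
  rw [MulAut.conj_apply] at ha hb
  apply h.cent g
  · calc g * a = (g * a * g⁻¹) * g := by group
      _ = a * g := by rw [ha]
  · calc g * b = (g * b * g⁻¹) * g := by group
      _ = b * g := by rw [hb]

include h in
theorem conj_w_a : MulAut.conj w a = b := by rw [MulAut.conj_apply]; exact h.wa

include h in
theorem conj_w_b : MulAut.conj w b = a * b := by rw [MulAut.conj_apply]; exact h.wb

include h in
theorem conj_w_ab : MulAut.conj w (a * b) = a := by
  rw [map_mul, h.conj_w_a, h.conj_w_b, h.bab]

/-- Membership in the normalizer: the images of `a` and `b` lie in `V`. -/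
theorem mem_normalizer_of (g : G) (ha : MulAut.conj g a ∈ h.V) (hb : MulAut.conj g b ∈ h.V) :
    g ∈ Subgroup.normalizer (h.V : Set G) := by
  classical
  have hfin : Finite (h.V : Set G) := by
    have : Nat.card h.V ≠ 0 := by rw [h.card_V]; norm_num
    exact Nat.finite_of_card_ne_zero this
  apply Subgroup.mem_normalizer_fintype
  intro x hx
  have hx' : x ∈ h.V := hx
  rw [h.mem_V] at hx'
  show g * x * g⁻¹ ∈ h.V
  rw [← MulAut.conj_apply]
  rcases hx' with rfl | rfl | rfl | rfl
  · rw [map_one]; exact Subgroup.one_mem _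
  · exact ha
  · exact hb
  · rw [map_mul]; exact Subgroup.mul_mem _ ha hb

theorem w_mem_normalizer : w ∈ Subgroup.normalizer (h.V : Set G) := by
  apply h.mem_normalizer_of
  · rw [h.conj_w_a]; exact Or.inr (Or.inr (Or.inl rfl))
  · rw [h.conj_w_b]; exact Or.inr (Or.inr (Or.inr rfl))

/-- The six possible actions of an element of the normalizer on `(a, b)`. -/
theorem cases_of_mem_normalizer (g : G) (hg : g ∈ Subgroup.normalizer (h.V : Set G)) :
    (MulAut.conj g a = a ∧ MulAut.conj g b = b) ∨
    (MulAut.conj g a = a ∧ MulAut.conj g b = a * b) ∨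
    (MulAut.conj g a = b ∧ MulAut.conj g b = a) ∨
    (MulAut.conj g a = b ∧ MulAut.conj g b = a * b) ∨
    (MulAut.conj g a = a * b ∧ MulAut.conj g b = a) ∨
    (MulAut.conj g a = a * b ∧ MulAut.conj g b = b) := by
  have hinj : Function.Injective (MulAut.conj g) := (MulAut.conj g).injective
  have ha : MulAut.conj g a ∈ h.V := by
    rw [MulAut.conj_apply]
    exact (Subgroup.mem_normalizer_iff.mp hg a).mp (Or.inr (Or.inl rfl))
  have hb : MulAut.conj g b ∈ h.V := by
    rw [MulAut.conj_apply]
    exact (Subgroup.mem_normalizer_iff.mp hg b).mp (Or.inr (Or.inr (Or.inl rfl)))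
  have ha1 : MulAut.conj g a ≠ 1 := by
    intro h1
    apply h.a_ne
    apply hinj
    rw [h1, map_one]
  have hb1 : MulAut.conj g b ≠ 1 := by
    intro h1
    apply h.b_ne
    apply hinj
    rw [h1, map_one]
  have hne : MulAut.conj g a ≠ MulAut.conj g b := fun h1 => h.ne (hinj h1)
  rw [h.mem_V] at ha hb
  rcases ha with ha | ha | ha | ha
  · exact absurd ha ha1
  · rcases hb with hb | hb | hb | hb
    · exact absurd hb hb1
    · exact absurd (ha.trans hb.symm) hne
    · exact Or.inl ⟨ha, hb⟩
    · exact Or.inr (Or.inl ⟨ha, hb⟩)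
  · rcases hb with hb | hb | hb | hb
    · exact absurd hb hb1
    · exact Or.inr (Or.inr (Or.inl ⟨ha, hb⟩))
    · exact absurd (ha.trans hb.symm) hne
    · exact Or.inr (Or.inr (Or.inr (Or.inl ⟨ha, hb⟩)))
  · rcases hb with hb | hb | hb | hb
    · exact absurd hb hb1
    · exact Or.inr (Or.inr (Or.inr (Or.inr (Or.inl ⟨ha, hb⟩))))
    · exact Or.inr (Or.inr (Or.inr (Or.inr (Or.inr ⟨ha, hb⟩))))
    · exact absurd (ha.trans hb.symm) hne


/-- The normalizer of `V` has at most `24` elements. -/
theorem card_normalizer_le [Finite G] : Nat.card (Subgroup.normalizer (h.V : Set G)) ≤ 24 := by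
  classical
  let _ : Fintype G := Fintype.ofFinite G
  rw [Nat.card_eq_fintype_card, Fintype.card_subtype]
  set s := Finset.univ.filter (fun g : G => g ∈ Subgroup.normalizer (h.V : Set G)) with hs
  let f : G → G × G := fun g => (MulAut.conj g a, MulAut.conj g b)
  have himg : s.image f ⊆ {(a, b), (a, a * b), (b, a), (b, a * b), (a * b, a), (a * b, b)} := by
    intro p hp
    obtain ⟨g, hg, rfl⟩ := Finset.mem_image.mp hp
    rw [hs, Finset.mem_filter] at hg
    simp only [Finset.mem_insert, Finset.mem_singleton, f, Prod.mk.injEq]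
    exact h.cases_of_mem_normalizer g hg.2
  have hfib : ∀ p ∈ s.image f, (s.filter (fun x => f x = p)).card ≤ 4 := by
    intro p hp
    obtain ⟨g₀, -, rfl⟩ := Finset.mem_image.mp hp
    have hV4 : (Finset.univ.filter (fun x : G => x ∈ h.V)).card = 4 := by
      rw [← Fintype.card_subtype, ← Nat.card_eq_fintype_card]
      exact h.card_V
    rw [← hV4]
    apply Finset.card_le_card_of_injOn (fun x => g₀⁻¹ * x)
    · intro x hx
      rw [Finset.mem_coe, Finset.mem_filter] at hx
      rw [Finset.mem_coe, Finset.mem_filter]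
      refine ⟨Finset.mem_univ _, ?_⟩
      have h1 := congrArg Prod.fst hx.2
      have h2 := congrArg Prod.snd hx.2
      simp only [f] at h1 h2
      apply h.mem_V_of_fix
      · rw [map_mul, MulAut.mul_apply, h1, ← MulAut.mul_apply, ← map_mul, inv_mul_cancel, map_one,
          MulAut.one_apply]
      · rw [map_mul, MulAut.mul_apply, h2, ← MulAut.mul_apply, ← map_mul, inv_mul_cancel, map_one,
          MulAut.one_apply]
    · intro x _ y _ hxy
      exact mul_left_cancel hxy
  calc s.card ≤ 4 * (s.image f).card := Finset.card_le_mul_card_image s 4 hfib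
    _ ≤ 4 * 6 := by
        apply Nat.mul_le_mul_left
        exact (Finset.card_le_card himg).trans Finset.card_le_six
    _ = 24 := by norm_num

theorem V_le_normalizer : h.V ≤ Subgroup.normalizer (h.V : Set G) := Subgroup.le_normalizer

theorem four_dvd_card_normalizer [Finite G] :
    4 ∣ Nat.card (Subgroup.normalizer (h.V : Set G)) := by
  classical
  rw [← h.card_V]
  exact Subgroup.card_dvd_of_le h.V_le_normalizer

include h in
theorem conj_w_pow_three_mul (m : ℕ) :
    (MulAut.conj w ^ (3 * m)) a = a ∧ (MulAut.conj w ^ (3 * m)) b = b := by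
  induction m with
  | zero => simp
  | succ m ih =>
    have e : 3 * (m + 1) = 3 * m + 1 + 1 + 1 := by ring
    rw [e, pow_succ, pow_succ, pow_succ]
    simp only [MulAut.mul_apply]
    constructor
    · rw [h.conj_w_a, h.conj_w_b, h.conj_w_ab]; exact ih.1
    · rw [h.conj_w_b, h.conj_w_ab, h.conj_w_a]; exact ih.2

include h in
theorem three_dvd_orderOf_w : 3 ∣ orderOf w := by
  have hk : (MulAut.conj w) ^ (orderOf w) = 1 := by
    rw [← map_pow, pow_orderOf_eq_one, map_one]
  have hk' := congrArg (fun φ : MulAut G => φ a) hk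
  simp only [MulAut.one_apply] at hk'
  have hmod := Nat.div_add_mod (orderOf w) 3
  have hlt := Nat.mod_lt (orderOf w) (by norm_num : 3 > 0)
  rw [← hmod, pow_add, MulAut.mul_apply] at hk'
  apply Nat.dvd_of_mod_eq_zero
  by_contra hne
  have h12 : orderOf w % 3 = 1 ∨ orderOf w % 3 = 2 := by omega
  rcases h12 with h1 | h1
  · rw [h1, pow_one, h.conj_w_a] at hk'
    have := (h.conj_w_pow_three_mul (orderOf w / 3)).2
    rw [this] at hk'
    exact h.ne hk'.symm
  · rw [h1, pow_two, MulAut.mul_apply, h.conj_w_a, h.conj_w_b, map_mul] at hk'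
    have h3 := h.conj_w_pow_three_mul (orderOf w / 3)
    rw [h3.1, h3.2] at hk'
    exact h.ab_ne_a hk'

theorem three_dvd_card_normalizer [Finite G] :
    3 ∣ Nat.card (Subgroup.normalizer (h.V : Set G)) := by
  have h1 : orderOf (⟨w, h.w_mem_normalizer⟩ : Subgroup.normalizer (h.V : Set G)) = orderOf w :=
    Subgroup.orderOf_mk w h.w_mem_normalizer
  have h2 := orderOf_dvd_natCard (⟨w, h.w_mem_normalizer⟩ : Subgroup.normalizer (h.V : Set G))
  rw [h1] at h2
  exact h.three_dvd_orderOf_w.trans h2

/-- The normalizer of `V` has order `12` or `24`. -/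
theorem card_normalizer [Finite G] :
    Nat.card (Subgroup.normalizer (h.V : Set G)) = 12 ∨
      Nat.card (Subgroup.normalizer (h.V : Set G)) = 24 := by
  have h4 := h.four_dvd_card_normalizer
  have h3 := h.three_dvd_card_normalizer
  have hle := h.card_normalizer_le
  have hpos : 0 < Nat.card (Subgroup.normalizer (h.V : Set G)) := Nat.card_pos
  have h12 : 12 ∣ Nat.card (Subgroup.normalizer (h.V : Set G)) := by
    have : Nat.Coprime 3 4 := by norm_num
    exact this.mul_dvd_of_dvd_of_dvd h3 h4
  obtain ⟨k, hk⟩ := h12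
  omega


include h in
/-- Elements of `V` commute with `b`. -/
theorem conj_b_of_mem_V (g : G) (hg : g ∈ h.V) : MulAut.conj g b = b := by
  rw [MulAut.conj_apply]
  rw [h.mem_V] at hg
  have ia : a⁻¹ = a := inv_eq_of_mul_eq_one_right h.aa
  have ib : b⁻¹ = b := inv_eq_of_mul_eq_one_right h.bb
  rcases hg with rfl | rfl | rfl | rfl
  · simp
  · rw [ia, h.aba]
  · rw [ib, h.bb, one_mul]
  · rw [h.abb, mul_inv_rev, ia, ib, ← mul_assoc, h.comm, mul_assoc, h.aa, mul_one]

include h in
/-- Elements of `V` commute with `a`. -/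
theorem conj_a_of_mem_V (g : G) (hg : g ∈ h.V) : MulAut.conj g a = a := by
  rw [MulAut.conj_apply]
  rw [h.mem_V] at hg
  have ia : a⁻¹ = a := inv_eq_of_mul_eq_one_right h.aa
  have ib : b⁻¹ = b := inv_eq_of_mul_eq_one_right h.bb
  rcases hg with rfl | rfl | rfl | rfl
  · simp
  · rw [ia, h.aa, one_mul]
  · rw [ib, ← h.comm, h.abb]
  · rw [h.aba, mul_inv_rev, ia, ib, ← mul_assoc, h.bb, one_mul]

include h in
theorem mul_self_of_mem_V (g : G) (hg : g ∈ h.V) : g * g = 1 := by
  rw [h.mem_V] at hg
  rcases hg with rfl | rfl | rfl | rfl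
  · simp
  · exact h.aa
  · exact h.bb
  · rw [mul_assoc, h.bab, h.aa]

/-- If some element fixes `a` and swaps `b` with `ab`, the normalizer has order `24`. -/
theorem card_normalizer_of_swap [Finite G] (n : G) (hna : MulAut.conj n a = a)
    (hnb : MulAut.conj n b = a * b) :
    Nat.card (Subgroup.normalizer (h.V : Set G)) = 24 := by
  classical
  rcases h.card_normalizer with h12 | h24
  · exfalso
    have hn : n ∈ Subgroup.normalizer (h.V : Set G) := by
      apply h.mem_normalizer_of
      · rw [hna]; exact Or.inr (Or.inl rfl)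
      · rw [hnb]; exact Or.inr (Or.inr (Or.inr rfl))
    set N := Subgroup.normalizer (h.V : Set G) with hN
    have hnorm : (h.V.subgroupOf N).Normal := Subgroup.normal_in_normalizer
    have hcardV' : Nat.card (h.V.subgroupOf N) = 4 := by
      rw [Nat.card_congr (Subgroup.subgroupOfEquivOfLe h.V_le_normalizer).toEquiv]
      exact h.card_V
    have hq : Nat.card (N ⧸ h.V.subgroupOf N) = 3 := by
      have := Subgroup.card_eq_card_quotient_mul_card_subgroup (h.V.subgroupOf N)
      rw [hcardV', h12] at this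
      omega
    have h3 : ((⟨n, hn⟩ : N) : N ⧸ h.V.subgroupOf N) ^ 3 = 1 := by
      rw [← hq]
      exact pow_card_eq_one'
    rw [← QuotientGroup.mk_pow, QuotientGroup.eq_one_iff, Subgroup.mem_subgroupOf] at h3
    have hn3 : n ^ 3 ∈ h.V := by simpa using h3
    have hn2 : n ^ 2 ∈ h.V := by
      apply h.mem_V_of_fix
      · rw [map_pow, pow_two, MulAut.mul_apply, hna, hna]
      · rw [map_pow, pow_two, MulAut.mul_apply, hnb, map_mul, hna, hnb, h.aab]
    have hnV : n ∈ h.V := by
      have : n = n ^ 3 * (n ^ 2)⁻¹ := by group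
      rw [this]
      exact Subgroup.mul_mem _ hn3 (Subgroup.inv_mem _ hn2)
    have := h.conj_b_of_mem_V n hnV
    rw [hnb] at this
    exact h.ab_ne_b this
  · exact h24

/-- The normalizer of `V` has no element of order six. -/
theorem orderOf_ne_six (g : G) (hg : g ∈ Subgroup.normalizer (h.V : Set G)) : orderOf g ≠ 6 := by
  intro h6
  have hpow : ∀ k : ℕ, g ^ k = 1 → 6 ∣ k := fun k hk => h6 ▸ orderOf_dvd_of_pow_eq_one hk
  -- "transposition type": `g²` fixes `a` and `b`
  have htrans : MulAut.conj (g ^ 2) a = a → MulAut.conj (g ^ 2) b = b → False := by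
    intro h1 h2
    have hV := h.mem_V_of_fix (g ^ 2) h1 h2
    have := h.mul_self_of_mem_V _ hV
    have h4 : g ^ 4 = 1 := by
      rw [← this]; group
    have := hpow 4 h4
    omega
  -- "three-cycle type": `g³` fixes `a` and `b`, and `g` moves `a`, `b`, `ab`
  have hcyc : MulAut.conj (g ^ 3) a = a → MulAut.conj (g ^ 3) b = b →
      MulAut.conj g a ≠ a → MulAut.conj g b ≠ b → MulAut.conj g (a * b) ≠ a * b → False := by
    intro h1 h2 ma mb mab
    have hV := h.mem_V_of_fix (g ^ 3) h1 h2
    have hfix : MulAut.conj g (g ^ 3) = g ^ 3 := by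
      rw [MulAut.conj_apply]; group
    rw [h.mem_V] at hV
    rcases hV with hV | hV | hV | hV
    · have := hpow 3 hV
      omega
    · rw [hV] at hfix; exact ma hfix
    · rw [hV] at hfix; exact mb hfix
    · rw [hV] at hfix; exact mab hfix
  rcases h.cases_of_mem_normalizer g hg with ⟨ha, hb⟩ | ⟨ha, hb⟩ | ⟨ha, hb⟩ | ⟨ha, hb⟩ |
      ⟨ha, hb⟩ | ⟨ha, hb⟩
  · have hV := h.mem_V_of_fix g ha hb
    have := h.mul_self_of_mem_V _ hV
    have h2 : g ^ 2 = 1 := by rw [pow_two]; exact this
    have := hpow 2 h2
    omega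
  · apply htrans
    · rw [map_pow, pow_two, MulAut.mul_apply, ha, ha]
    · rw [map_pow, pow_two, MulAut.mul_apply, hb, map_mul, ha, hb, h.aab]
  · apply htrans
    · rw [map_pow, pow_two, MulAut.mul_apply, ha, hb]
    · rw [map_pow, pow_two, MulAut.mul_apply, hb, ha]
  · have hab : MulAut.conj g (a * b) = a := by rw [map_mul, ha, hb, h.bab]
    apply hcyc
    · rw [map_pow, pow_succ, pow_two, MulAut.mul_apply, MulAut.mul_apply, ha, hb, hab]
    · rw [map_pow, pow_succ, pow_two, MulAut.mul_apply, MulAut.mul_apply, hb, hab, ha]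
    · rw [ha]; exact fun e => h.ne e.symm
    · rw [hb]; exact h.ab_ne_b
    · rw [hab]; exact fun e => h.ab_ne_a e.symm
  · have hab : MulAut.conj g (a * b) = b := by
      rw [map_mul, ha, hb, h.aba]
    apply hcyc
    · rw [map_pow, pow_succ, pow_two, MulAut.mul_apply, MulAut.mul_apply, ha, hab, hb]
    · rw [map_pow, pow_succ, pow_two, MulAut.mul_apply, MulAut.mul_apply, hb, ha, hab]
    · rw [ha]; exact h.ab_ne_a
    · rw [hb]; exact h.ne
    · rw [hab]; exact fun e => h.ab_ne_b e.symm
  · apply htrans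
    · rw [map_pow, pow_two, MulAut.mul_apply, ha, map_mul, ha, hb, h.abb]
    · rw [map_pow, pow_two, MulAut.mul_apply, hb, hb]

/-- The normalizer of `V` has no central involution. -/
theorem not_mem_center (z : Subgroup.normalizer (h.V : Set G)) (hz : orderOf z = 2) :
    z ∉ Subgroup.center (Subgroup.normalizer (h.V : Set G)) := by
  intro hc
  rw [Subgroup.mem_center_iff] at hc
  have haN : a ∈ Subgroup.normalizer (h.V : Set G) :=
    h.V_le_normalizer (Or.inr (Or.inl rfl))
  have hbN : b ∈ Subgroup.normalizer (h.V : Set G) :=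
    h.V_le_normalizer (Or.inr (Or.inr (Or.inl rfl)))
  have hca := congrArg Subtype.val (hc ⟨a, haN⟩)
  have hcb := congrArg Subtype.val (hc ⟨b, hbN⟩)
  have hcw := congrArg Subtype.val (hc ⟨w, h.w_mem_normalizer⟩)
  simp only [Subgroup.coe_mul] at hca hcb hcw
  have hV := h.cent z.1 hca.symm hcb.symm
  have hfix : MulAut.conj w z.1 = z.1 := by
    rw [MulAut.conj_apply, hcw, mul_assoc, mul_inv_cancel, mul_one]
  rcases hV with hV | hV | hV | hV
  · have : z = 1 := Subtype.ext hV
    rw [this, orderOf_one] at hz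
    omega
  · rw [hV, h.conj_w_a] at hfix; exact h.ne hfix.symm
  · rw [hV, h.conj_w_b] at hfix; exact h.ab_ne_b hfix
  · rw [hV, h.conj_w_ab] at hfix; exact h.ab_ne_a hfix.symm

end KleinData

end kleindata

end Cfsg.Agent.Helper41
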