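-- helper41: piece (MA) of helper80's S2332 (#9431): basic structure of the subgroups `P, Q, Q0, Qs, Z` of a
-- matrix group `D : MatGrp F (m + 2) G`.
import Mathlib
import Cfsg.Agent.Helper80.LS.Defs

set_option autoImplicit false
set_option linter.unusedSectionVars false
set_option linter.unusedVariables false
set_option linter.unusedSimpArgs false

namespace Cfsg.Agent.Helper41.LS

open Matrix Cfsg.Agent.Helper80.LS

variable {F : Type*} [Field F] [Fintype F] [DecidableEq F] {m : ℕ} {G : Type*} [Group G] [Fintype G]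
  (D : MatGrp F (m + 2) G)

theorem Q_le_P : D.Q ≤ D.P := by
  intro g hg
  obtain ⟨r, hr, hg⟩ := hg
  refine ⟨1, ?_⟩
  rw [hg, one_add_vecMulVec_mulVec, dot_e0, hr, zero_smul, add_zero, one_smul]

theorem conj_mem_Q : ∀ p ∈ D.P, ∀ x ∈ D.Q, p * x * p⁻¹ ∈ D.Q := by
  intro p hp x hx
  obtain ⟨c, hc⟩ := hp
  obtain ⟨c', hc'⟩ := D.P.inv_mem ⟨c, hc⟩
  obtain ⟨r, hr, hx⟩ := hx
  refine ⟨c • (r ᵥ* D.φ p⁻¹), ?_, ?_⟩
  · rw [Pi.smul_apply, ← dot_e0 (r ᵥ* D.φ p⁻¹), ← Matrix.dotProduct_mulVec, hc', dotProduct_smul, dot_e0, hr,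
      smul_zero, smul_zero]
  · have h1 : (r ᵥ* D.φ p⁻¹) ᵥ* D.φ p = r := by
      rw [Matrix.vecMul_vecMul, D.φ_inv_mul, Matrix.vecMul_one]
    rw [map_mul, map_mul, hx, mul_one_add_vecMulVec (D.φ p) (e0 F m) r (r ᵥ* D.φ p⁻¹) h1, Matrix.mul_assoc,
      D.φ_mul_inv, Matrix.mul_one, hc, smul_vecMulVec, vecMulVec_smul]

theorem Q_comm : ∀ x ∈ D.Q, ∀ y ∈ D.Q, x * y = y * x := by
  intro x hx y hy
  obtain ⟨r, hr, hx⟩ := hx
  obtain ⟨s, hs, hy⟩ := hy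
  apply D.ext
  rw [map_mul, map_mul, hx, hy, one_add_vecMulVec_mul, one_add_vecMulVec_mul, dot_e0, dot_e0, hr, hs, zero_smul,
    zero_smul, add_zero, add_zero, add_assoc, add_assoc, add_comm (vecMulVec (e0 F m) r)]

theorem Qs_comm : ∀ x ∈ D.Qs, ∀ y ∈ D.Qs, x * y = y * x := by
  intro x hx y hy
  obtain ⟨r, hr, hx⟩ := hx
  obtain ⟨s, hs, hy⟩ := hy
  apply D.ext
  rw [map_mul, map_mul, hx, hy, one_add_vecMulVec_mul, one_add_vecMulVec_mul, eL_dot, eL_dot, hr, hs, zero_smul,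
    zero_smul, add_zero, add_zero, add_assoc, add_assoc, add_comm (vecMulVec r (eL F m))]

theorem t0_mem_Q : D.t0 ∈ D.Q := ⟨e1 F m, e1_zero, D.φ_t0⟩

theorem vecMulVec_e0_zero_one (r : Fin (m + 2) → F) : vecMulVec (e0 F m) r 0 1 = r 1 := by
  rw [vecMulVec_apply]
  simp [e0]

theorem t0_ne_one : D.t0 ≠ 1 := by
  intro h
  have h1 : D.φ D.t0 = 1 := by rw [h, map_one]
  rw [D.φ_t0] at h1
  have h2 : vecMulVec (e0 F m) (e1 F m) = 0 := by
    have := congrArg (fun A => A - 1) h1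
    simpa using this
  have h3 := congrFun (congrFun h2 0) 1
  rw [vecMulVec_e0_zero_one] at h3
  simp [e1] at h3

theorem t0_not_mem_Q0 : D.t0 ∉ D.Q0 := by
  rintro ⟨r, hr0, hr1, h⟩
  rw [D.φ_t0] at h
  have h2 : vecMulVec (e0 F m) (e1 F m) = vecMulVec (e0 F m) r := add_left_cancel h
  have h3 := congrFun (congrFun h2 0) 1
  rw [vecMulVec_e0_zero_one, vecMulVec_e0_zero_one, hr1] at h3
  simp [e1] at h3

theorem Q0_le_Q : D.Q0 ≤ D.Q := by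
  rintro g ⟨r, hr0, hr1, h⟩
  exact ⟨r, hr0, h⟩

theorem Z_le_Q : D.Z ≤ D.Q := by
  rintro g ⟨z, h⟩
  exact ⟨z • eL F m, by rw [Pi.smul_apply, eL_zero, smul_zero], h⟩

theorem Z_le_Qs : D.Z ≤ D.Qs := by
  rintro g ⟨z, h⟩
  refine ⟨z • e0 F m, by rw [Pi.smul_apply, e0_last, smul_zero], ?_⟩
  rw [h, vecMulVec_smul, smul_vecMulVec]

theorem eL_one (hm : 1 ≤ m) : eL F m 1 = 0 := by
  unfold eL
  rw [Pi.single_apply, if_neg]
  intro h
  have := congrArg Fin.val h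
  simp at this
  omega

theorem Z_le_Q0 (hm : 1 ≤ m) : D.Z ≤ D.Q0 := by
  rintro g ⟨z, h⟩
  exact ⟨z • eL F m, by rw [Pi.smul_apply, eL_zero, smul_zero], by rw [Pi.smul_apply, eL_one hm, smul_zero], h⟩

theorem comm_Q_Qs : ∀ x ∈ D.Q, ∀ y ∈ D.Qs, x * y * x⁻¹ * y⁻¹ ∈ D.Z := by
  intro x hx y hy
  obtain ⟨r, hr, hx⟩ := hx
  obtain ⟨c, hc, hy⟩ := hy
  have hz : ((r ⬝ᵥ c) • eL F m) ⬝ᵥ e0 F m = 0 := by
    rw [dot_e0, Pi.smul_apply, eL_zero, smul_zero]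
  have key : x * y = D.tv (e0 F m) ((r ⬝ᵥ c) • eL F m) hz * (y * x) := by
    apply D.ext
    rw [map_mul, map_mul, map_mul, D.φ_tv, hx, hy, one_add_vecMulVec_mul, one_add_vecMulVec_mul, eL_dot, e0_last,
      zero_smul, add_zero, Matrix.add_mul, Matrix.one_mul, Matrix.mul_add, Matrix.mul_add, Matrix.mul_one,
      vecMulVec_mul_vecMulVec, vecMulVec_mul_vecMulVec, smul_dotProduct, smul_dotProduct, eL_dot, eL_dot, hc, e0_last,
      smul_zero, zero_smul, zero_smul]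
    simp only [vecMulVec_zero, add_zero, vecMulVec_smul]
    abel
  have h2 : x * y * x⁻¹ * y⁻¹ = D.tv (e0 F m) ((r ⬝ᵥ c) • eL F m) hz := by
    rw [key]
    group
  rw [h2]
  exact ⟨r ⬝ᵥ c, D.φ_tv _ _ _⟩

end Cfsg.Agent.Helper41.LS
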