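-- helper41: piece (MB) of helper80's S2332 (#9431): the orders of the row group `Q` and the column group `Qs`.
import Mathlib
import Cfsg.Agent.Helper80.LS.Defs

set_option autoImplicit false
set_option linter.unusedSectionVars false
set_option linter.unusedVariables false
set_option linter.unusedSimpArgs false

namespace Cfsg.Agent.Helper41.LS

open Matrix Cfsg.Agent.Helper80.LS

variable {F : Type*} [Field F] [Fintype F] [DecidableEq F] {m : ℕ} {G : Type*} [Group G] [Fintype G]
  (D : MatGrp F (m + 2) G)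

theorem card_fun_F : Nat.card (Fin (m + 1) → F) = Fintype.card F ^ (m + 1) := by
  rw [Nat.card_eq_fintype_card, Fintype.card_fun, Fintype.card_fin]

theorem card_Q : Nat.card D.Q = Fintype.card F ^ (m + 1) := by
  rw [← card_fun_F (F := F) (m := m)]
  apply Nat.card_eq_of_bijective (fun g : D.Q => fun j : Fin (m + 1) => D.φ (g : G) 0 j.succ)
  constructor
  · intro g g' h
    obtain ⟨r, hr, hg⟩ := g.2
    obtain ⟨r', hr', hg'⟩ := g'.2
    apply Subtype.ext
    apply D.ext
    have hrr : r = r' := by
      funext j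
      refine Fin.cases ?_ (fun j' => ?_) j
      · rw [hr, hr']
      · have := congrFun h j'
        simp only [hg, hg', Matrix.add_apply, vecMulVec_apply, Matrix.one_apply_ne (Fin.succ_ne_zero j').symm] at this
        simpa [e0] using this
    rw [hg, hg', hrr]
  · intro s
    have h0 : (Fin.cons 0 s : Fin (m + 2) → F) ⬝ᵥ e0 F m = 0 := by
      rw [dot_e0, Fin.cons_zero]
    refine ⟨⟨D.tv (e0 F m) (Fin.cons 0 s) h0, ⟨Fin.cons 0 s, Fin.cons_zero _ _, D.φ_tv _ _ _⟩⟩, ?_⟩
    funext j
    simp only [D.φ_tv, Matrix.add_apply, vecMulVec_apply, Matrix.one_apply_ne (Fin.succ_ne_zero j).symm,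
      Fin.cons_succ]
    simp [e0]

/-- extend a vector by zero at the last coordinate -/
def snoc0 (s : Fin (m + 1) → F) : Fin (m + 2) → F :=
  fun j => if h : j.val < m + 1 then s ⟨j.val, h⟩ else 0

theorem snoc0_last (s : Fin (m + 1) → F) : snoc0 s (Fin.last (m + 1)) = 0 := by
  unfold snoc0
  rw [dif_neg]
  simp

theorem snoc0_castSucc (s : Fin (m + 1) → F) (j : Fin (m + 1)) : snoc0 s j.castSucc = s j := by
  unfold snoc0
  rw [dif_pos (by simp only [Fin.val_castSucc]; exact j.2)]
  rfl

theorem castSucc_ne_last' (j : Fin (m + 1)) : j.castSucc ≠ Fin.last (m + 1) := by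
  intro h
  have := congrArg Fin.val h
  simp at this
  omega

theorem card_Qs : Nat.card D.Qs = Fintype.card F ^ (m + 1) := by
  rw [← card_fun_F (F := F) (m := m)]
  apply Nat.card_eq_of_bijective
    (fun g : D.Qs => fun j : Fin (m + 1) => D.φ (g : G) j.castSucc (Fin.last (m + 1)))
  constructor
  · intro g g' h
    obtain ⟨c, hc, hg⟩ := g.2
    obtain ⟨c', hc', hg'⟩ := g'.2
    apply Subtype.ext
    apply D.ext
    have hcc : c = c' := by
      funext j
      refine Fin.lastCases ?_ (fun j' => ?_) j
      · rw [hc, hc']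
      · have := congrFun h j'
        simp only [hg, hg', Matrix.add_apply, vecMulVec_apply, Matrix.one_apply_ne (castSucc_ne_last' j')] at this
        simpa [eL] using this
    rw [hg, hg', hcc]
  · intro s
    have h0 : eL F m ⬝ᵥ snoc0 s = 0 := by
      rw [eL_dot, snoc0_last]
    refine ⟨⟨D.tv (snoc0 s) (eL F m) h0, ⟨snoc0 s, snoc0_last s, D.φ_tv _ _ _⟩⟩, ?_⟩
    funext j
    simp only [D.φ_tv, Matrix.add_apply, vecMulVec_apply, Matrix.one_apply_ne (castSucc_ne_last' j),
      snoc0_castSucc]
    simp [eL]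

end Cfsg.Agent.Helper41.LS
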