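import Cfsg.Agent.Helper41.MaxS4
import Cfsg.Agent.S0804

set_option autoImplicit false

/-!
# `A₅` as a maximal subgroup of `PSL₂(p)` and `PSL₂(p²)`, assuming Dickson's list
-/

namespace Cfsg.Agent.Helper41

open Matrix

section

variable {F : Type*} [Field F] [Fintype F]

local notation "PSL2F" => Matrix.ProjectiveSpecialLinearGroup (Fin 2) F

/-- Assuming Dickson's list: `A₅` is a maximal subgroup of `PSL₂(p)` for `p ≡ ±1 (mod 10)` and of
`PSL₂(p²)` for `p ≡ ±3 (mod 10)`. -/
theorem alternating_five_maximal_of_dickson (p : ℕ) [Fact p.Prime] [CharP F p]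
    (h : (Fintype.card F = p ∧ (p % 10 = 1 ∨ p % 10 = 9)) ∨
      (Fintype.card F = p ^ 2 ∧ (p % 10 = 3 ∨ p % 10 = 7)))
    (hD : ∀ H : Subgroup PSL2F, DicksonList p H) :
    ∃ H : Subgroup PSL2F, IsCoatom H ∧ Nonempty (H ≃* alternatingGroup (Fin 5)) := by
  have hp : p.Prime := Fact.out
  have hodd : Odd p := Nat.odd_iff.mpr (by omega)
  have hoddF : Odd (Fintype.card F) := by
    rcases h with ⟨hF, -⟩ | ⟨hF, -⟩
    · rw [hF]; exact hodd
    · rw [hF]; exact hodd.pow
  have h2 : (2 : F) ≠ 0 := Cfsg.Agent.Helper5.two_ne_zero_of_odd_card hoddF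
  have hG := two_mul_card_PSL2 (F := F) hoddF
  have hpos : 1 ≤ p ^ 2 := Nat.one_le_pow _ _ (by omega)
  have hpos4 : 1 ≤ (p ^ 2) ^ 2 := Nat.one_le_pow _ _ (by omega)
  -- existence
  have h5dvd : 5 ∣ Fintype.card F * (Fintype.card F ^ 2 - 1) := by
    rcases h with ⟨hF, h10⟩ | ⟨hF, h10⟩
    · rw [hF]
      have hsq5 : p ^ 2 % 5 = 1 := by
        have h5c : p % 5 = 1 ∨ p % 5 = 4 := by omega
        rw [Nat.pow_mod]
        rcases h5c with h | h <;> rw [h]
      exact Dvd.dvd.mul_left (Nat.dvd_of_mod_eq_zero (by omega)) _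
    · rw [hF]
      have hsq5 : p ^ 2 % 5 = 4 := by
        have h5c : p % 5 = 2 ∨ p % 5 = 3 := by omega
        rw [Nat.pow_mod]
        rcases h5c with h | h <;> rw [h]
      have hsq5' : (p ^ 2) ^ 2 % 5 = 1 := by
        rw [Nat.pow_mod, hsq5]
      exact Dvd.dvd.mul_left (Nat.dvd_of_mod_eq_zero (by omega)) _
  obtain ⟨H₀, ⟨e⟩⟩ := (Cfsg.Agent.S0804.result (F := F) rfl).mpr h5dvd
  have hcard₀ : Nat.card H₀ = 60 := by rw [Nat.card_congr e.toEquiv, card_alternatingGroup_five]
  have hGbig : 120 < Fintype.card F * (Fintype.card F ^ 2 - 1) := by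
    rcases h with ⟨hF, h10⟩ | ⟨hF, h10⟩
    · rw [hF]
      have hp11 : 11 ≤ p := by
        have := hp.two_le
        have h9 : p ≠ 9 := by rintro rfl; norm_num at hp
        rcases h10 with h | h <;> omega
      have h121 : 11 ^ 2 ≤ p ^ 2 := Nat.pow_le_pow_left hp11 2
      have : 11 * 120 ≤ p * (p ^ 2 - 1) := Nat.mul_le_mul hp11 (by omega)
      omega
    · rw [hF]
      have hp3 : 3 ≤ p := by
        rcases h10 with h | h <;> omega
      have h9 : 3 ^ 2 ≤ p ^ 2 := Nat.pow_le_pow_left hp3 2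
      have h81 : 9 ^ 2 ≤ (p ^ 2) ^ 2 := Nat.pow_le_pow_left (by omega) 2
      have : 9 * 80 ≤ p ^ 2 * ((p ^ 2) ^ 2 - 1) := Nat.mul_le_mul (by omega) (by omega)
      omega
  have h3w : HasNoncommThree H₀ := hasNoncommThree_A5.map e.symm.toMonoidHom e.symm.injective
  have hVw : HasKleinPair H₀ := hasKleinPair_A5.map e.symm.toMonoidHom e.symm.injective
  refine ⟨H₀, isCoatom_of_card_overgroup H₀ ?_ ?_, ⟨e⟩⟩
  · intro htop
    have := (Subgroup.card_eq_iff_eq_top H₀).mpr htop
    omega
  · intro M hle hM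
    have h60 : 60 ∣ Nat.card M := hcard₀ ▸ Subgroup.card_dvd_of_le hle
    have hMne : Nat.card M ≠ Nat.card PSL2F := fun h => hM ((Subgroup.card_eq_iff_eq_top M).mp h)
    rcases card_overgroup_of_witnesses p h2 H₀ M hle (hD M) h3w hVw with h' | h' | h' | h'
    · omega
    · omega
    · omega
    · exfalso
      rcases h with ⟨hF, h10⟩ | ⟨hF, h10⟩
      · exact hMne (card_eq_of_prime_field p hF hodd M h')
      · obtain ⟨k, m, -, hm1, hkm, hcases⟩ := h'
        rw [hF] at hkm
        have hkdvd : k ∣ p ^ 2 := by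
          rw [← hkm]
          exact dvd_pow_self k (by omega)
        obtain ⟨i, hi, rfl⟩ := (Nat.dvd_prime_pow hp).mp hkdvd
        have hi' : i = 0 ∨ i = 1 ∨ i = 2 := by omega
        rcases hi' with rfl | rfl | rfl
        · rw [pow_zero, one_pow] at hkm
          have h4 : 2 ^ 2 ≤ p ^ 2 := Nat.pow_le_pow_left hp.two_le 2
          omega
        · -- `k = p`: `5 ∣ p (p² - 1)` is impossible
          rw [pow_one] at hcases
          have hdvd : Nat.card M ∣ p * (p ^ 2 - 1) := by
            rcases hcases with h | ⟨h, -⟩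
            · exact Dvd.intro_left _ h
            · rw [h]
          have h5' : p * (p ^ 2 - 1) % 5 = 0 :=
            Nat.mod_eq_zero_of_dvd (((show 5 ∣ 60 by norm_num).trans h60).trans hdvd)
          have hsq5 : p ^ 2 % 5 = 4 := by
            have h5c : p % 5 = 2 ∨ p % 5 = 3 := by omega
            rw [Nat.pow_mod]
            rcases h5c with h | h <;> rw [h]
          have h3 : (p ^ 2 - 1) % 5 = 3 := by omega
          rw [Nat.mul_mod, h3] at h5'
          have : p % 5 = 2 ∨ p % 5 = 3 := by omega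
          rcases this with h | h <;> rw [h] at h5' <;> omega
        · -- `k = p²`
          apply hMne
          apply card_eq_of_full_field hoddF M
          rw [hF]
          rcases hcases with h | ⟨h, -⟩
          · exact Or.inl h
          · exact Or.inr h

end

end Cfsg.Agent.Helper41
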