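import Cfsg.Agent.Helper41.DicksonMax

set_option autoImplicit false

/-!
# `S₄` and `A₄` as maximal subgroups of `PSL₂(p)`, assuming Dickson's list
-/

namespace Cfsg.Agent.Helper41

open Matrix

section

variable {F : Type*} [Field F] [Fintype F]

local notation "PSL2F" => Matrix.ProjectiveSpecialLinearGroup (Fin 2) F

/-- Arithmetic for the subfield alternative over a prime field. -/
theorem card_eq_of_prime_field (p : ℕ) [Fact p.Prime] (hF : Fintype.card F = p) (hodd : Odd p)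
    (M : Subgroup PSL2F)
    (h : ∃ k m : ℕ, IsPrimePow k ∧ 1 ≤ m ∧ k ^ m = Fintype.card F ∧
      (Nat.gcd 2 (k - 1) * Nat.card M = k * (k ^ 2 - 1) ∨
        (Nat.card M = k * (k ^ 2 - 1) ∧ (Odd (Fintype.card F) → Even m)))) :
    Nat.card M = Nat.card PSL2F := by
  have hp : p.Prime := Fact.out
  obtain ⟨k, m, -, -, hkm, hcases⟩ := h
  obtain ⟨rfl, rfl⟩ := (Nat.Prime.pow_eq_iff hp).mp (hkm.trans hF)
  apply card_eq_of_full_field (hF ▸ hodd) M
  rw [hF]
  rcases hcases with h | ⟨h, -⟩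
  · exact Or.inl h
  · exact Or.inr h

/-- Assuming Dickson's list: for a prime `p ≡ ±1 (mod 8)`, `PSL₂(p)` has a maximal subgroup
isomorphic to `S₄`. -/
theorem perm_four_maximal_of_dickson (p : ℕ) [Fact p.Prime] (hF : Fintype.card F = p)
    (hp8 : p % 8 = 1 ∨ p % 8 = 7) (hD : ∀ H : Subgroup PSL2F, DicksonList p H) :
    ∃ H : Subgroup PSL2F, IsCoatom H ∧ Nonempty (H ≃* Equiv.Perm (Fin 4)) := by
  haveI : CharP F p := charP_of_card_eq_prime hF
  have hp : p.Prime := Fact.out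
  have hodd : Odd p := Nat.odd_iff.mpr (by omega)
  have hoddF : Odd (Fintype.card F) := hF ▸ hodd
  have h2 : (2 : F) ≠ 0 := Cfsg.Agent.Helper5.two_ne_zero_of_odd_card hoddF
  obtain ⟨H₀, ⟨e⟩⟩ := exists_perm_four_subgroup (F := F) (by rw [hF]; exact hp8)
  have hcard₀ : Nat.card H₀ = 24 := by rw [Nat.card_congr e.toEquiv, card_perm_four]
  have hG := two_mul_card_PSL2 (F := F) hoddF
  rw [hF] at hG
  have hp7 : 7 ≤ p := by
    have := hp.two_le
    rcases hp8 with h | h <;> omega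
  have hGbig : 48 < p * (p ^ 2 - 1) := by
    have h49 : 7 ^ 2 ≤ p ^ 2 := Nat.pow_le_pow_left hp7 2
    have : 7 * 48 ≤ p * (p ^ 2 - 1) := Nat.mul_le_mul hp7 (by omega)
    omega
  refine ⟨H₀, isCoatom_of_card_overgroup H₀ ?_ ?_, ⟨e⟩⟩
  · intro htop
    have := (Subgroup.card_eq_iff_eq_top H₀).mpr htop
    omega
  · intro M hle hM
    have h24 : 24 ∣ Nat.card M := hcard₀ ▸ Subgroup.card_dvd_of_le hle
    have hMne : Nat.card M ≠ Nat.card PSL2F := fun h => hM ((Subgroup.card_eq_iff_eq_top M).mp h)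
    let f : alternatingGroup (Fin 4) →* H₀ :=
      e.symm.toMonoidHom.comp (alternatingGroup (Fin 4)).subtype
    have hf : Function.Injective f :=
      e.symm.injective.comp (Subgroup.subtype_injective _)
    rcases card_overgroup_of_A4 p h2 H₀ M hle (hD M) f hf with h | h | h | h
    · omega
    · omega
    · omega
    · exact absurd (card_eq_of_prime_field p hF hodd M h) hMne

/-- Assuming Dickson's list: for a prime `p ≥ 5` with `p ≡ ±3 (mod 8)` and `p ≢ ±1 (mod 10)`,
`PSL₂(p)` has a maximal subgroup isomorphic to `A₄`. -/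
theorem alternating_four_maximal_of_dickson (p : ℕ) [Fact p.Prime] (hF : Fintype.card F = p)
    (h5 : 5 ≤ p) (hp8 : p % 8 = 3 ∨ p % 8 = 5) (h10 : p % 10 ≠ 1 ∧ p % 10 ≠ 9)
    (hD : ∀ H : Subgroup PSL2F, DicksonList p H) :
    ∃ H : Subgroup PSL2F, IsCoatom H ∧ Nonempty (H ≃* alternatingGroup (Fin 4)) := by
  haveI : CharP F p := charP_of_card_eq_prime hF
  have hp : p.Prime := Fact.out
  have hodd : Odd p := Nat.odd_iff.mpr (by omega)
  have hoddF : Odd (Fintype.card F) := hF ▸ hodd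
  have h2 : (2 : F) ≠ 0 := Cfsg.Agent.Helper5.two_ne_zero_of_odd_card hoddF
  obtain ⟨H₀, ⟨e⟩⟩ := exists_alternating_four_subgroup (F := F) hoddF
  have hcard₀ : Nat.card H₀ = 12 := by rw [Nat.card_congr e.toEquiv, card_alternatingGroup_four]
  have hG := two_mul_card_PSL2 (F := F) hoddF
  rw [hF] at hG
  have hGbig : 24 < p * (p ^ 2 - 1) := by
    have h25 : 5 ^ 2 ≤ p ^ 2 := Nat.pow_le_pow_left h5 2
    have : 5 * 24 ≤ p * (p ^ 2 - 1) := Nat.mul_le_mul h5 (by omega)
    omega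
  -- `p ^ 2 ≡ 9 (mod 16)`
  have hsq16 : p ^ 2 % 16 = 9 := by
    have h16 : p % 16 = 3 ∨ p % 16 = 5 ∨ p % 16 = 11 ∨ p % 16 = 13 := by omega
    rw [Nat.pow_mod]
    rcases h16 with h | h | h | h <;> rw [h]
  refine ⟨H₀, isCoatom_of_card_overgroup H₀ ?_ ?_, ⟨e⟩⟩
  · intro htop
    have := (Subgroup.card_eq_iff_eq_top H₀).mpr htop
    omega
  · intro M hle hM
    have h12 : 12 ∣ Nat.card M := hcard₀ ▸ Subgroup.card_dvd_of_le hle
    have hMG : Nat.card M ∣ Nat.card PSL2F := Subgroup.card_subgroup_dvd_card M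
    have hMne : Nat.card M ≠ Nat.card PSL2F := fun h => hM ((Subgroup.card_eq_iff_eq_top M).mp h)
    rcases card_overgroup_of_A4 p h2 H₀ M hle (hD M) e.symm.toMonoidHom e.symm.injective
      with h | h | h | h
    · omega
    · -- `24 ∣ |G|` forces `16 ∣ p (p² - 1)`
      exfalso
      rw [h] at hMG
      obtain ⟨t, ht⟩ := hMG
      have h16 : p * (p ^ 2 - 1) % 16 = 0 := by omega
      have hpos : 1 ≤ p ^ 2 := Nat.one_le_pow _ _ (by omega)
      have h8 : (p ^ 2 - 1) % 16 = 8 := by omega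
      rw [Nat.mul_mod, h8] at h16
      have : p % 16 = 3 ∨ p % 16 = 5 ∨ p % 16 = 11 ∨ p % 16 = 13 := by omega
      rcases this with h | h | h | h <;> rw [h] at h16 <;> omega
    · -- `60 ∣ |G|` forces `5 ∣ p (p² - 1)`
      exfalso
      rw [h] at hMG hMne
      obtain ⟨t, ht⟩ := hMG
      have h5' : p * (p ^ 2 - 1) % 5 = 0 := by omega
      have hpos : 1 ≤ p ^ 2 := Nat.one_le_pow _ _ (by omega)
      by_cases hp5 : p = 5
      · subst hp5
        norm_num at hG
        omega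
      · have hp5' : p % 5 ≠ 0 := by
          intro h0
          have : 5 ∣ p := Nat.dvd_of_mod_eq_zero h0
          rcases (Nat.dvd_prime hp).mp this with h | h <;> omega
        have hsq5 : p ^ 2 % 5 = 4 := by
          have h5c : p % 5 = 2 ∨ p % 5 = 3 := by omega
          rw [Nat.pow_mod]
          rcases h5c with h | h <;> rw [h]
        have h3 : (p ^ 2 - 1) % 5 = 3 := by omega
        rw [Nat.mul_mod, h3] at h5'
        have : p % 5 = 2 ∨ p % 5 = 3 := by omega
        rcases this with h | h <;> rw [h] at h5' <;> omega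
    · exact absurd (card_eq_of_prime_field p hF hodd M h) hMne

end

end Cfsg.Agent.Helper41
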