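import Mathlib
import Cfsg.Prelude.Def_Characters
import Cfsg.Prelude.Def_Blocks
import Cfsg.Agent.Helper74.DegP
import Cfsg.Agent.Helper79.CharComplete

/-!
# (DEG) for S1022 (helper17): the possible degrees `≡ ±1 (mod 19)` of a group of order 459648
-/

set_option autoImplicit false
set_option linter.style.haveILetI false

namespace Cfsg.Agent.Helper41.O459

open Cfsg Subgroup

universe u

variable {G : Type u} [Group G] [Finite G]

/-- the divisors `≤ 677` of `24192` which are `≡ ±1 (mod 19)` -/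
theorem degree_arith : ∀ n ∈ Nat.divisors 24192, n ≤ 677 →
    (n % 19 = 1 → n = 1 ∨ n = 96) ∧ (n % 19 = 18 → n = 18 ∨ n = 56 ∨ n = 189) := by
  decide +kernel

/-- (DEG) -/
theorem degree_cases (hG : Nat.card G = 459648) (χ : IrrCharacter G) (s : ℤ)
    (hs : s = 1 ∨ s = -1) (hmod : (charDegree (χ : G → ℂ) : ℤ) ≡ s [ZMOD 19]) :
    (charDegree (χ : G → ℂ) = 1 ∧ s = 1) ∨ (charDegree (χ : G → ℂ) = 18 ∧ s = -1) ∨
    (charDegree (χ : G → ℂ) = 56 ∧ s = -1) ∨ (charDegree (χ : G → ℂ) = 96 ∧ s = 1) ∨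
    (charDegree (χ : G → ℂ) = 189 ∧ s = -1) := by
  classical
  haveI : Fintype G := Fintype.ofFinite G
  haveI : Finite (IrrCharacter G) := Cfsg.Agent.Helper79.irr_finite'
  haveI : Fintype (IrrCharacter G) := Fintype.ofFinite _
  set n := charDegree (χ : G → ℂ) with hn
  have hdvd : n ∣ 459648 := by
    rw [← hG]
    exact Cfsg.Agent.Helper74.charDegree_dvd_card χ
  have hsq : n ^ 2 ≤ 459648 := by
    rw [← hG, ← Cfsg.Agent.Helper79.sum_charDegree_sq (G := G)]
    exact Finset.single_le_sum (f := fun χ : IrrCharacter G => charDegree (χ : G → ℂ) ^ 2)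
      (fun _ _ => Nat.zero_le _) (Finset.mem_univ χ)
  have hle : n ≤ 677 := by
    by_contra hcon
    have : 678 ≤ n := by omega
    have : 678 ^ 2 ≤ n ^ 2 := Nat.pow_le_pow_left this 2
    omega
  have hmod' : (n : ℤ) % 19 = s % 19 := hmod
  have h19 : ¬ 19 ∣ n := by
    intro h
    have : (n : ℤ) % 19 = 0 := by omega
    rcases hs with h1 | h1 <;> rw [h1] at hmod' <;> omega
  have hdvd' : n ∣ 24192 := by
    have hcop : Nat.Coprime n 19 :=
      ((Nat.Prime.coprime_iff_not_dvd (by norm_num : Nat.Prime 19)).mpr h19).symm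
    have : n ∣ 19 * 24192 := by norm_num; exact hdvd
    exact hcop.dvd_of_dvd_mul_left this
  have hmem : n ∈ Nat.divisors 24192 := Nat.mem_divisors.mpr ⟨hdvd', by norm_num⟩
  obtain ⟨h1, h18⟩ := degree_arith n hmem hle
  rcases hs with hs1 | hs1
  · have : n % 19 = 1 := by rw [hs1] at hmod'; omega
    rcases h1 this with h | h
    · exact Or.inl ⟨h, hs1⟩
    · exact Or.inr (Or.inr (Or.inr (Or.inl ⟨h, hs1⟩)))
  · have : n % 19 = 18 := by rw [hs1] at hmod'; omega
    rcases h18 this with h | h | h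
    · exact Or.inr (Or.inl ⟨h, hs1⟩)
    · exact Or.inr (Or.inr (Or.inl ⟨h, hs1⟩))
    · exact Or.inr (Or.inr (Or.inr (Or.inr ⟨h, hs1⟩)))

end Cfsg.Agent.Helper41.O459
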