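import Mathlib
import Cfsg.Agent.Helper99.O9.Defs

set_option autoImplicit false
set_option linter.unusedSectionVars false
set_option linter.unusedVariables false

/-!
helper41, auxiliary lemmas for the pieces (EVEN), (AFFCONV) of helper99's farm #13715 (S2517): block form of the sum of
two pairs, powers and geometric sums of block diagonal matrices, unipotent matrices in characteristic `p`.
-/

namespace Cfsg.Agent.Helper41.O9

open Matrix QuadraticMap Cfsg.Agent.Helper44 Cfsg.Agent.Helper44.QType Cfsg.Agent.Helper99.O9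

universe u

variable {F : Type u} [Field F] [Fintype F]

/-- the matrix of the sum of two pairs -/
theorem sum_M (P₁ P₂ : OPair F) : (P₁.sum P₂).M = Matrix.fromBlocks P₁.M 0 0 P₂.M := rfl

/-- powers of block diagonal matrices -/
theorem fromBlocks_diag_pow {ι₁ ι₂ : Type} [Fintype ι₁] [DecidableEq ι₁] [Fintype ι₂] [DecidableEq ι₂]
    (A : Matrix ι₁ ι₁ F) (D : Matrix ι₂ ι₂ F) (k : ℕ) :
    (Matrix.fromBlocks A 0 0 D) ^ k = Matrix.fromBlocks (A ^ k) 0 0 (D ^ k) := by
  induction k with
  | zero => rw [pow_zero, pow_zero, pow_zero, Matrix.fromBlocks_one]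
  | succ k ih =>
    rw [pow_succ, ih, Matrix.fromBlocks_multiply, pow_succ, pow_succ]
    simp

/-- geometric sums of block diagonal matrices -/
theorem fromBlocks_diag_geom {ι₁ ι₂ : Type} [Fintype ι₁] [DecidableEq ι₁] [Fintype ι₂] [DecidableEq ι₂]
    (A : Matrix ι₁ ι₁ F) (D : Matrix ι₂ ι₂ F) (N : ℕ) :
    ∑ i ∈ Finset.range N, (Matrix.fromBlocks A 0 0 D) ^ i =
      Matrix.fromBlocks (∑ i ∈ Finset.range N, A ^ i) 0 0 (∑ i ∈ Finset.range N, D ^ i) := by
  induction N with
  | zero => simp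
  | succ N ih =>
    rw [Finset.sum_range_succ, Finset.sum_range_succ, Finset.sum_range_succ, ih, fromBlocks_diag_pow,
      Matrix.fromBlocks_add]
    simp

/-- the matrix of a power of the isometry -/
theorem M_pow_ord (P : OPair F) : P.M ^ P.ord = 1 := by
  have h : P.g ^ P.ord = 1 := pow_orderOf_eq_one P.g
  have h2 := congrArg (fun z : ↥(Cfsg.isometryGroup F ⇑P.Q) => ((z : GL P.ι F) : Matrix P.ι P.ι F)) h
  rw [OPair.M_def]
  simpa using h2

/-- a power of the isometry is trivial iff the power of its matrix is -/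
theorem g_pow_eq_one_of_M (P : OPair F) (k : ℕ) (h : P.M ^ k = 1) : P.g ^ k = 1 := by
  rw [OPair.M_def] at h
  apply Subtype.ext
  apply Units.ext
  simpa using h

/-- the two components of the sum have trivial `N`-th power, `N` the order of the sum -/
theorem M_pow_sum_ord (P₁ P₂ : OPair F) :
    P₁.M ^ (P₁.sum P₂).ord = 1 ∧ P₂.M ^ (P₁.sum P₂).ord = 1 := by
  have h : (Matrix.fromBlocks P₁.M 0 0 P₂.M : Matrix (P₁.ι ⊕ P₂.ι) (P₁.ι ⊕ P₂.ι) F) ^ (P₁.sum P₂).ord = 1 :=
    M_pow_ord (P₁.sum P₂)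
  rw [fromBlocks_diag_pow, ← Matrix.fromBlocks_one, Matrix.fromBlocks_inj] at h
  exact ⟨h.1, h.2.2.2⟩

section charp

variable {ι : Type} [Fintype ι] [DecidableEq ι]

/-- `(A - 1)^(p^j) = A^(p^j) - 1` in characteristic `p`, for a matrix `A` -/
theorem sub_one_pow_char_pow (A : Matrix ι ι F) (j : ℕ) :
    (A - 1) ^ (ringChar F ^ j) = A ^ (ringChar F ^ j) - 1 := by
  have : CharP F (ringChar F) := ringChar.charP F
  have : Fact (ringChar F).Prime := ⟨CharP.char_is_prime F (ringChar F)⟩
  have h : ((Polynomial.X : Polynomial F) - 1) ^ (ringChar F ^ j) = Polynomial.X ^ (ringChar F ^ j) - 1 := by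
    rw [sub_pow_char_pow, one_pow]
  have h2 := congrArg (Polynomial.aeval A) h
  simpa using h2

/-- a unipotent matrix has `p`-power order -/
theorem pow_char_pow_eq_one_of_unip (A : Matrix ι ι F) (d j : ℕ) (h : (A - 1) ^ d = 0)
    (hj : d ≤ ringChar F ^ j) : A ^ (ringChar F ^ j) = 1 := by
  have h1 : (A - 1) ^ (ringChar F ^ j) = 0 := by
    obtain ⟨c, hc⟩ := Nat.exists_eq_add_of_le hj
    rw [hc, pow_add, h, zero_mul]
  rw [sub_one_pow_char_pow] at h1
  exact sub_eq_zero.mp h1

theorem le_char_pow (d : ℕ) : d ≤ ringChar F ^ d := by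
  have : CharP F (ringChar F) := ringChar.charP F
  have hp : (ringChar F).Prime := CharP.char_is_prime F (ringChar F)
  exact (Nat.lt_pow_self hp.one_lt).le

/-- a unipotent matrix has determinant `1` -/
theorem det_eq_one_of_unip (A : Matrix ι ι F) (d : ℕ) (h : (A - 1) ^ d = 0) : A.det = 1 := by
  have : CharP F (ringChar F) := ringChar.charP F
  have : Fact (ringChar F).Prime := ⟨CharP.char_is_prime F (ringChar F)⟩
  have h1 := pow_char_pow_eq_one_of_unip A d d h (le_char_pow d)
  have h2 := congrArg Matrix.det h1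
  rw [Matrix.det_pow, Matrix.det_one] at h2
  have h3 : (A.det - 1) ^ (ringChar F ^ d) = 0 := by
    rw [sub_pow_char_pow, one_pow, h2, sub_self]
  exact sub_eq_zero.mp (pow_eq_zero_iff (pow_ne_zero _ (NeZero.ne _)) |>.mp h3)

end charp

end Cfsg.Agent.Helper41.O9
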