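import Mathlib
import Cfsg.Agent.Helper99.O9.Defs
import Cfsg.Agent.Helper41.O9Aux

set_option autoImplicit false
set_option linter.unusedSectionVars false
set_option linter.unusedVariables false

/-!
helper41, piece (AFFCONV) of helper99's farm #13715 (S2517): if the norm matrix of `diag(u, g₂)` (`u` unipotent, `g₂ - 1`
invertible) is not zero, then the nilpotency index of `u - 1` is a power `p^e` of the characteristic and `p^(e+1)` does
not divide the order of `g₂`.
-/

namespace Cfsg.Agent.Helper41.O9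

open Matrix QuadraticMap Cfsg.Agent.Helper44 Cfsg.Agent.Helper44.QType Cfsg.Agent.Helper99.O9

universe u

variable {F : Type u} [Field F] [Fintype F]

/-- the polynomial identity `Σ_{i<qm} X^i = (X-1)^(q-1) (Σ_{j<m} X^j)^q`, `q = p^a`, in characteristic `p` -/
theorem geom_poly_identity (a m : ℕ) :
    ∑ i ∈ Finset.range (ringChar F ^ a * m), (Polynomial.X : Polynomial F) ^ i =
      (Polynomial.X - 1) ^ (ringChar F ^ a - 1) * (∑ j ∈ Finset.range m, (Polynomial.X : Polynomial F) ^ j) ^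
        (ringChar F ^ a) := by
  have : CharP F (ringChar F) := ringChar.charP F
  have : Fact (ringChar F).Prime := ⟨CharP.char_is_prime F (ringChar F)⟩
  have hq : 1 ≤ ringChar F ^ a := Nat.one_le_pow _ _ (Fact.out : (ringChar F).Prime).pos
  have hX : ((Polynomial.X : Polynomial F) - 1) ≠ 0 := Polynomial.X_sub_C_ne_zero (1 : F)
  apply mul_right_cancel₀ hX
  rw [geom_sum_mul]
  have e1 : ((Polynomial.X : Polynomial F) - 1) ^ (ringChar F ^ a - 1) *
      (∑ j ∈ Finset.range m, (Polynomial.X : Polynomial F) ^ j) ^ (ringChar F ^ a) * (Polynomial.X - 1) =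
      ((∑ j ∈ Finset.range m, (Polynomial.X : Polynomial F) ^ j) * (Polynomial.X - 1)) ^ (ringChar F ^ a) := by
    rw [mul_pow]
    have e2 : ((Polynomial.X : Polynomial F) - 1) ^ (ringChar F ^ a) =
        (Polynomial.X - 1) ^ (ringChar F ^ a - 1) * (Polynomial.X - 1) := by
      rw [← pow_succ, Nat.sub_add_cancel hq]
    rw [e2]
    ring
  rw [e1, geom_sum_mul, sub_pow_char_pow, one_pow, ← pow_mul, mul_comm m]

/-- the same identity for a matrix -/
theorem geom_matrix_identity {ι : Type} [Fintype ι] [DecidableEq ι] (A : Matrix ι ι F) (a m : ℕ) :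
    ∑ i ∈ Finset.range (ringChar F ^ a * m), A ^ i =
      (A - 1) ^ (ringChar F ^ a - 1) * (∑ j ∈ Finset.range m, A ^ j) ^ (ringChar F ^ a) := by
  have h := congrArg (Polynomial.aeval A) (geom_poly_identity (F := F) a m)
  simpa using h

/-- (AFFCONV) the converse: `Σ_{i<N} g₂^i = 0` if `g₂ - 1` is invertible and `g₂^N = 1` -/
theorem aff_conv {P₁ P₂ : OPair F} (hu : P₁.Unip) (hf : P₂.Fpf) (h : (P₁.sum P₂).Aff) :
    ∃ e, P₁.Nil (ringChar F ^ e) ∧ ¬ ringChar F ^ (e + 1) ∣ P₂.ord := by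
  have : CharP F (ringChar F) := ringChar.charP F
  have hp : (ringChar F).Prime := CharP.char_is_prime F (ringChar F)
  set p := ringChar F with hpdef
  set N := (P₁.sum P₂).ord with hNdef
  have hNpos : 0 < N := by
    rw [hNdef, OPair.ord_def]
    exact orderOf_pos _
  obtain ⟨a, m, hm, hN⟩ := Nat.exists_eq_pow_mul_and_not_dvd hNpos.ne' p hp.ne_one
  obtain ⟨hA, hD⟩ := M_pow_sum_ord P₁ P₂
  rw [← hNdef] at hA hD
  -- the norm matrix
  rw [OPair.aff_def, OPair.nrm_def, ← hNdef] at h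
  have h' : ∑ i ∈ Finset.range N, (Matrix.fromBlocks P₁.M 0 0 P₂.M : Matrix (P₁.ι ⊕ P₂.ι) (P₁.ι ⊕ P₂.ι) F) ^ i
      ≠ 0 := h
  rw [fromBlocks_diag_geom] at h'
  -- the second block vanishes
  have hD0 : ∑ i ∈ Finset.range N, P₂.M ^ i = 0 := by
    rw [OPair.fpf_def] at hf
    have e := geom_sum_mul P₂.M N
    rw [hD, sub_self] at e
    exact (hf.mul_left_eq_zero).mp e
  rw [hD0] at h'
  have hA0 : ∑ i ∈ Finset.range N, P₁.M ^ i ≠ 0 := by
    intro h0
    apply h'
    rw [h0, Matrix.fromBlocks_zero]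
  -- the first block
  rw [hN, geom_matrix_identity] at hA0
  have hA1 : (P₁.M - 1) ^ (p ^ a - 1) ≠ 0 := by
    intro h0
    apply hA0
    rw [h0, zero_mul]
  -- `A ^ q = 1`
  rw [OPair.unip_def] at hu
  have hAq : P₁.M ^ (p ^ a) = 1 := by
    have hB1 : (P₁.M ^ (p ^ a)) ^ m = 1 := by rw [← pow_mul, ← hN, hA]
    have hB2 : (P₁.M ^ (p ^ a)) ^ (p ^ P₁.dim) = 1 := by
      rw [← pow_mul, ← pow_add]
      exact pow_char_pow_eq_one_of_unip P₁.M P₁.dim (a + P₁.dim) hu
        ((le_char_pow (F := F) P₁.dim).trans (Nat.pow_le_pow_right hp.pos (Nat.le_add_left _ _)))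
    have hcop : Nat.Coprime m (p ^ P₁.dim) :=
      Nat.Coprime.pow_right _ ((Nat.Prime.coprime_iff_not_dvd hp).mpr hm).symm
    have := pow_gcd_eq_one.mpr ⟨hB1, hB2⟩
    rw [hcop, pow_one] at this
    exact this
  have hq : 1 ≤ p ^ a := Nat.one_le_pow _ _ hp.pos
  refine ⟨a, ?_, ?_⟩
  · rw [OPair.nil_def]
    refine ⟨?_, ?_⟩
    · rw [sub_one_pow_char_pow, hAq, sub_self]
    · intro s hs h0
      apply hA1
      obtain ⟨c, hc⟩ := Nat.exists_eq_add_of_le (Nat.le_sub_one_of_lt hs)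
      rw [hc, pow_add, h0, zero_mul]
  · intro hdvd
    have h2 : P₂.ord ∣ N := by
      rw [OPair.ord_def]
      exact orderOf_dvd_of_pow_eq_one (g_pow_eq_one_of_M P₂ N hD)
    have h3 : p ^ (a + 1) ∣ p ^ a * m := by
      rw [← hN]
      exact hdvd.trans h2
    rw [pow_succ] at h3
    exact hm ((Nat.mul_dvd_mul_iff_left (pow_pos hp.pos a)).mp h3)

end Cfsg.Agent.Helper41.O9
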