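import Mathlib
import Cfsg.Agent.Helper99.O9.Defs
import Cfsg.Agent.Helper44.SimChar
import Cfsg.Agent.Helper44.Spinor
import Cfsg.Agent.Helper41.O9Aux

set_option autoImplicit false
set_option linter.unusedSectionVars false
set_option linter.unusedVariables false

/-!
helper41, piece (EVEN) of helper99's farm #13715 (S2517): an isometry without the eigenvalue `1` which is the second
summand of an element of `Ω` with unipotent first summand lives in even dimension.
-/

namespace Cfsg.Agent.Helper41.O9

open Matrix QuadraticMap Cfsg.Agent.Helper44 Cfsg.Agent.Helper44.QType Cfsg.Agent.Helper99.O9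

universe u

variable {F : Type u} [Field F] [Fintype F]

/-- the Gram matrix of a non-degenerate pair is invertible -/
theorem gram_det_ne_zero {P : OPair F} (hP : P.ND) :
    (LinearMap.BilinForm.toMatrix' (QuadraticMap.polarBilin P.Q)).det ≠ 0 := by
  rw [← Matrix.nondegenerate_iff_det_ne_zero, LinearMap.BilinForm.nondegenerate_toMatrix'_iff]
  rw [OPair.nd_def] at hP
  constructor
  · intro x hx
    exact hP x hx
  · intro y hy
    apply hP y
    intro x
    rw [QuadraticMap.polar_comm]
    exact hy x

/-- the matrix of the isometry preserves the form -/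
theorem M_isometry (P : OPair F) (v : P.ι → F) : P.Q (P.M *ᵥ v) = P.Q v := by
  have h := P.g.2
  rw [Cfsg.Agent.Helper44.mem_isometryGroup_iff] at h
  exact h v

/-- `det g = (-1)^dim` for an isometry without the eigenvalue `1` -/
theorem det_eq_neg_one_pow_of_fpf {P : OPair F} (hP : P.ND) (hf : P.Fpf) : P.M.det = (-1) ^ P.dim := by
  set D := P.M with hD
  set G := LinearMap.BilinForm.toMatrix' (QuadraticMap.polarBilin P.Q) with hG
  have hGdet : G.det ≠ 0 := gram_det_ne_zero hP
  have hrel : Dᵀ * G * D = G := by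
    have := transpose_mul_polarMatrix_mul_sim P.Q D 1 (fun u => by rw [one_mul]; exact M_isometry P u)
    rwa [one_smul] at this
  have h1 : (D - 1)ᵀ * G * D = -(G * (D - 1)) := by
    rw [Matrix.transpose_sub, Matrix.transpose_one, Matrix.sub_mul, Matrix.sub_mul, hrel, Matrix.one_mul,
      Matrix.mul_sub, Matrix.mul_one, neg_sub]
  have h2 := congrArg Matrix.det h1
  rw [Matrix.det_mul, Matrix.det_mul, Matrix.det_transpose, Matrix.det_neg, Matrix.det_mul] at h2
  rw [OPair.fpf_def] at hf
  have h3 : (D - 1).det ≠ 0 := by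
    have := (Matrix.isUnit_iff_isUnit_det _).mp hf
    exact this.ne_zero
  have h4 : (D - 1).det * G.det * (D.det - (-1) ^ Fintype.card P.ι) = 0 := by
    linear_combination h2
  rcases mul_eq_zero.mp h4 with h | h
  · exact absurd h (mul_ne_zero h3 hGdet)
  · rw [OPair.dim_def]
    exact sub_eq_zero.mp h

/-- the determinant of an element of `Ω` is `1` -/
theorem det_eq_one_of_inOm {P : OPair F} (h : P.InOm) : P.M.det = 1 := by
  rw [OPair.inOm_def] at h
  have h1 := hom_eq_one_of_mem_Omega
    (Matrix.GeneralLinearGroup.det.comp (Cfsg.isometryGroup F ⇑P.Q).subtype) h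
  have h3 := congrArg Units.val h1
  rw [OPair.M_def]
  simpa using h3

/-- (EVEN) `det g₂ = (-1)^(dim)` for an isometry without the eigenvalue `1` (from `g⁻¹ = G⁻¹ gᵀ G`), `det = 1` on `Ω` and for
unipotent matrices -/
theorem even_dim_of_fpf (hF : Odd (Fintype.card F)) {P₁ P₂ : OPair F} (h₁ : P₁.ND) (h₂ : P₂.ND)
    (hu : P₁.Unip) (hf : P₂.Fpf) (h : (P₁.sum P₂).InOm) : Even P₂.dim := by
  have hd := det_eq_one_of_inOm h
  have hd' : (Matrix.fromBlocks P₁.M 0 0 P₂.M : Matrix (P₁.ι ⊕ P₂.ι) (P₁.ι ⊕ P₂.ι) F).det = 1 := hd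
  rw [Matrix.det_fromBlocks_zero₂₁] at hd'
  rw [OPair.unip_def] at hu
  rw [det_eq_one_of_unip P₁.M P₁.dim hu, one_mul, det_eq_neg_one_pow_of_fpf h₂ hf] at hd'
  by_contra hodd
  rw [Nat.not_even_iff_odd] at hodd
  rw [Odd.neg_one_pow hodd] at hd'
  have h2 : (2 : F) = 0 := by linear_combination -hd'
  have hc : ringChar F ∣ 2 := by
    have := (ringChar.spec F 2).mp (by exact_mod_cast h2)
    exact this
  have hp : (ringChar F).Prime := by
    have : CharP F (ringChar F) := ringChar.charP F
    exact CharP.char_is_prime F (ringChar F)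
  have hp2 : ringChar F = 2 := (Nat.prime_dvd_prime_iff_eq hp Nat.prime_two).mp hc
  have hcard : ringChar F ∣ Fintype.card F := by
    have : CharP F (ringChar F) := ringChar.charP F
    rw [← CharP.cast_eq_zero_iff F (ringChar F)]
    exact Nat.cast_card_eq_zero F
  rw [hp2] at hcard
  exact (Nat.not_even_iff_odd.mpr hF) (even_iff_two_dvd.mpr hcard)

end Cfsg.Agent.Helper41.O9
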