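import Mathlib
import Cfsg.Agent.Helper99.O9.Defs
import Cfsg.Agent.Helper99.O9.C7Defs
import Cfsg.Agent.Helper44.Spinor

set_option autoImplicit false
set_option linter.unusedSectionVars false
set_option linter.unusedVariables false

/-!
helper41, piece (ORB) of helper99's farm #13864 (S2517, case C7): if `⟨g⟩` acts semiregularly on the non-zero vectors then
all its orbits on a sphere `{Q = c}`, `c ≠ 0`, have length `o(g)`.
-/

namespace Cfsg.Agent.Helper41.O9

open Matrix Polynomial QuadraticMap Cfsg.Agent.Helper44 Cfsg.Agent.Helper44.QType Cfsg.Agent.Helper99.O9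

universe u

variable {F : Type u} [Field F] [Fintype F]

/-- the action of the isometry group on a sphere -/
@[instance_reducible]
def sphereAction (P : OPair F) (c : F) :
    MulAction ↥(Cfsg.isometryGroup F ⇑P.Q) {v : P.ι → F // P.Q v = c} where
  smul g v := ⟨((g : GL P.ι F) : Matrix P.ι P.ι F) *ᵥ v.1, by
    have h := g.2
    rw [Cfsg.Agent.Helper44.mem_isometryGroup_iff] at h
    rw [h v.1]
    exact v.2⟩
  one_smul v := by
    apply Subtype.ext
    show (((1 : ↥(Cfsg.isometryGroup F ⇑P.Q)) : GL P.ι F) : Matrix P.ι P.ι F) *ᵥ v.1 = v.1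
    simp
  mul_smul g h v := by
    apply Subtype.ext
    show (((g * h : ↥(Cfsg.isometryGroup F ⇑P.Q)) : GL P.ι F) : Matrix P.ι P.ι F) *ᵥ v.1 =
      ((g : GL P.ι F) : Matrix P.ι P.ι F) *ᵥ (((h : GL P.ι F) : Matrix P.ι P.ι F) *ᵥ v.1)
    simp [Matrix.mulVec_mulVec]

theorem sphereAction_smul_val (P : OPair F) (c : F) (g : ↥(Cfsg.isometryGroup F ⇑P.Q))
    (v : {v : P.ι → F // P.Q v = c}) :
    ((sphereAction P c).smul g v).1 = ((g : GL P.ι F) : Matrix P.ι P.ι F) *ᵥ v.1 := rfl

/-- (ORB) all the orbits of `⟨g⟩` on non-zero vectors have length `o(g)` -/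
theorem ord_dvd_card_sphere {P : OPair F} (h : P.Semi) (c : F) (hc : c ≠ 0) :
    P.ord ∣ Nat.card {v : P.ι → F // P.Q v = c} := by
  let _ := sphereAction P c
  rw [OPair.semi_def] at h
  have hfree : ∀ x : {v : P.ι → F // P.Q v = c},
      MulAction.stabilizer (↥(Subgroup.zpowers P.g)) x = ⊥ := by
    intro x
    rw [eq_bot_iff]
    intro k hk
    rw [MulAction.mem_stabilizer_iff] at hk
    rw [Subgroup.mem_bot]
    obtain ⟨k, hkmem⟩ := k
    have hkp : k ∈ Submonoid.powers P.g := mem_powers_iff_mem_zpowers.mpr hkmem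
    obtain ⟨j, rfl⟩ := (Submonoid.mem_powers_iff _ _).mp hkp
    apply Subtype.ext
    show P.g ^ j = 1
    have hk' : (((P.g ^ j : ↥(Cfsg.isometryGroup F ⇑P.Q)) : GL P.ι F) : Matrix P.ι P.ι F) *ᵥ x.1 = x.1 :=
      congrArg Subtype.val hk
    have e : (((P.g ^ j : ↥(Cfsg.isometryGroup F ⇑P.Q)) : GL P.ι F) : Matrix P.ι P.ι F) = P.M ^ j := by
      rw [OPair.M_def]
      simp
    rw [e] at hk'
    have hx0 : x.1 ≠ 0 := by
      intro h0
      have := x.2
      rw [h0, map_zero] at this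
      exact hc this.symm
    rcases h j with h1 | h1
    · apply Subtype.ext
      apply Units.ext
      rw [← e] at h1
      simpa using h1
    · exfalso
      have h2 : (P.M ^ j - 1) *ᵥ x.1 = 0 := by
        rw [Matrix.sub_mulVec, hk', Matrix.one_mulVec, sub_self]
      obtain ⟨u, hu⟩ := h1
      have h3 : (↑u⁻¹ : Matrix P.ι P.ι F) *ᵥ ((P.M ^ j - 1) *ᵥ x.1) = x.1 := by
        rw [Matrix.mulVec_mulVec, ← hu, Units.inv_mul, Matrix.one_mulVec]
      rw [h2, Matrix.mulVec_zero] at h3
      exact hx0 h3.symm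
  have e := MulAction.selfEquivOrbitsQuotientProd hfree
  have hcard := Nat.card_congr e
  rw [Nat.card_prod, Nat.card_zpowers] at hcard
  rw [OPair.ord_def, hcard]
  exact dvd_mul_left _ _

end Cfsg.Agent.Helper41.O9
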