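import Mathlib
import Cfsg.Agent.Helper99.O9.Defs

set_option autoImplicit false
set_option linter.unusedSectionVars false
set_option linter.unusedVariables false

/-!
helper41, piece (SUMI) of helper99's farm #13715 (S2517): the orthogonal sum of two elements of `Ω` lies in `Ω`.
-/

namespace Cfsg.Agent.Helper41.O9

open Matrix QuadraticMap Cfsg.Agent.Helper44 Cfsg.Agent.Helper44.QType Cfsg.Agent.Helper99.O9

universe u

variable {F : Type u} [Field F] [Fintype F]

/-- (SUMI) route: `blockDiagIso_mem_Omega` -/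
theorem sum_inOm {P₁ P₂ : OPair F} (h₁ : P₁.InOm) (h₂ : P₂.InOm) : (P₁.sum P₂).InOm := by
  rw [OPair.inOm_def] at h₁ h₂ ⊢
  exact blockDiagIso_mem_Omega ⇑P₁.Q ⇑P₂.Q P₁.g P₂.g h₁ h₂

end Cfsg.Agent.Helper41.O9
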