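import Mathlib
import Cfsg.Agent.Helper99.O9.Defs

set_option autoImplicit false
set_option linter.unusedSectionVars false
set_option linter.unusedVariables false

/-!
helper41, piece (SUMN) of helper99's farm #13715 (S2517): the orthogonal sum of two non-degenerate pairs is non-degenerate.
-/

namespace Cfsg.Agent.Helper41.O9

open Matrix QuadraticMap Cfsg.Agent.Helper44 Cfsg.Agent.Helper44.QType Cfsg.Agent.Helper99.O9

universe u

variable {F : Type u} [Field F] [Fintype F]

/-- non-degeneracy of the orthogonal sum, in terms of the polar forms -/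
theorem orthSumForm_nd {ι₁ ι₂ : Type} [Fintype ι₁] [DecidableEq ι₁] [Fintype ι₂] [DecidableEq ι₂]
    (Q₁ : QuadraticForm F (ι₁ → F)) (Q₂ : QuadraticForm F (ι₂ → F))
    (h₁ : ∀ x : ι₁ → F, (∀ y, polar Q₁ x y = 0) → x = 0)
    (h₂ : ∀ x : ι₂ → F, (∀ y, polar Q₂ x y = 0) → x = 0) :
    ∀ x : ι₁ ⊕ ι₂ → F, (∀ y, polar (orthSumForm Q₁ Q₂) x y = 0) → x = 0 := by
  intro x hx
  have hl : x ∘ Sum.inl = 0 := by
    apply h₁
    intro y₁
    have := hx (Sum.elim y₁ 0)
    rw [polar_comm, polar_orthSumForm_elim_zero, polar_comm] at this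
    exact this
  have hr : x ∘ Sum.inr = 0 := by
    apply h₂
    intro y₂
    have := hx (Sum.elim 0 y₂)
    rw [polar_orthSumForm] at this
    have e1 : (Sum.elim (0 : ι₁ → F) y₂) ∘ Sum.inl = 0 := rfl
    have e2 : (Sum.elim (0 : ι₁ → F) y₂) ∘ Sum.inr = y₂ := rfl
    rw [e1, e2, polar_zero_right, zero_add] at this
    exact this
  funext i
  rcases i with i | i
  · exact congrFun hl i
  · exact congrFun hr i

/-- (SUMN) route: `nondegenerate_orthSumForm`, `OrthRealizeC.nondeg_iff` -/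
theorem sum_nd {P₁ P₂ : OPair F} (h₁ : P₁.ND) (h₂ : P₂.ND) : (P₁.sum P₂).ND := by
  rw [OPair.nd_def] at h₁ h₂ ⊢
  exact orthSumForm_nd P₁.Q P₂.Q h₁ h₂

end Cfsg.Agent.Helper41.O9
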