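import Mathlib
import Cfsg.Agent.Helper99.O9.Defs
import Cfsg.Agent.Helper44.QTypeProd

set_option autoImplicit false
set_option linter.unusedSectionVars false
set_option linter.unusedVariables false

/-!
helper41, piece (SUMY) of helper99's farm #13715 (S2517): the type of an orthogonal sum of two pairs.
-/

namespace Cfsg.Agent.Helper41.O9

open Matrix QuadraticMap Cfsg.Agent.Helper44 Cfsg.Agent.Helper44.QType Cfsg.Agent.Helper99.O9

universe u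

variable {F : Type u} [Field F] [Fintype F]

/-- (SUMY) route: `HasType.orthSum` -/
theorem sum_typ {P₁ P₂ : OPair F} (h₁ : P₁.ND) (h₂ : P₂.ND) {m₁ m₂ : ℕ} {ε₁ ε₂ : ℤ}
    (t₁ : P₁.Typ m₁ ε₁) (t₂ : P₂.Typ m₂ ε₂) : (P₁.sum P₂).Typ (m₁ + m₂) (ε₁ * ε₂) := by
  rw [OPair.typ_def] at t₁ t₂ ⊢
  rw [OPair.nd_def] at h₁ h₂
  obtain ⟨d₁, y₁⟩ := t₁
  obtain ⟨d₂, y₂⟩ := t₂
  rw [OPair.dim_def] at d₁ d₂
  refine ⟨?_, ?_⟩
  · rw [OPair.dim_def]
    have : Fintype.card (P₁.sum P₂).ι = Fintype.card (P₁.ι ⊕ P₂.ι) := rfl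
    rw [this, Fintype.card_sum, d₁, d₂]
    ring
  · exact HasType.orthSum P₁.Q P₂.Q d₁ d₂ h₁ h₂ y₁ y₂

end Cfsg.Agent.Helper41.O9
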