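-- helper41: piece (U3) twirl of helper99 S6000 (#8930): the Pauli twirl of a 4x4 matrix is scalar.
import Mathlib
import Cfsg.Agent.Helper99.P4Defs
set_option autoImplicit false
set_option linter.unusedSectionVars false
set_option linter.unusedSimpArgs false
namespace Cfsg.Agent.Helper41.P4
open Matrix Cfsg.Agent.Helper99.P4
variable {F : Type*} [Field F]

theorem sum_zmod2 {α : Type*} [AddCommMonoid α] (f : ZMod 2 → α) : ∑ x, f x = f 0 + f 1 :=
  Fin.sum_univ_two f

theorem sum_V4 {α : Type*} [AddCommMonoid α] (f : V4 → α) : ∑ v, f v =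
    f (0,0,0,0) + f (0,0,0,1) + (f (0,0,1,0) + f (0,0,1,1)) +
      (f (0,1,0,0) + f (0,1,0,1) + (f (0,1,1,0) + f (0,1,1,1))) +
    (f (1,0,0,0) + f (1,0,0,1) + (f (1,0,1,0) + f (1,0,1,1)) +
      (f (1,1,0,0) + f (1,1,0,1) + (f (1,1,1,0) + f (1,1,1,1)))) := by
  simp only [Fintype.sum_prod_type, sum_zmod2]

theorem eta4 (A : Matrix (Fin 4) (Fin 4) F) :
    A = !![A 0 0, A 0 1, A 0 2, A 0 3; A 1 0, A 1 1, A 1 2, A 1 3; A 2 0, A 2 1, A 2 2, A 2 3;
      A 3 0, A 3 1, A 3 2, A 3 3] := by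
  ext i j
  fin_cases i <;> fin_cases j <;> rfl

set_option maxHeartbeats 1600000 in
/-- (U3) Pauli twirl -/
theorem twirl (M : Matrix (Fin 4) (Fin 4) F) :
    ∑ v : V4, (sg (eps v v) : F) • (pw v * M * pw v) =
      (4 * Matrix.trace M) • (1 : Matrix (Fin 4) (Fin 4) F) := by
  rw [sum_V4]
  simp only [pw, eps, z2_v0, z2_v1, z2_11, pow_zero, pow_one, one_mul, mul_one, mul_zero, zero_mul, add_zero,
    zero_add, sg_zero, sg_one, one_smul, Matrix.one_mul, Matrix.mul_one]
  rw [eta4 M]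
  generalize M 0 0 = m00
  generalize M 0 1 = m01
  generalize M 0 2 = m02
  generalize M 0 3 = m03
  generalize M 1 0 = m10
  generalize M 1 1 = m11
  generalize M 1 2 = m12
  generalize M 1 3 = m13
  generalize M 2 0 = m20
  generalize M 2 1 = m21
  generalize M 2 2 = m22
  generalize M 2 3 = m23
  generalize M 3 0 = m30
  generalize M 3 1 = m31
  generalize M 3 2 = m32
  generalize M 3 3 = m33
  simp [Fin.sum_univ_four, mX1, mZ1, mX2, mZ2, Matrix.trace]
  ext i j
  fin_cases i <;> fin_cases j <;> simp <;> ring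

end Cfsg.Agent.Helper41.P4
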