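-- helper41: piece (U4) scalar_of_commute of helper99 S6000 (#8930): a 4x4 matrix commuting with all Pauli words
-- is scalar (characteristic not 2), from the Pauli twirl (U3).
import Mathlib
import Cfsg.Agent.Helper99.P4Defs
import Cfsg.Agent.Helper41.P4U3
set_option autoImplicit false
set_option linter.unusedSectionVars false
namespace Cfsg.Agent.Helper41.P4
open Matrix Cfsg.Agent.Helper99.P4
variable {F : Type*} [Field F]

theorem scalar_of_commute (h2 : (2 : F) ≠ 0) (M : Matrix (Fin 4) (Fin 4) F)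
    (h : ∀ v : V4, M * pw v = pw v * M) : ∃ c : F, M = c • 1 := by
  have ht := twirl M
  have hterm : ∀ v : V4, (sg (eps v v) : F) • (pw v * M * pw v) = M := by
    intro v
    rw [← h v, Matrix.mul_assoc, pw_mul_self, Matrix.mul_smul, Matrix.mul_one, smul_smul, sg_mul_self, one_smul]
  simp only [hterm] at ht
  rw [Finset.sum_const, Finset.card_univ] at ht
  have hc : Fintype.card V4 = 16 := by
    simp [V4, Fintype.card_prod, ZMod.card]
  rw [hc, ← Nat.cast_smul_eq_nsmul F] at ht
  have h16 : ((16 : ℕ) : F) ≠ 0 := by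
    have : ((16 : ℕ) : F) = 2 ^ 4 := by norm_num
    rw [this]
    exact pow_ne_zero 4 h2
  refine ⟨Matrix.trace M / 4, ?_⟩
  have h4 : (4 : F) ≠ 0 := by
    have : (4 : F) = 2 ^ 2 := by norm_num
    rw [this]
    exact pow_ne_zero 2 h2
  calc M = (((16 : ℕ) : F))⁻¹ • (((16 : ℕ) : F) • M) := by rw [smul_smul, inv_mul_cancel₀ h16, one_smul]
    _ = (((16 : ℕ) : F))⁻¹ • ((4 * Matrix.trace M) • (1 : Matrix (Fin 4) (Fin 4) F)) := by rw [ht]
    _ = (Matrix.trace M / 4) • 1 := by
      rw [smul_smul]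
      congr 1
      have e : ((16 : ℕ) : F) = 4 * 4 := by norm_num
      rw [e]
      field_simp

end Cfsg.Agent.Helper41.P4
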