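-- helper41: piece (CMP4) of helper86's S3664 (#9537): the element `x13` of `Sz(8)` acts fixed-point-freely on `M4`.
-- Certificate: `A X Bᵀ = X` gives `A X = X W` (`W = (Bᵀ)⁻¹`), hence `f(A) X = X f(W)` for the characteristic
-- polynomial `f` of `A`; `f(A) = 0` and `f(W)` is invertible.
import Cfsg.Agent.Helper86.PG63.Defs

set_option autoImplicit false

namespace Cfsg.Agent.Helper41.PG63

open Cfsg Cfsg.Agent.Helper86.PG63 Cfsg.Agent.Helper6

def f0 : F8 := ⟨false, false, false⟩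
def f1 : F8 := ⟨true, false, false⟩
def f2 : F8 := ⟨false, true, false⟩
def f3 : F8 := ⟨true, true, false⟩
def f4 : F8 := ⟨false, false, true⟩
def f5 : F8 := ⟨true, false, true⟩
def f6 : F8 := ⟨false, true, true⟩
def f7 : F8 := ⟨true, true, true⟩

def Am : M4 := !![f0, f0, f0, f1; f0, f0, f1, f2; f0, f1, f6, f0; f1, f2, f7, f5]
def Btm : M4 := !![f0, f0, f0, f1; f0, f0, f1, f4; f0, f1, f2, f3; f1, f4, f0, f7]
def Wm : M4 := !![f7, f3, f4, f1; f0, f2, f1, f0; f4, f1, f0, f0; f1, f0, f0, f0]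
def A2m : M4 := !![f1, f2, f7, f5; f2, f5, f3, f1; f0, f6, f3, f2; f5, f6, f0, f2]
def A3m : M4 := !![f5, f6, f0, f2; f1, f1, f3, f6; f2, f7, f2, f6; f2, f4, f3, f3]
def A4m : M4 := !![f2, f4, f3, f3; f6, f4, f4, f0; f6, f5, f4, f4; f3, f5, f7, f5]
def W2m : M4 := !![f4, f0, f2, f7; f4, f5, f2, f0; f1, f5, f7, f4; f7, f3, f4, f1]
def W3m : M4 := !![f5, f5, f6, f4; f2, f4, f3, f4; f2, f5, f1, f1; f4, f0, f2, f7]
def W4m : M4 := !![f7, f3, f7, f5; f6, f6, f7, f2; f0, f6, f6, f2; f5, f5, f6, f4]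
def Cm : M4 := !![f1, f2, f4, f2; f1, f0, f4, f5; f6, f7, f7, f0; f2, f7, f1, f0]
def Cim : M4 := !![f7, f1, f2, f0; f5, f2, f3, f3; f3, f7, f6, f3; f0, f2, f5, f5]

theorem x13_coe : ((x13 : SL4) : M4) = Am := by
  show tMat F8 * uMat (F8.α : F8) 0 ((F8.α : F8) ^ (2 ^ (1 + 1))) (ovF F8 1 F8.α 0) = Am
  decide

theorem frob_x13_coe : (((frobSL x13 : SL4) : M4)).transpose = Btm := by
  have h : ((frobSL x13 : SL4) : M4) = Am.map frobF8 := by
    rw [← x13_coe]
    rfl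
  rw [h]
  decide

theorem Bt_W : Btm * Wm = 1 := by decide
theorem A2_eq : Am * Am = A2m := by decide
theorem A3_eq : Am * A2m = A3m := by decide
theorem A4_eq : Am * A3m = A4m := by decide
theorem W2_eq : Wm * Wm = W2m := by decide
theorem W3_eq : Wm * W2m = W3m := by decide
theorem W4_eq : Wm * W3m = W4m := by decide
theorem fA_eq : A4m + f3 • A3m + f7 • A2m + f3 • Am + f1 • (1 : M4) = 0 := by decide
theorem fW_eq : W4m + f3 • W3m + f7 • W2m + f3 • Wm + f1 • (1 : M4) = Cm := by decide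
theorem C_Ci : Cm * Cim = 1 := by decide

/-- (CMP4) `x13` acts fixed-point-freely on `M4` -/
theorem fpf_x13 (X : M4) (h : actM x13 X = X) : X = 0 := by
  unfold actM at h
  rw [frob_x13_coe, x13_coe] at h
  have h1 : Am * X = X * Wm := by
    calc Am * X = Am * X * (Btm * Wm) := by rw [Bt_W, Matrix.mul_one]
      _ = (Am * X * Btm) * Wm := by rw [Matrix.mul_assoc (Am * X)]
      _ = X * Wm := by rw [h]
  have h2 : A2m * X = X * W2m := by
    rw [← A2_eq, ← W2_eq, Matrix.mul_assoc, h1, ← Matrix.mul_assoc, h1, Matrix.mul_assoc]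
  have h3 : A3m * X = X * W3m := by
    rw [← A3_eq, ← W3_eq, Matrix.mul_assoc, h2, ← Matrix.mul_assoc, h1, Matrix.mul_assoc]
  have h4 : A4m * X = X * W4m := by
    rw [← A4_eq, ← W4_eq, Matrix.mul_assoc, h3, ← Matrix.mul_assoc, h1, Matrix.mul_assoc]
  have h5 : X * Cm = 0 := by
    rw [← fW_eq, Matrix.mul_add, Matrix.mul_add, Matrix.mul_add, Matrix.mul_add, Matrix.mul_smul, Matrix.mul_smul,
      Matrix.mul_smul, Matrix.mul_smul, Matrix.mul_one, ← h4, ← h3, ← h2, ← h1]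
    have := congrArg (fun M => M * X) fA_eq
    simp only [Matrix.add_mul, Matrix.smul_mul, Matrix.one_mul, Matrix.zero_mul] at this
    exact this
  calc X = X * (Cm * Cim) := by rw [C_Ci, Matrix.mul_one]
    _ = (X * Cm) * Cim := by rw [Matrix.mul_assoc]
    _ = 0 := by rw [h5, Matrix.zero_mul]

end Cfsg.Agent.Helper41.PG63
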