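-- helper41: piece (M3) of helper86's S3664 (#9537): the element `t5` of `Sz(8)` fixes the form matrix `J4`.
import Cfsg.Agent.Helper86.PG63.Defs

set_option autoImplicit false

namespace Cfsg.Agent.Helper41.PG63

open Cfsg Cfsg.Agent.Helper86.PG63 Cfsg.Agent.Helper6

/-- the matrix of `t5` -/
def t5M : M4 := !![0, 0, 0, 1; 0, 0, 1, 0; 0, 1, 0, 1; 1, 0, 1, 1]

theorem t5_coe : ((t5 : SL4) : M4) = t5M := by
  show tMat F8 * uMat (0 : F8) 1 ((0 : F8) ^ (2 ^ (1 + 1))) (ovF F8 1 0 1) = t5M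
  decide

theorem frob_t5_coe : ((frobSL t5 : SL4) : M4) = t5M.map frobF8 := by
  rw [← t5_coe]
  rfl

/-- (M3) `t5` fixes the form matrix -/
theorem fix_t5 : actM t5 J4 = J4 ∧ J4 ≠ 0 := by
  constructor
  · unfold actM
    rw [frob_t5_coe, t5_coe]
    decide
  · decide

end Cfsg.Agent.Helper41.PG63
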