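import Mathlib
import Cfsg.Agent.Helper52.PQDefs
import Cfsg.Agent.Helper38.PQFA
import Cfsg.Agent.Helper65.PQG
import Cfsg.Agent.Helper79.PQFV

/-!
Helper41: piece (BG) of helper52's S4306: `Q` nonabelian, a hyperplane of `τ`-type with
`[Q, b] ≤ C_Q(V_D)` is impossible.  `caseB_tau_good_of` takes the conclusions of (SQ), (SR) and the
statement of (PR) as hypotheses.
-/

set_option autoImplicit false

namespace Cfsg.Agent.Helper41.PQ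

open Subgroup Cfsg.Agent.Helper1.Shult Cfsg.Agent.Helper52.PQ Cfsg.Agent.Helper79.PQ
open scoped commutatorElement

section ActTriv

variable {H : Type*} [Group H]

/-- the elements normalizing `Q` and `M` and acting trivially on `Q` modulo `M` -/
def actTriv (Q M : Subgroup H) : Subgroup H where
  carrier := {z | z ∈ normalizer (Q : Set H) ∧ z ∈ normalizer (M : Set H) ∧
    ∀ g ∈ Q, g⁻¹ * (z * g * z⁻¹) ∈ M}
  one_mem' := ⟨one_mem _, one_mem _, fun g _ => by simp⟩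
  mul_mem' := by
    rintro z z' ⟨hzQ, hzM, hz⟩ ⟨hz'Q, hz'M, hz'⟩
    refine ⟨mul_mem hzQ hz'Q, mul_mem hzM hz'M, fun g hg => ?_⟩
    have e : g⁻¹ * (z * z' * g * (z * z')⁻¹) =
        (g⁻¹ * (z * g * z⁻¹)) * (z * (g⁻¹ * (z' * g * z'⁻¹)) * z⁻¹) := by group
    rw [e]
    exact mul_mem (hz g hg) (conj_mem_of_mem_normalizer hzM (hz' g hg))
  inv_mem' := by
    rintro z ⟨hzQ, hzM, hz⟩
    refine ⟨inv_mem hzQ, inv_mem hzM, fun g hg => ?_⟩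
    have hg' : z⁻¹ * g * z ∈ Q := conj_inv_mem_of_mem_normalizer hzQ hg
    have h1 := hz _ hg'
    have e : (z⁻¹ * g * z)⁻¹ * (z * (z⁻¹ * g * z) * z⁻¹) = (g⁻¹ * (z⁻¹ * g * z⁻¹⁻¹))⁻¹ := by group
    rw [e] at h1
    exact inv_mem_iff.mp h1

theorem mem_actTriv {Q M : Subgroup H} {z : H} :
    z ∈ actTriv Q M ↔ z ∈ normalizer (Q : Set H) ∧ z ∈ normalizer (M : Set H) ∧
      ∀ g ∈ Q, g⁻¹ * (z * g * z⁻¹) ∈ M := Iff.rfl

/-- conjugating an element of `actTriv` by an element normalizing `Q` and `M` -/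
theorem conj_mem_actTriv {Q M : Subgroup H} {z x : H} (hz : z ∈ actTriv Q M)
    (hxQ : x ∈ normalizer (Q : Set H)) (hxM : x ∈ normalizer (M : Set H)) :
    x⁻¹ * z * x ∈ actTriv Q M := by
  obtain ⟨hzQ, hzM, hz⟩ := hz
  refine ⟨mul_mem (mul_mem (inv_mem hxQ) hzQ) hxQ, mul_mem (mul_mem (inv_mem hxM) hzM) hxM,
    fun g hg => ?_⟩
  have hg' : x * g * x⁻¹ ∈ Q := conj_mem_of_mem_normalizer hxQ hg
  have h1 := conj_inv_mem_of_mem_normalizer hxM (hz _ hg')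
  have e : g⁻¹ * (x⁻¹ * z * x * g * (x⁻¹ * z * x)⁻¹) =
      x⁻¹ * ((x * g * x⁻¹)⁻¹ * (z * (x * g * x⁻¹) * z⁻¹)) * x := by group
  rw [e]
  exact h1

end ActTriv

/-- the statement of (PR) `lemmaP_rel` for the ambient group `H` -/
def LemmaPRel (H : Type*) [Group H] [Finite H] : Prop :=
  ∀ (s t w u : ℕ) [Fact w.Prime] [Fact u.Prime] (σ τ : H) (_ : FrobPair s t σ τ)
    (_ : w ≠ u) (_ : w ≠ s) (_ : w ≠ t) (_ : u ≠ s) (_ : u ≠ t)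
    (Q Q1 R R0 : Subgroup H) (_ : IsPGroup w Q) (_ : IsPGroup u R) (_ : Q1 ≤ Q)
    (_ : ∀ g ∈ Q, ∀ h ∈ Q, g * h * g⁻¹ * h⁻¹ ∈ Q1) (_ : ∀ g ∈ Q, g ^ w ∈ Q1)
    (_ : Inv σ τ Q) (_ : Inv σ τ Q1) (_ : Inv σ τ R) (_ : Inv σ τ R0)
    (_ : R ≤ normalizer (Q : Set H)) (_ : R ≤ normalizer (Q1 : Set H)) (_ : R0 ≤ R)
    (_ : ∀ x ∈ R0, ∀ g ∈ Q, g⁻¹ * (x * g * x⁻¹) ∈ Q1)
    (_ : ∀ x ∈ R, ∀ y ∈ R, x * y * x⁻¹ * y⁻¹ ∈ R0) (_ : ∀ x ∈ R, x ^ u ∈ R0)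
    (_ : ∀ g ∈ Q, (∀ x ∈ R, g⁻¹ * (x * g * x⁻¹) ∈ Q1) → g ∈ Q1) (_ : Fix σ τ Q = ⊥)
    (_ : ∀ x ∈ R, x⁻¹ * (σ * x * σ⁻¹) ∈ R0 → x ∈ R0)
    (N : Subgroup H) (_ : Q1 ≤ N) (_ : N ≤ Q) (_ : ∀ g ∈ Q, g⁻¹ * (τ * g * τ⁻¹) ∈ N)
    (_ : ∀ x ∈ R, ∀ g ∈ Q,
      g⁻¹ * ((x⁻¹ * (τ * x * τ⁻¹)) * g * (x⁻¹ * (τ * x * τ⁻¹))⁻¹) ∈ N),
    N = Q

variable {H : Type*} [Group H] [Finite H]

variable {s t ℓ w u : ℕ} [Fact ℓ.Prime] [Fact w.Prime] [Fact u.Prime] {σ τ : H}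
  {V Q R : Subgroup H}

/-- (BG) from the conclusions of (SQ), (SR) and the statement of (PR) -/
theorem caseB_tau_good_of (c : CoreCfg s t ℓ w u σ τ V Q R)
    (hSQ : ⁅Q, Q⁆ ≤ centralizer (R : Set H) ∧ ⁅Q, Q⁆ ≤ centralizer (Q : Set H) ∧
      (∀ g ∈ Q, g ^ w ∈ ⁅Q, Q⁆) ∧ (∀ z ∈ ⁅Q, Q⁆, z ^ w = 1) ∧
      (∀ N : Subgroup H, ⁅Q, Q⁆ ≤ N → N ≤ Q → R ≤ normalizer (N : Set H) →
        ∀ g ∈ Q, (∀ x ∈ R, g⁻¹ * (x * g * x⁻¹) ∈ N) → g ∈ N))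
    (hSR : R ⊓ centralizer (Q : Set H) ≠ R ∧
      (∀ x ∈ R, ∀ y ∈ R, x * y * x⁻¹ * y⁻¹ ∈ R ⊓ centralizer (Q : Set H)) ∧
      (∀ x ∈ R, x ^ u ∈ R ⊓ centralizer (Q : Set H)) ∧
      ((R ≤ centralizer {σ} ∧ ∀ i : ℕ, ∀ x ∈ R,
          x⁻¹ * ((σ ^ i * τ * (σ ^ i)⁻¹) * x * (σ ^ i * τ * (σ ^ i)⁻¹)⁻¹) ∈
            R ⊓ centralizer (Q : Set H) → x ∈ R ⊓ centralizer (Q : Set H)) ∨
        (∀ x ∈ R, x⁻¹ * (σ * x * σ⁻¹) ∈ R ⊓ centralizer (Q : Set H) →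
          x ∈ R ⊓ centralizer (Q : Set H))))
    (hPR : LemmaPRel H)
    (D : Subgroup H)
    (hD : IsHyp w ⁅Q, Q⁆ ⊥ D) (hVD : V ⊓ centralizer (D : Set H) ≠ ⊥) (i : ℕ)
    (hbD : σ ^ i * τ * (σ ^ i)⁻¹ ∈ normalizer (D : Set H))
    (hgood : ∀ g ∈ Q, g⁻¹ * ((σ ^ i * τ * (σ ^ i)⁻¹) * g * (σ ^ i * τ * (σ ^ i)⁻¹)⁻¹) ∈
      centralizer ((V ⊓ centralizer (D : Set H) : Subgroup H) : Set H)) : False := by
  obtain ⟨hQ1R, hQ1Q, hQpow, -, hlast⟩ := hSQ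
  obtain ⟨-, hRcomm, hRpow, htype⟩ := hSR
  -- notation
  generalize hb : σ ^ i * τ * (σ ^ i)⁻¹ = b at hbD hgood htype
  have hFb : FrobPair s t σ b := hb ▸ Cfsg.Agent.Helper38.PQFA.frob_conj c.hF i
  have hinvb : ∀ X : Subgroup H, Inv σ τ X → Inv σ b X := fun X hX =>
    hb ▸ (Cfsg.Agent.Helper38.PQFA.inv_conj_iff σ τ i X).mpr hX
  have hfixb : Fix σ b Q = ⊥ := by
    rw [← hb, Cfsg.Agent.Helper38.PQFA.fix_conj_eq]; exact c.hfixQ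
  have hbV : b ∈ normalizer (V : Set H) := (hinvb V c.hVinv).2
  have hbQ : b ∈ normalizer (Q : Set H) := (hinvb Q c.hQinv).2
  have hbR : b ∈ normalizer (R : Set H) := (hinvb R c.hRinv).2
  have hQ1Qle : ⁅Q, Q⁆ ≤ Q := by
    rw [commutator_le]
    intro a ha a' ha'
    rw [commutatorElement_def]
    exact mul_mem (mul_mem (mul_mem ha ha') (inv_mem ha)) (inv_mem ha')
  have hDQ1 : D ≤ ⁅Q, Q⁆ := hD.2.1
  -- `Q` and `R` centralize `D`, hence normalize it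
  have hQD : Q ≤ normalizer (D : Set H) := by
    intro g hg
    apply centralizer_le_normalizer
    rw [mem_centralizer_iff]
    intro d hd
    have := mem_centralizer_iff.mp (hQ1Q (hDQ1 hd)) g hg
    exact this.symm
  have hRD : R ≤ normalizer (D : Set H) := by
    intro g hg
    apply centralizer_le_normalizer
    rw [mem_centralizer_iff]
    intro d hd
    have := mem_centralizer_iff.mp (hQ1R (hDQ1 hd)) g hg
    exact this.symm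
  -- `V_D` and `Q_D`
  have hQVD : Q ≤ normalizer ((V ⊓ centralizer (D : Set H) : Subgroup H) : Set H) := fun g hg =>
    mem_normalizer_inf_centralizer_of (c.hQV hg) (hQD hg)
  have hRVD : R ≤ normalizer ((V ⊓ centralizer (D : Set H) : Subgroup H) : Set H) := fun g hg =>
    mem_normalizer_inf_centralizer_of (c.hRV hg) (hRD hg)
  have hbVD : b ∈ normalizer ((V ⊓ centralizer (D : Set H) : Subgroup H) : Set H) :=
    mem_normalizer_inf_centralizer_of hbV hbD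
  generalize hVDdef : V ⊓ centralizer (D : Set H) = VD at hVD hgood hQVD hRVD hbVD
  have hQQD : Q ≤ normalizer ((Q ⊓ centralizer (VD : Set H) : Subgroup H) : Set H) := fun g hg =>
    mem_normalizer_inf_centralizer_of (le_normalizer hg) (hQVD hg)
  have hRQD : R ≤ normalizer ((Q ⊓ centralizer (VD : Set H) : Subgroup H) : Set H) := fun g hg =>
    mem_normalizer_inf_centralizer_of (c.hRQ hg) (hRVD hg)
  have hbQD : b ∈ normalizer ((Q ⊓ centralizer (VD : Set H) : Subgroup H) : Set H) :=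
    mem_normalizer_inf_centralizer_of hbQ hbVD
  -- `[Q, b] ≤ Q_D`
  have hQDb : ∀ g ∈ Q, g⁻¹ * (b * g * b⁻¹) ∈ Q ⊓ centralizer (VD : Set H) := fun g hg =>
    mem_inf.mpr ⟨mul_mem (inv_mem hg) (conj_mem_of_mem_normalizer hbQ hg), hgood g hg⟩
  have hbF : b ∈ actTriv Q (Q ⊓ centralizer (VD : Set H)) := ⟨hbQ, hbQD, hQDb⟩
  -- `[Q, y] ≤ Q_D` for `y = x⁻¹ b x b⁻¹`
  have hyF : ∀ x ∈ R, x⁻¹ * (b * x * b⁻¹) ∈ actTriv Q (Q ⊓ centralizer (VD : Set H)) := by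
    intro x hx
    have h1 := conj_mem_actTriv hbF (c.hRQ hx) (hRQD hx)
    have e : x⁻¹ * (b * x * b⁻¹) = (x⁻¹ * b * x) * b⁻¹ := by group
    rw [e]
    exact mul_mem h1 (inv_mem hbF)
  -- `N = Q_D Q1`
  have hRQ1 : R ≤ normalizer ((⁅Q, Q⁆ : Subgroup H) : Set H) := fun x hx =>
    mem_normalizer_commutator_of (c.hRQ hx) (c.hRQ hx)
  have hQQ1 : Q ≤ normalizer ((⁅Q, Q⁆ : Subgroup H) : Set H) := fun x hx =>
    mem_normalizer_commutator_of (le_normalizer hx) (le_normalizer hx)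
  have hNQ : (Q ⊓ centralizer (VD : Set H)) ⊔ ⁅Q, Q⁆ ≤ Q := sup_le inf_le_left hQ1Qle
  have hQ1N : ⁅Q, Q⁆ ≤ (Q ⊓ centralizer (VD : Set H)) ⊔ ⁅Q, Q⁆ := le_sup_right
  have hRN : R ≤ normalizer (((Q ⊓ centralizer (VD : Set H)) ⊔ ⁅Q, Q⁆ : Subgroup H) : Set H) :=
    fun x hx => normalizer_inf_normalizer_le_normalizer_sup _ _ (mem_inf.mpr ⟨hRQD hx, hRQ1 hx⟩)
  have hNb : ∀ g ∈ Q, g⁻¹ * (b * g * b⁻¹) ∈ (Q ⊓ centralizer (VD : Set H)) ⊔ ⁅Q, Q⁆ :=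
    fun g hg => (le_sup_left : _ ≤ (Q ⊓ centralizer (VD : Set H)) ⊔ ⁅Q, Q⁆) (hQDb g hg)
  have hNy : ∀ x ∈ R, ∀ g ∈ Q, g⁻¹ * ((x⁻¹ * (b * x * b⁻¹)) * g * (x⁻¹ * (b * x * b⁻¹))⁻¹) ∈
      (Q ⊓ centralizer (VD : Set H)) ⊔ ⁅Q, Q⁆ := fun x hx g hg =>
    (le_sup_left : _ ≤ (Q ⊓ centralizer (VD : Set H)) ⊔ ⁅Q, Q⁆) ((hyF x hx).2.2 g hg)
  -- `R0`
  have hR0R : R ⊓ centralizer (Q : Set H) ≤ R := inf_le_left
  have hRR0 : R ≤ normalizer ((R ⊓ centralizer (Q : Set H) : Subgroup H) : Set H) := fun x hx =>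
    mem_normalizer_inf_centralizer_of (le_normalizer hx) (c.hRQ hx)
  have hbR0 : b ∈ normalizer ((R ⊓ centralizer (Q : Set H) : Subgroup H) : Set H) :=
    mem_normalizer_inf_centralizer_of hbR hbQ
  -- `N = Q`
  have hN : (Q ⊓ centralizer (VD : Set H)) ⊔ ⁅Q, Q⁆ = Q := by
    rcases htype with ⟨-, hε⟩ | hρ
    · -- type ε
      have hεi := hε i
      rw [hb] at hεi
      have hsurj := Cfsg.Agent.Helper65.PQ.surj_comm_of_fpf b R (R ⊓ centralizer (Q : Set H)) hR0R hRR0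
        hbR hbR0 hεi
      apply le_antisymm hNQ
      intro g hg
      apply hlast _ hQ1N hNQ hRN g hg
      intro y hy
      obtain ⟨x, hx, n, hn, rfl⟩ := hsurj y hy
      have hn' : n * g * n⁻¹ = g := by
        have := mem_centralizer_iff.mp (mem_inf.mp hn).2 g hg
        rw [← this, mul_inv_cancel_right]
      have e : x⁻¹ * (b * x * b⁻¹) * n * g * (x⁻¹ * (b * x * b⁻¹) * n)⁻¹ =
          (x⁻¹ * (b * x * b⁻¹)) * (n * g * n⁻¹) * (x⁻¹ * (b * x * b⁻¹))⁻¹ := by group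
      rw [e, hn']
      exact hNy x hx g hg
    · -- type ρ
      have hσQ : σ ∈ normalizer (Q : Set H) := c.hQinv.1
      have hσR : σ ∈ normalizer (R : Set H) := c.hRinv.1
      refine hPR s t w u σ b hFb c.hwu c.hws c.hwt c.hus c.hut Q ⁅Q, Q⁆ R
        (R ⊓ centralizer (Q : Set H)) c.hQ c.hR hQ1Qle ?_ hQpow (hinvb Q c.hQinv) ?_
        (hinvb R c.hRinv) ?_ c.hRQ hRQ1 hR0R ?_ hRcomm hRpow ?_ hfixb hρ _ hQ1N hNQ hNb hNy
      · intro g hg h hh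
        have := commutator_mem_commutator hg hh
        rwa [commutatorElement_def] at this
      · exact ⟨mem_normalizer_commutator_of hσQ hσQ, mem_normalizer_commutator_of hbQ hbQ⟩
      · exact ⟨mem_normalizer_inf_centralizer_of hσR hσQ, hbR0⟩
      · intro x hx g hg
        have := mem_centralizer_iff.mp (mem_inf.mp hx).2 g hg
        have e : x * g * x⁻¹ = g := by rw [← this, mul_inv_cancel_right]
        rw [e, inv_mul_cancel]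
        exact one_mem _
      · exact hlast _ le_rfl hQ1Qle hRQ1
  -- `Q1 ≤ Q_D`
  have hQDn : (Q ⊓ centralizer (VD : Set H)) ≤ normalizer ((⁅Q, Q⁆ : Subgroup H) : Set H) :=
    fun x hx => hQQ1 (mem_inf.mp hx).1
  have hmem : ∀ g ∈ Q, ∃ a ∈ Q ⊓ centralizer (VD : Set H), ∃ z ∈ ⁅Q, Q⁆, g = a * z := by
    intro g hg
    have hg' : g ∈ (((Q ⊓ centralizer (VD : Set H)) ⊔ ⁅Q, Q⁆ : Subgroup H) : Set H) := by
      rw [hN]; exact hg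
    rw [coe_mul_of_left_le_normalizer_right _ _ hQDn] at hg'
    obtain ⟨a, ha, z, hz, rfl⟩ := Set.mem_mul.mp hg'
    exact ⟨a, ha, z, hz, rfl⟩
  have hzc : ∀ z ∈ ⁅Q, Q⁆, ∀ q ∈ Q, z * q * z⁻¹ = q := by
    intro z hz q hq
    have := mem_centralizer_iff.mp (hQ1Q hz) q hq
    rw [← this, mul_inv_cancel_right]
  have hQ1QD : ⁅Q, Q⁆ ≤ Q ⊓ centralizer (VD : Set H) := by
    rw [commutator_le]
    intro g hg g' hg'
    obtain ⟨a, ha, z, hz, rfl⟩ := hmem g hg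
    obtain ⟨a', ha', z', hz', rfl⟩ := hmem g' hg'
    have haQ : a ∈ Q := (mem_inf.mp ha).1
    have ha'Q : a' ∈ Q := (mem_inf.mp ha').1
    have e1 : z * (a' * z') * z⁻¹ = a' * z' := hzc z hz _ hg'
    have e2 : z' * a⁻¹ * z'⁻¹ = a⁻¹ := hzc z' hz' _ (inv_mem haQ)
    have e : ⁅a * z, a' * z'⁆ = ⁅a, a'⁆ := by
      rw [commutatorElement_def, commutatorElement_def]
      calc a * z * (a' * z') * (a * z)⁻¹ * (a' * z')⁻¹
          = a * (z * (a' * z') * z⁻¹) * a⁻¹ * (a' * z')⁻¹ := by group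
        _ = a * (a' * z') * a⁻¹ * (a' * z')⁻¹ := by rw [e1]
        _ = a * a' * (z' * a⁻¹ * z'⁻¹) * a'⁻¹ := by group
        _ = a * a' * a⁻¹ * a'⁻¹ := by rw [e2]
    rw [e]
    exact commutator_mem_commutator ha ha' |> fun h =>
      (commutator_le.mpr (fun x hx y hy => by
        rw [commutatorElement_def]
        exact mul_mem (mul_mem (mul_mem hx hy) (inv_mem hx)) (inv_mem hy)) :
        ⁅Q ⊓ centralizer (VD : Set H), Q ⊓ centralizer (VD : Set H)⁆ ≤ Q ⊓ centralizer (VD : Set H)) h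
  -- `V_D ≤ C_V(Q1) = 1`
  have hQ1ne : ⁅Q, Q⁆ ≠ ⊥ := by
    intro e
    have hDbot : D = ⊥ := le_bot_iff.mp (e ▸ hDQ1)
    have := hD.2.2
    rw [e, hDbot, relIndex_bot_right] at this
    exact (Fact.out : w.Prime).one_lt.ne this
  have hfv := fixV_of_normal c ⁅Q, Q⁆ hQ1Qle hQ1ne
    ⟨mem_normalizer_commutator_of c.hQinv.1 c.hQinv.1, mem_normalizer_commutator_of c.hQinv.2 c.hQinv.2⟩
    hQQ1 hRQ1
  apply hVD
  rw [eq_bot_iff]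
  intro v hv
  rw [← hfv]
  have hvV : v ∈ V := by
    rw [← hVDdef] at hv
    exact (mem_inf.mp hv).1
  refine mem_inf.mpr ⟨hvV, ?_⟩
  rw [mem_centralizer_iff]
  intro z hz
  have := mem_centralizer_iff.mp (mem_inf.mp (hQ1QD hz)).2 v hv
  exact this.symm

end Cfsg.Agent.Helper41.PQ
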