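import Cfsg.Agent.Helper41.PQBG
import Cfsg.Agent.Helper32.PQSQ
import Cfsg.Agent.Helper80.PQSR
import Cfsg.Agent.Helper79.PQPR

/-!
Helper41: piece (BG) of helper52's S4306 with the exact skeleton signature.
-/

set_option autoImplicit false

namespace Cfsg.Agent.Helper41.PQ

open Subgroup Cfsg.Agent.Helper1.Shult Cfsg.Agent.Helper52.PQ

variable {H : Type*} [Group H] [Finite H]

variable {s t ℓ w u : ℕ} [Fact ℓ.Prime] [Fact w.Prime] [Fact u.Prime] {σ τ : H}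
  {V Q R : Subgroup H}

theorem lemmaPRel_holds : LemmaPRel H := fun _ _ _ _ _ _ _ _ =>
  Cfsg.Agent.Helper79.PQ.lemmaP_rel

/-- (BG) `Q` nonabelian, a hyperplane of `τ`-type, `[Q, b] ≤ C_Q(V_D)`. -/
theorem caseB_tau_good (c : CoreCfg s t ℓ w u σ τ V Q R) (D : Subgroup H)
    (hD : IsHyp w ⁅Q, Q⁆ ⊥ D) (hVD : V ⊓ centralizer (D : Set H) ≠ ⊥) (i : ℕ)
    (hbD : σ ^ i * τ * (σ ^ i)⁻¹ ∈ normalizer (D : Set H))
    (hgood : ∀ g ∈ Q, g⁻¹ * ((σ ^ i * τ * (σ ^ i)⁻¹) * g * (σ ^ i * τ * (σ ^ i)⁻¹)⁻¹) ∈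
      centralizer ((V ⊓ centralizer (D : Set H) : Subgroup H) : Set H)) : False :=
  caseB_tau_good_of c (Cfsg.Agent.Helper32.PQ.struct_Q c) (Cfsg.Agent.Helper80.PQ.struct_R c)
    lemmaPRel_holds D hD hVD i hbD hgood

end Cfsg.Agent.Helper41.PQ
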