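import Cfsg.Agent.Helper41.PSL2Klein
import Cfsg.Agent.Helper41.SL2Char2
import Cfsg.Agent.Helper37.SL2Sylow

set_option autoImplicit false

/-!
# Normalizers of Sylow `p`-subgroups of `PSL₂(q)` (Borel subgroups)

Every element of the normalizer of a Sylow `p`-subgroup of `PSL₂(F)`, `char F = p`, is the image of
a conjugate (by a fixed element) of an upper triangular matrix. Consequences: for `p` odd such a
normalizer contains no Klein four-group, and for `p = 2` its involutions commute.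
-/

namespace Cfsg.Agent.Helper41

open Matrix

section psl2borel

variable {F : Type*} [Field F]

local notation "SL2F" => Matrix.SpecialLinearGroup (Fin 2) F
local notation "M2F" => Matrix (Fin 2) (Fin 2) F
local notation "PSL2F" => Matrix.ProjectiveSpecialLinearGroup (Fin 2) F

/-- The lower left entry of `k * uu 1 * k⁻¹`. -/
theorem conj_uu_one_entry (k : SL2F) :
    ((k * Cfsg.Agent.Helper37.SL2.uu (1 : F) * k⁻¹ : SL2F) : M2F) 1 0 = -(k.1 1 0) ^ 2 := by
  rw [Matrix.SpecialLinearGroup.coe_mul, Matrix.SpecialLinearGroup.coe_mul,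
    Matrix.SpecialLinearGroup.coe_inv, Matrix.adjugate_fin_two]
  have : ((Cfsg.Agent.Helper37.SL2.uu (1 : F) : SL2F) : M2F) = !![1, 1; 0, 1] :=
    Cfsg.Agent.Helper37.SL2.uu_val 1
  rw [this]
  simp [Matrix.mul_apply, Fin.sum_univ_two]
  ring

/-- Elements of a Sylow normalizer of `PSL₂(F)` are images of conjugates of upper triangular
matrices. -/
theorem exists_upper_of_mem_normalizer_sylow [Fintype F] (p : ℕ) [Fact p.Prime] [CharP F p]
    (P : Sylow p PSL2F) :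
    ∃ g : SL2F, ∀ x ∈ Subgroup.normalizer ((P : Subgroup PSL2F) : Set PSL2F),
      ∃ k : SL2F, k.1 1 0 = 0 ∧ x = QuotientGroup.mk (g * k * g⁻¹) := by
  have hsurj : Function.Surjective (QuotientGroup.mk' (Subgroup.center SL2F)) :=
    QuotientGroup.mk'_surjective _
  obtain ⟨P', hP'⟩ := Sylow.mapSurjective_surjective hsurj p P
  obtain ⟨g, hg⟩ := Cfsg.Agent.Helper37.SL2.exists_smul_P0 p P'
  refine ⟨g, ?_⟩
  intro x hx
  obtain ⟨k₀, rfl⟩ := QuotientGroup.mk_surjective x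
  refine ⟨g⁻¹ * k₀ * g, ?_, by congr 1; group⟩
  -- the element `u = g * uu 1 * g⁻¹` of `P'`
  have hu : g * Cfsg.Agent.Helper37.SL2.uu (1 : F) * g⁻¹ ∈ P' := by
    rw [← hg, Cfsg.Agent.Helper37.SL2.mem_smul_P0]
    have : g⁻¹ * (g * Cfsg.Agent.Helper37.SL2.uu (1 : F) * g⁻¹) * g =
        Cfsg.Agent.Helper37.SL2.uu (1 : F) := by group
    rw [this]
    exact Cfsg.Agent.Helper37.SL2.uu_mem 1
  have hPmap : (P : Subgroup PSL2F) = (P' : Subgroup SL2F).map (QuotientGroup.mk' _) := by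
    rw [← hP', Sylow.coe_mapSurjective]
  have hmem : (QuotientGroup.mk (g * Cfsg.Agent.Helper37.SL2.uu (1 : F) * g⁻¹) : PSL2F) ∈
      (P : Subgroup PSL2F) := by
    rw [hPmap]
    exact Subgroup.mem_map_of_mem _ hu
  have h2 := (Subgroup.mem_normalizer_iff.mp hx _).mp hmem
  rw [hPmap] at h2
  obtain ⟨v, hv, hveq⟩ := Subgroup.mem_map.mp h2
  have hv' : g⁻¹ * v * g ∈ Cfsg.Agent.Helper37.SL2.U0 := by
    have hv2 : v ∈ (g • Cfsg.Agent.Helper37.SL2.P0 F p : Sylow p SL2F) := by rw [hg]; exact hv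
    exact (Cfsg.Agent.Helper37.SL2.mem_smul_P0 p).mp hv2
  obtain ⟨t, ht⟩ := Cfsg.Agent.Helper37.SL2.mem_U0.mp hv'
  -- compare in `PSL₂`
  have heq : (QuotientGroup.mk (Cfsg.Agent.Helper37.SL2.uu t) : PSL2F) =
      QuotientGroup.mk ((g⁻¹ * k₀ * g) * Cfsg.Agent.Helper37.SL2.uu (1 : F) * (g⁻¹ * k₀ * g)⁻¹) := by
    have e1 : (g⁻¹ * k₀ * g) * Cfsg.Agent.Helper37.SL2.uu (1 : F) * (g⁻¹ * k₀ * g)⁻¹ =
        g⁻¹ * (k₀ * (g * Cfsg.Agent.Helper37.SL2.uu (1 : F) * g⁻¹) * k₀⁻¹) * g := by group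
    rw [e1, ht]
    have hveq' : (QuotientGroup.mk v : PSL2F) =
        QuotientGroup.mk k₀ * QuotientGroup.mk (g * Cfsg.Agent.Helper37.SL2.uu (1 : F) * g⁻¹) *
          (QuotientGroup.mk k₀)⁻¹ := hveq
    rw [QuotientGroup.mk_mul, QuotientGroup.mk_mul, QuotientGroup.mk_mul, QuotientGroup.mk_mul,
      hveq']
    simp only [QuotientGroup.mk_mul, QuotientGroup.mk_inv]
  obtain ⟨r, -, hr⟩ := coe_eq_smul_of_mk_eq _ _ heq
  have h10 := congr_fun (congr_fun hr 1) 0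
  rw [conj_uu_one_entry] at h10
  have huu : ((Cfsg.Agent.Helper37.SL2.uu t : SL2F) : M2F) = !![1, t; 0, 1] :=
    Cfsg.Agent.Helper37.SL2.uu_val t
  rw [huu] at h10
  simp at h10
  exact h10

/-- Odd characteristic: two non-trivial involutions of `PSL₂` represented by upper triangular
matrices whose product is again of order at most two are equal. -/
theorem upper_invol_eq (h2 : (2 : F) ≠ 0) (k₁ k₂ : SL2F) (h₁ : k₁.1 1 0 = 0) (h₂ : k₂.1 1 0 = 0)
    (hn₁ : (QuotientGroup.mk k₁ : PSL2F) ≠ 1) (hn₂ : (QuotientGroup.mk k₂ : PSL2F) ≠ 1)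
    (hs₁ : (QuotientGroup.mk k₁ : PSL2F) * QuotientGroup.mk k₁ = 1)
    (hs₂ : (QuotientGroup.mk k₂ : PSL2F) * QuotientGroup.mk k₂ = 1)
    (hs₁₂ : ((QuotientGroup.mk k₁ : PSL2F) * QuotientGroup.mk k₂) *
      ((QuotientGroup.mk k₁ : PSL2F) * QuotientGroup.mk k₂) = 1) :
    (QuotientGroup.mk k₁ : PSL2F) = QuotientGroup.mk k₂ := by
  have hc₁ : k₁ ∉ Subgroup.center SL2F := fun h => hn₁ ((QuotientGroup.eq_one_iff _).mpr h)
  have hc₂ : k₂ ∉ Subgroup.center SL2F := fun h => hn₂ ((QuotientGroup.eq_one_iff _).mpr h)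
  have hq₁ : k₁ ^ 2 ∈ Subgroup.center SL2F := by
    rw [pow_two]; rw [← QuotientGroup.mk_mul] at hs₁; exact (QuotientGroup.eq_one_iff _).mp hs₁
  have hq₂ : k₂ ^ 2 ∈ Subgroup.center SL2F := by
    rw [pow_two]; rw [← QuotientGroup.mk_mul] at hs₂; exact (QuotientGroup.eq_one_iff _).mp hs₂
  have hq₁₂ : (k₁ * k₂) ^ 2 ∈ Subgroup.center SL2F := by
    rw [pow_two]
    rw [← QuotientGroup.mk_mul, ← QuotientGroup.mk_mul] at hs₁₂
    exact (QuotientGroup.eq_one_iff _).mp hs₁₂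
  have ht₁ := sl2_trace_eq_zero_of_sq_mem_center k₁ hq₁ hc₁
  have ht₂ := sl2_trace_eq_zero_of_sq_mem_center k₂ hq₂ hc₂
  rw [Matrix.trace_fin_two] at ht₁ ht₂
  have hd₁ := sl2_det k₁
  have hd₂ := sl2_det k₂
  have hprod : k₁ * k₂ ∈ Subgroup.center SL2F := by
    by_contra hcon
    have ht := sl2_trace_eq_zero_of_sq_mem_center (k₁ * k₂) hq₁₂ hcon
    rw [Matrix.trace_fin_two, Matrix.SpecialLinearGroup.coe_mul] at ht
    simp only [Matrix.mul_apply, Fin.sum_univ_two] at ht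
    have e₁ : (k₁ : M2F) 1 1 = -(k₁ : M2F) 0 0 := by linear_combination ht₁
    have e₂ : (k₂ : M2F) 1 1 = -(k₂ : M2F) 0 0 := by linear_combination ht₂
    have h₁' : (k₁ : M2F) 1 0 = 0 := h₁
    have h₂' : (k₂ : M2F) 1 0 = 0 := h₂
    rw [h₁', e₁, e₂, h₂'] at ht
    have hz : 2 * ((k₁ : M2F) 0 0 * (k₂ : M2F) 0 0) = 0 := by linear_combination ht
    rcases mul_eq_zero.mp hz with h | h
    · exact h2 h
    · rcases mul_eq_zero.mp h with h | h
      · rw [h₁', e₁, h] at hd₁; simp at hd₁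
      · rw [h₂', e₂, h] at hd₂; simp at hd₂
  have : k₁⁻¹ * k₂ = (k₁ ^ 2)⁻¹ * (k₁ * k₂) := by group
  rw [QuotientGroup.eq, this]
  exact Subgroup.mul_mem _ (Subgroup.inv_mem _ hq₁) hprod

/-- Characteristic two: an upper triangular involution of `SL₂` is unitriangular. -/
theorem upper_diag_of_mul_self (h2 : (2 : F) = 0) (k : SL2F) (h : k.1 1 0 = 0)
    (hs : (QuotientGroup.mk k : PSL2F) * QuotientGroup.mk k = 1) :
    (k : M2F) 0 0 = 1 ∧ (k : M2F) 1 1 = 1 := by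
  rw [← QuotientGroup.mk_mul] at hs
  have h1 : k * k = 1 :=
    sl2_eq_one_of_mem_center_of_two_eq_zero h2 _ ((QuotientGroup.eq_one_iff _).mp hs)
  have hm := congrArg (fun X : SL2F => (X : M2F)) h1
  simp only [Matrix.SpecialLinearGroup.coe_mul, Matrix.SpecialLinearGroup.coe_one] at hm
  have e00 := congr_fun (congr_fun hm 0) 0
  have e11 := congr_fun (congr_fun hm 1) 1
  have h' : (k : M2F) 1 0 = 0 := h
  simp only [Matrix.mul_apply, Fin.sum_univ_two, h', mul_zero, add_zero, zero_mul, zero_add,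
    Matrix.one_apply_eq] at e00 e11
  constructor
  · have : ((k : M2F) 0 0 - 1) ^ 2 = 0 := by linear_combination e00 + (1 - (k : M2F) 0 0) * h2
    have := pow_eq_zero_iff (two_ne_zero) |>.1 this
    exact sub_eq_zero.mp this
  · have : ((k : M2F) 1 1 - 1) ^ 2 = 0 := by linear_combination e11 + (1 - (k : M2F) 1 1) * h2
    have := pow_eq_zero_iff (two_ne_zero) |>.1 this
    exact sub_eq_zero.mp this

/-- Characteristic two: involutions represented by upper triangular matrices commute. -/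
theorem upper_invol_comm (h2 : (2 : F) = 0) (k₁ k₂ : SL2F) (h₁ : k₁.1 1 0 = 0) (h₂ : k₂.1 1 0 = 0)
    (hs₁ : (QuotientGroup.mk k₁ : PSL2F) * QuotientGroup.mk k₁ = 1)
    (hs₂ : (QuotientGroup.mk k₂ : PSL2F) * QuotientGroup.mk k₂ = 1) :
    (QuotientGroup.mk k₁ : PSL2F) * QuotientGroup.mk k₂ =
      QuotientGroup.mk k₂ * QuotientGroup.mk k₁ := by
  obtain ⟨a₁, d₁⟩ := upper_diag_of_mul_self h2 k₁ h₁ hs₁
  obtain ⟨a₂, d₂⟩ := upper_diag_of_mul_self h2 k₂ h₂ hs₂
  rw [← QuotientGroup.mk_mul, ← QuotientGroup.mk_mul]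
  congr 1
  apply Subtype.ext
  rw [Matrix.SpecialLinearGroup.coe_mul, Matrix.SpecialLinearGroup.coe_mul]
  have h₁' : (k₁ : M2F) 1 0 = 0 := h₁
  have h₂' : (k₂ : M2F) 1 0 = 0 := h₂
  ext i j
  fin_cases i <;> fin_cases j <;>
    simp [Matrix.mul_apply, Fin.sum_univ_two, h₁', h₂', a₁, a₂, d₁, d₂, add_comm]

/-- Odd characteristic: a Sylow `p`-normalizer of `PSL₂(F)` contains no Klein four-group. -/
theorem eq_of_invol_of_mem_normalizer_sylow [Fintype F] (p : ℕ) [Fact p.Prime] [CharP F p]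
    (h2 : (2 : F) ≠ 0) (P : Sylow p PSL2F) (x y : PSL2F)
    (hx : x ∈ Subgroup.normalizer ((P : Subgroup PSL2F) : Set PSL2F))
    (hy : y ∈ Subgroup.normalizer ((P : Subgroup PSL2F) : Set PSL2F))
    (hx1 : x ≠ 1) (hy1 : y ≠ 1) (hxx : x * x = 1) (hyy : y * y = 1)
    (hxy : (x * y) * (x * y) = 1) : x = y := by
  obtain ⟨g, hg⟩ := exists_upper_of_mem_normalizer_sylow p P
  obtain ⟨k₁, h₁, rfl⟩ := hg x hx
  obtain ⟨k₂, h₂, rfl⟩ := hg y hy
  simp only [QuotientGroup.mk_mul, QuotientGroup.mk_inv] at *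
  set c : PSL2F := QuotientGroup.mk g with hc
  set a : PSL2F := QuotientGroup.mk k₁ with ha
  set b : PSL2F := QuotientGroup.mk k₂ with hb
  have hab : a = b := by
    apply upper_invol_eq h2 k₁ k₂ h₁ h₂
    · intro h; apply hx1; rw [← ha] at h; rw [h]; group
    · intro h; apply hy1; rw [← hb] at h; rw [h]; group
    · rw [← ha]
      have : a * a = c⁻¹ * (c * a * c⁻¹ * (c * a * c⁻¹)) * c := by group
      rw [this, hxx]; group
    · rw [← hb]
      have : b * b = c⁻¹ * (c * b * c⁻¹ * (c * b * c⁻¹)) * c := by group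
      rw [this, hyy]; group
    · rw [← ha, ← hb]
      have : a * b * (a * b) =
          c⁻¹ * (c * a * c⁻¹ * (c * b * c⁻¹) * (c * a * c⁻¹ * (c * b * c⁻¹))) * c := by group
      rw [this, hxy]; group
  rw [hab]

/-- Characteristic two: the involutions of a Sylow `2`-normalizer of `PSL₂(F)` commute. -/
theorem comm_of_invol_of_mem_normalizer_sylow [Fintype F] (p : ℕ) [Fact p.Prime] [CharP F p]
    (h2 : (2 : F) = 0) (P : Sylow p PSL2F) (x y : PSL2F)
    (hx : x ∈ Subgroup.normalizer ((P : Subgroup PSL2F) : Set PSL2F))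
    (hy : y ∈ Subgroup.normalizer ((P : Subgroup PSL2F) : Set PSL2F))
    (hxx : x * x = 1) (hyy : y * y = 1) : x * y = y * x := by
  obtain ⟨g, hg⟩ := exists_upper_of_mem_normalizer_sylow p P
  obtain ⟨k₁, h₁, rfl⟩ := hg x hx
  obtain ⟨k₂, h₂, rfl⟩ := hg y hy
  simp only [QuotientGroup.mk_mul, QuotientGroup.mk_inv] at *
  set c : PSL2F := QuotientGroup.mk g with hc
  set a : PSL2F := QuotientGroup.mk k₁ with ha
  set b : PSL2F := QuotientGroup.mk k₂ with hb
  have hab : a * b = b * a := by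
    apply upper_invol_comm h2 k₁ k₂ h₁ h₂
    · rw [← ha]
      have : a * a = c⁻¹ * (c * a * c⁻¹ * (c * a * c⁻¹)) * c := by group
      rw [this, hxx]; group
    · rw [← hb]
      have : b * b = c⁻¹ * (c * b * c⁻¹ * (c * b * c⁻¹)) * c := by group
      rw [this, hyy]; group
  have e1 : c * a * c⁻¹ * (c * b * c⁻¹) = c * (a * b) * c⁻¹ := by group
  have e2 : c * b * c⁻¹ * (c * a * c⁻¹) = c * (b * a) * c⁻¹ := by group
  rw [e1, e2, hab]

end psl2borel

end Cfsg.Agent.Helper41
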