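import Cfsg.Agent.Helper88.PSp4Hyp
import Cfsg.Agent.Helper13.SympTrans

/-!
Helper41: symplectic frames in `F⁴` (for pieces (G3), (G4a) of helper88's S5320):
four vectors `e₁, e₂, f₁, f₂` with the Gram matrix `J` are the columns of an element `k` of `Sp₄(F)`,
and a matrix acting on the two planes `⟨e_a, f_a⟩` through `c_a ∈ SL₂` is `k ι(c₁,c₂) k⁻¹`.
-/

set_option autoImplicit false

namespace Cfsg.Agent.Helper41.PSp4G

open Matrix Cfsg.Agent.Helper13 Cfsg.Agent.Helper42 Cfsg.Agent.Helper88.PSp4F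

variable {F : Type*} [Field F]

/-- the index set of the coordinates -/
abbrev I4 := Fin 2 ⊕ Fin 2

/-- the alternating form -/
abbrev om (u v : I4 → F) : F := Cfsg.sympForm 2 F u v

/-- nondegeneracy on the right -/
theorem om_nondeg {u : I4 → F} (hu : u ≠ 0) : ∃ w, om u w ≠ 0 := by
  obtain ⟨x, hx⟩ := sympForm_nondeg_left (m := 2) hu
  refine ⟨x, ?_⟩
  show Cfsg.sympForm 2 F u x ≠ 0
  rw [sympForm_swap]
  exact neg_ne_zero.mpr hx

/-- the matrix with columns `e 0, e 1, f 0, f 1` -/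
def frameMat (e f : Fin 2 → I4 → F) : Matrix I4 I4 F :=
  Matrix.of fun i j => Sum.elim (fun a => e a i) (fun a => f a i) j

theorem frameMat_mulVec_inl (e f : Fin 2 → I4 → F) (a : Fin 2) :
    frameMat e f *ᵥ Pi.single (Sum.inl a) 1 = e a := by
  rw [Matrix.mulVec_single_one]
  funext i
  simp [frameMat]

theorem frameMat_mulVec_inr (e f : Fin 2 → I4 → F) (a : Fin 2) :
    frameMat e f *ᵥ Pi.single (Sum.inr a) 1 = f a := by
  rw [Matrix.mulVec_single_one]
  funext i
  simp [frameMat]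

/-- the entries of `Aᵀ J A` -/
theorem gram_entry (A : Matrix I4 I4 F) (i j : I4) :
    (Aᵀ * Matrix.J (Fin 2) F * A) i j = om (A *ᵥ Pi.single i 1) (A *ᵥ Pi.single j 1) := by
  show _ = Cfsg.sympForm 2 F _ _
  rw [sympForm_mulVec]
  simp

/-- a frame with Gram matrix `J` gives a symplectic matrix -/
theorem frameMat_mem (e f : Fin 2 → I4 → F) (h00 : om (e 0) (f 0) = -1) (h11 : om (e 1) (f 1) = -1)
    (hee : om (e 0) (e 1) = 0) (h01 : om (e 0) (f 1) = 0) (h10 : om (e 1) (f 0) = 0)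
    (hff : om (f 0) (f 1) = 0) : frameMat e f ∈ Matrix.symplecticGroup (Fin 2) F := by
  rw [SymplecticGroup.mem_iff']
  have hee' : om (e 1) (e 0) = 0 := by
    show Cfsg.sympForm 2 F _ _ = 0
    rw [sympForm_swap]; exact neg_eq_zero.mpr hee
  have hff' : om (f 1) (f 0) = 0 := by
    show Cfsg.sympForm 2 F _ _ = 0
    rw [sympForm_swap]; exact neg_eq_zero.mpr hff
  have g00 : om (f 0) (e 0) = 1 := by
    show Cfsg.sympForm 2 F _ _ = 1
    rw [sympForm_swap]
    have : Cfsg.sympForm 2 F (e 0) (f 0) = -1 := h00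
    rw [this, neg_neg]
  have g11 : om (f 1) (e 1) = 1 := by
    show Cfsg.sympForm 2 F _ _ = 1
    rw [sympForm_swap]
    have : Cfsg.sympForm 2 F (e 1) (f 1) = -1 := h11
    rw [this, neg_neg]
  have g01 : om (f 1) (e 0) = 0 := by
    show Cfsg.sympForm 2 F _ _ = 0
    rw [sympForm_swap]; exact neg_eq_zero.mpr h01
  have g10 : om (f 0) (e 1) = 0 := by
    show Cfsg.sympForm 2 F _ _ = 0
    rw [sympForm_swap]; exact neg_eq_zero.mpr h10
  have see : ∀ a, om (e a) (e a) = 0 := fun a => sympForm_self _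
  have sff : ∀ a, om (f a) (f a) = 0 := fun a => sympForm_self _
  ext i j
  rw [gram_entry]
  rcases i with a | a <;> rcases j with b | b <;>
    simp only [frameMat_mulVec_inl, frameMat_mulVec_inr] <;>
    fin_cases a <;> fin_cases b <;>
    simp [Matrix.J, see, sff, hee, hee', hff, hff', h00, h11, h01, h10, g00, g11, g01, g10]

/-- a matrix acting on the planes of a frame through `c 0`, `c 1` -/
theorem frame_conj (G : Matrix I4 I4 F) (e f : Fin 2 → I4 → F)
    (c : Fin 2 → Matrix.SpecialLinearGroup (Fin 2) F)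
    (he : ∀ a, G *ᵥ e a = (c a).1 0 0 • e a + (c a).1 1 0 • f a)
    (hf : ∀ a, G *ᵥ f a = (c a).1 0 1 • e a + (c a).1 1 1 • f a) :
    G * frameMat e f = frameMat e f * bMat c := by
  ext i j
  rcases j with a | a
  · have h1 : (G * frameMat e f) i (Sum.inl a) = (G *ᵥ e a) i := by
      rw [← frameMat_mulVec_inl e f a, Matrix.mulVec_mulVec, Matrix.mulVec_single_one]
      rfl
    rw [h1, he a]
    simp only [Matrix.mul_apply, Fintype.sum_sum_type, bMat, Matrix.fromBlocks_apply₁₁,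
      Matrix.fromBlocks_apply₂₁, Matrix.diagonal_apply, mul_ite, mul_zero, Finset.sum_ite_eq',
      Finset.mem_univ, if_true, Pi.add_apply, Pi.smul_apply, smul_eq_mul, frameMat, Matrix.of_apply,
      Sum.elim_inl, Sum.elim_inr]
    ring
  · have h1 : (G * frameMat e f) i (Sum.inr a) = (G *ᵥ f a) i := by
      rw [← frameMat_mulVec_inr e f a, Matrix.mulVec_mulVec, Matrix.mulVec_single_one]
      rfl
    rw [h1, hf a]
    simp only [Matrix.mul_apply, Fintype.sum_sum_type, bMat, Matrix.fromBlocks_apply₁₂,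
      Matrix.fromBlocks_apply₂₂, Matrix.diagonal_apply, mul_ite, mul_zero, Finset.sum_ite_eq',
      Finset.mem_univ, if_true, Pi.add_apply, Pi.smul_apply, smul_eq_mul, frameMat, Matrix.of_apply,
      Sum.elim_inl, Sum.elim_inr]
    ring

/-- the conclusion in `Sp₄(F)` -/
theorem exists_conj_io_of_frame (g : Sp4 F) (e f : Fin 2 → I4 → F) (c₁ c₂ : SL2 F)
    (h00 : om (e 0) (f 0) = -1) (h11 : om (e 1) (f 1) = -1)
    (hee : om (e 0) (e 1) = 0) (h01 : om (e 0) (f 1) = 0) (h10 : om (e 1) (f 0) = 0)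
    (hff : om (f 0) (f 1) = 0)
    (he0 : g.1 *ᵥ e 0 = c₁.1 0 0 • e 0 + c₁.1 1 0 • f 0)
    (hf0 : g.1 *ᵥ f 0 = c₁.1 0 1 • e 0 + c₁.1 1 1 • f 0)
    (he1 : g.1 *ᵥ e 1 = c₂.1 0 0 • e 1 + c₂.1 1 0 • f 1)
    (hf1 : g.1 *ᵥ f 1 = c₂.1 0 1 • e 1 + c₂.1 1 1 • f 1) :
    ∃ k : Sp4 F, k * io c₁ c₂ * k⁻¹ = g := by
  refine ⟨⟨frameMat e f, frameMat_mem e f h00 h11 hee h01 h10 hff⟩, ?_⟩
  rw [mul_inv_eq_iff_eq_mul]
  apply Subtype.ext
  have := frame_conj g.1 e f ![c₁, c₂]
    (fun a => by fin_cases a <;> [exact he0; exact he1])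
    (fun a => by fin_cases a <;> [exact hf0; exact hf1])
  exact this.symm

end Cfsg.Agent.Helper41.PSp4G
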