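import Cfsg.Agent.Helper41.PSp4Frame

/-!
Helper41: piece (G3) of helper88's S5320: the non-central involutions of `Sp₄(F)` (characteristic not 2)
are conjugate to `t₀ = ι(-1, 1)`.
-/

set_option autoImplicit false

namespace Cfsg.Agent.Helper41.PSp4G

open Matrix Cfsg.Agent.Helper13 Cfsg.Agent.Helper42 Cfsg.Agent.Helper88.PSp4F

variable {F : Type*} [Field F]

/-- an involution different from `s` has an eigenvector for `-s` -/
theorem exists_eigvec (G : Matrix I4 I4 F) (hGG : G * G = 1) (s : F) (hs : s * s = 1)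
    (hne : G ≠ s • (1 : Matrix I4 I4 F)) : ∃ v : I4 → F, v ≠ 0 ∧ G *ᵥ v = (-s) • v := by
  have hP : G - s • (1 : Matrix I4 I4 F) ≠ 0 := sub_ne_zero.mpr hne
  obtain ⟨j, hj⟩ : ∃ j, (G - s • (1 : Matrix I4 I4 F)) *ᵥ Pi.single j 1 ≠ 0 := by
    by_contra hcon
    simp only [not_exists, not_not] at hcon
    apply hP
    ext i j
    have := congrFun (hcon j) i
    rw [Matrix.mulVec_single_one] at this
    simpa using this
  refine ⟨_, hj, ?_⟩
  rw [Matrix.mulVec_mulVec, ← Matrix.smul_mulVec]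
  congr 1
  rw [Matrix.mul_sub, hGG, smul_sub, smul_smul, Matrix.mul_smul, Matrix.mul_one]
  have : -s * s = -1 := by rw [neg_mul, hs]
  rw [this]
  simp only [neg_smul, one_smul]
  abel

/-- a partner in the same eigenspace -/
theorem exists_pair (h2 : (2 : F) ≠ 0) (G : Matrix I4 I4 F) (hGG : G * G = 1)
    (hpres : ∀ u v, om (G *ᵥ u) (G *ᵥ v) = om u v) (s : F) (hs : s * s = 1)
    (v : I4 → F) (hv : v ≠ 0) (hGv : G *ᵥ v = s • v) :
    ∃ f : I4 → F, G *ᵥ f = s • f ∧ om v f = -1 := by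
  obtain ⟨w, hw⟩ := om_nondeg hv
  have hGw : om v (G *ᵥ w) = s * om v w := by
    have h1 := hpres v (G *ᵥ w)
    rw [Matrix.mulVec_mulVec, hGG, Matrix.one_mulVec, hGv] at h1
    show Cfsg.sympForm 2 F _ _ = s * Cfsg.sympForm 2 F _ _
    have h1' : Cfsg.sympForm 2 F (s • v) w = Cfsg.sympForm 2 F v (G *ᵥ w) := h1
    rw [← h1', sympForm_smul_left]
  have hf' : G *ᵥ (w + s • (G *ᵥ w)) = s • (w + s • (G *ᵥ w)) := by
    rw [Matrix.mulVec_add, Matrix.mulVec_smul, Matrix.mulVec_mulVec, hGG, Matrix.one_mulVec, smul_add,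
      smul_smul, hs, one_smul, add_comm]
  have hom : om v (w + s • (G *ᵥ w)) = 2 * om v w := by
    show Cfsg.sympForm 2 F _ _ = 2 * Cfsg.sympForm 2 F _ _
    rw [sympForm_add_right, sympForm_smul_right]
    have : Cfsg.sympForm 2 F v (G *ᵥ w) = s * Cfsg.sympForm 2 F v w := hGw
    rw [this, ← mul_assoc, hs]
    ring
  have hne : (2 : F) * om v w ≠ 0 := mul_ne_zero h2 hw
  refine ⟨(-(2 * om v w)⁻¹) • (w + s • (G *ᵥ w)), ?_, ?_⟩
  · rw [Matrix.mulVec_smul, hf', smul_comm]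
  · show Cfsg.sympForm 2 F _ _ = -1
    rw [sympForm_smul_right]
    have : Cfsg.sympForm 2 F v (w + s • (G *ᵥ w)) = 2 * om v w := hom
    rw [this, neg_mul, inv_mul_cancel₀ hne]

/-- eigenvectors for opposite signs are orthogonal -/
theorem om_eq_zero_of_eig (h2 : (2 : F) ≠ 0) (G : Matrix I4 I4 F)
    (hpres : ∀ u v, om (G *ᵥ u) (G *ᵥ v) = om u v) (u v : I4 → F)
    (hu : G *ᵥ u = (-1 : F) • u) (hv : G *ᵥ v = (1 : F) • v) : om u v = 0 := by
  have h1 := hpres u v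
  rw [hu, hv] at h1
  have h1' : Cfsg.sympForm 2 F ((-1 : F) • u) ((1 : F) • v) = Cfsg.sympForm 2 F u v := h1
  rw [sympForm_smul_left, sympForm_smul_right] at h1'
  have h3 : (2 : F) * Cfsg.sympForm 2 F u v = 0 := by linear_combination -h1'
  rcases mul_eq_zero.mp h3 with h | h
  · exact absurd h h2
  · exact h

/-- (G3) -/
theorem hG3 (h2 : (2 : F) ≠ 0) : HG3 F := by
  intro g hgg hg1 hgn
  have hGG : g.1 * g.1 = 1 := by
    have := congrArg Subtype.val hgg
    exact this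
  have hpres : ∀ u v, om (g.1 *ᵥ u) (g.1 *ᵥ v) = om u v :=
    (mem_symplecticGroup_iff_preserves g.1).mp g.2
  have hne1 : g.1 ≠ (1 : F) • (1 : Matrix I4 I4 F) := by
    rw [one_smul]
    intro h
    exact hg1 (Subtype.ext h)
  have hne2 : g.1 ≠ (-1 : F) • (1 : Matrix I4 I4 F) := by
    rw [neg_smul, one_smul]
    intro h
    exact hgn (Subtype.ext h)
  obtain ⟨e0, he0, hGe0⟩ := exists_eigvec g.1 hGG 1 (by ring) hne1
  obtain ⟨e1, he1, hGe1⟩ := exists_eigvec g.1 hGG (-1) (by ring) hne2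
  rw [neg_neg] at hGe1
  obtain ⟨f0, hGf0, hef0⟩ := exists_pair h2 g.1 hGG hpres (-1) (by ring) e0 he0 hGe0
  obtain ⟨f1, hGf1, hef1⟩ := exists_pair h2 g.1 hGG hpres 1 (by ring) e1 he1 hGe1
  have hswap : ∀ u v : I4 → F, om u v = 0 → om v u = 0 := by
    intro u v h
    show Cfsg.sympForm 2 F v u = 0
    rw [sympForm_swap]
    exact neg_eq_zero.mpr h
  have key := exists_conj_io_of_frame g ![e0, e1] ![f0, f1] (negOneSL F) 1 hef0 hef1
    (om_eq_zero_of_eig h2 g.1 hpres e0 e1 hGe0 hGe1)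
    (om_eq_zero_of_eig h2 g.1 hpres e0 f1 hGe0 hGf1)
    (hswap _ _ (om_eq_zero_of_eig h2 g.1 hpres f0 e1 hGf0 hGe1))
    (om_eq_zero_of_eig h2 g.1 hpres f0 f1 hGf0 hGf1)
    (by
      show g.1 *ᵥ e0 = _
      rw [hGe0]
      simp [negOneSL])
    (by
      show g.1 *ᵥ f0 = _
      rw [hGf0]
      simp [negOneSL])
    (by
      show g.1 *ᵥ e1 = _
      rw [hGe1]
      simp)
    (by
      show g.1 *ᵥ f1 = _
      rw [hGf1]
      simp)
  exact key

end Cfsg.Agent.Helper41.PSp4G
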