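import Cfsg.Agent.Helper41.PSp4Frame

/-!
Helper41: piece (G4a) of helper88's S5320: an element of `Sp₄(F)` (characteristic not 2) with square `-1`
is conjugate to some `ι(c₁, c₂)` with `c₁² = c₂² = -1`.
-/

set_option autoImplicit false

namespace Cfsg.Agent.Helper41.PSp4G

open Matrix Cfsg.Agent.Helper13 Cfsg.Agent.Helper42 Cfsg.Agent.Helper88.PSp4F

variable {F : Type*} [Field F]

/-- the matrix `[0, β⁻¹; -β, 0]` of `SL₂` -/
def cmat (β : F) (hβ : β ≠ 0) : SL2 F :=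
  ⟨!![0, β⁻¹; -β, 0], by rw [Matrix.det_fin_two_of]; field_simp; ring⟩

theorem cmat_sq (β : F) (hβ : β ≠ 0) : cmat β hβ * cmat β hβ = negOneSL F := by
  apply Subtype.ext
  show (!![0, β⁻¹; -β, 0] : Matrix (Fin 2) (Fin 2) F) * !![0, β⁻¹; -β, 0] = Matrix.scalar (Fin 2) (-1)
  ext i j
  fin_cases i <;> fin_cases j <;> simp [Matrix.mul_apply, Fin.sum_univ_two, hβ]

section

variable (G : Matrix I4 I4 F) (hGG : G * G = -1) (hpres : ∀ u v, om (G *ᵥ u) (G *ᵥ v) = om u v)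

include hGG in
theorem G_G_mulVec (x : I4 → F) : G *ᵥ (G *ᵥ x) = -x := by
  rw [Matrix.mulVec_mulVec, hGG, Matrix.neg_mulVec, Matrix.one_mulVec]

include hGG hpres in
/-- `(u, x) ↦ ω(u, G x)` is symmetric -/
theorem om_G_symm (u x : I4 → F) : om u (G *ᵥ x) = om x (G *ᵥ u) := by
  have h1 := hpres u (G *ᵥ x)
  rw [G_G_mulVec G hGG] at h1
  have h1' : Cfsg.sympForm 2 F (G *ᵥ u) (-x) = Cfsg.sympForm 2 F u (G *ᵥ x) := h1
  rw [sympForm_neg_right] at h1'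
  show Cfsg.sympForm 2 F u (G *ᵥ x) = Cfsg.sympForm 2 F x (G *ᵥ u)
  rw [← h1', sympForm_swap x]

include hGG hpres in
/-- polarization -/
theorem exists_aniso (h2 : (2 : F) ≠ 0) (u x : I4 → F) (h : om u (G *ᵥ x) ≠ 0) :
    ∃ y, (y = u ∨ y = x ∨ y = u + x) ∧ om y (G *ᵥ y) ≠ 0 := by
  by_contra hcon
  simp only [not_exists, not_and, not_not] at hcon
  have h1 := hcon u (Or.inl rfl)
  have h3 := hcon x (Or.inr (Or.inl rfl))
  have h4 := hcon (u + x) (Or.inr (Or.inr rfl))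
  have hs := om_G_symm G hGG hpres u x
  apply h
  have h1' : Cfsg.sympForm 2 F u (G *ᵥ u) = 0 := h1
  have h3' : Cfsg.sympForm 2 F x (G *ᵥ x) = 0 := h3
  have h4' : Cfsg.sympForm 2 F (u + x) (G *ᵥ (u + x)) = 0 := h4
  have hs' : Cfsg.sympForm 2 F u (G *ᵥ x) = Cfsg.sympForm 2 F x (G *ᵥ u) := hs
  rw [Matrix.mulVec_add, sympForm_add_left, sympForm_add_right, sympForm_add_right, h1', h3', ← hs'] at h4'
  have : (2 : F) * Cfsg.sympForm 2 F u (G *ᵥ x) = 0 := by linear_combination h4'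
  rcases mul_eq_zero.mp this with h5 | h5
  · exact absurd h5 h2
  · exact h5

include hGG in
/-- the hyperbolic pair of an anisotropic vector -/
theorem pair_of_aniso (y : I4 → F) (hβ : om y (G *ᵥ y) ≠ 0) :
    om y ((-(om y (G *ᵥ y))⁻¹) • (G *ᵥ y)) = -1 ∧
    G *ᵥ y = (cmat _ hβ).1 0 0 • y + (cmat _ hβ).1 1 0 • ((-(om y (G *ᵥ y))⁻¹) • (G *ᵥ y)) ∧
    G *ᵥ ((-(om y (G *ᵥ y))⁻¹) • (G *ᵥ y)) =
      (cmat _ hβ).1 0 1 • y + (cmat _ hβ).1 1 1 • ((-(om y (G *ᵥ y))⁻¹) • (G *ᵥ y)) := by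
  refine ⟨?_, ?_, ?_⟩
  · show Cfsg.sympForm 2 F _ _ = -1
    rw [sympForm_smul_right, neg_mul]
    have : (Cfsg.sympForm 2 F y (G *ᵥ y))⁻¹ * Cfsg.sympForm 2 F y (G *ᵥ y) = 1 := inv_mul_cancel₀ hβ
    rw [this]
  · have e00 : (cmat (om y (G *ᵥ y)) hβ).1 0 0 = 0 := rfl
    have e10 : (cmat (om y (G *ᵥ y)) hβ).1 1 0 = -(om y (G *ᵥ y)) := rfl
    rw [e00, e10, zero_smul, zero_add, smul_smul, neg_mul_neg, mul_inv_cancel₀ hβ, one_smul]
  · have e01 : (cmat (om y (G *ᵥ y)) hβ).1 0 1 = (om y (G *ᵥ y))⁻¹ := rfl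
    have e11 : (cmat (om y (G *ᵥ y)) hβ).1 1 1 = 0 := rfl
    rw [e01, e11, zero_smul, add_zero, Matrix.mulVec_smul, G_G_mulVec G hGG, smul_neg, neg_smul, neg_neg]

end

/-- no injective linear map `F⁴ → F²` -/
theorem not_injective_pair (a b : I4 → F) :
    ∃ x : I4 → F, x ≠ 0 ∧ om x a = 0 ∧ om x b = 0 := by
  by_contra hcon
  simp only [not_exists, not_and] at hcon
  let T : (I4 → F) →ₗ[F] (Fin 2 → F) :=
    { toFun := fun x => ![om x a, om x b]
      map_add' := by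
        intro x y
        show ![Cfsg.sympForm 2 F (x + y) a, Cfsg.sympForm 2 F (x + y) b] = _
        rw [sympForm_add_left, sympForm_add_left]
        funext i
        fin_cases i <;> rfl
      map_smul' := by
        intro c x
        show ![Cfsg.sympForm 2 F (c • x) a, Cfsg.sympForm 2 F (c • x) b] = _
        rw [sympForm_smul_left, sympForm_smul_left]
        funext i
        fin_cases i <;> rfl }
  have hinj : Function.Injective T := by
    rw [← LinearMap.ker_eq_bot, LinearMap.ker_eq_bot']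
    intro x hx
    by_contra hne
    have h0 : om x a = 0 := by
      have := congrFun hx 0
      exact this
    have h1 : om x b = 0 := by
      have := congrFun hx 1
      exact this
    exact hcon x hne h0 h1
  have := LinearMap.finrank_le_finrank_of_injective hinj
  rw [Module.finrank_fintype_fun_eq_card, Module.finrank_fin_fun] at this
  simp at this

/-- (G4a) -/
theorem exists_conj_io_of_sq (h2 : (2 : F) ≠ 0) (g : Sp4 F) (hg : g * g = nI F) :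
    ∃ (k : Sp4 F) (c₁ c₂ : SL2 F), c₁ * c₁ = negOneSL F ∧ c₂ * c₂ = negOneSL F ∧ k * io c₁ c₂ * k⁻¹ = g := by
  have hGG : g.1 * g.1 = -1 := by
    have := congrArg Subtype.val hg
    exact this
  have hpres : ∀ u v, om (g.1 *ᵥ u) (g.1 *ᵥ v) = om u v :=
    (mem_symplecticGroup_iff_preserves g.1).mp g.2
  have hswap : ∀ u v : I4 → F, om u v = 0 → om v u = 0 := by
    intro u v h
    show Cfsg.sympForm 2 F v u = 0
    rw [sympForm_swap]
    exact neg_eq_zero.mpr h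
  -- first anisotropic vector
  obtain ⟨y0, hβ0⟩ : ∃ y0 : I4 → F, om y0 (g.1 *ᵥ y0) ≠ 0 := by
    have hu : (Pi.single (Sum.inl 0) 1 : I4 → F) ≠ 0 := by
      intro h
      have := congrFun h (Sum.inl 0)
      simp at this
    obtain ⟨w, hw⟩ := om_nondeg hu
    have hx : g.1 *ᵥ (-(g.1 *ᵥ w)) = w := by
      rw [Matrix.mulVec_neg, G_G_mulVec g.1 hGG, neg_neg]
    obtain ⟨y, -, hy⟩ := exists_aniso g.1 hGG hpres h2 (Pi.single (Sum.inl 0) 1) (-(g.1 *ᵥ w))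
      (by rw [hx]; exact hw)
    exact ⟨y, hy⟩
  obtain ⟨p1, p2, p3⟩ := pair_of_aniso g.1 hGG y0 hβ0
  generalize hf0 : (-(om y0 (g.1 *ᵥ y0))⁻¹) • (g.1 *ᵥ y0) = f0 at p1 p2 p3
  -- the orthogonal complement of `⟨y0, f0⟩`
  have hGperp : ∀ u : I4 → F, om u y0 = 0 → om u f0 = 0 →
      om (g.1 *ᵥ u) y0 = 0 ∧ om (g.1 *ᵥ u) f0 = 0 := by
    intro u hu0 hu1
    have e1 : y0 = (om y0 (g.1 *ᵥ y0)) • (g.1 *ᵥ f0) := by
      rw [p3]
      have e01 : (cmat (om y0 (g.1 *ᵥ y0)) hβ0).1 0 1 = (om y0 (g.1 *ᵥ y0))⁻¹ := rfl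
      have e11 : (cmat (om y0 (g.1 *ᵥ y0)) hβ0).1 1 1 = 0 := rfl
      rw [e01, e11, zero_smul, add_zero, smul_smul, mul_inv_cancel₀ hβ0, one_smul]
    have e2 : f0 = (-(om y0 (g.1 *ᵥ y0))⁻¹) • (g.1 *ᵥ y0) := hf0.symm
    constructor
    · have : Cfsg.sympForm 2 F (g.1 *ᵥ u) y0 = 0 := by
        rw [e1, sympForm_smul_right]
        have h := hpres u f0
        have h' : Cfsg.sympForm 2 F (g.1 *ᵥ u) (g.1 *ᵥ f0) = Cfsg.sympForm 2 F u f0 := h
        have hu1' : Cfsg.sympForm 2 F u f0 = 0 := hu1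
        rw [h', hu1', mul_zero]
      exact this
    · have : Cfsg.sympForm 2 F (g.1 *ᵥ u) f0 = 0 := by
        rw [e2, sympForm_smul_right]
        have h := hpres u y0
        have h' : Cfsg.sympForm 2 F (g.1 *ᵥ u) (g.1 *ᵥ y0) = Cfsg.sympForm 2 F u y0 := h
        have hu0' : Cfsg.sympForm 2 F u y0 = 0 := hu0
        rw [h', hu0', mul_zero]
      exact this
  obtain ⟨u0, hu0, hu0a, hu0b⟩ := not_injective_pair y0 f0
  obtain ⟨w, hw⟩ := om_nondeg hu0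
  -- the projection of `w`
  have hp1 : om f0 y0 = 1 := by
    show Cfsg.sympForm 2 F f0 y0 = 1
    rw [sympForm_swap]
    have : Cfsg.sympForm 2 F y0 f0 = -1 := p1
    rw [this, neg_neg]
  obtain ⟨w', hw'a, hw'b, hw'c⟩ : ∃ w' : I4 → F, om w' y0 = 0 ∧ om w' f0 = 0 ∧ om u0 w' ≠ 0 := by
    refine ⟨w + om w f0 • y0 - om w y0 • f0, ?_, ?_, ?_⟩
    · show Cfsg.sympForm 2 F _ _ = 0
      rw [sympForm_sub_left, sympForm_add_left, sympForm_smul_left, sympForm_smul_left, sympForm_self]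
      have : Cfsg.sympForm 2 F f0 y0 = 1 := hp1
      rw [this]
      ring
    · show Cfsg.sympForm 2 F _ _ = 0
      rw [sympForm_sub_left, sympForm_add_left, sympForm_smul_left, sympForm_smul_left, sympForm_self]
      have : Cfsg.sympForm 2 F y0 f0 = -1 := p1
      rw [this]
      ring
    · show Cfsg.sympForm 2 F _ _ ≠ 0
      rw [sympForm_sub_right, sympForm_add_right, sympForm_smul_right, sympForm_smul_right]
      have ha : Cfsg.sympForm 2 F u0 y0 = 0 := hu0a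
      have hb : Cfsg.sympForm 2 F u0 f0 = 0 := hu0b
      rw [ha, hb, mul_zero, mul_zero, add_zero, sub_zero]
      exact hw
  -- second anisotropic vector, in the complement
  have hxG : g.1 *ᵥ (-(g.1 *ᵥ w')) = w' := by
    rw [Matrix.mulVec_neg, G_G_mulVec g.1 hGG, neg_neg]
  have hxperp : om (-(g.1 *ᵥ w')) y0 = 0 ∧ om (-(g.1 *ᵥ w')) f0 = 0 := by
    obtain ⟨q1, q2⟩ := hGperp w' hw'a hw'b
    constructor
    · show Cfsg.sympForm 2 F _ _ = 0
      rw [sympForm_neg_left]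
      exact neg_eq_zero.mpr q1
    · show Cfsg.sympForm 2 F _ _ = 0
      rw [sympForm_neg_left]
      exact neg_eq_zero.mpr q2
  obtain ⟨y1, hy1, hβ1⟩ := exists_aniso g.1 hGG hpres h2 u0 (-(g.1 *ᵥ w')) (by rw [hxG]; exact hw'c)
  have hy1perp : om y1 y0 = 0 ∧ om y1 f0 = 0 := by
    rcases hy1 with rfl | rfl | rfl
    · exact ⟨hu0a, hu0b⟩
    · exact hxperp
    · constructor
      · show Cfsg.sympForm 2 F _ _ = 0
        rw [sympForm_add_left]
        have a1 : Cfsg.sympForm 2 F u0 y0 = 0 := hu0a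
        have a2 : Cfsg.sympForm 2 F (-(g.1 *ᵥ w')) y0 = 0 := hxperp.1
        rw [a1, a2, add_zero]
      · show Cfsg.sympForm 2 F _ _ = 0
        rw [sympForm_add_left]
        have a1 : Cfsg.sympForm 2 F u0 f0 = 0 := hu0b
        have a2 : Cfsg.sympForm 2 F (-(g.1 *ᵥ w')) f0 = 0 := hxperp.2
        rw [a1, a2, add_zero]
  obtain ⟨r1, r2, r3⟩ := pair_of_aniso g.1 hGG y1 hβ1
  obtain ⟨s1, s2⟩ := hGperp y1 hy1perp.1 hy1perp.2
  generalize hf1 : (-(om y1 (g.1 *ᵥ y1))⁻¹) • (g.1 *ᵥ y1) = f1 at r1 r2 r3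
  have hf1y0 : om f1 y0 = 0 := by
    show Cfsg.sympForm 2 F f1 y0 = 0
    rw [← hf1, sympForm_smul_left]
    have : Cfsg.sympForm 2 F (g.1 *ᵥ y1) y0 = 0 := s1
    rw [this, mul_zero]
  have hf1f0 : om f1 f0 = 0 := by
    show Cfsg.sympForm 2 F f1 f0 = 0
    rw [← hf1, sympForm_smul_left]
    have : Cfsg.sympForm 2 F (g.1 *ᵥ y1) f0 = 0 := s2
    rw [this, mul_zero]
  obtain ⟨k, hk⟩ := exists_conj_io_of_frame g ![y0, y1] ![f0, f1] (cmat _ hβ0) (cmat _ hβ1) p1 r1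
    (hswap _ _ hy1perp.1) (hswap _ _ hf1y0) hy1perp.2 (hswap _ _ hf1f0) p2 p3 r2 r3
  exact ⟨k, _, _, cmat_sq _ hβ0, cmat_sq _ hβ1, hk⟩

end Cfsg.Agent.Helper41.PSp4G
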