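import Mathlib

/-!
Products of two conjugates of a diagonal matrix in `SL₃(F)`: every non-scalar element of `SL₃(F)` is conjugate to a
product (unit lower triangular) * (unit upper triangular).
-/

set_option autoImplicit false

namespace Cfsg.Agent.Helper41.Psl3

open scoped Matrix

variable {F : Type*} [Field F]

/-- `A` is a product of two conjugates of `D` -/
def IsProd (D A : Matrix.SpecialLinearGroup (Fin 3) F) : Prop :=
  ∃ u v : Matrix.SpecialLinearGroup (Fin 3) F, A = (u * D * u⁻¹) * (v * D * v⁻¹)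

theorem IsProd.conj {D A : Matrix.SpecialLinearGroup (Fin 3) F} (h : IsProd D A) (P : Matrix.SpecialLinearGroup (Fin 3) F) :
    IsProd D (P * A * P⁻¹) := by
  obtain ⟨u, v, rfl⟩ := h
  exact ⟨P * u, P * v, by group⟩

/-- a non-scalar matrix has a vector `v` with `v, Av` independent, completed to a basis of determinant 1 -/
theorem exists_cyclic_vec (A : Matrix (Fin 3) (Fin 3) F) (hA : ∀ z : F, A ≠ z • (1 : Matrix (Fin 3) (Fin 3) F)) :
    ∃ v z : Fin 3 → F, Matrix.det (Matrix.of fun i j => ![v i, (A *ᵥ v) i, z i] j) = 1 := by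
  by_contra h
  simp only [not_exists] at h
  have h10 : A 1 0 = 0 := by
    by_contra hne
    apply h ![1, 0, 0] ![0, 0, (A 1 0)⁻¹]
    rw [Matrix.det_fin_three]
    simp [Matrix.mulVec, dotProduct, Fin.sum_univ_three, hne]
  have h20 : A 2 0 = 0 := by
    by_contra hne
    apply h ![1, 0, 0] ![0, -(A 2 0)⁻¹, 0]
    rw [Matrix.det_fin_three]
    simp [Matrix.mulVec, dotProduct, Fin.sum_univ_three, hne]
  have h01 : A 0 1 = 0 := by
    by_contra hne
    apply h ![0, 1, 0] ![0, 0, -(A 0 1)⁻¹]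
    rw [Matrix.det_fin_three]
    simp [Matrix.mulVec, dotProduct, Fin.sum_univ_three, hne]
  have h21 : A 2 1 = 0 := by
    by_contra hne
    apply h ![0, 1, 0] ![(A 2 1)⁻¹, 0, 0]
    rw [Matrix.det_fin_three]
    simp [Matrix.mulVec, dotProduct, Fin.sum_univ_three, hne]
  have h02 : A 0 2 = 0 := by
    by_contra hne
    apply h ![0, 0, 1] ![0, (A 0 2)⁻¹, 0]
    rw [Matrix.det_fin_three]
    simp [Matrix.mulVec, dotProduct, Fin.sum_univ_three, hne]
  have h12 : A 1 2 = 0 := by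
    by_contra hne
    apply h ![0, 0, 1] ![-(A 1 2)⁻¹, 0, 0]
    rw [Matrix.det_fin_three]
    simp [Matrix.mulVec, dotProduct, Fin.sum_univ_three, hne]
  have h11 : A 1 1 = A 0 0 := by
    by_contra hne
    have hne' : A 1 1 - A 0 0 ≠ 0 := sub_ne_zero.mpr hne
    apply h ![1, 1, 0] ![0, 0, (A 1 1 - A 0 0)⁻¹]
    rw [Matrix.det_fin_three]
    simp [Matrix.mulVec, dotProduct, Fin.sum_univ_three, h10, h20, h01, h21]
    field_simp
  have h22 : A 2 2 = A 0 0 := by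
    by_contra hne
    have hne' : A 2 2 - A 0 0 ≠ 0 := sub_ne_zero.mpr hne
    apply h ![1, 0, 1] ![0, -(A 2 2 - A 0 0)⁻¹, 0]
    rw [Matrix.det_fin_three]
    simp [Matrix.mulVec, dotProduct, Fin.sum_univ_three, h10, h20, h02, h12]
    field_simp
    ring
  apply hA (A 0 0)
  ext i j
  fin_cases i <;> fin_cases j <;> simp [h10, h20, h01, h21, h02, h12, h11, h22]

/-- a non-scalar element of `SL₃` is conjugate to a matrix with first column `(0,1,0)` -/
theorem exists_conj_cyclic (A : Matrix.SpecialLinearGroup (Fin 3) F)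
    (hA : ∀ z : F, A.1 ≠ z • (1 : Matrix (Fin 3) (Fin 3) F)) :
    ∃ P A₁ : Matrix.SpecialLinearGroup (Fin 3) F, A = P * A₁ * P⁻¹ ∧ A₁ 0 0 = 0 ∧ A₁ 1 0 = 1 ∧ A₁ 2 0 = 0 := by
  obtain ⟨v, z, hdet⟩ := exists_cyclic_vec A.1 hA
  obtain ⟨P, hP⟩ : ∃ P : Matrix.SpecialLinearGroup (Fin 3) F, (P : Matrix (Fin 3) (Fin 3) F) =
      Matrix.of fun i j => ![v i, ((A : Matrix (Fin 3) (Fin 3) F) *ᵥ v) i, z i] j := ⟨⟨_, hdet⟩, rfl⟩
  have hcol : ∀ l, ((A : Matrix (Fin 3) (Fin 3) F) * (P : Matrix (Fin 3) (Fin 3) F)) l 0 =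
      (P : Matrix (Fin 3) (Fin 3) F) l 1 := by
    intro l
    simp [Matrix.mul_apply, hP, Matrix.mulVec, dotProduct]
  have hA1 : ∀ k, ((P⁻¹ * A * P : Matrix.SpecialLinearGroup (Fin 3) F) : Matrix (Fin 3) (Fin 3) F) k 0 =
      (1 : Matrix (Fin 3) (Fin 3) F) k 1 := by
    intro k
    have e1 : ((P⁻¹ * A * P : Matrix.SpecialLinearGroup (Fin 3) F) : Matrix (Fin 3) (Fin 3) F) =
        ((P⁻¹ : Matrix.SpecialLinearGroup (Fin 3) F) : Matrix (Fin 3) (Fin 3) F) *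
          ((A : Matrix (Fin 3) (Fin 3) F) * (P : Matrix (Fin 3) (Fin 3) F)) := by
      simp only [Matrix.SpecialLinearGroup.coe_mul, Matrix.mul_assoc]
    rw [e1, Matrix.mul_apply]
    simp_rw [hcol]
    rw [← Matrix.mul_apply]
    have e2 : ((P⁻¹ : Matrix.SpecialLinearGroup (Fin 3) F) : Matrix (Fin 3) (Fin 3) F) *
        (P : Matrix (Fin 3) (Fin 3) F) = 1 := by
      have := congrArg (fun X : Matrix.SpecialLinearGroup (Fin 3) F => (X : Matrix (Fin 3) (Fin 3) F)) (inv_mul_cancel P)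
      simpa only [Matrix.SpecialLinearGroup.coe_mul, Matrix.SpecialLinearGroup.coe_one] using this
    rw [e2]
  refine ⟨P, P⁻¹ * A * P, by group, ?_, ?_, ?_⟩
  · have := hA1 0
    simpa using this
  · have := hA1 1
    simpa using this
  · have := hA1 2
    simpa using this

/-- lower unitriangular matrices -/
def lowerU (p r s : F) : Matrix.SpecialLinearGroup (Fin 3) F :=
  ⟨!![1, 0, 0; p, 1, 0; r, s, 1], by simp [Matrix.det_fin_three]⟩

/-- upper unitriangular matrices -/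
def upperU (p r s : F) : Matrix.SpecialLinearGroup (Fin 3) F :=
  ⟨!![1, p, r; 0, 1, s; 0, 0, 1], by simp [Matrix.det_fin_three]⟩

/-- diagonal matrices `diag(1, a, b)`, `ab = 1` -/
def diagD (a b : F) (hab : a * b = 1) : Matrix.SpecialLinearGroup (Fin 3) F :=
  ⟨!![1, 0, 0; 0, a, 0; 0, 0, b], by simp [Matrix.det_fin_three, hab]⟩

theorem coe_lowerU (p r s : F) :
    ((lowerU p r s : Matrix.SpecialLinearGroup (Fin 3) F) : Matrix (Fin 3) (Fin 3) F) =
      !![1, 0, 0; p, 1, 0; r, s, 1] := rfl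

theorem coe_upperU (p r s : F) :
    ((upperU p r s : Matrix.SpecialLinearGroup (Fin 3) F) : Matrix (Fin 3) (Fin 3) F) =
      !![1, p, r; 0, 1, s; 0, 0, 1] := rfl

theorem coe_diagD (a b : F) (hab : a * b = 1) :
    ((diagD a b hab : Matrix.SpecialLinearGroup (Fin 3) F) : Matrix (Fin 3) (Fin 3) F) =
      !![1, 0, 0; 0, a, 0; 0, 0, b] := rfl

theorem eq_of (A : Matrix.SpecialLinearGroup (Fin 3) F) :
    (A : Matrix (Fin 3) (Fin 3) F) = !![A 0 0, A 0 1, A 0 2; A 1 0, A 1 1, A 1 2; A 2 0, A 2 1, A 2 2] := by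
  ext i j
  fin_cases i <;> fin_cases j <;> rfl

theorem det_eq (A : Matrix.SpecialLinearGroup (Fin 3) F) :
    A 0 0 * A 1 1 * A 2 2 - A 0 0 * A 1 2 * A 2 1 - A 0 1 * A 1 0 * A 2 2 + A 0 1 * A 1 2 * A 2 0 +
      A 0 2 * A 1 0 * A 2 1 - A 0 2 * A 1 1 * A 2 0 = 1 := by
  have := A.2
  rw [Matrix.det_fin_three] at this
  exact this

/-- an element of `SL₃` from its nine entries -/
def mk9 (a b c d e f g h i : F) (hd : a * e * i - a * f * h - b * d * i + b * f * g + c * d * h - c * e * g = 1) :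
    Matrix.SpecialLinearGroup (Fin 3) F :=
  ⟨!![a, b, c; d, e, f; g, h, i], by rw [Matrix.det_fin_three]; simpa using hd⟩

theorem coe_mk9 (a b c d e f g h i : F)
    (hd : a * e * i - a * f * h - b * d * i + b * f * g + c * d * h - c * e * g = 1) :
    ((mk9 a b c d e f g h i hd : Matrix.SpecialLinearGroup (Fin 3) F) : Matrix (Fin 3) (Fin 3) F) =
      !![a, b, c; d, e, f; g, h, i] := rfl

/-- shear: make the `(0,2)` entry non-zero -/
theorem exists_conj_shear (A₁ : Matrix.SpecialLinearGroup (Fin 3) F) (h00 : A₁ 0 0 = 0) (h10 : A₁ 1 0 = 1)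
    (h20 : A₁ 2 0 = 0) :
    ∃ P A₂ : Matrix.SpecialLinearGroup (Fin 3) F, A₁ = P * A₂ * P⁻¹ ∧ A₂ 0 0 = 0 ∧ A₂ 1 0 = 1 ∧ A₂ 2 0 = 0 ∧
      A₂ 0 2 ≠ 0 := by
  have hdet := det_eq A₁
  rw [h00, h10, h20] at hdet
  by_cases hb : A₁ 0 2 = 0
  · have hb1 : A₁ 0 1 ≠ 0 := by
      intro h
      rw [hb, h] at hdet
      simp at hdet
    refine ⟨upperU 0 0 1, mk9 0 (A₁ 0 1) (A₁ 0 1 + A₁ 0 2) 1 (A₁ 1 1 - A₁ 2 1)
      (A₁ 1 1 + A₁ 1 2 - A₁ 2 1 - A₁ 2 2) 0 (A₁ 2 1) (A₁ 2 1 + A₁ 2 2) (by linear_combination hdet), ?_,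
      rfl, rfl, rfl, ?_⟩
    · rw [eq_mul_inv_iff_mul_eq]
      ext i j
      fin_cases i <;> fin_cases j <;>
        simp [Matrix.SpecialLinearGroup.coe_mul, Matrix.mul_apply, Fin.sum_univ_three, coe_upperU, coe_mk9, h00, h10,
          h20]
    · show A₁ 0 1 + A₁ 0 2 ≠ 0
      rw [hb, add_zero]
      exact hb1
  · exact ⟨1, A₁, by group, h00, h10, h20, hb⟩

/-- a matrix with first column `(0,1,0)` and non-zero `(0,2)` entry is conjugate to a product
(unit lower triangular) * (unit upper triangular) -/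
theorem exists_conj_LU (A₁ : Matrix.SpecialLinearGroup (Fin 3) F) (h00 : A₁ 0 0 = 0) (h10 : A₁ 1 0 = 1)
    (h20 : A₁ 2 0 = 0) (hb : A₁ 0 2 ≠ 0) :
    ∃ (Q : Matrix.SpecialLinearGroup (Fin 3) F) (l10 l20 l21 u01 u02 u12 : F),
      A₁ = Q * (lowerU l10 l20 l21 * upperU u01 u02 u12) * Q⁻¹ := by
  have hdet := det_eq A₁
  rw [h00, h10, h20] at hdet
  have hdet' : A₁ 0 2 * A₁ 2 1 - A₁ 0 1 * A₁ 2 2 = 1 := by linear_combination hdet
  obtain ⟨c, hc⟩ : ∃ c : F, c * A₁ 0 2 = A₁ 0 1 + 1 := ⟨(A₁ 0 1 + 1) / A₁ 0 2, div_mul_cancel₀ _ hb⟩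
  refine ⟨mk9 1 (-1) 0 0 1 0 0 (-c) 1 (by ring), 1, c, A₁ 2 1 - c * A₁ 2 2 + c,
    A₁ 1 1 - 1 - c * A₁ 1 2 - 1, A₁ 0 2 + A₁ 1 2, -A₁ 0 2, ?_⟩
  rw [eq_mul_inv_iff_mul_eq]
  ext i j
  fin_cases i <;> fin_cases j <;>
    simp [Matrix.SpecialLinearGroup.coe_mul, Matrix.mul_apply, Fin.sum_univ_three, coe_upperU, coe_lowerU, coe_mk9,
      h00, h10, h20] <;>
    first | done | (linear_combination (-1 : F) * hc) | (linear_combination hdet' - A₁ 2 2 * hc) | ring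

/-- a lower triangular matrix with distinct diagonal entries `1, a, b` is conjugate to `diag(1, a, b)` -/
theorem lower_conj (a b : F) (hab : a * b = 1) (h1a : a ≠ 1) (h1b : b ≠ 1) (hne : a ≠ b) (l10 l20 l21 : F) :
    ∃ P : Matrix.SpecialLinearGroup (Fin 3) F,
      lowerU l10 l20 l21 * diagD a b hab = P * diagD a b hab * P⁻¹ := by
  obtain ⟨p, hp⟩ : ∃ p : F, p * (1 - a) = l10 := ⟨l10 / (1 - a), div_mul_cancel₀ _ (sub_ne_zero.mpr h1a.symm)⟩
  obtain ⟨s, hs⟩ : ∃ s : F, s * (a - b) = l21 * a := ⟨l21 * a / (a - b), div_mul_cancel₀ _ (sub_ne_zero.mpr hne)⟩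
  obtain ⟨r, hr⟩ : ∃ r : F, r * (1 - b) = l20 + l21 * a * p :=
    ⟨(l20 + l21 * a * p) / (1 - b), div_mul_cancel₀ _ (sub_ne_zero.mpr h1b.symm)⟩
  refine ⟨lowerU p r s, ?_⟩
  rw [eq_mul_inv_iff_mul_eq]
  ext i j
  fin_cases i <;> fin_cases j <;>
    simp [Matrix.SpecialLinearGroup.coe_mul, Matrix.mul_apply, Fin.sum_univ_three, coe_lowerU, coe_diagD] <;>
    first | done | (linear_combination (-1 : F) * hp) | (linear_combination (-1 : F) * hs) |
      (linear_combination (-1 : F) * hr)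

/-- an upper triangular matrix with distinct diagonal entries `1, b, a` is conjugate to `diag(1, b, a)` -/
theorem upper_conj (a b : F) (hba : b * a = 1) (h1a : a ≠ 1) (h1b : b ≠ 1) (hne : a ≠ b) (u01 u02 u12 : F) :
    ∃ P : Matrix.SpecialLinearGroup (Fin 3) F,
      diagD b a hba * upperU u01 u02 u12 = P * diagD b a hba * P⁻¹ := by
  obtain ⟨p, hp⟩ : ∃ p : F, p * (b - 1) = u01 := ⟨u01 / (b - 1), div_mul_cancel₀ _ (sub_ne_zero.mpr h1b)⟩
  obtain ⟨s, hs⟩ : ∃ s : F, s * (a - b) = b * u12 := ⟨b * u12 / (a - b), div_mul_cancel₀ _ (sub_ne_zero.mpr hne)⟩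
  obtain ⟨r, hr⟩ : ∃ r : F, r * (a - 1) = u01 * s + u02 :=
    ⟨(u01 * s + u02) / (a - 1), div_mul_cancel₀ _ (sub_ne_zero.mpr h1a)⟩
  refine ⟨upperU p r s, ?_⟩
  rw [eq_mul_inv_iff_mul_eq]
  ext i j
  fin_cases i <;> fin_cases j <;>
    simp [Matrix.SpecialLinearGroup.coe_mul, Matrix.mul_apply, Fin.sum_univ_three, coe_upperU, coe_diagD] <;>
    first | done | (linear_combination (-1 : F) * hp) | (linear_combination (-1 : F) * hs) |
      (linear_combination (-1 : F) * hr)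

theorem diagD_inv (a b : F) (hab : a * b = 1) (hba : b * a = 1) : (diagD a b hab)⁻¹ = diagD b a hba := by
  apply inv_eq_of_mul_eq_one_right
  ext i j
  fin_cases i <;> fin_cases j <;>
    simp [Matrix.SpecialLinearGroup.coe_mul, Matrix.mul_apply, Fin.sum_univ_three, coe_diagD, hab, hba]

/-- `diag(1, b, a)` is conjugate to `diag(1, a, b)` -/
theorem diagD_swap (a b : F) (hab : a * b = 1) (hba : b * a = 1) :
    ∃ W : Matrix.SpecialLinearGroup (Fin 3) F, diagD b a hba = W⁻¹ * diagD a b hab * W := by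
  refine ⟨mk9 (-1) 0 0 0 0 1 0 1 0 (by ring), ?_⟩
  rw [mul_assoc, eq_inv_mul_iff_mul_eq]
  ext i j
  fin_cases i <;> fin_cases j <;>
    simp [Matrix.SpecialLinearGroup.coe_mul, Matrix.mul_apply, Fin.sum_univ_three, coe_diagD, coe_mk9]

/-- every non-scalar element of `SL₃(F)` is a product of two conjugates of `diag(1, a, b)`, for `1, a, b` distinct
with `ab = 1` -/
theorem isProd_of_nonscalar (a b : F) (hab : a * b = 1) (h1a : a ≠ 1) (h1b : b ≠ 1) (hne : a ≠ b)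
    (A : Matrix.SpecialLinearGroup (Fin 3) F)
    (hA : ∀ z : F, (A : Matrix (Fin 3) (Fin 3) F) ≠ z • (1 : Matrix (Fin 3) (Fin 3) F)) :
    IsProd (diagD a b hab) A := by
  have hba : b * a = 1 := by rw [mul_comm]; exact hab
  obtain ⟨P, A₁, rfl, h00, h10, h20⟩ := exists_conj_cyclic A hA
  apply IsProd.conj
  obtain ⟨P', A₂, rfl, h00', h10', h20', hb⟩ := exists_conj_shear A₁ h00 h10 h20
  apply IsProd.conj
  obtain ⟨Q, l10, l20, l21, u01, u02, u12, rfl⟩ := exists_conj_LU A₂ h00' h10' h20' hb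
  apply IsProd.conj
  obtain ⟨P₅, h5⟩ := lower_conj a b hab h1a h1b hne l10 l20 l21
  obtain ⟨P₆, h6⟩ := upper_conj a b hba h1a h1b hne u01 u02 u12
  obtain ⟨W, hW⟩ := diagD_swap a b hab hba
  refine ⟨P₅, P₆ * W⁻¹, ?_⟩
  calc lowerU l10 l20 l21 * upperU u01 u02 u12
      = (lowerU l10 l20 l21 * diagD a b hab) * ((diagD a b hab)⁻¹ * upperU u01 u02 u12) := by group
    _ = (P₅ * diagD a b hab * P₅⁻¹) * (P₆ * (W⁻¹ * diagD a b hab * W) * P₆⁻¹) := by
        rw [h5, diagD_inv a b hab hba, h6, hW]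
    _ = _ := by group

end Cfsg.Agent.Helper41.Psl3
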