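import Cfsg.Agent.Helper41.Psl3A

/-!
`SL₃(𝔽₃)`: every non-scalar element is a product of two conjugates of the element `1 ⊕ [[0,-1],[1,0]]` of order 4
(checked on the 216 matrices with first column `(0,1,0)`, with explicit conjugating matrices).
-/

set_option autoImplicit false

namespace Cfsg.Agent.Helper41.Psl3

open scoped Matrix

section Comp

variable {R : Type*} [CommRing R]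

/-- hand-written product of `3 × 3` matrices -/
def mul3 (A B : Matrix (Fin 3) (Fin 3) R) : Matrix (Fin 3) (Fin 3) R :=
  !![A 0 0 * B 0 0 + A 0 1 * B 1 0 + A 0 2 * B 2 0, A 0 0 * B 0 1 + A 0 1 * B 1 1 + A 0 2 * B 2 1,
      A 0 0 * B 0 2 + A 0 1 * B 1 2 + A 0 2 * B 2 2;
    A 1 0 * B 0 0 + A 1 1 * B 1 0 + A 1 2 * B 2 0, A 1 0 * B 0 1 + A 1 1 * B 1 1 + A 1 2 * B 2 1,
      A 1 0 * B 0 2 + A 1 1 * B 1 2 + A 1 2 * B 2 2;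
    A 2 0 * B 0 0 + A 2 1 * B 1 0 + A 2 2 * B 2 0, A 2 0 * B 0 1 + A 2 1 * B 1 1 + A 2 2 * B 2 1,
      A 2 0 * B 0 2 + A 2 1 * B 1 2 + A 2 2 * B 2 2]

theorem mul3_eq (A B : Matrix (Fin 3) (Fin 3) R) : mul3 A B = A * B := by
  ext i j
  fin_cases i <;> fin_cases j <;> simp [mul3, Matrix.mul_apply, Fin.sum_univ_three]

/-- hand-written adjugate -/
def adj3 (A : Matrix (Fin 3) (Fin 3) R) : Matrix (Fin 3) (Fin 3) R :=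
  !![A 1 1 * A 2 2 - A 1 2 * A 2 1, A 0 2 * A 2 1 - A 0 1 * A 2 2, A 0 1 * A 1 2 - A 0 2 * A 1 1;
    A 1 2 * A 2 0 - A 1 0 * A 2 2, A 0 0 * A 2 2 - A 0 2 * A 2 0, A 0 2 * A 1 0 - A 0 0 * A 1 2;
    A 1 0 * A 2 1 - A 1 1 * A 2 0, A 0 1 * A 2 0 - A 0 0 * A 2 1, A 0 0 * A 1 1 - A 0 1 * A 1 0]

/-- hand-written determinant -/
def det3 (A : Matrix (Fin 3) (Fin 3) R) : R :=
  A 0 0 * A 1 1 * A 2 2 - A 0 0 * A 1 2 * A 2 1 - A 0 1 * A 1 0 * A 2 2 + A 0 1 * A 1 2 * A 2 0 +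
    A 0 2 * A 1 0 * A 2 1 - A 0 2 * A 1 1 * A 2 0

theorem det3_eq (A : Matrix (Fin 3) (Fin 3) R) : det3 A = A.det := by
  rw [Matrix.det_fin_three]
  rfl

theorem mul_adj3 (A : Matrix (Fin 3) (Fin 3) R) (h : det3 A = 1) : A * adj3 A = 1 := by
  unfold det3 at h
  ext i j
  fin_cases i <;> fin_cases j <;> simp [adj3, Matrix.mul_apply, Fin.sum_univ_three] <;>
    first | (linear_combination h) | ring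

theorem det3_adj3 (A : Matrix (Fin 3) (Fin 3) R) (h : det3 A = 1) : det3 (adj3 A) = 1 := by
  have h1 : (A * adj3 A).det = 1 := by rw [mul_adj3 A h, Matrix.det_one]
  rw [Matrix.det_mul, ← det3_eq A, h, one_mul] at h1
  rw [det3_eq]
  exact h1

/-- entrywise equality test -/
def eq3 [DecidableEq R] (A B : Matrix (Fin 3) (Fin 3) R) : Bool :=
  decide (A 0 0 = B 0 0) && decide (A 0 1 = B 0 1) && decide (A 0 2 = B 0 2) &&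
  decide (A 1 0 = B 1 0) && decide (A 1 1 = B 1 1) && decide (A 1 2 = B 1 2) &&
  decide (A 2 0 = B 2 0) && decide (A 2 1 = B 2 1) && decide (A 2 2 = B 2 2)

theorem eq_of_eq3 [DecidableEq R] (A B : Matrix (Fin 3) (Fin 3) R) (h : eq3 A B = true) : A = B := by
  simp only [eq3, Bool.and_eq_true, decide_eq_true_eq] at h
  obtain ⟨⟨⟨⟨⟨⟨⟨⟨h00, h01⟩, h02⟩, h10⟩, h11⟩, h12⟩, h20⟩, h21⟩, h22⟩ := h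
  ext i j
  fin_cases i <;> fin_cases j <;> assumption

end Comp

/-- matrix over `𝔽₃` from a list of nine naturals -/
def ofL (l : List ℕ) : Matrix (Fin 3) (Fin 3) (ZMod 3) :=
  !![(l.getD 0 0 : ZMod 3), (l.getD 1 0 : ZMod 3), (l.getD 2 0 : ZMod 3);
    (l.getD 3 0 : ZMod 3), (l.getD 4 0 : ZMod 3), (l.getD 5 0 : ZMod 3);
    (l.getD 6 0 : ZMod 3), (l.getD 7 0 : ZMod 3), (l.getD 8 0 : ZMod 3)]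

/-- the element of order 4 -/
def X3 : Matrix (Fin 3) (Fin 3) (ZMod 3) := !![1, 0, 0; 0, 0, 2; 0, 1, 0]

/-- the table of conjugating matrices -/
def tbl : List (List ℕ) := [
  [], [], [], [],
  [], [], [], [],
  [], [], [], [],
  [], [], [], [],
  [], [], [], [],
  [], [], [], [],
  [], [], [], [],
  [], [], [], [],
  [], [], [], [],
  [], [], [], [],
  [], [], [], [],
  [], [], [], [],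
  [], [], [], [],
  [], [], [], [],
  [], [], [], [],
  [], [], [], [],
  [], [], [], [],
  [], [], [], [],
  [], [], [], [],
  [], [], [], [],
  [], [], [], [],
  [0,0,1,0,1,1,2,1,1,1,1,1,0,1,0,2,2,0], [0,0,1,0,1,1,2,0,1,1,1,1,0,1,0,2,1,0], [0,0,1,0,1,1,2,2,1,1,1,1,0,1,0,2,0,0], [],
  [], [], [], [],
  [], [0,0,1,0,1,0,2,0,1,1,0,1,1,2,2,1,2,1], [0,0,1,0,1,0,2,1,0,1,0,1,1,2,2,0,0,2], [0,0,1,0,1,0,2,2,2,1,0,1,1,2,2,2,1,0],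
  [], [], [], [],
  [], [], [0,0,1,0,1,0,2,2,0,1,0,1,2,1,1,2,1,2], [0,0,1,0,1,0,2,0,2,1,0,1,2,1,1,0,0,1],
  [0,0,1,0,1,0,2,1,1,1,0,1,2,1,1,1,2,0], [], [], [],
  [], [], [], [0,0,1,0,1,0,2,0,2,1,1,1,1,0,1,1,1,0],
  [0,0,1,0,1,0,2,0,1,0,0,1,2,1,0,0,2,2], [0,0,1,0,1,1,2,2,1,1,0,1,1,2,2,1,0,0], [], [],
  [], [], [], [],
  [0,0,1,0,1,1,2,1,1,1,0,1,1,2,2,0,1,1], [0,0,1,0,1,0,2,1,1,1,1,1,1,0,1,0,1,2], [0,0,1,0,1,0,2,1,0,0,0,1,2,1,0,1,1,2], [],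
  [], [], [], [],
  [], [0,0,1,0,1,0,2,2,2,0,0,1,2,1,0,2,0,2], [0,0,1,0,1,1,2,0,1,1,0,1,1,2,2,2,2,2], [0,0,1,0,1,0,2,2,0,1,1,1,1,0,1,2,1,1],
  [], [], [], [],
  [], [], [0,0,1,0,1,0,2,1,0,1,1,1,2,0,2,2,2,0], [0,0,1,0,1,0,2,2,0,0,0,1,1,2,0,0,1,1],
  [0,0,1,0,1,1,2,2,1,0,0,1,2,2,2,1,0,0], [], [], [],
  [], [], [], [0,0,1,0,1,0,2,1,1,0,0,1,1,2,0,1,0,1],
  [0,0,1,0,1,1,2,0,1,0,0,1,2,2,2,0,2,2], [0,0,1,0,1,0,2,0,1,1,1,1,2,0,2,1,2,2], [], [],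
  [], [], [], [],
  [0,0,1,0,1,1,2,1,1,0,0,1,2,2,2,2,1,1], [0,0,1,0,1,0,2,2,2,1,1,1,2,0,2,0,2,1], [0,0,1,0,1,0,2,0,2,0,0,1,1,2,0,2,2,1], [],
  [], [], [], [],
  [], [], [], [],
  [0,0,1,0,1,1,2,2,2,1,0,1,0,2,2,1,2,2], [0,0,1,0,1,1,2,0,2,1,0,1,0,2,2,1,1,1], [0,0,1,0,1,1,2,1,2,1,0,1,0,2,2,1,0,0], [],
  [], [], [], [],
  [], [0,0,1,0,1,0,2,0,2,1,1,1,1,1,0,2,0,1], [0,0,1,0,1,0,2,2,0,1,1,1,1,1,0,0,1,1], [0,0,1,0,1,0,2,1,1,1,1,1,1,1,0,1,2,1],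
  [], [], [], [],
  [], [], [0,0,1,0,1,0,2,1,0,1,1,1,2,2,0,1,0,2], [0,0,1,0,1,0,2,0,1,1,1,1,2,2,0,0,2,2],
  [0,0,1,0,1,0,2,2,2,1,1,1,2,2,0,2,1,2], [], [], [],
  [], [], [], [0,0,1,0,1,0,2,2,0,1,0,1,2,2,1,1,2,2],
  [0,0,1,0,1,0,2,1,0,0,0,1,2,2,0,0,2,2], [0,0,1,0,1,1,2,1,2,0,0,1,1,2,2,1,0,0], [], [],
  [], [], [], [],
  [0,0,1,0,1,0,2,2,2,0,0,1,2,2,0,1,0,2], [0,0,1,0,1,1,2,0,2,0,0,1,1,2,2,0,1,1], [0,0,1,0,1,0,2,0,2,1,0,1,2,2,1,2,0,1], [],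
  [], [], [], [],
  [], [0,0,1,0,1,1,2,2,2,0,0,1,1,2,2,2,2,2], [0,0,1,0,1,0,2,1,1,1,0,1,2,2,1,0,1,0], [0,0,1,0,1,0,2,0,1,0,0,1,2,2,0,2,1,2],
  [], [], [], [],
  [], [], [0,0,1,0,1,0,2,0,1,1,0,1,1,1,2,2,1,1], [0,0,1,0,1,0,2,0,2,0,0,1,1,1,0,0,1,1],
  [0,0,1,0,1,1,2,1,2,1,1,1,1,1,0,2,0,0], [], [], [],
  [], [], [], [0,0,1,0,1,1,2,2,2,1,1,1,1,1,0,0,1,0],
  [0,0,1,0,1,0,2,2,2,1,0,1,1,1,2,0,2,0], [0,0,1,0,1,0,2,2,0,0,0,1,1,1,0,1,2,1], [], [],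
  [], [], [], [],
  [0,0,1,0,1,0,2,1,1,0,0,1,1,1,0,2,0,1], [0,0,1,0,1,1,2,0,2,1,1,1,1,1,0,1,2,0], [0,0,1,0,1,0,2,1,0,1,0,1,1,1,2,1,0,2], [],
  [], [0,0,1,0,1,1,2,0,0,0,0,1,0,2,2,1,0,0], [], [],
  [0,0,1,0,1,1,2,0,0,1,1,1,0,1,0,2,0,0], [], [], [0,0,1,0,1,1,2,0,0,1,0,1,0,2,2,1,0,0],
  [], [], [0,0,1,1,0,0,1,1,1,0,0,1,2,1,1,0,2,1], [],
  [], [0,0,1,0,1,0,2,0,1,1,0,1,1,2,2,2,1,0], [], [],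
  [0,0,1,0,1,0,2,0,2,1,1,1,1,1,0,1,2,1], [], [], [0,0,1,1,0,2,0,1,0,1,0,1,1,0,2,2,2,0],
  [], [], [0,0,1,0,1,0,2,2,0,1,0,1,2,1,1,1,2,0], [],
  [], [0,0,1,0,1,0,2,1,0,1,1,1,2,2,0,2,1,2], [], [],
  [0,0,1,0,1,1,2,0,0,1,1,1,2,1,0,2,0,0], [], [], [0,0,1,0,1,1,2,0,0,1,0,1,1,2,2,1,0,0],
  [], [], [0,0,1,0,1,1,2,0,0,0,0,1,1,2,2,1,0,0], [],
  [], [0,0,1,0,1,1,2,0,2,1,1,1,2,1,0,0,2,0], [], [],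
  [0,0,1,0,1,0,2,2,2,0,0,1,2,1,0,1,1,2], [], [], [0,0,1,0,1,0,2,2,0,1,0,1,2,2,1,2,0,1],
  [], [], [0,0,1,0,1,1,2,0,1,1,1,1,2,1,0,1,1,0], [],
  [], [0,0,1,0,1,0,2,0,2,1,1,1,1,0,1,2,1,1], [], [],
  [0,0,1,0,1,0,2,2,2,0,0,1,2,2,0,2,1,2], [], [], [0,0,1,0,1,1,2,0,0,1,0,1,2,2,2,1,0,0],
  [], [], [0,0,1,0,1,1,2,0,0,0,0,1,2,2,2,1,0,0], [],
  [], [0,0,1,0,1,1,2,0,0,1,1,1,1,1,0,2,0,0], [], [],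
  [0,0,1,0,1,1,2,0,1,1,0,1,2,2,2,0,2,2], [], [], [0,0,1,0,1,0,2,1,0,1,1,1,2,0,2,1,2,2],
  [], [], [0,0,1,0,1,0,2,1,1,0,0,1,1,1,0,1,2,1], [],
  [], [0,0,1,0,1,1,2,0,2,1,0,1,2,2,2,2,1,1], [], [],
  [0,0,1,0,1,0,2,1,1,0,0,1,1,2,0,2,2,1], [], [], [0,0,1,0,1,0,2,0,1,1,0,1,1,1,2,1,0,2],
  [], [], [0,0,1,0,1,1,2,0,0,0,0,1,0,2,2,1,1,0], [0,0,1,0,1,1,2,2,0,1,1,1,0,1,0,2,2,0],
  [], [], [], [0,0,1,0,1,1,2,2,0,1,0,1,0,2,2,1,1,1],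
  [], [], [], [0,0,1,1,0,0,0,1,0,0,0,1,2,1,1,1,1,2],
  [0,0,1,0,1,0,2,1,0,1,0,1,1,2,2,1,2,1], [], [], [],
  [0,0,1,0,1,0,2,1,1,1,1,1,1,1,0,0,1,1], [], [], [],
  [0,0,1,1,2,0,0,1,2,1,0,1,0,2,2,2,2,0], [0,0,1,0,1,0,2,0,2,1,0,1,2,1,1,2,1,2], [], [],
  [], [0,0,1,0,1,0,2,2,2,1,1,1,2,2,0,0,2,2], [], [],
  [], [0,0,1,0,1,1,2,2,1,1,1,1,2,1,0,2,0,0], [0,0,1,0,1,0,2,1,1,1,1,1,1,0,1,1,1,0], [],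
  [], [], [0,0,1,0,1,0,2,0,1,0,0,1,2,2,0,0,2,2], [],
  [], [], [0,0,1,0,1,1,2,2,0,1,1,1,2,1,0,0,2,0], [0,0,1,0,1,1,2,2,0,1,0,1,1,2,2,0,1,1],
  [], [], [], [0,0,1,0,1,1,2,2,0,0,0,1,1,2,2,0,1,1],
  [], [], [], [0,0,1,0,1,1,2,2,2,1,1,1,2,1,0,1,1,0],
  [0,0,1,0,1,0,2,0,1,0,0,1,2,1,0,2,0,2], [], [], [],
  [0,0,1,0,1,0,2,0,2,1,0,1,2,2,1,0,1,0], [], [], [],
  [0,0,1,0,1,1,2,2,1,1,0,1,2,2,2,1,0,0], [0,0,1,0,1,0,2,2,2,1,1,1,2,0,2,2,2,0], [], [],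
  [], [0,0,1,0,1,0,2,2,0,0,0,1,1,1,0,0,1,1], [], [],
  [], [0,0,1,0,1,1,2,2,2,1,0,1,2,2,2,0,2,2], [0,0,1,0,1,0,2,2,0,0,0,1,1,2,0,1,0,1], [],
  [], [], [0,0,1,0,1,0,2,1,0,1,0,1,1,1,2,0,2,0], [],
  [], [], [0,0,1,0,1,1,2,2,0,1,0,1,2,2,2,2,1,1], [0,0,1,0,1,1,2,2,0,0,0,1,2,2,2,2,1,1],
  [], [], [], [0,0,1,0,1,1,2,2,0,1,1,1,1,1,0,1,2,0],
  [], [], [], [0,0,1,0,1,1,2,0,0,0,0,1,0,2,2,1,2,0],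
  [], [0,0,1,0,1,1,2,1,0,1,1,1,0,1,0,2,1,0], [], [0,0,1,0,1,1,2,1,0,1,0,1,0,2,2,1,2,2],
  [], [], [], [],
  [0,0,1,1,0,0,2,1,2,0,0,1,2,1,1,2,0,0], [], [0,0,1,0,1,0,2,2,2,1,0,1,1,2,2,0,0,2], [],
  [0,0,1,0,1,0,2,2,0,1,1,1,1,1,0,2,0,1], [], [], [],
  [], [0,0,1,1,0,0,0,1,1,1,0,1,2,1,2,2,2,0], [], [0,0,1,0,1,0,2,1,1,1,0,1,2,1,1,0,0,1],
  [], [0,0,1,0,1,0,2,0,1,1,1,1,2,2,0,1,0,2], [], [],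
  [], [], [0,0,1,0,1,1,2,1,2,1,1,1,2,1,0,2,0,0], [],
  [0,0,1,0,1,0,2,1,0,0,0,1,2,1,0,0,2,2], [], [0,0,1,0,1,0,2,1,1,1,0,1,2,2,1,1,2,2], [],
  [], [], [], [0,0,1,0,1,1,2,1,1,1,1,1,2,1,0,0,2,0],
  [], [0,0,1,0,1,0,2,2,0,1,1,1,1,0,1,0,1,2], [], [0,0,1,0,1,0,2,1,0,0,0,1,2,2,0,1,0,2],
  [], [], [], [],
  [0,0,1,0,1,1,2,1,0,1,1,1,2,1,0,1,1,0], [], [0,0,1,0,1,1,2,1,0,1,0,1,1,2,2,2,2,2], [],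
  [0,0,1,0,1,1,2,1,0,0,0,1,1,2,2,2,2,2], [], [], [],
  [], [0,0,1,0,1,1,2,1,2,1,0,1,2,2,2,1,0,0], [], [0,0,1,0,1,0,2,0,2,0,0,1,1,2,0,0,1,1],
  [], [0,0,1,0,1,0,2,2,2,1,0,1,1,1,2,2,1,1], [], [],
  [], [], [0,0,1,0,1,1,2,1,0,1,0,1,2,2,2,0,2,2], [],
  [0,0,1,0,1,1,2,1,0,0,0,1,2,2,2,0,2,2], [], [0,0,1,0,1,1,2,1,0,1,1,1,1,1,0,0,1,0], [],
  [], [], [], [0,0,1,0,1,1,2,1,1,1,0,1,2,2,2,2,1,1],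
  [], [0,0,1,0,1,0,2,0,1,1,1,1,2,0,2,0,2,1], [], [0,0,1,0,1,0,2,0,2,0,0,1,1,1,0,2,0,1],
  [], [], [], [0,0,1,1,0,2,0,1,0,1,1,1,1,2,2,1,1,2],
  [], [], [0,0,1,0,1,1,2,2,2,1,1,1,0,1,0,2,1,0], [],
  [], [0,0,1,0,1,1,2,1,1,1,0,1,0,2,2,1,1,1], [], [],
  [0,0,1,1,0,0,2,1,1,0,0,1,1,1,1,0,1,1], [], [], [0,0,1,0,1,0,2,0,1,1,0,1,1,2,2,0,0,2],
  [], [], [0,0,1,0,1,0,2,0,2,1,1,1,1,1,0,0,1,1], [],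
  [], [0,0,1,1,0,0,2,1,0,1,1,1,2,0,1,0,2,2], [], [],
  [0,0,1,0,1,0,2,2,0,1,0,1,2,1,1,0,0,1], [], [], [0,0,1,0,1,0,2,1,0,1,1,1,2,2,0,0,2,2],
  [], [], [0,0,1,0,1,0,2,0,1,1,0,1,2,0,0,1,2,2], [],
  [], [0,0,1,0,1,0,2,2,2,0,0,1,2,1,0,0,2,2], [], [],
  [0,0,1,0,1,0,2,2,2,0,0,1,2,2,0,0,2,2], [], [], [0,0,1,0,1,0,2,0,1,1,1,1,1,0,0,0,1,0],
  [], [], [0,0,1,0,1,0,2,0,2,1,1,1,1,0,1,0,1,2], [],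
  [], [0,0,1,0,1,1,2,1,1,0,0,1,1,2,2,0,1,1], [], [],
  [0,0,1,0,1,0,2,0,1,0,0,1,2,0,0,2,2,2], [], [], [0,0,1,0,1,1,2,2,2,1,0,1,1,2,2,2,2,2],
  [], [], [0,0,1,0,1,0,2,2,0,1,0,1,2,2,1,0,1,0], [],
  [], [0,0,1,0,1,0,2,0,2,1,1,1,2,0,0,2,2,0], [], [],
  [0,0,1,0,1,0,2,1,1,0,0,1,1,2,0,0,1,1], [], [], [0,0,1,0,1,0,2,1,1,0,0,1,1,1,0,0,1,1],
  [], [], [0,0,1,0,1,0,2,0,2,1,0,1,1,0,0,0,1,1], [],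
  [], [0,0,1,0,1,1,2,2,2,0,0,1,2,2,2,0,2,2], [], [],
  [0,0,1,0,1,0,2,0,1,1,0,1,1,1,2,0,2,0], [], [], [0,0,1,0,1,0,2,0,2,0,0,1,1,0,0,2,1,1],
  [], [], [0,0,1,0,1,0,2,1,0,1,1,1,2,0,2,0,2,1], [],
  [], [0,0,1,0,1,1,2,1,1,1,1,1,1,1,0,1,2,0], [], [],
  [0,0,1,1,1,1,0,1,1,1,1,1,0,1,0,1,1,2], [], [0,0,1,0,1,1,2,0,2,1,1,1,0,1,0,2,2,0], [],
  [], [], [], [0,0,1,0,1,1,2,2,1,1,0,1,0,2,2,1,0,0],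
  [], [0,0,1,1,0,0,0,1,0,0,0,1,1,1,1,1,2,1], [], [0,0,1,0,1,0,2,2,2,1,0,1,1,2,2,1,2,1],
  [], [], [], [],
  [0,0,1,0,1,0,2,2,0,1,1,1,1,1,0,1,2,1], [], [0,0,1,1,0,0,1,1,1,1,1,1,2,0,1,2,0,2], [],
  [0,0,1,0,1,0,2,1,1,1,0,1,2,1,1,2,1,2], [], [], [],
  [], [0,0,1,0,1,0,2,0,1,1,1,1,2,2,0,2,1,2], [], [0,0,1,0,1,0,2,0,1,0,0,1,2,0,0,0,2,2],
  [], [0,0,1,0,1,0,2,2,0,1,1,1,1,0,1,1,1,0], [], [],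
  [], [], [0,0,1,0,1,1,2,2,1,0,0,1,1,2,2,1,0,0], [],
  [0,0,1,0,1,0,2,0,1,1,0,1,2,0,0,2,2,2], [], [0,0,1,0,1,1,2,0,2,1,0,1,1,2,2,0,1,1], [],
  [], [], [], [0,0,1,0,1,0,2,1,1,1,0,1,2,2,1,2,0,1],
  [], [0,0,1,0,1,0,2,0,1,1,1,1,1,0,0,2,1,0], [], [0,0,1,0,1,0,2,1,0,0,0,1,2,1,0,2,0,2],
  [], [], [], [],
  [0,0,1,0,1,0,2,1,0,0,0,1,2,2,0,2,1,2], [], [0,0,1,0,1,0,2,0,2,1,0,1,1,0,0,2,1,1], [],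
  [0,0,1,0,1,0,2,0,1,1,1,1,2,0,2,2,2,0], [], [], [],
  [], [0,0,1,0,1,1,2,2,1,1,1,1,1,1,0,2,0,0], [], [0,0,1,0,1,0,2,0,2,0,0,1,1,0,0,1,1,1],
  [], [0,0,1,0,1,0,2,0,2,0,0,1,1,2,0,1,0,1], [], [],
  [], [], [0,0,1,0,1,0,2,0,2,0,0,1,1,1,0,1,2,1], [],
  [0,0,1,0,1,0,2,0,2,1,1,1,2,0,0,0,2,0], [], [0,0,1,0,1,1,2,0,2,0,0,1,2,2,2,2,1,1], [],
  [], [], [], [0,0,1,0,1,0,2,2,2,1,0,1,1,1,2,1,0,2],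
  [], [0,0,1,1,0,0,0,1,1,1,1,1,1,2,1,2,0,0], [], [],
  [], [0,0,1,0,1,1,2,1,2,1,1,1,0,1,0,2,0,0], [0,0,1,0,1,1,2,0,1,1,0,1,0,2,2,1,2,2], [],
  [], [], [0,0,1,1,0,0,1,1,2,0,0,1,1,1,1,2,0,1], [],
  [], [], [0,0,1,0,1,0,2,1,0,1,0,1,1,2,2,2,1,0], [0,0,1,0,1,0,2,1,1,1,1,1,1,1,0,2,0,1],
  [], [], [], [0,0,1,1,0,0,0,1,2,1,1,1,2,0,1,1,1,2],
  [], [], [], [0,0,1,0,1,0,2,0,2,1,0,1,2,1,1,1,2,0],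
  [0,0,1,0,1,0,2,2,2,1,1,1,2,2,0,1,0,2], [], [], [],
  [0,0,1,0,1,0,2,0,1,1,1,1,1,0,0,1,1,0], [], [], [],
  [0,0,1,0,1,1,2,1,2,1,0,1,1,2,2,1,0,0], [0,0,1,0,1,0,2,0,2,1,0,1,2,2,1,1,2,2], [], [],
  [], [0,0,1,0,1,0,2,0,1,0,0,1,2,0,0,1,2,2], [], [],
  [], [0,0,1,0,1,0,2,0,1,0,0,1,2,1,0,1,1,2], [0,0,1,0,1,0,2,0,1,0,0,1,2,2,0,1,0,2], [],
  [], [], [0,0,1,0,1,0,2,0,1,1,0,1,2,0,0,0,2,2], [],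
  [], [], [0,0,1,0,1,0,2,1,1,1,1,1,1,0,1,2,1,1], [0,0,1,0,1,1,2,0,1,0,0,1,1,2,2,2,2,2],
  [], [], [], [0,0,1,0,1,0,2,0,2,0,0,1,1,0,0,0,1,1],
  [], [], [], [0,0,1,0,1,1,2,1,2,0,0,1,2,2,2,1,0,0],
  [0,0,1,0,1,0,2,1,0,1,0,1,1,1,2,2,1,1], [], [], [],
  [0,0,1,0,1,0,2,0,2,1,1,1,2,0,0,1,2,0], [], [], [],
  [0,0,1,0,1,0,2,2,2,1,1,1,2,0,2,1,2,2], [0,0,1,0,1,1,2,0,1,1,1,1,1,1,0,0,1,0], [], [],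
  [], [0,0,1,0,1,0,2,0,2,1,0,1,1,0,0,1,1,1], [], [],
  [], [0,0,1,0,1,0,2,2,0,0,0,1,1,2,0,2,2,1], [0,0,1,0,1,0,2,2,0,0,0,1,1,1,0,2,0,1], [],
  []]

/-- the check of one matrix with first column `(0,1,0)` -/
def chk (b1 b2 d11 d12 d21 d22 : ZMod 3) : Bool :=
  let w := tbl.getD (b1.val + 3 * b2.val + 9 * d11.val + 27 * d12.val + 81 * d21.val + 243 * d22.val) []
  let u := ofL (w.take 9)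
  let v := ofL (w.drop 9)
  decide (det3 u = 1) && decide (det3 v = 1) &&
    eq3 (mul3 (mul3 (mul3 u X3) (adj3 u)) (mul3 (mul3 v X3) (adj3 v))) !![0, b1, b2; 1, d11, d12; 0, d21, d22]

set_option maxRecDepth 1000000 in
theorem chk_all : ∀ b1 b2 d11 d12 d21 d22 : ZMod 3, b2 * d21 - b1 * d22 = 1 →
    chk b1 b2 d11 d12 d21 d22 = true := by
  decide +kernel

theorem det_X3 : X3.det = 1 := by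
  rw [← det3_eq]
  decide

/-- the element of order 4 of `SL₃(𝔽₃)` -/
def X3s : Matrix.SpecialLinearGroup (Fin 3) (ZMod 3) := ⟨X3, det_X3⟩

theorem coe_X3s : ((X3s : Matrix.SpecialLinearGroup (Fin 3) (ZMod 3)) : Matrix (Fin 3) (Fin 3) (ZMod 3)) = X3 := rfl

theorem X3s_pow_four : X3s ^ 4 = 1 := by
  apply Subtype.ext
  rw [pow_succ, pow_succ, pow_succ, pow_one]
  simp only [Matrix.SpecialLinearGroup.coe_mul, coe_X3s, Matrix.SpecialLinearGroup.coe_one]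
  rw [← mul3_eq, ← mul3_eq, ← mul3_eq]
  apply eq_of_eq3
  decide

/-- a matrix of determinant 1 with explicit inverse, as an element of `SL₃` -/
theorem exists_sl_of_det3 {R : Type*} [CommRing R] (u : Matrix (Fin 3) (Fin 3) R) (hu : det3 u = 1) :
    ∃ U : Matrix.SpecialLinearGroup (Fin 3) R, (U : Matrix (Fin 3) (Fin 3) R) = u ∧
      ((U⁻¹ : Matrix.SpecialLinearGroup (Fin 3) R) : Matrix (Fin 3) (Fin 3) R) = adj3 u := by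
  obtain ⟨U, hU⟩ : ∃ U : Matrix.SpecialLinearGroup (Fin 3) R, (U : Matrix (Fin 3) (Fin 3) R) = u :=
    ⟨⟨u, by rw [← det3_eq]; exact hu⟩, rfl⟩
  obtain ⟨W, hW⟩ : ∃ W : Matrix.SpecialLinearGroup (Fin 3) R, (W : Matrix (Fin 3) (Fin 3) R) = adj3 u :=
    ⟨⟨adj3 u, by rw [← det3_eq]; exact det3_adj3 u hu⟩, rfl⟩
  have h : U⁻¹ = W := by
    apply inv_eq_of_mul_eq_one_right
    apply Subtype.ext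
    rw [Matrix.SpecialLinearGroup.coe_mul, hU, hW, Matrix.SpecialLinearGroup.coe_one]
    exact mul_adj3 u hu
  exact ⟨U, hU, by rw [h, hW]⟩

/-- the matrices with first column `(0,1,0)` -/
theorem isProd_of_cyclic (A₁ : Matrix.SpecialLinearGroup (Fin 3) (ZMod 3)) (h00 : A₁ 0 0 = 0) (h10 : A₁ 1 0 = 1)
    (h20 : A₁ 2 0 = 0) : IsProd X3s A₁ := by
  have hdet := det_eq A₁
  rw [h00, h10, h20] at hdet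
  have hd : A₁ 0 2 * A₁ 2 1 - A₁ 0 1 * A₁ 2 2 = 1 := by linear_combination hdet
  have hc := chk_all (A₁ 0 1) (A₁ 0 2) (A₁ 1 1) (A₁ 1 2) (A₁ 2 1) (A₁ 2 2) hd
  unfold chk at hc
  simp only [Bool.and_eq_true, decide_eq_true_eq] at hc
  obtain ⟨⟨hu, hv⟩, he⟩ := hc
  obtain ⟨U, hU, hUi⟩ := exists_sl_of_det3 _ hu
  obtain ⟨V, hV, hVi⟩ := exists_sl_of_det3 _ hv
  refine ⟨U, V, ?_⟩
  apply Subtype.ext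
  have e1 := eq_of_eq3 _ _ he
  simp only [mul3_eq] at e1
  simp only [Matrix.SpecialLinearGroup.coe_mul, hU, hV, hUi, hVi, coe_X3s]
  rw [e1]
  ext i j
  fin_cases i <;> fin_cases j <;> simp [h00, h10, h20]

/-- every non-scalar element of `SL₃(𝔽₃)` is a product of two conjugates of `X3s` -/
theorem isProd_three (A : Matrix.SpecialLinearGroup (Fin 3) (ZMod 3))
    (hA : ∀ z : ZMod 3, (A : Matrix (Fin 3) (Fin 3) (ZMod 3)) ≠ z • (1 : Matrix (Fin 3) (Fin 3) (ZMod 3))) :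
    IsProd X3s A := by
  obtain ⟨P, A₁, rfl, h00, h10, h20⟩ := exists_conj_cyclic A hA
  exact (isProd_of_cyclic A₁ h00 h10 h20).conj P

theorem IsProd.map {R S : Type*} [Field R] [Field S] (f : R →+* S) {D A : Matrix.SpecialLinearGroup (Fin 3) R}
    (h : IsProd D A) : IsProd (Matrix.SpecialLinearGroup.map f D) (Matrix.SpecialLinearGroup.map f A) := by
  obtain ⟨u, v, rfl⟩ := h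
  exact ⟨Matrix.SpecialLinearGroup.map f u, Matrix.SpecialLinearGroup.map f v, by simp only [map_mul, map_inv]⟩

end Cfsg.Agent.Helper41.Psl3
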