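import Cfsg.Agent.Helper41.Psl3B

/-!
`PSL₃(F)`, `F` finite with at least 3 elements: there is a semisimple class whose square covers the non-identity
elements.
-/

set_option autoImplicit false

namespace Cfsg.Agent.Helper41.Psl3

open scoped Matrix

variable {F : Type*} [Field F]

/-- passing to `PSL₃` -/
theorem psl_of_isProd (D : Matrix.SpecialLinearGroup (Fin 3) F)
    (hD : ∀ A : Matrix.SpecialLinearGroup (Fin 3) F,
      (∀ z : F, (A : Matrix (Fin 3) (Fin 3) F) ≠ z • (1 : Matrix (Fin 3) (Fin 3) F)) → IsProd D A)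
    (g : Matrix.ProjectiveSpecialLinearGroup (Fin 3) F) (hg : g ≠ 1) :
    ∃ u v : Matrix.ProjectiveSpecialLinearGroup (Fin 3) F,
      g = (u * (QuotientGroup.mk D) * u⁻¹) * (v * (QuotientGroup.mk D) * v⁻¹) := by
  obtain ⟨A, rfl⟩ := QuotientGroup.mk_surjective g
  have hA : ∀ z : F, (A : Matrix (Fin 3) (Fin 3) F) ≠ z • (1 : Matrix (Fin 3) (Fin 3) F) := by
    intro z hz
    apply hg
    rw [QuotientGroup.eq_one_iff, Matrix.SpecialLinearGroup.mem_center_iff]
    refine ⟨z, ?_, ?_⟩
    · have h1 := A.2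
      rw [hz, Matrix.det_smul, Matrix.det_one, mul_one] at h1
      exact h1
    · rw [hz]
      ext i j
      simp [Matrix.one_apply, Matrix.diagonal_apply]
  obtain ⟨u, v, huv⟩ := hD A hA
  refine ⟨QuotientGroup.mk u, QuotientGroup.mk v, ?_⟩
  rw [huv]
  rfl

theorem diagD_pow (a b : F) (hab : a * b = 1) (n : ℕ) :
    (diagD a b hab) ^ n = diagD (a ^ n) (b ^ n) (by rw [← mul_pow, hab, one_pow]) := by
  induction n with
  | zero =>
    ext i j
    fin_cases i <;> fin_cases j <;> simp [coe_diagD]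
  | succ n ih =>
    rw [pow_succ, ih]
    ext i j
    fin_cases i <;> fin_cases j <;>
      simp [Matrix.SpecialLinearGroup.coe_mul, Matrix.mul_apply, Fin.sum_univ_three, coe_diagD, pow_succ]

theorem diagD_one : diagD (1 : F) 1 (mul_one 1) = 1 := by
  ext i j
  fin_cases i <;> fin_cases j <;> simp [coe_diagD]

variable [Fintype F]

theorem diagD_pow_card (a b : F) (hab : a * b = 1) : (diagD a b hab) ^ (Fintype.card F - 1) = 1 := by
  have ha : a ≠ 0 := left_ne_zero_of_mul_eq_one hab
  have hb : b ≠ 0 := right_ne_zero_of_mul_eq_one hab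
  rw [diagD_pow]
  have e : diagD (a ^ (Fintype.card F - 1)) (b ^ (Fintype.card F - 1))
      (by rw [← mul_pow, hab, one_pow]) = diagD (1 : F) 1 (mul_one 1) := by
    ext i j
    fin_cases i <;> fin_cases j <;>
      simp [coe_diagD, FiniteField.pow_card_sub_one_eq_one a ha, FiniteField.pow_card_sub_one_eq_one b hb]
  rw [e, diagD_one]

/-- three distinct elements `1, a, b` with `ab = 1` -/
theorem exists_distinct (hF : 4 ≤ Fintype.card F) : ∃ a b : F, a * b = 1 ∧ a ≠ 1 ∧ b ≠ 1 ∧ a ≠ b := by
  classical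
  obtain ⟨g, hg⟩ := IsCyclic.exists_generator (α := Fˣ)
  have hord : orderOf g = Fintype.card F - 1 := by
    rw [orderOf_eq_card_of_forall_mem_zpowers hg, Nat.card_eq_fintype_card, Fintype.card_units]
  have h3 : 3 ≤ orderOf g := by omega
  have hg1 : g ≠ 1 := by
    intro h
    rw [h, orderOf_one] at h3
    omega
  have hg2 : g ^ 2 ≠ 1 := by
    intro h
    have := orderOf_dvd_of_pow_eq_one h
    have := Nat.le_of_dvd (by norm_num) this
    omega
  refine ⟨(g : F), ((g⁻¹ : Fˣ) : F), by rw [← Units.val_mul, mul_inv_cancel, Units.val_one], ?_, ?_, ?_⟩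
  · intro h
    exact hg1 (Units.ext h)
  · intro h
    apply hg1
    have : g⁻¹ = 1 := Units.ext h
    exact inv_eq_one.mp this
  · intro h
    apply hg2
    have h' : g = g⁻¹ := Units.ext h
    rw [pow_two]
    nth_rewrite 2 [h']
    exact mul_inv_cancel g

/-- the field with three elements -/
theorem exists_ringEquiv_three [CharP F 3] (hF : Fintype.card F = 3) : Nonempty (ZMod 3 ≃+* F) := by
  have hinj : Function.Injective (ZMod.castHom (dvd_refl 3) F) := RingHom.injective _
  have hbij : Function.Bijective (ZMod.castHom (dvd_refl 3) F) := by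
    rw [Fintype.bijective_iff_injective_and_card]
    exact ⟨hinj, by rw [ZMod.card, hF]⟩
  exact ⟨RingEquiv.ofBijective _ hbij⟩

omit [Fintype F] in
/-- the case of three elements: transfer from `ZMod 3` -/
theorem isProd_three' (e : ZMod 3 ≃+* F) (A : Matrix.SpecialLinearGroup (Fin 3) F)
    (hA : ∀ z : F, (A : Matrix (Fin 3) (Fin 3) F) ≠ z • (1 : Matrix (Fin 3) (Fin 3) F)) :
    IsProd (Matrix.SpecialLinearGroup.map (e : ZMod 3 →+* F) X3s) A := by
  set A' := Matrix.SpecialLinearGroup.map (e.symm : F →+* ZMod 3) A with hA'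
  have hAA' : Matrix.SpecialLinearGroup.map (e : ZMod 3 →+* F) A' = A := by
    ext i j
    simp [hA', Matrix.SpecialLinearGroup.map_apply_coe, RingHom.mapMatrix_apply, Matrix.map_apply]
  have hns : ∀ z : ZMod 3,
      (A' : Matrix (Fin 3) (Fin 3) (ZMod 3)) ≠ z • (1 : Matrix (Fin 3) (Fin 3) (ZMod 3)) := by
    intro z hz
    apply hA (e z)
    rw [← hAA']
    ext i j
    have := congrFun (congrFun hz i) j
    simp only [Matrix.SpecialLinearGroup.map_apply_coe, RingHom.mapMatrix_apply, Matrix.map_apply,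
      Matrix.smul_apply, Matrix.one_apply, RingEquiv.coe_toRingHom] at this ⊢
    rw [this]
    split_ifs <;> simp
  have := (isProd_three A' hns).map (e : ZMod 3 →+* F)
  rw [hAA'] at this
  exact this

end Cfsg.Agent.Helper41.Psl3
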