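import Cfsg.Agent.Helper43.PsuM.EvDefs
import Cfsg.Agent.Helper41.PsuM_EvBase
import Cfsg.Agent.Helper41.PsuM_ACONJ

/-!
helper41, piece (AROOTb) of helper43's farm #14693 (S2089 block I-even): commutators of the root elements of the Levi
subgroup with the root elements of `Qsub`, and the action of the torus on the latter, in the model `SUe m σ`.
-/

set_option autoImplicit false

namespace Cfsg.Agent.Helper41.PsuM

open Matrix Cfsg.Agent.Helper43.PsuM.Ev
open scoped commutatorElement

variable {F : Type*} [Field F] {m : ℕ} {σ : F →+* F}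

theorem AROOTb_single_mem (i : Fin m) {c : F} (hc : σ c + c = 0) :
    Matrix.single i i c ∈ SkewH m σ := by
  change (Matrix.single i i c).map σ + (Matrix.single i i c)ᵀ = 0
  rw [Matrix.map_single, Matrix.transpose_single, ← Matrix.single_add, hc, Matrix.single_zero]

theorem AROOTb_single_sub_mem (hσ : ∀ x, σ (σ x) = x) (i j : Fin m) (t : F) :
    Matrix.single i j t - Matrix.single j i (σ t) ∈ SkewH m σ := by
  change (Matrix.single i j t - Matrix.single j i (σ t)).map σ + (Matrix.single i j t - Matrix.single j i (σ t))ᵀ = 0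
  rw [Matrix.map_sub σ (map_sub σ), Matrix.map_single, Matrix.map_single, Matrix.transpose_sub,
    Matrix.transpose_single, Matrix.transpose_single, hσ]
  abel

theorem AROOTb_ss_ne {i j k l : Fin m} (h : j ≠ k) (c d : F) :
    Matrix.single i j c * Matrix.single k l d = (0 : Matrix (Fin m) (Fin m) F) :=
  Matrix.single_mul_single_of_ne c i j k h d

/-- the commutator of a root element of the Levi subgroup with an element of `Qsub` -/
theorem AROOTb_comm (hσ : ∀ x, σ (σ x) = x) {i l : Fin m} (h : i ≠ l) (a : F)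
    {B : Matrix (Fin m) (Fin m) F} (hB : B ∈ SkewH m σ) :
    Matrix.single i l a * B + B * Matrix.single l i (σ a) +
        Matrix.single i l a * B * Matrix.single l i (σ a) ∈ SkewH m σ ∧
      ⁅xE σ i l a, qE σ B⁆ = qE σ (Matrix.single i l a * B + B * Matrix.single l i (σ a) +
        Matrix.single i l a * B * Matrix.single l i (σ a)) := by
  obtain ⟨hmem, hconj⟩ := iE_conj_qE hσ (SpecialLinearGroup.transvection h a) hB
  have hT : (SpecialLinearGroup.transvection h a : SpecialLinearGroup (Fin m) F).1 =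
      1 + Matrix.single i l a := rfl
  have e : (SpecialLinearGroup.transvection h a : SpecialLinearGroup (Fin m) F).1 * B *
      ((SpecialLinearGroup.transvection h a : SpecialLinearGroup (Fin m) F).1.map σ)ᵀ =
      B + (Matrix.single i l a * B + B * Matrix.single l i (σ a) +
        Matrix.single i l a * B * Matrix.single l i (σ a)) := by
    rw [hT, Matrix.map_add σ (map_add σ), Matrix.map_one σ (map_zero σ) (map_one σ), Matrix.map_single,
      Matrix.transpose_add, Matrix.transpose_one, Matrix.transpose_single]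
    rw [Matrix.add_mul, Matrix.one_mul, Matrix.mul_add, Matrix.mul_one, Matrix.add_mul]
    abel
  rw [e] at hmem hconj
  have hdiff : Matrix.single i l a * B + B * Matrix.single l i (σ a) +
      Matrix.single i l a * B * Matrix.single l i (σ a) ∈ SkewH m σ := by
    have := (SkewH m σ).sub_mem hmem hB
    rwa [add_sub_cancel_left] at this
  refine ⟨hdiff, ?_⟩
  have hx : xE σ i l a = iE σ (SpecialLinearGroup.transvection h a) := by
    unfold xE
    rw [dif_pos h]
  rw [commutatorElement_def, hx, hconj, add_comm, EvB_qE_add hdiff hB, mul_inv_cancel_right]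

/-- (AROOT4) `A = 1 + a E_il`, `B = t E_li - σ(t) E_il`: `A B A* = B + (a t - σ(a t)) E_ii` -/
theorem commutator_xE_cE (hσ : ∀ x, σ (σ x) = x) {i l : Fin m} (hil : i ≠ l) (a t : F) :
    ⁅xE σ i l a, cE σ l i t⁆ = zE σ i (a * t - σ (a * t)) := by
  obtain ⟨-, h⟩ := AROOTb_comm hσ hil a (AROOTb_single_sub_mem hσ l i t)
  unfold cE zE
  rw [h]
  congr 1
  simp only [Matrix.mul_sub, Matrix.sub_mul, Matrix.single_mul_single_same,
    AROOTb_ss_ne hil.symm, AROOTb_ss_ne hil, sub_zero, zero_sub, add_zero]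
  rw [map_mul, Matrix.single_neg, ← Matrix.single_add]
  congr 1
  ring

/-- (AROOT5) `A = 1 + a E_jk`, `B = c E_kk`: `A B A* = B + (a c E_jk + σ(a) c E_kj) + a σ(a) c E_jj` -/
theorem commutator_xE_zE (hσ : ∀ x, σ (σ x) = x) {j k : Fin m} (hjk : j ≠ k) (a : F) {c : F}
    (hc : σ c + c = 0) :
    ⁅xE σ j k a, zE σ k c⁆ = cE σ j k (a * c) * zE σ j (a * σ a * c) := by
  obtain ⟨-, h⟩ := AROOTb_comm hσ hjk a (AROOTb_single_mem k hc)
  have hc' : σ c = -c := eq_neg_of_add_eq_zero_left hc
  have hz : σ (a * σ a * c) + a * σ a * c = 0 := by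
    rw [map_mul, map_mul, hσ, hc']
    ring
  unfold cE zE
  rw [h, ← EvB_qE_add (AROOTb_single_sub_mem hσ j k (a * c)) (AROOTb_single_mem j hz)]
  congr 1
  rw [Matrix.single_mul_single_same, Matrix.single_mul_single_same, Matrix.single_mul_single_same, map_mul, hc']
  have e1 : Matrix.single k j (σ a * -c) = -Matrix.single k j (c * σ a) := by
    rw [Matrix.single_neg]
    congr 1
    ring
  rw [e1, sub_neg_eq_add]
  congr 2
  ring

/-- (AROOT6) `1 + a E_jl` fixes `e_i` for `l ≠ i` -/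
theorem commute_xE_zE (hσ : ∀ x, σ (σ x) = x) {i j l : Fin m} (hjl : j ≠ l) (hli : l ≠ i) (a : F)
    {c : F} (hc : σ c + c = 0) : Commute (xE σ j l a) (zE σ i c) := by
  obtain ⟨-, h⟩ := AROOTb_comm hσ hjl a (AROOTb_single_mem i hc)
  rw [← commutatorElement_eq_one_iff_commute]
  unfold zE
  rw [h]
  simp only [AROOTb_ss_ne hli, AROOTb_ss_ne hli.symm, Matrix.zero_mul, add_zero]
  exact EvB_qE_zero

/-- (AROOT7) -/
theorem commute_xE_cE (hσ : ∀ x, σ (σ x) = x) {i k j l : Fin m} (hik : i ≠ k) (hjl : j ≠ l)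
    (hli : l ≠ i) (hlk : l ≠ k) (a t : F) : Commute (xE σ j l a) (cE σ i k t) := by
  obtain ⟨-, h⟩ := AROOTb_comm hσ hjl a (AROOTb_single_sub_mem hσ i k t)
  rw [← commutatorElement_eq_one_iff_commute]
  unfold cE
  rw [h]
  simp only [Matrix.mul_sub, Matrix.sub_mul, AROOTb_ss_ne hli, AROOTb_ss_ne hlk, AROOTb_ss_ne hlk.symm,
    AROOTb_ss_ne hli.symm, Matrix.zero_mul, add_zero, sub_self]
  exact EvB_qE_zero

/-- (AROOT8) -/
theorem tE_conj_zE (hσ : ∀ x, σ (σ x) = x) (d : Fin m → F) (hd : ∀ i, d i ≠ 0)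
    (hdet : σ (∏ i, d i) = ∏ i, d i) (i : Fin m) {c : F} (hc : σ c + c = 0) :
    tE σ d * zE σ i c * (tE σ d)⁻¹ = zE σ i (d i * σ (d i) * c) := by
  obtain ⟨-, h⟩ := tE_conj_qE hσ d hd hdet (AROOTb_single_mem i hc)
  unfold zE
  rw [h, EvB_diagonal_mul_single, EvB_single_mul_diagonal]
  congr 2
  ring

/-- (AROOT9) -/
theorem tE_conj_cE (hσ : ∀ x, σ (σ x) = x) (d : Fin m → F) (hd : ∀ i, d i ≠ 0)
    (hdet : σ (∏ i, d i) = ∏ i, d i) {i j : Fin m} (hij : i ≠ j) (t : F) :
    tE σ d * cE σ i j t * (tE σ d)⁻¹ = cE σ i j (d i * σ (d j) * t) := by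
  obtain ⟨-, h⟩ := tE_conj_qE hσ d hd hdet (AROOTb_single_sub_mem hσ i j t)
  unfold cE
  rw [h, Matrix.mul_sub, Matrix.sub_mul, EvB_diagonal_mul_single, EvB_single_mul_diagonal,
    EvB_diagonal_mul_single, EvB_single_mul_diagonal, map_mul, map_mul, hσ]
  congr 2
  · congr 1
    ring
  · congr 1
    ring

end Cfsg.Agent.Helper41.PsuM
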