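import Cfsg.Agent.Helper5.PsuE2.Defs
import Cfsg.Agent.Helper61.PsuM_AQ
import Cfsg.Agent.Helper41.PsuM_AROOTb
import Cfsg.Agent.Helper55.PsuM_AROOTa

/-!
helper41, piece (RB) of helper5's farm #15283 (S2089 block I-even-2, `q = 2`): the action of the root elements
of the Levi subgroup on the root elements of `Qsub` in `SU_{2m}(2)`.
-/

set_option autoImplicit false

namespace Cfsg.Agent.Helper41.PsuE2

open Matrix
open scoped commutatorElement
open Cfsg.Agent.Helper43.PsuM.Ev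
open Cfsg.Agent.Helper96.StLift
open Cfsg.Agent.Helper5.PsuE2

universe u

section matrix

variable {K : Type u} [Field K] [Fintype K] {σ : K →+* K} {m : ℕ}

theorem x_z (hK : Fintype.card K = 2 ^ 2) (hσq : ∀ x, σ x = x ^ 2) (i j : Fin m) (hij : i ≠ j)
    (t : K) (ht : t ≠ 0) :
    xE σ i j t * zE σ j 1 * (xE σ i j t)⁻¹ = cE σ i j t * zE σ i 1 * zE σ j 1 := by
  have F := f4Facts hK hσq
  have h1 : σ (1 : K) + 1 = 0 := by rw [map_one]; exact F.two 1
  have h := Cfsg.Agent.Helper41.PsuM.commutator_xE_zE F.invol hij t h1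
  rw [mul_one, mul_one, F.norm t ht, commutatorElement_def] at h
  rw [← h]
  group

theorem x_z_comm (hK : Fintype.card K = 2 ^ 2) (hσq : ∀ x, σ x = x ^ 2) (i j l : Fin m)
    (hij : i ≠ j) (hlj : l ≠ j) (t : K) : Commute (xE σ i j t) (zE σ l 1) := by
  have F := f4Facts hK hσq
  have h1 : σ (1 : K) + 1 = 0 := by rw [map_one]; exact F.two 1
  exact Cfsg.Agent.Helper41.PsuM.commute_xE_zE F.invol hij hlj.symm t h1

theorem x_c (hK : Fintype.card K = 2 ^ 2) (hσq : ∀ x, σ x = x ^ 2) (i j : Fin m) (hij : i ≠ j)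
    (t u : K) :
    xE σ i j t * cE σ i j u * (xE σ i j t)⁻¹ = cE σ i j u * zE σ i (t * σ u + σ t * u) := by
  have F := f4Facts hK hσq
  have hneg : ∀ x : K, -x = x := fun x => neg_eq_of_add_eq_zero_left (F.two x)
  have hsym : cE σ i j u = cE σ j i (σ u) := by
    rw [Cfsg.Agent.Helper55.PsuM.cE_symm F.invol hij (σ u), hneg, F.invol]
  have h := Cfsg.Agent.Helper41.PsuM.commutator_xE_cE F.invol hij t (σ u)
  rw [← hsym, commutatorElement_def] at h
  have hval : t * σ u - σ (t * σ u) = t * σ u + σ t * u := by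
    rw [map_mul, F.invol, sub_eq_add_neg, hneg]
  rw [hval] at h
  have hc : σ (t * σ u + σ t * u) + (t * σ u + σ t * u) = 0 := by
    rw [map_add, map_mul, map_mul, F.invol, F.invol]
    have := F.two (t * σ u + σ t * u)
    rw [← this]
    ring
  have hcm : cE σ i j u ∈ Qsub m σ :=
    (Cfsg.Agent.Helper61.PsuM.mem_Qsub_iff _).mpr
      ⟨_, Cfsg.Agent.Helper55.PsuM.single_sub_mem_SkewH F.invol hij u, rfl⟩
  have hzm : zE σ i (t * σ u + σ t * u) ∈ Qsub m σ :=
    (Cfsg.Agent.Helper61.PsuM.mem_Qsub_iff _).mpr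
      ⟨_, Cfsg.Agent.Helper55.PsuM.single_mem_SkewH i hc, rfl⟩
  have hcomm := Cfsg.Agent.Helper61.PsuM.Qsub_comm _ _ hcm hzm
  rw [hcomm.eq, ← h]
  group

end matrix

end Cfsg.Agent.Helper41.PsuE2
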