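import Cfsg.Agent.Helper5.PsuE2.Defs
import Cfsg.Agent.Helper33.PsuM_AT
import Cfsg.Agent.Helper41.PsuM_ACONJ
import Cfsg.Agent.Helper41.PsuM_AROOTb

/-!
helper41, piece (RT1) of helper5's farm #15283 (S2089 block I-even-2, `q = 2`): the torus of `SU_{2m}(2)` centralises
the long root elements `zE σ i 1`, and explicit torus elements acting on a root group.
-/

set_option autoImplicit false

namespace Cfsg.Agent.Helper41.PsuE2

open Matrix
open scoped commutatorElement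
open Cfsg.Agent.Helper43.PsuM.Ev
open Cfsg.Agent.Helper96.StLift
open Cfsg.Agent.Helper5.PsuE2

universe u

section matrix

variable {K : Type u} [Field K] [Fintype K] {σ : K →+* K} {m : ℕ}

omit [Fintype K] in
/-- a diagonal with prescribed entries `t` at `a`, `1` at `b`, product `1` (needs a third index) -/
theorem RT1_exists_diag (hm : 3 ≤ m) (a b : Fin m) (hab : a ≠ b) (t : K) (ht : t ≠ 0) :
    ∃ d : Fin m → K, (∀ i, d i ≠ 0) ∧ ∏ i, d i = 1 ∧ d a = t ∧ d b = 1 := by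
  classical
  obtain ⟨l, -, hl⟩ : ∃ l ∈ (Finset.univ : Finset (Fin m)), l ∉ ({a, b} : Finset (Fin m)) := by
    apply Finset.exists_mem_notMem_of_card_lt_card
    rw [Finset.card_univ, Fintype.card_fin]
    exact lt_of_le_of_lt (Finset.card_le_two) (by omega)
  have hla : l ≠ a := fun h => hl (by rw [h]; exact Finset.mem_insert_self _ _)
  have hlb : l ≠ b := fun h => hl (by rw [h]; simp)
  refine ⟨fun x => (if x = a then t else 1) * (if x = l then t⁻¹ else 1), ?_, ?_, ?_, ?_⟩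
  · intro i
    apply mul_ne_zero
    · split_ifs
      · exact ht
      · exact one_ne_zero
    · split_ifs
      · exact inv_ne_zero ht
      · exact one_ne_zero
  · rw [Finset.prod_mul_distrib, Finset.prod_ite_eq' Finset.univ a (fun _ => t),
      Finset.prod_ite_eq' Finset.univ l (fun _ => t⁻¹), if_pos (Finset.mem_univ _),
      if_pos (Finset.mem_univ _), mul_inv_cancel₀ ht]
  · show (if a = a then t else 1) * (if a = l then t⁻¹ else 1) = t
    rw [if_pos rfl, if_neg hla.symm, mul_one]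
  · show (if b = a then t else 1) * (if b = l then t⁻¹ else 1) = 1
    rw [if_neg hab.symm, if_neg hlb.symm, mul_one]

theorem T_z (hK : Fintype.card K = 2 ^ 2) (hσq : ∀ x, σ x = x ^ 2) :
    ∀ h ∈ Tsub m σ, ∀ i : Fin m, Commute h (zE σ i 1) := by
  have F := f4Facts hK hσq
  have h1 : σ (1 : K) + 1 = 0 := by rw [map_one]; exact F.two 1
  intro h hh i
  obtain ⟨d, hd, hdet, rfl⟩ := (Cfsg.Agent.Helper33.PsuM.mem_Tsub_iff F.invol h).mp hh
  have hc := Cfsg.Agent.Helper41.PsuM.tE_conj_zE F.invol d hd hdet i h1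
  rw [F.norm (d i) (hd i), one_mul] at hc
  exact mul_inv_eq_iff_eq_mul.mp hc

theorem T_ab (hK : Fintype.card K = 2 ^ 2) (hσq : ∀ x, σ x = x ^ 2) (hm : 4 ≤ m) (a b : Fin m)
    (hab : a ≠ b) (t : K) (ht : t ≠ 0) :
    ∃ h ∈ Tsub m σ, h * xE σ a b 1 * h⁻¹ = xE σ a b t ∧ h * cE σ a b 1 * h⁻¹ = cE σ a b t := by
  have F := f4Facts hK hσq
  obtain ⟨d, hd, hprod, hda, hdb⟩ := RT1_exists_diag (by omega) a b hab t ht
  have hdet : σ (∏ i, d i) = ∏ i, d i := by rw [hprod, map_one]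
  refine ⟨tE σ d, (Cfsg.Agent.Helper33.PsuM.mem_Tsub_iff F.invol _).mpr ⟨d, hd, hdet, rfl⟩, ?_, ?_⟩
  · rw [Cfsg.Agent.Helper41.PsuM.tE_conj_xE F.invol d hd hdet a b 1, hda, hdb, mul_one, inv_one, mul_one]
  · rw [Cfsg.Agent.Helper41.PsuM.tE_conj_cE F.invol d hd hdet hab 1, hda, hdb, map_one, mul_one, mul_one]

theorem T_kill (hK : Fintype.card K = 2 ^ 2) (hσq : ∀ x, σ x = x ^ 2) (hm : 4 ≤ m) (a b : Fin m)
    (hab : a ≠ b) :
    ∃ h ∈ Tsub m σ, ∃ w : K, w ≠ 1 ∧ ∀ t : K, h * xE σ a b t * h⁻¹ = xE σ a b (w * t) := by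
  have F := f4Facts hK hσq
  obtain ⟨ω, hω0, hω1⟩ := F.exists_omega
  obtain ⟨d, hd, hprod, hda, hdb⟩ := RT1_exists_diag (by omega) a b hab ω hω0
  have hdet : σ (∏ i, d i) = ∏ i, d i := by rw [hprod, map_one]
  refine ⟨tE σ d, (Cfsg.Agent.Helper33.PsuM.mem_Tsub_iff F.invol _).mpr ⟨d, hd, hdet, rfl⟩, ω, hω1, ?_⟩
  intro t
  rw [Cfsg.Agent.Helper41.PsuM.tE_conj_xE F.invol d hd hdet a b t, hda, hdb, inv_one, mul_one]

end matrix

end Cfsg.Agent.Helper41.PsuE2
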