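import Cfsg.Agent.Helper5.PsuE2.Defs
import Cfsg.Agent.Helper61.PsuM_AQ
import Cfsg.Agent.Helper33.PsuM_AT
import Cfsg.Agent.Helper41.PsuM_ACONJ
import Cfsg.Agent.Helper41.PsuM_AROOTb
import Cfsg.Agent.Helper55.PsuM_AROOTa

/-!
helper41, piece (RT2) of helper5's farm #15283 (S2089 block I-even-2, `q = 2`): the short root elements of `Qsub` are
commutators with torus elements (inside `Tij σ a b` when the root is not `±(a, b)`).
-/

set_option autoImplicit false

namespace Cfsg.Agent.Helper41.PsuE2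

open Matrix
open scoped commutatorElement
open Cfsg.Agent.Helper43.PsuM.Ev
open Cfsg.Agent.Helper96.StLift
open Cfsg.Agent.Helper5.PsuE2

universe u

section matrix

variable {K : Type u} [Field K] [Fintype K] {σ : K →+* K} {m : ℕ}

omit [Fintype K] in
/-- a diagonal with entries `t` at `k`, `t⁻¹` at `l`, and `1` elsewhere -/
theorem RT2_exists_diag (k l : Fin m) (hkl : k ≠ l) (t : K) (ht : t ≠ 0) :
    ∃ d : Fin m → K, (∀ i, d i ≠ 0) ∧ ∏ i, d i = 1 ∧ d k = t ∧ d l = t⁻¹ ∧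
      ∀ x, x ≠ k → x ≠ l → d x = 1 := by
  classical
  refine ⟨fun x => (if x = k then t else 1) * (if x = l then t⁻¹ else 1), ?_, ?_, ?_, ?_, ?_⟩
  · intro i
    apply mul_ne_zero
    · split_ifs
      · exact ht
      · exact one_ne_zero
    · split_ifs
      · exact inv_ne_zero ht
      · exact one_ne_zero
  · rw [Finset.prod_mul_distrib, Finset.prod_ite_eq' Finset.univ k (fun _ => t),
      Finset.prod_ite_eq' Finset.univ l (fun _ => t⁻¹), if_pos (Finset.mem_univ _),
      if_pos (Finset.mem_univ _), mul_inv_cancel₀ ht]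
  · show (if k = k then t else 1) * (if k = l then t⁻¹ else 1) = t
    rw [if_pos rfl, if_neg hkl, mul_one]
  · show (if l = k then t else 1) * (if l = l then t⁻¹ else 1) = t⁻¹
    rw [if_neg hkl.symm, if_pos rfl, one_mul]
  · intro x hxk hxl
    show (if x = k then t else 1) * (if x = l then t⁻¹ else 1) = 1
    rw [if_neg hxk, if_neg hxl, mul_one]

/-- core: a short root element is a commutator with a torus element of nontrivial weight -/
theorem RT2_core (hK : Fintype.card K = 2 ^ 2) (hσq : ∀ x, σ x = x ^ 2) (T' : Subgroup (SUe m σ))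
    (i j : Fin m) (hij : i ≠ j) (d : Fin m → K) (hd : ∀ x, d x ≠ 0)
    (hdet : σ (∏ x, d x) = ∏ x, d x) (hT : tE σ d ∈ T') (hne : d i ≠ d j) (u : K) :
    cE σ i j u ∈ ⁅Qsub m σ, T'⁆ := by
  have F := f4Facts hK hσq
  have hneg : ∀ x : K, -x = x := fun x => neg_eq_of_add_eq_zero_left (F.two x)
  set w : K := d i * σ (d j) with hw
  have hw1 : 1 + w ≠ 0 := by
    intro h0
    apply hne
    have h1 : w = 1 := by
      have := eq_neg_of_add_eq_zero_right h0
      rw [hneg] at this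
      exact this
    have h2 : d j * σ (d j) = 1 := F.norm (d j) (hd j)
    have h3 : σ (d j) ≠ 0 := by
      intro h
      rw [h, mul_zero] at h2
      exact zero_ne_one h2
    have h4 : d i * σ (d j) = d j * σ (d j) := by rw [← hw, h1, h2]
    exact mul_right_cancel₀ h3 h4
  set u' : K := u / (1 + w) with hu'
  have hc0 : cE σ i j (0 : K) = 1 := by
    unfold cE
    rw [map_zero, Matrix.single_zero, Matrix.single_zero, sub_zero]
    exact Cfsg.Agent.Helper61.PsuM.qE_zero
  have hcinv : ∀ x : K, (cE σ i j x)⁻¹ = cE σ i j x := by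
    intro x
    apply inv_eq_of_mul_eq_one_left
    rw [← Cfsg.Agent.Helper55.PsuM.cE_add F.invol hij, F.two, hc0]
  have hconj := Cfsg.Agent.Helper41.PsuM.tE_conj_cE F.invol d hd hdet hij u'
  have hmem : cE σ i j u' ∈ Qsub m σ :=
    (Cfsg.Agent.Helper61.PsuM.mem_Qsub_iff _).mpr
      ⟨_, Cfsg.Agent.Helper55.PsuM.single_sub_mem_SkewH F.invol hij u', rfl⟩
  have hcomm : ⁅cE σ i j u', tE σ d⁆ = cE σ i j u := by
    rw [commutatorElement_def]
    have e : cE σ i j u' * tE σ d * (cE σ i j u')⁻¹ * (tE σ d)⁻¹ =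
        cE σ i j u' * (tE σ d * cE σ i j u' * (tE σ d)⁻¹)⁻¹ := by group
    rw [e, hconj, hcinv, ← Cfsg.Agent.Helper55.PsuM.cE_add F.invol hij]
    congr 1
    rw [← hw, hu']
    field_simp
  rw [← hcomm]
  exact Subgroup.commutator_mem_commutator hmem hT

theorem c_mem_comm_Tij (hK : Fintype.card K = 2 ^ 2) (hσq : ∀ x, σ x = x ^ 2) (hm : 4 ≤ m)
    (a b i j : Fin m) (hab : a ≠ b) (hij : i ≠ j) (h1 : ¬ (i = a ∧ j = b)) (h2 : ¬ (i = b ∧ j = a))
    (u : K) : cE σ i j u ∈ ⁅Qsub m σ, Tij σ a b⁆ := by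
  classical
  have F := f4Facts hK hσq
  obtain ⟨ω, hω0, hω1⟩ := F.exists_omega
  have hω3 : ω * σ ω = 1 := F.norm ω hω0
  have hωinv : ω⁻¹ ≠ ω := by
    intro h
    -- ω⁻¹ = ω gives ω * ω = 1, and σ ω = ω ^ 2
    have h3 : ω * ω = 1 := by
      have := mul_inv_cancel₀ hω0
      rw [h] at this
      exact this
    rw [hσq, ← pow_succ'] at hω3
    apply hω1
    have : ω ^ 3 = ω * (ω * ω) := by ring
    rw [this, h3, mul_one] at hω3
    exact hω3
  -- an index `k` among `i, j` outside `{a, b}`, and the other one `k'`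
  obtain ⟨k, k', hkk', hka, hkb, hor⟩ : ∃ k k' : Fin m, k ≠ k' ∧ k ≠ a ∧ k ≠ b ∧
      ((k = i ∧ k' = j) ∨ (k = j ∧ k' = i)) := by
    by_cases hia : i = a
    · have hjb : j ≠ b := fun h => h1 ⟨hia, h⟩
      have hja : j ≠ a := fun h => hij (hia.trans h.symm)
      exact ⟨j, i, hij.symm, hja, hjb, Or.inr ⟨rfl, rfl⟩⟩
    · by_cases hib : i = b
      · have hja : j ≠ a := fun h => h2 ⟨hib, h⟩
        have hjb : j ≠ b := fun h => hij (hib.trans h.symm)
        exact ⟨j, i, hij.symm, hja, hjb, Or.inr ⟨rfl, rfl⟩⟩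
      · exact ⟨i, j, hij, hia, hib, Or.inl ⟨rfl, rfl⟩⟩
  -- an index `l` outside `{a, b, k}`
  obtain ⟨l, -, hl⟩ : ∃ l ∈ (Finset.univ : Finset (Fin m)), l ∉ ({a, b, k} : Finset (Fin m)) := by
    apply Finset.exists_mem_notMem_of_card_lt_card
    rw [Finset.card_univ, Fintype.card_fin]
    exact lt_of_le_of_lt (Finset.card_le_three) (by omega)
  have hla : l ≠ a := fun h => hl (by rw [h]; simp)
  have hlb : l ≠ b := fun h => hl (by rw [h]; simp)
  have hlk : l ≠ k := fun h => hl (by rw [h]; simp)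
  obtain ⟨d, hd, hprod, hdk, hdl, hdx⟩ := RT2_exists_diag k l hlk.symm ω hω0
  have hdet : σ (∏ x, d x) = ∏ x, d x := by rw [hprod, map_one]
  have hda : d a = 1 := hdx a hka.symm hla.symm
  have hdb : d b = 1 := hdx b hkb.symm hlb.symm
  have hTij : tE σ d ∈ Tij σ a b :=
    Cfsg.Agent.Helper33.PsuM.tE_mem_Tij F.invol d hd hdet a b (hda.trans hdb.symm)
  have hk' : d k' ≠ d k := by
    rw [hdk]
    by_cases h : k' = l
    · rw [h, hdl]; exact hωinv
    · rw [hdx k' hkk'.symm h]; exact hω1.symm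
  have hne : d i ≠ d j := by
    rcases hor with ⟨rfl, rfl⟩ | ⟨rfl, rfl⟩
    · exact hk'.symm
    · exact hk'
  exact RT2_core hK hσq (Tij σ a b) i j hij d hd hdet hTij hne u

theorem c_mem_comm (hK : Fintype.card K = 2 ^ 2) (hσq : ∀ x, σ x = x ^ 2) (hm : 4 ≤ m)
    (i j : Fin m) (hij : i ≠ j) (u : K) : cE σ i j u ∈ ⁅Qsub m σ, Tsub m σ⁆ := by
  classical
  obtain ⟨l, -, hl⟩ : ∃ l ∈ (Finset.univ : Finset (Fin m)), l ∉ ({i, j} : Finset (Fin m)) := by
    apply Finset.exists_mem_notMem_of_card_lt_card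
    rw [Finset.card_univ, Fintype.card_fin]
    exact lt_of_le_of_lt (Finset.card_le_two) (by omega)
  have hli : l ≠ i := fun h => hl (by rw [h]; simp)
  have hlj : l ≠ j := fun h => hl (by rw [h]; simp)
  have h := c_mem_comm_Tij hK hσq hm i l i j hli.symm hij (fun h => hlj h.2.symm)
    (fun h => hli h.1.symm) u
  have hle : ⁅Qsub m σ, Tij σ i l⁆ ≤ ⁅Qsub m σ, Tsub m σ⁆ := by
    apply Subgroup.commutator_mono le_rfl
    unfold Tij
    exact inf_le_left
  exact hle h

end matrix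

end Cfsg.Agent.Helper41.PsuE2
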