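import Cfsg.Agent.Helper5.PsuE2.Defs
import Cfsg.Agent.Helper61.PsuM_AMAT
import Cfsg.Agent.Helper33.PsuM_AI
import Cfsg.Agent.Helper33.PsuM_AT
import Cfsg.Agent.Helper41.PsuM_AROOTb

/-!
helper41, piece (RW3) of helper5's farm #15283 (S2089 block I-even-2, `q = 2`): the Weyl elements `nE σ b c` normalise
the torus `Tsub m σ`.  `nE σ b c = iE σ N` where `N` is (in characteristic two) the permutation matrix of the
transposition `(b c)`; conjugating a diagonal matrix by a monomial matrix gives a diagonal matrix.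
-/

set_option autoImplicit false

namespace Cfsg.Agent.Helper41.PsuE2

open Matrix
open scoped commutatorElement
open Cfsg.Agent.Helper43.PsuM.Ev
open Cfsg.Agent.Helper96.StLift
open Cfsg.Agent.Helper5.PsuE2

universe u

section matrix

variable {K : Type u} [Field K] {m : ℕ}

/-- the product of three transvections, in characteristic two -/
theorem RW3_prod (h2 : (1 : K) + 1 = 0) (b c : Fin m) (hbc : b ≠ c) :
    Matrix.transvection b c (1 : K) * Matrix.transvection c b 1 * Matrix.transvection b c 1 =
      1 + Matrix.single c b 1 + Matrix.single b b 1 + Matrix.single c c 1 + Matrix.single b c 1 := by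
  unfold Matrix.transvection
  have e1 : Matrix.single b c (1 : K) * Matrix.single c b 1 = Matrix.single b b 1 := by
    rw [Matrix.single_mul_single_same, mul_one]
  have e2 : Matrix.single c b (1 : K) * Matrix.single b c 1 = Matrix.single c c 1 := by
    rw [Matrix.single_mul_single_same, mul_one]
  have e3 : Matrix.single b c (1 : K) * Matrix.single b c 1 = 0 :=
    Cfsg.Agent.Helper41.PsuM.AROOTb_ss_ne hbc.symm 1 1
  have e4 : Matrix.single b b (1 : K) * Matrix.single b c 1 = Matrix.single b c 1 := by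
    rw [Matrix.single_mul_single_same, mul_one]
  have e5 : Matrix.single b c (1 : K) + Matrix.single b c 1 = (0 : Matrix (Fin m) (Fin m) K) := by
    rw [← Matrix.single_add, h2, Matrix.single_zero]
  simp only [Matrix.mul_add, Matrix.add_mul, Matrix.mul_one, Matrix.one_mul, e1, e2, e3, e4]
  have key : ∀ (A B C D E : Matrix (Fin m) (Fin m) K), E + E = 0 →
      A + E + (B + C) + (E + 0 + (D + E)) = A + B + C + D + E := by
    intro A B C D E h
    have h' : E + E + E = E := by rw [h, zero_add]
    calc A + E + (B + C) + (E + 0 + (D + E)) = A + B + C + D + (E + E + E) := by abel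
      _ = A + B + C + D + E := by rw [h']
  exact key _ _ _ _ _ e5

/-- the entries of the permutation matrix of `(b c)` vanish off the graph of the transposition -/
theorem RW3_entry (h2 : (1 : K) + 1 = 0) (b c : Fin m) (hbc : b ≠ c) (x y : Fin m)
    (hy : y ≠ Equiv.swap b c x) :
    (1 + Matrix.single c b 1 + Matrix.single b b 1 + Matrix.single c c 1
      + Matrix.single b c 1 : Matrix (Fin m) (Fin m) K) x y = 0 := by
  simp only [Matrix.add_apply, Matrix.one_apply, Matrix.single_apply]
  by_cases hxb : x = b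
  · subst hxb
    rw [Equiv.swap_apply_left] at hy
    by_cases hyx : y = x
    · subst hyx
      simp [hbc, hbc.symm, h2]
    · simp [hbc, hbc.symm, hy, hyx, Ne.symm hyx, Ne.symm hy]
  · by_cases hxc : x = c
    · subst hxc
      rw [Equiv.swap_apply_right] at hy
      by_cases hyx : y = x
      · subst hyx
        simp [hbc, hbc.symm, h2]
      · simp [hbc, hbc.symm, hy, hyx, Ne.symm hyx, Ne.symm hy]
    · rw [Equiv.swap_apply_of_ne_of_ne hxb hxc] at hy
      simp [hxb, hxc, Ne.symm hxb, Ne.symm hxc, Ne.symm hy]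

/-- conjugating a diagonal matrix by matrices supported on the graph of an involution gives a matrix
with zero off-diagonal entries -/
theorem RW3_mono (s : Fin m → Fin m) (hs : ∀ x, s (s x) = x) (A B : Matrix (Fin m) (Fin m) K)
    (hA : ∀ x y, y ≠ s x → A x y = 0) (hB : ∀ x y, y ≠ s x → B x y = 0) (d : Fin m → K)
    (x y : Fin m) (hxy : x ≠ y) : (A * Matrix.diagonal d * B) x y = 0 := by
  rw [Matrix.mul_apply]
  apply Finset.sum_eq_zero
  intro k _
  rw [Matrix.mul_diagonal]
  by_cases hk : k = s x
  · have : B k y = 0 := by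
      apply hB
      rw [hk, hs]
      exact hxy.symm
    rw [this, mul_zero]
  · rw [hA x k hk, zero_mul, zero_mul]

variable [Fintype K] {σ : K →+* K}

theorem n_T (hK : Fintype.card K = 2 ^ 2) (hσq : ∀ x, σ x = x ^ 2) (b c : Fin m) (hbc : b ≠ c) :
    ∀ h ∈ Tsub m σ, nE σ b c * h * (nE σ b c)⁻¹ ∈ Tsub m σ := by
  have F := f4Facts hK hσq
  have h2 : (1 : K) + 1 = 0 := F.two 1
  have hneg1 : (-1 : K) = 1 := neg_eq_of_add_eq_zero_left h2
  -- the Weyl element as a Levi element
  set N : SpecialLinearGroup (Fin m) K :=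
    SpecialLinearGroup.transvection hbc 1 * SpecialLinearGroup.transvection hbc.symm 1 *
      SpecialLinearGroup.transvection hbc 1 with hN
  have hn : nE σ b c = iE σ N := by
    unfold nE xE
    rw [dif_pos hbc, dif_pos hbc.symm, hN, Cfsg.Agent.Helper33.PsuM.iE_mul F.invol,
      Cfsg.Agent.Helper33.PsuM.iE_mul F.invol]
  have hNinv : N⁻¹ = N := by
    rw [hN, _root_.mul_inv_rev, _root_.mul_inv_rev, Cfsg.Agent.Helper33.PsuM.AT_transvection_inv,
      Cfsg.Agent.Helper33.PsuM.AT_transvection_inv, hneg1, mul_assoc]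
  have hN1 : N.1 = 1 + Matrix.single c b 1 + Matrix.single b b 1 + Matrix.single c c 1
      + Matrix.single b c 1 := by
    rw [← RW3_prod h2 b c hbc]
    rfl
  have hninv : (nE σ b c)⁻¹ = nE σ b c := by
    rw [hn]
    apply inv_eq_of_mul_eq_one_left
    rw [← Cfsg.Agent.Helper33.PsuM.iE_mul F.invol]
    have : N * N = 1 := by
      nth_rewrite 1 [← hNinv]
      exact inv_mul_cancel N
    rw [this, Cfsg.Agent.Helper33.PsuM.iE_one F.invol]
  have hmatn : mat (nE σ b c) = iM N.1 (N.1.map σ)ᵀ := by
    rw [hn, Cfsg.Agent.Helper61.PsuM.mat_iE F.invol, hNinv]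
  -- the monomial property of both blocks
  have hs : ∀ x, Equiv.swap b c (Equiv.swap b c x) = x := fun x => Equiv.swap_apply_self b c x
  have hA : ∀ x y, y ≠ Equiv.swap b c x → N.1 x y = 0 := by
    intro x y hy
    rw [hN1]
    exact RW3_entry h2 b c hbc x y hy
  have hY : ∀ x y, y ≠ Equiv.swap b c x → (N.1.map σ)ᵀ x y = 0 := by
    intro x y hy
    rw [Matrix.transpose_apply, Matrix.map_apply, hA y x, map_zero]
    intro hx
    apply hy
    rw [hx, hs]
  intro h hh
  rw [hninv]
  have hmath := Cfsg.Agent.Helper33.PsuM.AT_mat_eq_iM h hh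
  intro x y hxy
  rw [mat_mul, mat_mul, hmatn, hmath, Cfsg.Agent.Helper33.PsuM.AI_iM_mul,
    Cfsg.Agent.Helper33.PsuM.AI_iM_mul]
  unfold iM
  rcases x with x | x <;> rcases y with y | y
  · rw [Matrix.fromBlocks_apply₁₁]
    exact RW3_mono _ hs _ _ hA hA _ x y (fun h => hxy (by rw [h]))
  · rw [Matrix.fromBlocks_apply₁₂]
    rfl
  · rw [Matrix.fromBlocks_apply₂₁]
    rfl
  · rw [Matrix.fromBlocks_apply₂₂]
    exact RW3_mono _ hs _ _ hY hY _ x y (fun h => hxy (by rw [h]))

end matrix

end Cfsg.Agent.Helper41.PsuE2
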