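import Cfsg.Agent.Helper43.PsuM.RDefs

/-!
helper41, leaf (TR2) of helper43's farm #14581 (S2089, block R round 2): transport of `NoStemP` along an isomorphism.
-/

set_option autoImplicit false

namespace Cfsg.Agent.Helper41.PsuM

open scoped commutatorElement

open Cfsg.Agent.Helper43.PsuM

universe u

/-- composing a stem extension with an isomorphism of the base -/
theorem stem_comp_equiv {Γ G H : Type u} [Group Γ] [Group G] [Group H] (e : G ≃* H) (τ : Γ →* H)
    (hτ : Cfsg.IsStemExtension τ) :
    Cfsg.IsStemExtension (e.symm.toMonoidHom.comp τ) ∧ (e.symm.toMonoidHom.comp τ).ker = τ.ker := by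
  have hker : (e.symm.toMonoidHom.comp τ).ker = τ.ker := by
    ext x
    rw [MonoidHom.mem_ker, MonoidHom.mem_ker, MonoidHom.comp_apply]
    constructor
    · intro hx
      have : e.symm (τ x) = e.symm 1 := by rw [map_one]; exact hx
      exact e.symm.injective this
    · intro hx
      rw [hx]
      exact map_one _
  obtain ⟨h1, h2, h3⟩ := hτ
  refine ⟨⟨?_, ?_, ?_⟩, hker⟩
  · exact e.symm.surjective.comp h1
  · rw [hker]; exact h2
  · rw [hker]; exact h3

/-- (TR2) -/
theorem noStemP_congr {G H : Type u} [Group G] [Group H] (e : G ≃* H) (p : ℕ) (h : NoStemP G p) :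
    NoStemP H p := by
  intro Γ _ _ τ hτ hcard
  obtain ⟨hs, hker⟩ := stem_comp_equiv e τ hτ
  exact h Γ (e.symm.toMonoidHom.comp τ) hs (by rw [hker]; exact hcard)

end Cfsg.Agent.Helper41.PsuM
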