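import Mathlib
import Cfsg.Agent.Helper99.QSpEllDefs
import Cfsg.Agent.Helper99.QSpGlue
import Cfsg.Agent.Helper94.TnK

/-!
# (MC2b) for S5990: the double induction producing invariant nondegenerate subspaces of every
admissible dimension and type for an involutory isometry, given the peeling step (MC2a).
-/

set_option autoImplicit false
set_option linter.unusedSectionVars false
set_option linter.unusedVariables false

namespace Cfsg.Agent.Helper41.QSpM

open Module
open Cfsg.Agent.Helper59.InvChain Cfsg.Agent.Helper59.Elusive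
open Cfsg.Agent.Helper99.SpStruct Cfsg.Agent.Helper99.RDecomp
open Cfsg.Agent.Helper44 Cfsg.Agent.Helper44.QType
open Cfsg.Agent.Helper99.QSp

universe u v

variable {F : Type u} [Field F] [Fintype F]
variable {V : Type v} [AddCommGroup V] [Module F V] [FiniteDimensional F V]

/-- achievable: an `x`-invariant nondegenerate subspace of `X` of dimension `2e` and type `ε` -/
def Ach (Q : QuadraticForm F V) (x : Module.End F V) (X : Submodule F V) (e : ℕ) (ε : ℤ) : Prop :=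
  ∃ W : Submodule F V, W ≤ X ∧ Cfsg.Agent.Helper59.InvChain.Inv x W ∧ Nd (pB Q) W ∧
    finrank F ↥W = 2 * e ∧ QType Q W e ε

theorem qType_sign (Q : QuadraticForm F V) {W : Submodule F V} (hW : Nd (pB Q) W) {e : ℕ}
    (hdim : finrank F ↥W = 2 * e) {ε : ℤ} (h : QType Q W e ε) : ε = 1 ∨ ε = -1 := by
  obtain ⟨ε0, hε0, h0⟩ := exists_qType Q hW hdim
  rw [QType.unique h h0]
  exact hε0

theorem ach_zero (Q : QuadraticForm F V) (x : Module.End F V) (X : Submodule F V) :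
    Ach Q x X 0 1 :=
  ⟨⊥, bot_le, Cfsg.Agent.Helper59.InvChain.inv_bot x, nd_bot, by simp, qType_bot Q⟩

theorem ach_self {Q : QuadraticForm F V} {x : Module.End F V} {X : Submodule F V} {d : ℕ} {τ : ℤ}
    (hinv : Cfsg.Agent.Helper59.InvChain.Inv x X) (hXnd : Nd (pB Q) X)
    (hdim : finrank F ↥X = 2 * d) (ht : QType Q X d τ) : Ach Q x X d τ :=
  ⟨X, le_rfl, hinv, hXnd, hdim, ht⟩

theorem Ach.mono {Q : QuadraticForm F V} {x : Module.End F V} {X' X : Submodule F V} {e : ℕ}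
    {ε : ℤ} (hle : X' ≤ X) (h : Ach Q x X' e ε) : Ach Q x X e ε := by
  obtain ⟨W, h1, h2⟩ := h
  exact ⟨W, h1.trans hle, h2⟩

theorem Ach.cast {Q : QuadraticForm F V} {x : Module.End F V} {X : Submodule F V} {e e' : ℕ}
    {ε ε' : ℤ} (h : Ach Q x X e ε) (he : e = e') (hε : ε = ε') : Ach Q x X e' ε' := by
  subst he; subst hε; exact h

theorem Ach.add {Q : QuadraticForm F V} {x : Module.End F V} {P X : Submodule F V} {m e' : ℕ}
    {π ε' : ℤ} (hPX : P ≤ X) (hPinv : Cfsg.Agent.Helper59.InvChain.Inv x P) (hPnd : Nd (pB Q) P)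
    (hPdim : finrank F ↥P = 2 * m) (hPt : QType Q P m π)
    (h : Ach Q x (X ⊓ (pB Q).orthogonal P) e' ε') : Ach Q x X (m + e') (π * ε') := by
  obtain ⟨W, hWX', hWinv, hWnd, hWdim, hWt⟩ := h
  have horth : Orth (pB Q) P W := orth_iff_le.mpr (hWX'.trans inf_le_right)
  refine ⟨P ⊔ W, sup_le hPX (hWX'.trans inf_le_left),
    Cfsg.Agent.Helper59.InvChain.inv_sup hPinv hWinv,
    Nd.sup (pB_symm Q).isRefl hPnd hWnd horth, ?_, qType_sup Q hPnd hWnd horth hPdim hWdim hPt hWt⟩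
  rw [finrank_sup_of_disjoint (horth.disjoint hPnd), hPdim, hWdim]; ring

/-- the orthogonal complement inside `X` of an invariant nondegenerate subspace -/
theorem compl_data (Q : QuadraticForm F V) (hnd : (pB Q).Nondegenerate) {x : Module.End F V}
    (hiso : ∀ v, Q (x v) = Q v) {X P : Submodule F V} {d m : ℕ} {τ π : ℤ}
    (hXinv : Cfsg.Agent.Helper59.InvChain.Inv x X) (hXnd : Nd (pB Q) X)
    (hXdim : finrank F ↥X = 2 * d) (hXt : QType Q X d τ)
    (hPX : P ≤ X) (hPinv : Cfsg.Agent.Helper59.InvChain.Inv x P) (hPnd : Nd (pB Q) P)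
    (hPdim : finrank F ↥P = 2 * m) (hPt : QType Q P m π) :
    m ≤ d ∧ Cfsg.Agent.Helper59.InvChain.Inv x (X ⊓ (pB Q).orthogonal P) ∧
      Nd (pB Q) (X ⊓ (pB Q).orthogonal P) ∧
      finrank F ↥(X ⊓ (pB Q).orthogonal P) = 2 * (d - m) ∧
      QType Q (X ⊓ (pB Q).orthogonal P) (d - m) (τ * π) := by
  have hrefl := (pB_symm Q).isRefl
  have hfr := Nd.finrank_inf_orth hrefl hPX hPnd
  rw [hPdim, hXdim] at hfr
  have hmd : m ≤ d := by omega
  have hdim' : finrank F ↥(X ⊓ (pB Q).orthogonal P) = 2 * (d - m) := by omega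
  have hnd' : Nd (pB Q) (X ⊓ (pB Q).orthogonal P) := Nd.inf_orth hrefl hPX hPnd hXnd
  have hinv' : Cfsg.Agent.Helper59.InvChain.Inv x (X ⊓ (pB Q).orthogonal P) :=
    Cfsg.Agent.Helper59.InvChain.inv_inf hXinv
      (Cfsg.Agent.Helper94.Tn.isom_inv_orthogonal hnd (isom_pB hiso) hPinv)
  refine ⟨hmd, hinv', hnd', hdim', ?_⟩
  obtain ⟨ε', hε', ht'⟩ := exists_qType Q hnd' hdim'
  have horth : Orth (pB Q) P (X ⊓ (pB Q).orthogonal P) := orth_iff_le.mpr inf_le_right
  have hsup := qType_sup Q hPnd hnd' horth hPdim hdim' hPt ht'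
  rw [(Nd.sup_inf_orth hrefl hPX hPnd).1, show m + (d - m) = d by omega] at hsup
  have hτ := QType.unique hXt hsup
  have hπ := qType_sign Q hPnd hPdim hPt
  have : ε' = τ * π := by
    rcases hπ with rfl | rfl <;> rcases hε' with rfl | rfl <;> subst hτ <;> norm_num
  rw [← this]; exact ht'

/-- complement of an achievable subspace -/
theorem Ach.compl (Q : QuadraticForm F V) (hnd : (pB Q).Nondegenerate) {x : Module.End F V}
    (hiso : ∀ v, Q (x v) = Q v) {X : Submodule F V} {d e : ℕ} {τ ε : ℤ}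
    (hXinv : Cfsg.Agent.Helper59.InvChain.Inv x X) (hXnd : Nd (pB Q) X)
    (hXdim : finrank F ↥X = 2 * d) (hXt : QType Q X d τ) (h : Ach Q x X e ε) :
    Ach Q x X (d - e) (τ * ε) := by
  obtain ⟨W, hWX, hWinv, hWnd, hWdim, hWt⟩ := h
  obtain ⟨-, h1, h2, h3, h4⟩ :=
    compl_data Q hnd hiso hXinv hXnd hXdim hXt hWX hWinv hWnd hWdim hWt
  exact ⟨_, inf_le_left, h1, h2, h3, h4⟩

theorem main_aux (Q : QuadraticForm F V) (hnd : (pB Q).Nondegenerate) (x : Module.End F V)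
    (hiso : ∀ v, Q (x v) = Q v)
    (hpeel : ∀ X : Submodule F V, Cfsg.Agent.Helper59.InvChain.Inv x X → Nd (pB Q) X →
      0 < finrank F ↥X →
      (∃ P : Submodule F V, P ≤ X ∧ Cfsg.Agent.Helper59.InvChain.Inv x P ∧ Nd (pB Q) P ∧
        finrank F ↥P = 2) ∨
      (∃ A : Submodule F V, A ≤ X ∧ Cfsg.Agent.Helper59.InvChain.Inv x A ∧ Nd (pB Q) A ∧
        finrank F ↥A = 4 ∧ Hyp Q A)) :
    ∀ (d : ℕ) (X : Submodule F V), Cfsg.Agent.Helper59.InvChain.Inv x X → Nd (pB Q) X →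
      finrank F ↥X = 2 * d → ∀ τ : ℤ, QType Q X d τ → ∀ e : ℕ, e ≤ d →
        ((τ = 1 ∧ (d % 2 = 1 ∨ e % 2 = 0)) → Ach Q x X e 1) ∧
        ((τ = -1 ∧ 1 ≤ e ∧ (d % 2 = 0 ∨ e % 2 = 1 ∨ e = d)) → Ach Q x X e (-1)) := by
  intro d
  induction d using Nat.strong_induction_on with
  | _ d ih =>
  intro X hXinv hXnd hXdim τ hτ e hed
  by_cases he0 : e = 0
  · subst he0
    exact ⟨fun _ => ach_zero Q x X, fun h => absurd h.2.1 (by omega)⟩
  by_cases hedd : e = d
  · subst hedd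
    refine ⟨fun h => ?_, fun h => ?_⟩
    · have h1 := h.1; subst h1; exact ach_self hXinv hXnd hXdim hτ
    · have h1 := h.1; subst h1; exact ach_self hXinv hXnd hXdim hτ
  have he1 : 1 ≤ e := by omega
  have hed' : e < d := by omega
  have hpos : 0 < finrank F ↥X := by omega
  rcases hpeel X hXinv hXnd hpos with ⟨P, hPX, hPinv, hPnd, hPdim⟩ | ⟨A, hAX, hAinv, hAnd, hAdim, hAhyp⟩
  · -- a plane
    have hPdim' : finrank F ↥P = 2 * 1 := by omega
    obtain ⟨π, hπ, hPt⟩ := exists_qType Q hPnd hPdim'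
    obtain ⟨-, hX'inv, hX'nd, hX'dim, hX't⟩ :=
      compl_data Q hnd hiso hXinv hXnd hXdim hτ hPX hPinv hPnd hPdim' hPt
    have ih' := ih (d - 1) (by omega) _ hX'inv hX'nd hX'dim _ hX't
    have hle : X ⊓ (pB Q).orthogonal P ≤ X := inf_le_left
    refine ⟨fun ⟨hτ1, H⟩ => ?_, fun ⟨hτ1, _, H⟩ => ?_⟩
    · subst hτ1
      rcases hπ with rfl | rfl
      · by_cases hc : e % 2 = 0 ∨ (d - 1) % 2 = 1
        · exact ((ih' e (by omega)).1 ⟨by norm_num, by omega⟩).mono hle
        · have h1 := (ih' (e - 1) (by omega)).1 ⟨by norm_num, by omega⟩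
          exact (Ach.add hPX hPinv hPnd hPdim' hPt h1).cast (by omega) (by norm_num)
      · by_cases he2 : 2 ≤ e
        · have h1 := (ih' (e - 1) (by omega)).2 ⟨by norm_num, by omega, by omega⟩
          exact (Ach.add hPX hPinv hPnd hPdim' hPt h1).cast (by omega) (by norm_num)
        · have h1 := (ih' (d - 2) (by omega)).2 ⟨by norm_num, by omega, by omega⟩
          have h2 := Ach.compl Q hnd hiso hX'inv hX'nd hX'dim hX't h1
          exact (h2.cast (by omega) (by norm_num)).mono hle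
    · subst hτ1
      rcases hπ with rfl | rfl
      · by_cases hc : e % 2 = 1
        · exact ((ih' e (by omega)).2 ⟨by norm_num, by omega, by omega⟩).mono hle
        · have h1 := (ih' (e - 1) (by omega)).2 ⟨by norm_num, by omega, by omega⟩
          exact (Ach.add hPX hPinv hPnd hPdim' hPt h1).cast (by omega) (by norm_num)
      · have h1 := (ih' (e - 1) (by omega)).1 ⟨by norm_num, by omega⟩
        exact (Ach.add hPX hPinv hPnd hPdim' hPt h1).cast (by omega) (by norm_num)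
  · -- a hyperbolic 4-space
    have hAdim' : finrank F ↥A = 2 * 2 := by omega
    have hAt : QType Q A 2 1 := (Cfsg.Agent.Helper99.QSpGlue.hyp_iff_qType Q hAnd hAdim').mp hAhyp
    obtain ⟨h2d, hX'inv, hX'nd, hX'dim, hX't⟩ :=
      compl_data Q hnd hiso hXinv hXnd hXdim hτ hAX hAinv hAnd hAdim' hAt
    have ih' := ih (d - 2) (by omega) _ hX'inv hX'nd hX'dim _ hX't
    have hle : X ⊓ (pB Q).orthogonal A ≤ X := inf_le_left
    refine ⟨fun ⟨hτ1, H⟩ => ?_, fun ⟨hτ1, _, H⟩ => ?_⟩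
    · subst hτ1
      by_cases hc : e ≤ d - 2
      · exact ((ih' e hc).1 ⟨by norm_num, by omega⟩).mono hle
      · have h1 := (ih' (d - 3) (by omega)).1 ⟨by norm_num, by omega⟩
        exact (Ach.add hAX hAinv hAnd hAdim' hAt h1).cast (by omega) (by norm_num)
    · subst hτ1
      by_cases hc : e ≤ d - 2
      · exact ((ih' e hc).2 ⟨by norm_num, by omega, by omega⟩).mono hle
      · by_cases hd4 : 4 ≤ d
        · have h1 := (ih' (d - 3) (by omega)).2 ⟨by norm_num, by omega, by omega⟩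
          exact (Ach.add hAX hAinv hAnd hAdim' hAt h1).cast (by omega) (by norm_num)
        · exfalso
          obtain rfl : d = 2 := by omega
          have hbot : X ⊓ (pB Q).orthogonal A = ⊥ :=
            Submodule.finrank_eq_zero.mp (by rw [hX'dim])
          rw [hbot] at hX't
          have := QType.unique hX't (qType_bot Q)
          norm_num at this

/-- (MC2b) the double induction -/
theorem invol_char_two_exists (h2 : (2 : F) = 0) (Q : QuadraticForm F V)
    (hnd : (pB Q).Nondegenerate) (x : Module.End F V) (hiso : ∀ v, Q (x v) = Q v)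
    (hxx : x * x = 1)
    (hpeel : ∀ X : Submodule F V, Inv x X → Nd (pB Q) X → 0 < finrank F ↥X →
      (∃ P : Submodule F V, P ≤ X ∧ Inv x P ∧ Nd (pB Q) P ∧ finrank F ↥P = 2) ∨
      (∃ A : Submodule F V, A ≤ X ∧ Inv x A ∧ Nd (pB Q) A ∧ finrank F ↥A = 4 ∧ Hyp Q A)) :
    ∀ (d : ℕ) (X : Submodule F V), Inv x X → Nd (pB Q) X → finrank F ↥X = 2 * d →
      ∀ τ : ℤ, QType Q X d τ → ∀ e : ℕ, e ≤ d →
        ((τ = 1 ∧ (Odd d ∨ Even e)) → ∃ W : Submodule F V, W ≤ X ∧ Inv x W ∧ Nd (pB Q) W ∧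
          finrank F ↥W = 2 * e ∧ QType Q W e 1) ∧
        ((τ = -1 ∧ 1 ≤ e ∧ (Even d ∨ Odd e ∨ e = d)) → ∃ W : Submodule F V, W ≤ X ∧ Inv x W ∧
          Nd (pB Q) W ∧ finrank F ↥W = 2 * e ∧ QType Q W e (-1)) := by
  intro d X hXinv hXnd hXdim τ hτ e hed
  have key := main_aux Q hnd x hiso hpeel d X hXinv hXnd hXdim τ hτ e hed
  refine ⟨fun ⟨h1, h3⟩ => key.1 ⟨h1, ?_⟩, fun ⟨h1, h3, h4⟩ => key.2 ⟨h1, h3, ?_⟩⟩
  · rcases h3 with h | h
    · exact Or.inl (Nat.odd_iff.mp h)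
    · exact Or.inr (Nat.even_iff.mp h)
  · rcases h4 with h | h | h
    · exact Or.inl (Nat.even_iff.mp h)
    · exact Or.inr (Or.inl (Nat.odd_iff.mp h))
    · exact Or.inr (Or.inr h)

end Cfsg.Agent.Helper41.QSpM
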