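-- helper41: piece (WEYL) of helper84's S2282 (#8821): the Weyl element `nM` is a product of the root elements
-- `A12M`, `A21M (-1)`, `B12M 1`, `C12M 1`.
import Mathlib
import Cfsg.Agent.Helper84.RUn.Defs
import Cfsg.Agent.Helper41.RUnNH

set_option autoImplicit false
set_option linter.unusedSectionVars false
set_option linter.unusedSimpArgs false

namespace Cfsg.Agent.Helper41.RUn

open Matrix Cfsg.Agent.Helper84.RUn Cfsg.Agent.Helper84.PSU

variable {K : Type*} [Field K] {j : ℕ}

local notation "Vec" => (I (j + 2) 1 → K)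
local notation "Mat" => Matrix (I (j + 2) 1) (I (j + 2) 1) K
local notation "Mk" => Matrix (Fin (j + 2)) (Fin (j + 2)) K

variable (bar : K →+* K) (hb : ∀ x, bar (bar x) = x)

set_option quotPrecheck false in
local notation "SUk" => ↥(SUm (j + 2) 1 bar)

theorem A12M_mulVec (x : Vec) : A12M bar *ᵥ x = fun y =>
    x y - (if y = fI i2 then x (fI i1) else 0) + (if y = eI i1 then x (eI i2) else 0) := by
  funext y
  rw [A12M, eichM_mulVec]
  simp only [vE, vF, hf_bv_right, hf_neg_right, op_eI, op_fI, Pi.add_apply, Pi.sub_apply, Pi.smul_apply,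
    Pi.neg_apply, bv_apply, smul_eq_mul, zero_mul, zero_smul, Pi.zero_apply, add_zero]
  split_ifs <;> ring

theorem A21M_mulVec (t : K) (x : Vec) : A21M bar t *ᵥ x = fun y =>
    x y + (if y = eI i2 then t * x (eI i1) else 0) - (if y = fI i1 then bar t * x (fI i2) else 0) := by
  funext y
  rw [A21M, eichM_mulVec]
  simp only [vE, vF, hf_bv_right, hf_smul_right, op_eI, op_fI, Pi.add_apply, Pi.sub_apply, Pi.smul_apply,
    Pi.neg_apply, bv_apply, smul_eq_mul, zero_mul, zero_smul, Pi.zero_apply, add_zero]
  split_ifs <;> ring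

theorem B12M_mulVec (t : K) (x : Vec) : B12M bar t *ᵥ x = fun y =>
    x y + (if y = eI i2 then t * x (fI i1) else 0) - (if y = eI i1 then bar t * x (fI i2) else 0) := by
  funext y
  rw [B12M, eichM_mulVec]
  simp only [vE, vF, hf_bv_right, hf_smul_right, op_eI, op_fI, Pi.add_apply, Pi.sub_apply, Pi.smul_apply,
    Pi.neg_apply, bv_apply, smul_eq_mul, zero_mul, zero_smul, Pi.zero_apply, add_zero]
  split_ifs <;> ring

theorem C12M_mulVec (t : K) (x : Vec) : C12M bar t *ᵥ x = fun y =>
    x y + (if y = fI i2 then t * x (eI i1) else 0) - (if y = fI i1 then bar t * x (eI i2) else 0) := by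
  funext y
  rw [C12M, eichM_mulVec]
  simp only [vE, vF, hf_bv_right, hf_smul_right, op_eI, op_fI, Pi.add_apply, Pi.sub_apply, Pi.smul_apply,
    Pi.neg_apply, bv_apply, smul_eq_mul, zero_mul, zero_smul, Pi.zero_apply, add_zero]
  split_ifs <;> ring

/-- the Weyl element as a product of root elements -/
theorem weyl_identity : (A12M bar * A21M bar (-1) * A12M bar) * (B12M bar 1 * C12M bar 1 * B12M bar 1) =
    (nM : Mat) := by
  have h12 : (i1 : Fin (j + 2)) ≠ i2 := i1_ne_i2
  have h21 : (i2 : Fin (j + 2)) ≠ i1 := fun h => h12 h.symm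
  apply mat_ext_mulVec
  intro x
  simp only [← Matrix.mulVec_mulVec]
  rw [nM_mulVec]
  simp only [A12M_mulVec, A21M_mulVec, B12M_mulVec, C12M_mulVec, map_neg, map_one]
  funext y
  rcases y with i | a | i
  · by_cases h1 : i = i1
    · subst h1
      simp [h12, h21]
    · by_cases h2 : i = i2
      · subst h2
        simp [h12, h21]
      · simp [h1, h2, h12, h21]
  · simp [h12, h21]
  · by_cases h1 : i = i1
    · subst h1
      simp [h12, h21]
    · by_cases h2 : i = i2
      · subst h2
        simp [h12, h21]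
      · simp [h1, h2, h12, h21]

include hb in
theorem hasM_nM (H : Subgroup SUk) (hA : HasM bar H (A12M bar)) (hA' : HasM bar H (A21M bar (-1)))
    (hB : HasM bar H (B12M bar 1)) (hC : HasM bar H (C12M bar 1)) : HasM bar H (nM : Mat) :=
  (((hA.mul bar hA').mul bar hA).mul bar ((hB.mul bar hC).mul bar hB)).of_eq bar (weyl_identity bar)

end Cfsg.Agent.Helper41.RUn
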