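import Cfsg.Agent.Helper18.Ree.Abstract

/-!
The full set of relations of the unipotent subgroup `U` of `G₂` in characteristic `3` (extending
`Cfsg.Agent.Helper18.Ree.Sys`), the multiplication law of `U` in the normal form
`x_a(r) x_b(s) x_{a+b}(c) x_{2a+b}(d) x_{3a+b}(e) x_{3a+2b}(f)`, and the cube of an element.
-/

set_option autoImplicit false

namespace Cfsg.Agent.Helper41.ReeU

open Cfsg.Agent.Helper18.Ree

/-- all the relations of `U(G₂)` in characteristic 3, for six one-parameter families -/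
structure SysX (K : Type*) [Field K] (G : Type*) [Group G] extends Sys K G where
  add_a : ∀ t u, Xa t * Xa u = Xa (t + u)
  add_b : ∀ t u, Xb t * Xb u = Xb (t + u)
  comm_a_ab : ∀ r c, Xab c * Xa r = Xa r * Xab c * Xaab (2 * r * c)
  ca2 : ∀ t u, Commute (Xa t) (Xaab u)
  ca3 : ∀ t u, Commute (Xa t) (Xaaab u)
  ca4 : ∀ t u, Commute (Xa t) (Xaaabb u)
  cb1 : ∀ t u, Commute (Xb t) (Xab u)
  cb2 : ∀ t u, Commute (Xb t) (Xaab u)
  cb4 : ∀ t u, Commute (Xb t) (Xaaabb u)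
  comm_b_aaab : ∀ s e, Xaaab e * Xb s = Xb s * Xaaab e * Xaaabb (-(s * e))

namespace SysX

variable {K : Type*} [Field K] {G : Type*} [Group G] (S : SysX K G)

theorem Xa_zero : S.Xa 0 = 1 := by
  have := S.add_a 0 0
  rw [add_zero] at this
  exact mul_eq_left.mp this

theorem Xb_zero : S.Xb 0 = 1 := by
  have := S.add_b 0 0
  rw [add_zero] at this
  exact mul_eq_left.mp this

/-- moving `x_a(r)` to the left of the abelian part -/
theorem hh_Xa (c d e f r : K) : S.hh c d e f * S.Xa r = S.Xa r * S.hh c (d + 2 * r * c) e f := by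
  unfold Sys.hh
  have h4 := (S.ca4 r f).eq
  have h3 := (S.ca3 r e).eq
  have h2 := (S.ca2 r d).eq
  have h1 := S.comm_a_ab r c
  calc S.Xab c * S.Xaab d * S.Xaaab e * S.Xaaabb f * S.Xa r
      = S.Xab c * S.Xaab d * S.Xaaab e * (S.Xaaabb f * S.Xa r) := by rw [mul_assoc]
    _ = S.Xab c * S.Xaab d * S.Xaaab e * (S.Xa r * S.Xaaabb f) := by rw [h4]
    _ = S.Xab c * S.Xaab d * (S.Xaaab e * S.Xa r) * S.Xaaabb f := by simp only [mul_assoc]
    _ = S.Xab c * S.Xaab d * (S.Xa r * S.Xaaab e) * S.Xaaabb f := by rw [h3]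
    _ = S.Xab c * (S.Xaab d * S.Xa r) * S.Xaaab e * S.Xaaabb f := by simp only [mul_assoc]
    _ = S.Xab c * (S.Xa r * S.Xaab d) * S.Xaaab e * S.Xaaabb f := by rw [h2]
    _ = (S.Xab c * S.Xa r) * S.Xaab d * S.Xaaab e * S.Xaaabb f := by simp only [mul_assoc]
    _ = (S.Xa r * S.Xab c * S.Xaab (2 * r * c)) * S.Xaab d * S.Xaaab e * S.Xaaabb f := by rw [h1]
    _ = S.Xa r * (S.Xab c * (S.Xaab (2 * r * c) * S.Xaab d) * S.Xaaab e * S.Xaaabb f) := by
        simp only [mul_assoc]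
    _ = _ := by rw [S.add_aab, add_comm]

/-- moving `x_b(s)` to the left of the abelian part -/
theorem hh_Xb (c d e f s : K) : S.hh c d e f * S.Xb s = S.Xb s * S.hh c d e (-(s * e) + f) := by
  unfold Sys.hh
  have h4 := (S.cb4 s f).eq
  have h2 := (S.cb2 s d).eq
  have h1 := (S.cb1 s c).eq
  have h3 := S.comm_b_aaab s e
  calc S.Xab c * S.Xaab d * S.Xaaab e * S.Xaaabb f * S.Xb s
      = S.Xab c * S.Xaab d * S.Xaaab e * (S.Xaaabb f * S.Xb s) := by rw [mul_assoc]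
    _ = S.Xab c * S.Xaab d * S.Xaaab e * (S.Xb s * S.Xaaabb f) := by rw [h4]
    _ = S.Xab c * S.Xaab d * (S.Xaaab e * S.Xb s) * S.Xaaabb f := by simp only [mul_assoc]
    _ = S.Xab c * S.Xaab d * (S.Xb s * S.Xaaab e * S.Xaaabb (-(s * e))) * S.Xaaabb f := by rw [h3]
    _ = S.Xab c * (S.Xaab d * S.Xb s) * S.Xaaab e * (S.Xaaabb (-(s * e)) * S.Xaaabb f) := by
        simp only [mul_assoc]
    _ = S.Xab c * (S.Xb s * S.Xaab d) * S.Xaaab e * (S.Xaaabb (-(s * e)) * S.Xaaabb f) := by rw [h2]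
    _ = (S.Xab c * S.Xb s) * S.Xaab d * S.Xaaab e * (S.Xaaabb (-(s * e)) * S.Xaaabb f) := by
        simp only [mul_assoc]
    _ = (S.Xb s * S.Xab c) * S.Xaab d * S.Xaaab e * (S.Xaaabb (-(s * e)) * S.Xaaabb f) := by rw [h1]
    _ = _ := by rw [S.add_aaabb]; simp only [mul_assoc]

/-- the multiplication law of `U(G₂)`, characteristic 3, in the normal form `x_a x_b h` -/
theorem nf_mul (r s c d e f r' s' c' d' e' f' : K) :
    (S.Xa r * S.Xb s * S.hh c d e f) * (S.Xa r' * S.Xb s' * S.hh c' d' e' f') =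
      S.Xa (r + r') * S.Xb (s + s') *
        S.hh (r' * s + c + c') (r' ^ 2 * s + (d + 2 * r' * c) + d') (-(r' ^ 3 * s) + e + e')
          (-(s' * (-(r' ^ 3 * s) + e)) + (-(r' ^ 3 * s ^ 2) + f) + f') := by
  calc (S.Xa r * S.Xb s * S.hh c d e f) * (S.Xa r' * S.Xb s' * S.hh c' d' e' f')
      = S.Xa r * S.Xb s * (S.hh c d e f * S.Xa r') * S.Xb s' * S.hh c' d' e' f' := by
        simp only [mul_assoc]
    _ = S.Xa r * S.Xb s * (S.Xa r' * S.hh c (d + 2 * r' * c) e f) * S.Xb s' * S.hh c' d' e' f' := by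
        rw [S.hh_Xa]
    _ = S.Xa r * (S.Xb s * S.Xa r' * S.hh c (d + 2 * r' * c) e f) * S.Xb s' * S.hh c' d' e' f' := by
        simp only [mul_assoc]
    _ = S.Xa r * (S.Xa r' * S.Xb s * S.hh (r' * s + c) (r' ^ 2 * s + (d + 2 * r' * c)) (-(r' ^ 3 * s) + e)
          (-(r' ^ 3 * s ^ 2) + f)) * S.Xb s' * S.hh c' d' e' f' := by
        rw [S.ba_to_ab]
    _ = (S.Xa r * S.Xa r') * S.Xb s * (S.hh (r' * s + c) (r' ^ 2 * s + (d + 2 * r' * c)) (-(r' ^ 3 * s) + e)
          (-(r' ^ 3 * s ^ 2) + f) * S.Xb s') * S.hh c' d' e' f' := by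
        simp only [mul_assoc]
    _ = (S.Xa r * S.Xa r') * S.Xb s * (S.Xb s' * S.hh (r' * s + c) (r' ^ 2 * s + (d + 2 * r' * c))
          (-(r' ^ 3 * s) + e) (-(s' * (-(r' ^ 3 * s) + e)) + (-(r' ^ 3 * s ^ 2) + f))) * S.hh c' d' e' f' := by
        rw [S.hh_Xb]
    _ = (S.Xa r * S.Xa r') * (S.Xb s * S.Xb s') * (S.hh (r' * s + c) (r' ^ 2 * s + (d + 2 * r' * c))
          (-(r' ^ 3 * s) + e) (-(s' * (-(r' ^ 3 * s) + e)) + (-(r' ^ 3 * s ^ 2) + f)) * S.hh c' d' e' f') := by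
        simp only [mul_assoc]
    _ = _ := by rw [S.add_a, S.add_b, S.hh_mul]

/-- the cube of an element of `U(G₂)`, characteristic 3 -/
theorem nf_pow_three [CharP K 3] (r s c d e f : K) :
    (S.Xa r * S.Xb s * S.hh c d e f) ^ 3 = S.hh 0 (2 * r ^ 2 * s) 0 (-(r ^ 3 * s ^ 2)) := by
  have h3 : (3 : K) = 0 := by
    have := CharP.cast_eq_zero K 3
    exact_mod_cast this
  rw [pow_succ, pow_two, S.nf_mul, S.nf_mul]
  have e1 : r + r + r = 0 := by linear_combination r * h3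
  have e2 : s + s + s = 0 := by linear_combination s * h3
  rw [e1, e2, S.Xa_zero, S.Xb_zero, one_mul, one_mul]
  congr 1
  · linear_combination (r * s + c) * h3
  · linear_combination (d + 2 * r * c + r ^ 2 * s) * h3
  · linear_combination (e - r ^ 3 * s) * h3
  · linear_combination (f - s * e) * h3

/-- the abelian part is faithful -/
theorem hh_eq_one_iff (hU : S.toSys.Uniq) (c d e f : K) :
    S.hh c d e f = 1 ↔ c = 0 ∧ d = 0 ∧ e = 0 ∧ f = 0 := by
  constructor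
  · intro h
    have h' : S.Xb 0 * S.Xa 0 * S.hh c d e f = S.Xb 0 * S.Xa 0 * S.hh 0 0 0 0 := by
      rw [h, S.hh_zero]
    obtain ⟨-, -, h1, h2, h3, h4⟩ := hU _ _ _ _ _ _ _ _ _ _ _ _ h'
    exact ⟨h1, h2, h3, h4⟩
  · rintro ⟨rfl, rfl, rfl, rfl⟩
    exact S.hh_zero

theorem word_zero {θ : ℕ} (hθ : θ ≠ 0) : S.word θ 0 0 0 = 1 := by
  rw [S.word_eq, zero_pow hθ, zero_pow (Nat.succ_ne_zero θ), zero_pow (Nat.succ_ne_zero (2 * θ)), add_zero,
    S.Xa_zero, S.Xb_zero, S.hh_zero, one_mul, one_mul]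

/-- the cube of a Ree word -/
theorem word_pow_three [CharP K 3] (θ : ℕ) (t u v : K) :
    (S.word θ t u v) ^ 3 = S.hh 0 (2 * (t ^ θ) ^ 2 * t) 0 (-((t ^ θ) ^ 3 * t ^ 2)) := by
  rw [S.word_eq, S.nf_pow_three]

/-- a Ree word has order 3 iff `t = 0` and it is not trivial -/
theorem orderOf_word_eq_three_iff [CharP K 3] (hU : S.toSys.Uniq) {θ : ℕ} (hθ : θ ≠ 0) (t u v : K) :
    orderOf (S.word θ t u v) = 3 ↔ t = 0 ∧ (u ≠ 0 ∨ v ≠ 0) := by
  have h2 : (2 : K) ≠ 0 := by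
    intro h
    have h3 : (3 : K) = 0 := by
      have := CharP.cast_eq_zero K 3
      exact_mod_cast this
    have : (1 : K) = 0 := by linear_combination h3 - h
    exact one_ne_zero this
  constructor
  · intro h
    have hp : (S.word θ t u v) ^ 3 = 1 := by rw [← h]; exact pow_orderOf_eq_one _
    rw [S.word_pow_three, S.hh_eq_one_iff hU] at hp
    have ht : t = 0 := by
      have := hp.2.1
      rcases mul_eq_zero.mp this with h' | h'
      · rcases mul_eq_zero.mp h' with h'' | h''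
        · exact absurd h'' h2
        · exact pow_eq_zero_iff (two_ne_zero) |>.mp h'' |> fun h => pow_eq_zero_iff hθ |>.mp h
      · exact h'
    refine ⟨ht, ?_⟩
    by_contra hne
    rw [not_or, not_not, not_not] at hne
    rw [ht, hne.1, hne.2, S.word_zero hθ, orderOf_one] at h
    norm_num at h
  · rintro ⟨rfl, huv⟩
    have : Fact (Nat.Prime 3) := ⟨Nat.prime_three⟩
    apply orderOf_eq_prime
    · rw [S.word_pow_three, S.hh_eq_one_iff hU]
      simp [hθ]
    · intro h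
      rw [← S.word_zero hθ] at h
      obtain ⟨-, h1, h2⟩ := Sys.word_injective hU _ _ _ _ _ _ h
      rcases huv with h' | h'
      · exact h' h1
      · exact h' h2

end SysX

end Cfsg.Agent.Helper41.ReeU
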