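import Cfsg.Agent.Helper41.ReeUA
import Cfsg.Agent.Helper18.Ree.Small

/-!
The positive root elements of `G₂(K)`, characteristic 3, satisfy all the relations of `SysX`.
-/

set_option autoImplicit false
set_option maxRecDepth 100000

namespace Cfsg.Agent.Helper41.ReeU

open Cfsg Cfsg.Lie Cfsg.Agent.Helper18 Cfsg.Agent.Helper18.Ree

variable {K : Type*} [Field K]

theorem ct_7_8 : chevG2.commTerms 7 8 = [(9, -2, 1, 1), (10, -3, 2, 1), (11, 3, 1, 2)] := by decide +kernel
theorem ct_7_9 : chevG2.commTerms 7 9 = [(10, 3, 1, 1)] := by decide +kernel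
theorem ct_7_10 : chevG2.commTerms 7 10 = [] := by decide +kernel
theorem ct_7_11 : chevG2.commTerms 7 11 = [] := by decide +kernel
theorem ct_6_8 : chevG2.commTerms 6 8 = [] := by decide +kernel
theorem ct_6_9 : chevG2.commTerms 6 9 = [] := by decide +kernel
theorem ct_6_10 : chevG2.commTerms 6 10 = [(11, 1, 1, 1)] := by decide +kernel
theorem ct_6_11 : chevG2.commTerms 6 11 = [] := by decide +kernel

theorem xGL_zero (k : ℕ) : xGL chevG2 K k (0 : K) = 1 := by
  have htri := triOK_of_mem chevG2 hG2
  apply Units.ext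
  rw [xGL_val _ _ htri, x_zero, Units.val_one]

theorem comm_a_ab_pos [CharP K 3] (r c : K) : xGL chevG2 K 8 c * xGL chevG2 K 7 r =
    xGL chevG2 K 7 r * xGL chevG2 K 8 c * xGL chevG2 K 9 (2 * r * c) := by
  have h3 : ((3 : ℤ) : K) = 0 := by
    have := CharP.cast_eq_zero K 3
    exact_mod_cast this
  have := xGL_comm_formula 7 8 (by decide) (by decide) (by decide) (by decide) r c
  unfold ChevalleyDatum.commWord at this
  rw [ct_7_8] at this
  simp only [List.map_cons, List.map_nil, wordGL, List.prod_cons, List.prod_nil, mul_one] at this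
  have e1 : ((-2 : ℤ) : K) * (-r) ^ 1 * c ^ 1 = 2 * r * c := by push_cast; ring
  have e2 : ((-3 : ℤ) : K) * (-r) ^ 2 * c ^ 1 = 0 := by
    rw [Int.cast_neg, h3]; ring
  have e3 : ((3 : ℤ) : K) * (-r) ^ 1 * c ^ 2 = 0 := by
    rw [h3]; ring
  rw [e1, e2, e3, xGL_zero, xGL_zero, mul_one, mul_one] at this
  exact this

theorem comm_b_aaab_pos (s e : K) : xGL chevG2 K 10 e * xGL chevG2 K 6 s =
    xGL chevG2 K 6 s * xGL chevG2 K 10 e * xGL chevG2 K 11 (-(s * e)) := by
  have := xGL_comm_formula 6 10 (by decide) (by decide) (by decide) (by decide) s e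
  unfold ChevalleyDatum.commWord at this
  rw [ct_6_10] at this
  simp only [List.map_cons, List.map_nil, wordGL, List.prod_cons, List.prod_nil, mul_one] at this
  have e1 : ((1 : ℤ) : K) * (-s) ^ 1 * e ^ 1 = -(s * e) := by push_cast; ring
  rw [e1] at this
  exact this

variable [CharP K 3]

/-- the positive system, with all relations -/
noncomputable def posSysX : SysX K ↥(chevG2.group K) where
  toSys := posSys
  add_a := XG_add 7 (by decide)
  add_b := XG_add 6 (by decide)
  comm_a_ab := fun r c => Subtype.ext (comm_a_ab_pos r c)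
  ca2 := fun t u => commute_XG (commute_of_three 7 9 10 3 ⟨1, rfl⟩ (by decide) (by decide) (by decide) (by decide)
    ct_7_9 t u)
  ca3 := fun t u => commute_XG (commute_of_nil 7 10 (by decide) (by decide) (by decide) (by decide) ct_7_10 t u)
  ca4 := fun t u => commute_XG (commute_of_nil 7 11 (by decide) (by decide) (by decide) (by decide) ct_7_11 t u)
  cb1 := fun t u => commute_XG (commute_of_nil 6 8 (by decide) (by decide) (by decide) (by decide) ct_6_8 t u)
  cb2 := fun t u => commute_XG (commute_of_nil 6 9 (by decide) (by decide) (by decide) (by decide) ct_6_9 t u)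
  cb4 := fun t u => commute_XG (commute_of_nil 6 11 (by decide) (by decide) (by decide) (by decide) ct_6_11 t u)
  comm_b_aaab := fun s e => Subtype.ext (comm_b_aaab_pos s e)

theorem posSysX_toSys : (posSysX (K := K)).toSys = posSys := rfl

end Cfsg.Agent.Helper41.ReeU
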