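import Cfsg.Agent.Helper41.ReeUB

/-!
`U¹ = U ∩ ²G₂(q)` as the set of Ree words, with orders of elements computed in the abstract system.
-/

set_option autoImplicit false
set_option maxRecDepth 100000

namespace Cfsg.Agent.Helper41.ReeU

open Cfsg Cfsg.Lie Cfsg.Agent.Helper18 Cfsg.Agent.Helper18.Ree

variable {K : Type*} [Field K] [Fintype K] [CharP K 3]

/-- the Ree word as an element of the general linear group -/
noncomputable def wordGLU (θ : ℕ) (t u v : K) : GL chevG2.Idx K :=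
  (((posSysX (K := K)).word θ t u v : ↥(chevG2.group K)) : GL chevG2.Idx K)

theorem mem_U1_iff {m : ℕ} (hK : Fintype.card K = 3 ^ (2 * m + 1)) (g : GL chevG2.Idx K) :
    g ∈ chevG2.posUnipotent K ⊓ twistedG2 K (3 ^ m) ↔ ∃ t u v : K, g = wordGLU (3 ^ m) t u v := by
  obtain ⟨σ, hσ'⟩ := exists_sigma hK
  have hσ : SigmaSpec m σ := hσ'
  constructor
  · rintro ⟨hU, hG⟩
    exact fixed_posUnipotent hK hσ g hU (twistedG2_le_FixS hK hσ hG)
  · rintro ⟨t, u, v, rfl⟩
    exact ⟨wordU_mem_posUnipotent _ t u v, wordU_mem_twistedG2 _ t u v⟩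

omit [Fintype K] in
theorem wordGLU_injective (θ : ℕ) (t u v t' u' v' : K) (h : wordGLU θ t u v = wordGLU θ t' u' v') :
    t = t' ∧ u = u' ∧ v = v' :=
  Sys.word_injective posSys_uniq t u v t' u' v' (Subtype.ext h)

omit [Fintype K] in
theorem orderOf_wordGLU (θ : ℕ) (t u v : K) :
    orderOf (wordGLU θ t u v) = orderOf ((posSysX (K := K)).word θ t u v) :=
  Subgroup.orderOf_coe _

omit [Fintype K] in
/-- a Ree word has order 3 iff `t = 0` and it is not trivial -/
theorem orderOf_wordGLU_eq_three_iff {θ : ℕ} (hθ : θ ≠ 0) (t u v : K) :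
    orderOf (wordGLU θ t u v) = 3 ↔ t = 0 ∧ (u ≠ 0 ∨ v ≠ 0) := by
  rw [orderOf_wordGLU]
  exact (posSysX (K := K)).orderOf_word_eq_three_iff posSys_uniq hθ t u v

end Cfsg.Agent.Helper41.ReeU
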