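import Cfsg.Agent.Helper41.SL2ClassSum

set_option autoImplicit false

/-!
# Sums of class functions over a non-split torus of `SL₂(q)`, `q` odd
-/

namespace Cfsg.Agent.Helper41

open Matrix Cfsg Cfsg.Agent.Helper39 Cfsg.Agent.Helper42

section

variable {F : Type*} [Field F]

local notation "SL2F" => Matrix.SpecialLinearGroup (Fin 2) F
local notation "M2F" => Matrix (Fin 2) (Fin 2) F

/-- An element of the torus `C(x)` with the same trace as `x` is `x` or `x⁻¹`. -/
theorem eq_or_eq_inv_of_mem_centralizer_of_trace_eq (h2 : (2 : F) ≠ 0) (x y : SL2F)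
    (hxy : Matrix.trace (y : M2F) = Matrix.trace (x : M2F))
    (ht : (Matrix.trace (x : M2F)) ^ 2 ≠ 4)
    (hyx : y ∈ Subgroup.centralizer ({x} : Set SL2F)) : y = x ∨ y = x⁻¹ := by
  have hxns := not_scalar_of_trace_sq_ne_four (x : M2F) x.det_coe ht
  obtain ⟨α, β, hαβ⟩ := sl2_exists_of_mem_centralizer x y hxns hyx
  set t := Matrix.trace (x : M2F) with htdef
  have htr : (2 : F) * α + β * t = t := by
    rw [← trace_add_smul_two, ← hαβ, hxy]
  have hdet : α ^ 2 + α * β * t + β ^ 2 * (x : M2F).det = 1 := by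
    rw [← det_add_smul_two, ← hαβ, y.det_coe]
  rw [x.det_coe, mul_one] at hdet
  have h4 : (4 : F) ≠ 0 := by
    have : (4 : F) = 2 * 2 := by norm_num
    rw [this]; exact mul_ne_zero h2 h2
  have ht4 : t ^ 2 - 4 ≠ 0 := sub_ne_zero.mpr ht
  have hβ : (1 - β) * (1 + β) = 0 := by
    have h5 : (1 - β) * (1 + β) * (t ^ 2 - 4) = 0 := by
      have hα : 2 * α = t * (1 - β) := by linear_combination htr
      linear_combination (4 : F) * hdet - (t * (1 - β) + 2 * α + 2 * β * t) * hα
    rcases mul_eq_zero.mp h5 with h | h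
    · exact h
    · exact absurd h ht4
  rcases mul_eq_zero.mp hβ with h | h
  · left
    have hβ1 : β = 1 := by linear_combination -h
    have hα0 : α = 0 := by
      have : 2 * α = 0 := by rw [hβ1] at htr; linear_combination htr
      rcases mul_eq_zero.mp this with h' | h'
      · exact absurd h' h2
      · exact h'
    apply Subtype.ext
    rw [hαβ, hα0, hβ1, zero_smul, zero_add, one_smul]
  · right
    have hβ1 : β = -1 := by linear_combination h
    have hαt : α = t := by
      have : 2 * (α - t) = 0 := by rw [hβ1] at htr; linear_combination htr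
      rcases mul_eq_zero.mp this with h' | h'
      · exact absurd h' h2
      · exact sub_eq_zero.mp h'
    apply Subtype.ext
    rw [hαβ, hαt, hβ1, sl2_coe_inv_eq, neg_smul, one_smul, sub_eq_add_neg]

end

section Finite

variable {F : Type*} [Field F] [Fintype F] [DecidableEq F]

local notation "SL2F" => Matrix.SpecialLinearGroup (Fin 2) F
local notation "M2F" => Matrix (Fin 2) (Fin 2) F

omit [Fintype F] [DecidableEq F] in
theorem not_scalar_of_isNonScalarSL (s : SL2F) (hs : IsNonScalarSL s) :
    ∀ r : F, (s : M2F) ≠ Matrix.scalar (Fin 2) r := by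
  intro r h
  apply hs
  rw [h]
  simp [Matrix.scalar_apply]

omit [Fintype F] [DecidableEq F] in
theorem isNonScalarSL_of_not_scalar (s : SL2F)
    (hs : ∀ r : F, (s : M2F) ≠ Matrix.scalar (Fin 2) r) : IsNonScalarSL s :=
  Cfsg.Agent.S2429.isNonScalarMat_of_not_scalar _ hs

omit [Fintype F] [DecidableEq F] in
theorem isNonScalarSL_of_ne (s : SL2F) (h1 : s ≠ 1) (hz : s ≠ zSL) : IsNonScalarSL s := by
  intro h
  rcases eq_one_or_zSL s h.1 h.2.1 h.2.2 with h | h
  · exact h1 h
  · exact hz h

/-- A non-scalar element of regular trace is conjugate to the companion matrix of its trace. -/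
theorem isConj_cSL_of_trace (hodd : Odd (Fintype.card F)) (c : SL2F) (hns : IsNonScalarSL c)
    (ht : (c : M2F).trace ^ 2 ≠ 4) : IsConj (cSL ((c : M2F).trace)) c := by
  obtain ⟨d, n, hn⟩ := exists_twist_conj c (cSL ((c : M2F).trace)) hns (isNonScalarSL_cSL _)
    (trace_cSL _).symm
  have hst : IsStableClass (cSL ((c : M2F).trace)) :=
    isStableClass_of_trace hodd _ (by rw [trace_cSL]; exact ht)
  obtain ⟨m, hm⟩ := hst (dGL d)
  rw [← toGL_twistFun] at hm
  have hm' := Matrix.SpecialLinearGroup.toGL_injective hm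
  refine isConj_iff.mpr ⟨n * m, ?_⟩
  rw [hm'] at hn
  generalize (c : M2F).trace = t at hn ⊢
  calc n * m * cSL t * (n * m)⁻¹ = n * (m * cSL t * m⁻¹) * n⁻¹ := by group
    _ = c := hn.symm

theorem rootCount_eq_zero_iff_not_isSquare (h2 : (2 : F) ≠ 0) (t : F) :
    rootCount t = 0 ↔ ¬ IsSquare (t ^ 2 - 4) := by
  constructor
  · exact Cfsg.Agent.S2429.not_isSquare_of_rootCount_eq_zero h2 t
  · intro hns
    by_contra h0
    apply hns
    unfold rootCount at h0
    rw [Finset.card_eq_zero, ← Ne, ← Finset.nonempty_iff_ne_empty] at h0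
    obtain ⟨x, hx⟩ := h0
    rw [Finset.mem_filter] at hx
    exact ⟨2 * x + t, by linear_combination (-4 : F) * hx.2⟩

/-- Non-central elements of a non-split torus are again elliptic. -/
theorem rootCount_trace_eq_zero_of_mem_centralizer (hodd : Odd (Fintype.card F)) (g₀ c : SL2F)
    (hg₀ : rootCount ((g₀ : M2F).trace) = 0)
    (hc : c ∈ Subgroup.centralizer ({g₀} : Set SL2F)) (hns : IsNonScalarSL c) :
    rootCount ((c : M2F).trace) = 0 := by
  have h2 : (2 : F) ≠ 0 := Ring.two_ne_zero (ringChar_ne_two_of_odd hodd)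
  have ht₀ := sq_ne_four_of_rootCount_eq_zero _ hg₀
  have hg₀ns := not_scalar_of_trace_sq_ne_four (g₀ : M2F) g₀.det_coe ht₀
  have hCeq := sl2_centralizer_eq_of_mem g₀ c hg₀ns hc (not_scalar_of_isNonScalarSL c hns)
  have hcard₀ := Cfsg.Agent.S0809.card_centralizer_add_rootCount h2 (Nat.odd_iff.mp hodd) g₀ ht₀
  rw [hg₀, add_zero] at hcard₀
  have hq : 3 ≤ Fintype.card F := by
    have h1 : 1 < Fintype.card F := Fintype.one_lt_card
    obtain ⟨k, hk⟩ := hodd
    omega
  by_cases ht : (c : M2F).trace ^ 2 = 4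
  · exfalso
    have := card_centralizer_of_trace_sq_eq_four hodd c hns ht
    rw [hCeq, hcard₀] at this
    omega
  · have := Cfsg.Agent.S0809.card_centralizer_add_rootCount h2 (Nat.odd_iff.mp hodd) c ht
    rw [hCeq, hcard₀] at this
    omega

/-- Each elliptic trace is attained exactly twice on a non-split torus. -/
theorem card_filter_trace_eq (hodd : Odd (Fintype.card F)) (g₀ : SL2F)
    (hg₀ : rootCount ((g₀ : M2F).trace) = 0)
    [Fintype (Subgroup.centralizer ({g₀} : Set SL2F))] (t : F) (ht : rootCount t = 0) :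
    (Finset.univ.filter (fun c : Subgroup.centralizer ({g₀} : Set SL2F) =>
      ((c : SL2F) : M2F).trace = t)).card = 2 := by
  have h2 : (2 : F) ≠ 0 := Ring.two_ne_zero (ringChar_ne_two_of_odd hodd)
  have ht4 := sq_ne_four_of_rootCount_eq_zero t ht
  have ht₀ := sq_ne_four_of_rootCount_eq_zero _ hg₀
  have hg₀ns := not_scalar_of_trace_sq_ne_four (g₀ : M2F) g₀.det_coe ht₀
  obtain ⟨h, hh⟩ := Cfsg.Agent.S2429.exists_conj_mem_centralizer (Nat.odd_iff.mp hodd) h2 g₀ (cSL t)
    ((rootCount_eq_zero_iff_not_isSquare h2 _).mp hg₀)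
    (by rw [trace_cSL]; exact (rootCount_eq_zero_iff_not_isSquare h2 _).mp ht)
  set c₁ : SL2F := h * cSL t * h⁻¹ with hc₁
  have htr₁ : (c₁ : M2F).trace = t := by rw [hc₁, sl2_trace_conj, trace_cSL]
  have hc₁ns : ∀ r : F, (c₁ : M2F) ≠ Matrix.scalar (Fin 2) r :=
    not_scalar_of_trace_sq_ne_four (c₁ : M2F) c₁.det_coe (by rw [htr₁]; exact ht4)
  have hCeq := sl2_centralizer_eq_of_mem g₀ c₁ hg₀ns hh hc₁ns
  have hinv : c₁⁻¹ ∈ Subgroup.centralizer ({g₀} : Set SL2F) := Subgroup.inv_mem _ hh
  have hne : c₁⁻¹ ≠ c₁ := by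
    intro heq
    have hsq : c₁ ^ 2 = 1 := by
      rw [pow_two]
      nth_rewrite 1 [← heq]
      exact inv_mul_cancel c₁
    rcases (sl2_sq_eq_one_iff h2 c₁).mp hsq with h1 | h1
    · apply hc₁ns 1
      rw [h1]; simp
    · apply hc₁ns (-1)
      rw [h1]; rfl
  have hset : Finset.univ.filter (fun c : Subgroup.centralizer ({g₀} : Set SL2F) =>
      ((c : SL2F) : M2F).trace = t) = {⟨c₁, hh⟩, ⟨c₁⁻¹, hinv⟩} := by
    ext c
    simp only [Finset.mem_filter, Finset.mem_univ, true_and, Finset.mem_insert,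
      Finset.mem_singleton]
    constructor
    · intro hc
      have hmem : (c : SL2F) ∈ Subgroup.centralizer ({c₁} : Set SL2F) := by
        rw [hCeq]; exact c.2
      rcases eq_or_eq_inv_of_mem_centralizer_of_trace_eq h2 c₁ c (by rw [hc, htr₁])
        (by rw [htr₁]; exact ht4) hmem with h1 | h1
      · left; exact Subtype.ext h1
      · right; exact Subtype.ext h1
    · rintro (rfl | rfl)
      · exact htr₁
      · show ((c₁⁻¹ : SL2F) : M2F).trace = t
        rw [sl2_trace_inv, htr₁]
  rw [hset, Finset.card_pair]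
  intro heq
  exact hne (congrArg Subtype.val heq).symm

omit [Fintype F] [DecidableEq F] in
theorem zSL_ne_one (h2 : (2 : F) ≠ 0) : (zSL : SL2F) ≠ 1 := by
  intro h
  have := congrArg (fun x : SL2F => (x : M2F) 0 0) h
  simp only [zSL_00, Matrix.SpecialLinearGroup.coe_one, Matrix.one_apply_eq] at this
  apply h2
  linear_combination -this

omit [Fintype F] [DecidableEq F] in
theorem trace_zSL : ((zSL : SL2F) : M2F).trace = -2 := by
  rw [Matrix.trace_fin_two, zSL_00, zSL_11]; norm_num

/-- Sum of a class function over a non-split torus. -/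
theorem torus_sum (hodd : Odd (Fintype.card F)) (g₀ : SL2F)
    (hg₀ : rootCount ((g₀ : M2F).trace) = 0)
    [Fintype (Subgroup.centralizer ({g₀} : Set SL2F))]
    (f : SL2F → ℂ) (hf : IsClassFunction SL2F f) :
    ∑ c : Subgroup.centralizer ({g₀} : Set SL2F), f c =
      f 1 + f zSL + 2 * ∑ t ∈ Finset.univ.filter (fun t : F => rootCount t = 0), f (cSL t) := by
  classical
  have h2 : (2 : F) ≠ 0 := Ring.two_ne_zero (ringChar_ne_two_of_odd hodd)
  have hzmem : (zSL : SL2F) ∈ Subgroup.centralizer ({g₀} : Set SL2F) := by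
    rw [Subgroup.mem_centralizer_singleton_iff]
    exact zSL_comm g₀
  set z' : Subgroup.centralizer ({g₀} : Set SL2F) := ⟨zSL, hzmem⟩ with hz'
  have hz1 : z' ≠ 1 := by
    intro h
    exact zSL_ne_one h2 (congrArg Subtype.val h)
  rw [← Finset.add_sum_erase Finset.univ _ (Finset.mem_univ (1 : Subgroup.centralizer ({g₀} : Set SL2F))),
    ← Finset.add_sum_erase (Finset.univ.erase 1) _
      (Finset.mem_erase.mpr ⟨hz1, Finset.mem_univ z'⟩)]
  have hmaps : ∀ c ∈ (Finset.univ.erase (1 : Subgroup.centralizer ({g₀} : Set SL2F))).erase z',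
      ((c : SL2F) : M2F).trace ∈ Finset.univ.filter (fun t : F => rootCount t = 0) := by
    intro c hc
    rw [Finset.mem_erase, Finset.mem_erase] at hc
    rw [Finset.mem_filter]
    refine ⟨Finset.mem_univ _, ?_⟩
    apply rootCount_trace_eq_zero_of_mem_centralizer hodd g₀ c hg₀ c.2
    apply isNonScalarSL_of_ne
    · intro h
      exact hc.2.1 (Subtype.ext h)
    · intro h
      exact hc.1 (Subtype.ext h)
  rw [← Finset.sum_fiberwise_of_maps_to hmaps, Finset.mul_sum]
  have hinner : ∀ t ∈ Finset.univ.filter (fun t : F => rootCount t = 0),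
      ∑ c ∈ ((Finset.univ.erase (1 : Subgroup.centralizer ({g₀} : Set SL2F))).erase z').filter
        (fun c : Subgroup.centralizer ({g₀} : Set SL2F) => ((c : SL2F) : M2F).trace = t),
          f (c : SL2F) = 2 * f (cSL t) := by
    intro t ht
    rw [Finset.mem_filter] at ht
    have ht4 := sq_ne_four_of_rootCount_eq_zero t ht.2
    have hfilt : ((Finset.univ.erase (1 : Subgroup.centralizer ({g₀} : Set SL2F))).erase z').filter
        (fun c : Subgroup.centralizer ({g₀} : Set SL2F) => ((c : SL2F) : M2F).trace = t) =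
        Finset.univ.filter (fun c : Subgroup.centralizer ({g₀} : Set SL2F) =>
          ((c : SL2F) : M2F).trace = t) := by
      ext c
      simp only [Finset.mem_filter, Finset.mem_erase, Finset.mem_univ, and_true, true_and]
      constructor
      · intro h; exact h.2
      · intro h
        refine ⟨⟨?_, ?_⟩, h⟩
        · rintro rfl
          apply ht4
          rw [← h, hz']
          show ((zSL : SL2F) : M2F).trace ^ 2 = 4
          rw [trace_zSL]; norm_num
        · rintro rfl
          apply ht4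
          rw [← h]
          show ((1 : SL2F) : M2F).trace ^ 2 = 4
          rw [Matrix.SpecialLinearGroup.coe_one, Matrix.trace_fin_two]
          norm_num
    rw [hfilt]
    have hval : ∀ c ∈ Finset.univ.filter (fun c : Subgroup.centralizer ({g₀} : Set SL2F) =>
        ((c : SL2F) : M2F).trace = t), f (c : SL2F) = f (cSL t) := by
      intro c hc
      rw [Finset.mem_filter] at hc
      have hcns : IsNonScalarSL (c : SL2F) := by
        apply isNonScalarSL_of_not_scalar
        exact not_scalar_of_trace_sq_ne_four _ (c : SL2F).det_coe (by rw [hc.2]; exact ht4)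
      have hconj := isConj_cSL_of_trace hodd (c : SL2F) hcns (by rw [hc.2]; exact ht4)
      rw [hc.2] at hconj
      obtain ⟨n, hn⟩ := isConj_iff.mp hconj
      rw [← hn, hf]
    rw [Finset.sum_congr rfl hval, Finset.sum_const, card_filter_trace_eq hodd g₀ hg₀ t ht.2,
      nsmul_eq_mul]
    norm_num
  rw [Finset.sum_congr rfl hinner]
  show f ((1 : Subgroup.centralizer ({g₀} : Set SL2F)) : SL2F) + (f (z' : SL2F) + _) = _
  rw [Subgroup.coe_one, hz']
  ring

end Finite

end Cfsg.Agent.Helper41
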