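import Mathlib
import Cfsg.Agent.Helper84.SU3FDefs

/-!
Piece (CONJ4) for helper84's S5319: in `GU₂(q)`, `q ≡ 1 mod 4`, the element of order four of the nonsplit torus is
conjugate to `x * diag(1,-1)`.
-/

set_option autoImplicit false

namespace Cfsg.Agent.Helper41.SU3F

open Cfsg Cfsg.Agent.Helper37.GL2S2 Cfsg.Agent.Helper37.GU2S2 Cfsg.Agent.Helper37.SU3Inv Cfsg.Agent.Helper85
  Cfsg.Agent.Helper84.SU3F

variable {F : Type*} [Field F] {q : ℕ} (bar : F →+* F) (hbar : ∀ x, bar x = x ^ q)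

/-- the matrix `[[l, 1/(2i)], [i, -1/(2l)]]` -/
noncomputable def gP (i : F) (l : F) (h2 : (2 : F) ≠ 0) (hi0 : i ≠ 0) (hl0 : l ≠ 0) : GL (Fin 2) F :=
  Matrix.GeneralLinearGroup.mkOfDetNeZero !![l, 1 / (2 * i); i, -1 / (2 * l)] (by
    rw [Matrix.det_fin_two_of]
    have : l * (-1 / (2 * l)) - 1 / (2 * i) * i = -1 := by
      field_simp
      ring
    rw [this]
    exact neg_ne_zero.mpr one_ne_zero)

theorem gP_val (i : F) (l : F) (h2 : (2 : F) ≠ 0) (hi0 : i ≠ 0) (hl0 : l ≠ 0) :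
    (gP i l h2 hi0 hl0).1 = !![l, 1 / (2 * i); i, -1 / (2 * l)] := rfl

include hbar in
theorem exists_conj_order_four (h2 : (2 : F) ≠ 0) (hq : Odd q) (n : ℕ) (l : Fˣ) (i : F) (hi : i * i = -1)
    (hbi : bar i = i) (hl : (l ^ q) ^ q = l) (hil : (l : F) ^ 2 ^ n = i) (hlq : (l : F) ^ q = -(l : F)) :
    ∃ g : ↥(Cfsg.GU 2 F q), g * (tqU bar hbar i hi h2 hbi l hl) ^ 2 ^ n * g⁻¹
      = tqU bar hbar i hi h2 hbi l hl * dm1U bar hbar hq := by
  have hi2 : i ^ 2 = -1 := by rw [pow_two]; exact hi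
  have hi3 : i ^ 3 = -i := by linear_combination i * hi2
  have hi4 : i ^ 4 = 1 := by linear_combination (i ^ 2 - 1) * hi2
  have hi5 : i ^ 5 = i := by linear_combination (i ^ 3 - i) * hi2
  have hi6 : i ^ 6 = -1 := by linear_combination (i ^ 4 - i ^ 2 + 1) * hi2
  have hi7 : i ^ 7 = -i := by linear_combination (i ^ 5 - i ^ 3 + i) * hi2
  have hi8 : i ^ 8 = 1 := by linear_combination (i ^ 6 - i ^ 4 + i ^ 2 - 1) * hi2
  have hi0 : i ≠ 0 := by
    intro h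
    rw [h, mul_zero] at hi
    exact one_ne_zero (neg_eq_zero.mp hi.symm)
  have hl0 : (l : F) ≠ 0 := l.ne_zero
  -- the values of the torus parameters
  have v1 : ((l ^ 2 ^ n : Fˣ) : F) = i := by rw [Units.val_pow_eq_pow_val, hil]
  have v2 : ((((l ^ 2 ^ n) ^ q)⁻¹ : Fˣ) : F) = -i := by
    rw [Units.val_inv_eq_inv_val, Units.val_pow_eq_pow_val, v1, ← hbar, hbi]
    exact inv_eq_of_mul_eq_one_right (by linear_combination -hi)
  have v3 : (((l ^ q)⁻¹ : Fˣ) : F) = -(l : F)⁻¹ := by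
    rw [Units.val_inv_eq_inv_val, Units.val_pow_eq_pow_val, hlq, inv_neg]
  -- the conjugating element
  set g' := gP i (l : F) h2 hi0 hl0 with hg'
  set g : GL (Fin 2) F := Pm i hi h2 * g' * (Pm i hi h2)⁻¹ with hg
  have hb1 : bar (l : F) = -(l : F) := by rw [hbar, hlq]
  have hb3 : bar 2 = 2 := map_ofNat bar 2
  have hgmem : g ∈ Cfsg.GU 2 F q := by
    apply mem_GU2_of bar hbar
    rw [hg, Units.val_mul, Units.val_mul, Pm_val, Pm_inv_val, hg', gP_val]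
    generalize (l : F) = m at hl0 hb1
    ext a b
    fin_cases a <;> fin_cases b <;>
      simp [Matrix.mul_apply, Fin.sum_univ_two, hbi, hb1, hb3]
    all_goals (field_simp; first | ring1 | (ring_nf; simp only [hi2, hi3, hi4, hi5, hi6, hi7, hi8]; ring1))
  refine ⟨⟨g, hgmem⟩, ?_⟩
  apply Subtype.ext
  rw [Subgroup.coe_mul, Subgroup.coe_mul, Subgroup.coe_mul, Subgroup.coe_inv, Subgroup.coe_pow, tqU_val, dm1U_val]
  show g * tq i hi h2 q l ^ 2 ^ n * g⁻¹ = tq i hi h2 q l * dm1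
  rw [← map_pow, mul_inv_eq_iff_eq_mul, tq_apply, tq_apply, hg]
  have hdm : (dm1 : GL (Fin 2) F) = Pm i hi h2 * sw * (Pm i hi h2)⁻¹ := by
    rw [← dm1_mul_Pm]; group
  rw [hdm]
  have key : g' * dg (l ^ 2 ^ n) ((l ^ 2 ^ n) ^ q)⁻¹ = dg l (l ^ q)⁻¹ * sw * g' := by
    apply Units.ext
    rw [Units.val_mul, Units.val_mul, Units.val_mul, dg_val, dg_val, sw_val, hg', gP_val, v1, v2, v3]
    generalize (l : F) = m at hl0
    ext a b
    fin_cases a <;> fin_cases b <;>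
      simp [Matrix.mul_apply, Fin.sum_univ_two]
    all_goals (field_simp; (try simp only [hi2]); (try ring1))
  calc Pm i hi h2 * g' * (Pm i hi h2)⁻¹ * (Pm i hi h2 * dg (l ^ 2 ^ n) ((l ^ 2 ^ n) ^ q)⁻¹ * (Pm i hi h2)⁻¹)
      = Pm i hi h2 * (g' * dg (l ^ 2 ^ n) ((l ^ 2 ^ n) ^ q)⁻¹) * (Pm i hi h2)⁻¹ := by group
    _ = Pm i hi h2 * (dg l (l ^ q)⁻¹ * sw * g') * (Pm i hi h2)⁻¹ := by rw [key]
    _ = Pm i hi h2 * dg l (l ^ q)⁻¹ * (Pm i hi h2)⁻¹ * (Pm i hi h2 * sw * (Pm i hi h2)⁻¹)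
        * (Pm i hi h2 * g' * (Pm i hi h2)⁻¹) := by group

end Cfsg.Agent.Helper41.SU3F
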