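import Mathlib
import Cfsg.Agent.Helper84.SU3FDefs

/-!
Piece (NSC-WR) for helper84's S5319: the wreathed Sylow `2`-subgroup of `SU₃(q)`, `q ≡ 3 mod 4`, has no proper
nontrivial strongly closed subgroup.
-/

set_option autoImplicit false

namespace Cfsg.Agent.Helper41.SU3F

open Cfsg Cfsg.Agent.Helper37.GL2S2 Cfsg.Agent.Helper37.GU2S2 Cfsg.Agent.Helper37.SU3Inv Cfsg.Agent.Helper85
  Cfsg.Agent.Helper84.SU3F Cfsg.Agent.Helper37.PSL3Inv

variable {F : Type*} [Field F] {q : ℕ} (bar : F →+* F) (hbar : ∀ x, bar x = x ^ q)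

/-- the cyclic permutation matrix -/
def piM : Matrix (Fin 3) (Fin 3) F := !![0, 0, 1; 1, 0, 0; 0, 1, 0]

theorem det_piM : (piM : Matrix (Fin 3) (Fin 3) F).det = 1 := by
  rw [Matrix.det_fin_three]
  simp [piM]

theorem isU_piM : IsU bar (piM : Matrix (Fin 3) (Fin 3) F) := by
  unfold IsU
  ext a b
  fin_cases a <;> fin_cases b <;> simp [piM, Matrix.mul_apply, Fin.sum_univ_three]

/-- the cyclic permutation matrix as an element of `SU₃(q)` -/
def piU : ↥(Cfsg.SU 3 F q) := ⟨⟨piM, det_piM⟩, (mem_SU_iff_isU bar hbar _).2 (isU_piM bar)⟩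

theorem piU_val : ((piU bar hbar : ↥(Cfsg.SU 3 F q)).1).1 = piM := rfl

/-- equality in `SU₃` from equality of matrices -/
theorem su_ext {a b : ↥(Cfsg.SU 3 F q)} (h : (a.1).1 = (b.1).1) : a = b := Subtype.ext (Subtype.ext h)

theorem su_mul_val (a b : ↥(Cfsg.SU 3 F q)) : ((a * b).1).1 = (a.1).1 * (b.1).1 := rfl

/-- strong closure in the power form -/
theorem pow_two_pow_map {G H : Type*} [Group G] [Group H] (f : G →* H) (K : Subgroup G)
    (hK : ∀ s ∈ K, ∃ a : ℕ, s ^ 2 ^ a = 1) : ∀ s ∈ K.map f, ∃ a : ℕ, s ^ 2 ^ a = 1 := by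
  rintro _ ⟨k, hk, rfl⟩
  obtain ⟨a, ha⟩ := hK k hk
  exact ⟨a, by rw [← map_pow, ha, map_one]⟩

theorem noStrClosed_wr [Fintype F] (hF : Fintype.card F = q ^ 2) (h2 : (2 : F) ≠ 0) (ζ : Fˣ)
    (hζ : ζ ^ (q + 1) = 1)
    (hP : ∀ s ∈ Subgroup.closure {dgU bar hbar ζ 1 hζ (one_pow _), dgU bar hbar 1 ζ (one_pow _) hζ, swU bar hbar},
      ∃ a : ℕ, s ^ 2 ^ a = 1) :
    NoStrClosed ((Subgroup.closure {dgU bar hbar ζ 1 hζ (one_pow _), dgU bar hbar 1 ζ (one_pow _) hζ,
      swU bar hbar}).map (beta bar hbar)) := by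
  set x := dgU bar hbar ζ 1 hζ (one_pow _) with hx
  set y := dgU bar hbar 1 ζ (one_pow _) hζ with hy
  set z := swU bar hbar with hz
  set H := Subgroup.closure {x, y, z} with hH
  intro T hTS hcl
  by_cases hT1 : T = ⊥
  · left; exact hT1
  right
  apply le_antisymm hTS
  have hxH : x ∈ H := Subgroup.subset_closure (by simp)
  have hyH : y ∈ H := Subgroup.subset_closure (by simp)
  have hzH : z ∈ H := Subgroup.subset_closure (by simp)
  have hS : ∀ s ∈ H.map (beta bar hbar), ∃ a : ℕ, s ^ 2 ^ a = 1 := pow_two_pow_map _ H hP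
  have hinv : ∀ s ∈ H.map (beta bar hbar), s * s = 1 → s ∈ T := fun s hs hs2 =>
    mem_of_involution _ T hTS hS hT1 hcl (t0 bar hbar)
      (fun x hx1 hx2 => exists_conj_t0 hF bar hbar h2 x hx1 hx2) hs hs2
  -- the element `E = diag(ζ, ζ⁻¹)`
  have hζi : ζ⁻¹ ^ (q + 1) = 1 := by rw [inv_pow, hζ, inv_one]
  set E := dgU bar hbar ζ ζ⁻¹ hζ hζi with hE
  have hExy : E = x * y⁻¹ := by
    rw [eq_mul_inv_iff_mul_eq]
    apply Subtype.ext
    rw [Subgroup.coe_mul, hE, hy, hx, dgU_val, dgU_val, dgU_val, dg_mul, mul_one, inv_mul_cancel]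
  have hEH : E ∈ H := by rw [hExy]; exact H.mul_mem hxH (H.inv_mem hyH)
  have hzz : z * z = 1 := by
    apply Subtype.ext
    rw [Subgroup.coe_mul, hz, swU_val, sw_mul_sw]
    rfl
  have hEz : (E * z) * (E * z) = 1 := by
    apply Subtype.ext
    rw [Subgroup.coe_mul, Subgroup.coe_mul, hE, hz, dgU_val, swU_val]
    have : dg ζ ζ⁻¹ * sw * (dg ζ ζ⁻¹ * sw) = dg ζ ζ⁻¹ * (sw * dg ζ ζ⁻¹ * sw⁻¹) := by
      rw [sw_inv]; group
    rw [this, sw_conj, dg_mul, mul_inv_cancel, inv_mul_cancel, dg_one]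
    rfl
  have hbz : beta bar hbar z ∈ T := by
    apply hinv _ (Subgroup.mem_map_of_mem _ hzH)
    rw [← map_mul, hzz, map_one]
  have hbEz : beta bar hbar (E * z) ∈ T := by
    apply hinv _ (Subgroup.mem_map_of_mem _ (H.mul_mem hEH hzH))
    rw [← map_mul, hEz, map_one]
  have hbE : beta bar hbar E ∈ T := by
    have : beta bar hbar E = beta bar hbar (E * z) * (beta bar hbar z)⁻¹ := by
      rw [map_mul, mul_inv_cancel_right]
    rw [this]
    exact T.mul_mem hbEz (T.inv_mem hbz)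
  -- conjugating by the cyclic permutation matrix
  have c1 : piU bar hbar * beta bar hbar E = beta bar hbar y * piU bar hbar := by
    apply su_ext
    rw [su_mul_val, su_mul_val, piU_val, beta_val, beta_val, hE, hy, dgU_val, dgU_val, dg_val, dg_val]
    ext a b
    fin_cases a <;> fin_cases b <;>
      simp [piM, blk, Matrix.mul_apply, Fin.sum_univ_three, Matrix.det_fin_two]
  have c2 : beta bar hbar E * piU bar hbar = piU bar hbar * (beta bar hbar x)⁻¹ := by
    rw [← map_inv]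
    have hxi : x⁻¹ = dgU bar hbar ζ⁻¹ 1 hζi (one_pow _) := by
      rw [inv_eq_iff_mul_eq_one]
      apply Subtype.ext
      rw [Subgroup.coe_mul, hx, dgU_val, dgU_val, dg_mul, mul_inv_cancel, mul_one, dg_one]
      rfl
    rw [hxi]
    apply su_ext
    rw [su_mul_val, su_mul_val, piU_val, beta_val, beta_val, hE, dgU_val, dgU_val, dg_val, dg_val]
    ext a b
    fin_cases a <;> fin_cases b <;>
      simp [piM, blk, Matrix.mul_apply, Fin.sum_univ_three, Matrix.det_fin_two]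
  have hby : beta bar hbar y ∈ T := by
    have e : beta bar hbar y = piU bar hbar * beta bar hbar E * (piU bar hbar)⁻¹ := by
      rw [c1, mul_inv_cancel_right]
    rw [e]
    apply hcl _ hbE
    rw [← e]
    exact Subgroup.mem_map_of_mem _ hyH
  have hbx : beta bar hbar x ∈ T := by
    have e : (beta bar hbar x)⁻¹ = (piU bar hbar)⁻¹ * beta bar hbar E * ((piU bar hbar)⁻¹)⁻¹ := by
      rw [inv_inv, mul_assoc, c2, inv_mul_cancel_left]
    have : (beta bar hbar x)⁻¹ ∈ T := by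
      rw [e]
      apply hcl _ hbE
      rw [← e]
      exact Subgroup.inv_mem _ (Subgroup.mem_map_of_mem _ hxH)
    simpa using T.inv_mem this
  rw [Subgroup.map_le_iff_le_comap, hH, Subgroup.closure_le]
  intro w hw
  simp only [Set.mem_insert_iff, Set.mem_singleton_iff] at hw
  rcases hw with rfl | rfl | rfl
  · exact hbx
  · exact hby
  · exact hbz

end Cfsg.Agent.Helper41.SU3F
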