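import Mathlib
import Cfsg.Agent.Helper84.SU3FDefs
import Cfsg.Agent.Helper41.SU3FNscWr

/-!
Piece (NSC-QD) for helper84's S5319: the quasidihedral Sylow `2`-subgroup of `SU₃(q)`, `q ≡ 1 mod 4`, has no proper
nontrivial strongly closed subgroup.
-/

set_option autoImplicit false

namespace Cfsg.Agent.Helper41.SU3F

open Cfsg Cfsg.Agent.Helper37.GL2S2 Cfsg.Agent.Helper37.GU2S2 Cfsg.Agent.Helper37.SU3Inv Cfsg.Agent.Helper85
  Cfsg.Agent.Helper84.SU3F Cfsg.Agent.Helper37.PSL3Inv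

variable {F : Type*} [Field F] {q : ℕ} (bar : F →+* F) (hbar : ∀ x, bar x = x ^ q)

theorem noStrClosed_qd [Fintype F] (hF : Fintype.card F = q ^ 2) (h2 : (2 : F) ≠ 0) (hq : Odd q) (n : ℕ)
    (hn : 1 ≤ n) (l : Fˣ) (i : F) (hi : i * i = -1) (hbi : bar i = i) (hl : (l ^ q) ^ q = l)
    (hil : (l : F) ^ 2 ^ n = i) (hlq : (l : F) ^ q = -(l : F))
    (hP : ∀ s ∈ Subgroup.closure {tqU bar hbar i hi h2 hbi l hl, dm1U bar hbar hq}, ∃ a : ℕ, s ^ 2 ^ a = 1)
    (hc4 : ∃ g : ↥(Cfsg.GU 2 F q), g * (tqU bar hbar i hi h2 hbi l hl) ^ 2 ^ n * g⁻¹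
      = tqU bar hbar i hi h2 hbi l hl * dm1U bar hbar hq) :
    NoStrClosed ((Subgroup.closure {tqU bar hbar i hi h2 hbi l hl, dm1U bar hbar hq}).map (beta bar hbar)) := by
  set x := tqU bar hbar i hi h2 hbi l hl with hx
  set y := dm1U bar hbar hq with hy
  set H := Subgroup.closure {x, y} with hH
  intro T hTS hcl
  by_cases hT1 : T = ⊥
  · left; exact hT1
  right
  apply le_antisymm hTS
  have hxH : x ∈ H := Subgroup.subset_closure (by simp)
  have hyH : y ∈ H := Subgroup.subset_closure (by simp)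
  have hS : ∀ s ∈ H.map (beta bar hbar), ∃ a : ℕ, s ^ 2 ^ a = 1 := pow_two_pow_map _ H hP
  have hinv : ∀ s ∈ H.map (beta bar hbar), s * s = 1 → s ∈ T := fun s hs hs2 =>
    mem_of_involution _ T hTS hS hT1 hcl (t0 bar hbar)
      (fun x hx1 hx2 => exists_conj_t0 hF bar hbar h2 x hx1 hx2) hs hs2
  -- relations
  have hyy : y * y = 1 := by
    apply Subtype.ext
    rw [Subgroup.coe_mul, hy, dm1U_val, dm1, dg_mul, mul_one, neg_mul_neg, mul_one, dg_one]
    rfl
  have hyinv : y⁻¹ = y := inv_eq_of_mul_eq_one_right hyy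
  have hconj : y * x * y⁻¹ = (x ^ q)⁻¹ := by
    apply Subtype.ext
    rw [Subgroup.coe_mul, Subgroup.coe_mul, Subgroup.coe_inv, Subgroup.coe_inv, Subgroup.coe_pow, hy, hx,
      dm1U_val, tqU_val]
    exact dm1_conj_tq i hi h2 q l hl
  have hl2 : l ^ (2 * q) = l ^ 2 := by
    apply Units.ext
    rw [Units.val_pow_eq_pow_val, Units.val_pow_eq_pow_val, mul_comm, pow_mul, hlq]
    ring
  have hxq : x ^ (2 * q) = x ^ 2 := by
    apply Subtype.ext
    rw [Subgroup.coe_pow, Subgroup.coe_pow, hx, tqU_val, ← map_pow, ← map_pow, hl2]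
  have hconj2 : y * x ^ 2 * y⁻¹ = (x ^ 2)⁻¹ := by
    rw [← conj_pow, hconj, inv_pow, ← pow_mul, mul_comm q 2, hxq]
  have hinvol : (x ^ 2 * y) * (x ^ 2 * y) = 1 := by
    have : (x ^ 2 * y) * (x ^ 2 * y) = x ^ 2 * (y * x ^ 2 * y⁻¹) * (y * y) := by
      group
    rw [this, hconj2, hyy, mul_inv_cancel, one_mul]
  have hby : beta bar hbar y ∈ T := by
    apply hinv _ (Subgroup.mem_map_of_mem _ hyH)
    rw [← map_mul, hyy, map_one]
  have hbx2y : beta bar hbar (x ^ 2 * y) ∈ T := by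
    apply hinv _ (Subgroup.mem_map_of_mem _ (H.mul_mem (H.pow_mem hxH 2) hyH))
    rw [← map_mul, hinvol, map_one]
  have hbx2 : beta bar hbar (x ^ 2) ∈ T := by
    have : beta bar hbar (x ^ 2) = beta bar hbar (x ^ 2 * y) * (beta bar hbar y)⁻¹ := by
      rw [map_mul, mul_inv_cancel_right]
    rw [this]
    exact T.mul_mem hbx2y (T.inv_mem hby)
  have hbxn : beta bar hbar (x ^ 2 ^ n) ∈ T := by
    obtain ⟨m, rfl⟩ : ∃ m, n = m + 1 := ⟨n - 1, by omega⟩
    rw [pow_succ', pow_mul, map_pow]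
    exact T.pow_mem hbx2 _
  obtain ⟨g, hg⟩ := hc4
  have hbxy : beta bar hbar (x * y) ∈ T := by
    have e : beta bar hbar (x * y) = beta bar hbar g * beta bar hbar (x ^ 2 ^ n) * (beta bar hbar g)⁻¹ := by
      rw [← hg, map_mul, map_mul, map_inv]
    rw [e]
    apply hcl _ hbxn
    rw [← e]
    exact Subgroup.mem_map_of_mem _ (H.mul_mem hxH hyH)
  have hbx : beta bar hbar x ∈ T := by
    have : beta bar hbar x = beta bar hbar (x * y) * (beta bar hbar y)⁻¹ := by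
      rw [map_mul, mul_inv_cancel_right]
    rw [this]
    exact T.mul_mem hbxy (T.inv_mem hby)
  rw [Subgroup.map_le_iff_le_comap, hH, Subgroup.closure_le]
  intro w hw
  simp only [Set.mem_insert_iff, Set.mem_singleton_iff] at hw
  rcases hw with rfl | rfl
  · exact hbx
  · exact hby

end Cfsg.Agent.Helper41.SU3F
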