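import Mathlib
import Cfsg.Agent.Helper84.SU3P.Defs
import Cfsg.Agent.Helper81.RU3FGSF

/-!
helper41 for helper84 (S2289, board #12729): piece (FLD1) `theta_surj` of `tools/helper84_su3p/Skel.lean.txt`.
-/

set_option autoImplicit false

namespace Cfsg.Agent.Helper41.SU3P

open Matrix Polynomial

section E

variable {K : Type*} [Field K] [Fintype K] (bar : K →+* K) (hb : ∀ x, bar (bar x) = x)

/-- the order of a generator of `Kˣ` -/
theorem FLD1_orderOf {ζ : K} (hζ : ∀ x : K, x ≠ 0 → ∃ n : ℕ, ζ ^ n = x) (hcard : 2 < Fintype.card K) :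
    ζ ≠ 0 ∧ orderOf ζ = Fintype.card K - 1 := by
  classical
  have hζ0 : ζ ≠ 0 := by
    rintro rfl
    -- an element different from `0` and `1`
    have hex : ∃ x : K, x ≠ 0 ∧ x ≠ 1 := by
      by_contra hcon
      push Not at hcon
      have hsub : (Finset.univ : Finset K) ⊆ {0, 1} := by
        intro x _
        by_cases hx : x = 0
        · simp [hx]
        · simp [hcon x hx]
      have := Finset.card_le_card hsub
      rw [Finset.card_univ] at this
      have h2 : ({0, 1} : Finset K).card ≤ 2 := Finset.card_le_two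
      omega
    obtain ⟨x, hx0, hx1⟩ := hex
    obtain ⟨n, hn⟩ := hζ x hx0
    rcases Nat.eq_zero_or_pos n with h | h
    · rw [h, pow_zero] at hn
      exact hx1 hn.symm
    · rw [zero_pow (by omega)] at hn
      exact hx0 hn.symm
  refine ⟨hζ0, ?_⟩
  have hall : ∀ x : Kˣ, x ∈ Subgroup.zpowers (Units.mk0 ζ hζ0) := by
    intro x
    obtain ⟨n, hn⟩ := hζ (x : K) x.ne_zero
    refine ⟨(n : ℤ), ?_⟩
    apply Units.ext
    simp [hn]
  have h1 := orderOf_eq_card_of_forall_mem_zpowers hall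
  rw [Nat.card_eq_fintype_card, Fintype.card_units] at h1
  rw [← h1, ← orderOf_units, Units.val_mk0]

/-- (FLD1) `θ = bar ζ ^ 2 / ζ` generates `K` over the prime field -/
theorem theta_surj {p : ℕ} [Fact p.Prime] [Algebra (ZMod p) K] {q : ℕ}
    (hK : Fintype.card K = q ^ 2) (hq : ∀ x, bar x = x ^ q) (hq2 : q ≠ 2)
    {ζ : K} (hζ : ∀ x : K, x ≠ 0 → ∃ n : ℕ, ζ ^ n = x) :
    (∀ a : K, ∃ f : (ZMod p)[X], aeval (bar ζ ^ 2 / ζ) f = a) ∧ bar (bar ζ ^ 2 / ζ) ≠ bar ζ ^ 2 / ζ := by
  classical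
  have hq2' : 2 ≤ q := by
    have h1 : 1 < Fintype.card K := Fintype.one_lt_card
    rw [hK] at h1
    by_contra hcon
    have : q ≤ 1 := by omega
    have : q ^ 2 ≤ 1 := by
      calc q ^ 2 ≤ 1 ^ 2 := Nat.pow_le_pow_left this 2
        _ = 1 := one_pow 2
    omega
  have hq3 : 3 ≤ q := by omega
  have hcard2 : 2 < Fintype.card K := by rw [hK]; nlinarith
  obtain ⟨hζ0, hord⟩ := FLD1_orderOf hζ hcard2
  rw [hK] at hord
  set θ : K := bar ζ ^ 2 / ζ with hθ
  have hθpow : θ = ζ ^ (2 * q - 1) := by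
    rw [hθ, hq, ← pow_mul, div_eq_iff hζ0, ← pow_succ]
    congr 1
    omega
  have hθ0 : θ ≠ 0 := by
    rw [hθpow]
    exact pow_ne_zero _ hζ0
  -- the key estimate
  have key : ∀ s k : ℕ, Fintype.card K = s ^ k → 2 ≤ k → θ ^ (s - 1) ≠ 1 := by
    intro s k hsk hk hpow
    rw [hK] at hsk
    have hs1 : 1 ≤ s := by
      rcases Nat.eq_zero_or_pos s with h | h
      · rw [h, zero_pow (by omega)] at hsk
        have : 0 < q ^ 2 := by positivity
        omega
      · exact h
    have hsq : s ≤ q := by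
      have h1 : s ^ 2 ≤ s ^ k := Nat.pow_le_pow_right hs1 hk
      rw [← hsk] at h1
      exact (Nat.pow_le_pow_iff_left (by norm_num)).mp h1
    have hs2 : 2 ≤ s := by
      by_contra hcon
      have : s = 1 := by omega
      rw [this, one_pow] at hsk
      nlinarith
    rw [hθpow, ← pow_mul, ← orderOf_dvd_iff_pow_eq_one, hord] at hpow
    -- `(q² - 1) ∣ 3 (s - 1)`
    have h4 : (2 * q + 1) * ((2 * q - 1) * (s - 1)) = 4 * (q ^ 2 - 1) * (s - 1) + 3 * (s - 1) := by
      have e1 : (2 * q + 1) * (2 * q - 1) = 4 * (q ^ 2 - 1) + 3 := by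
        obtain ⟨m, rfl⟩ : ∃ m, q = m + 1 := ⟨q - 1, by omega⟩
        have : 2 * (m + 1) - 1 = 2 * m + 1 := by omega
        rw [this]
        have : (m + 1) ^ 2 - 1 = m ^ 2 + 2 * m := by
          have : (m + 1) ^ 2 = m ^ 2 + 2 * m + 1 := by ring
          omega
        rw [this]
        ring
      rw [← mul_assoc, e1, add_mul]
    have h5 : (q ^ 2 - 1) ∣ (2 * q + 1) * ((2 * q - 1) * (s - 1)) := Dvd.dvd.mul_left hpow _
    rw [h4] at h5
    have h6 : (q ^ 2 - 1) ∣ 4 * (q ^ 2 - 1) * (s - 1) := ⟨4 * (s - 1), by ring⟩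
    have h7 : (q ^ 2 - 1) ∣ 3 * (s - 1) := (Nat.dvd_add_right h6).mp h5
    have h8 : q ^ 2 - 1 ≤ 3 * (s - 1) := Nat.le_of_dvd (by omega) h7
    have h9 : 3 * (s - 1) ≤ 3 * (q - 1) := by omega
    have h10 : 3 * q ≤ q ^ 2 := by nlinarith
    omega
  constructor
  · -- the subfield generated by `θ` is everything
    have htop : (IntermediateField.adjoin (ZMod p) {θ}).toSubfield = ⊤ :=
      Cfsg.Agent.Helper81.RU3.subfield_eq_top_of_pow_ne θ hθ0 key _
        (IntermediateField.mem_adjoin_simple_self (ZMod p) θ)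
    have hint : IsIntegral (ZMod p) θ := Algebra.IsIntegral.isIntegral θ
    have hsub : (IntermediateField.adjoin (ZMod p) {θ}).toSubalgebra = Algebra.adjoin (ZMod p) {θ} :=
      IntermediateField.adjoin_simple_toSubalgebra_of_isAlgebraic hint.isAlgebraic
    intro a
    have ha : a ∈ (IntermediateField.adjoin (ZMod p) {θ}).toSubfield := by rw [htop]; trivial
    have ha' : a ∈ Algebra.adjoin (ZMod p) {θ} := by
      rw [← hsub]
      exact ha
    rw [Algebra.adjoin_singleton_eq_range_aeval] at ha'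
    exact ha'
  · intro hbar
    rw [hq] at hbar
    apply key q 2 hK le_rfl
    have h1 : θ ^ (q - 1) * θ = 1 * θ := by
      rw [← pow_succ, one_mul]
      have : q - 1 + 1 = q := by omega
      rw [this]
      exact hbar
    exact mul_right_cancel₀ hθ0 h1

end E

end Cfsg.Agent.Helper41.SU3P
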