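import Cfsg.Agent.Helper8.Sims3Defs

/-!
helper41 for helper8 (S3385 + S3685, board #12989): leaf (T3c) `chain_of` of `tools/helper8_sims3/Skel.lean.txt`.
-/

set_option autoImplicit false

namespace Cfsg.Agent.Helper41.Sims3

open Cfsg.Agent.Helper8.Sims3 Pointwise

variable {G : Type*} [Group G]

theorem T3c_E_anti (P : Subgroup G) (g : G) (j : ℕ) : E P g 0 (j + 1) ≤ E P g 0 j := by
  intro x hx
  rw [mem_E] at hx ⊢
  intro k hk0 hkj
  apply hx k hk0
  push_cast
  omega

theorem T3c_E_one (P : Subgroup G) (g : G) : E P g 0 1 = P ⊓ MulAut.conj g • P := by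
  ext x
  rw [mem_E, Subgroup.mem_inf]
  constructor
  · intro h
    constructor
    · have := h 0 le_rfl (by norm_num)
      simpa using this
    · have := h 1 (by norm_num) (by norm_num)
      simpa using this
  · rintro ⟨h0, h1⟩ k hk0 hk1
    have hk : k = 0 ∨ k = 1 := by
      have : k ≤ 1 := by simpa using hk1
      omega
    rcases hk with rfl | rfl
    · simpa using h0
    · simpa using h1

/-- (T3c) regularity: `|E P g 0 j| = 2^(s-j)` for `1 ≤ j ≤ s`; `s` = first `j ≥ 1` with
`E P g 0 (j+1) = E P g 0 j` (exists: a strictly decreasing chain in a finite group). -/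
theorem chain_of [Finite G] {P : Subgroup G} {g : G} (h : Setup P g)
    (h2 : IsPGroup 2 ↥(P ⊓ MulAut.conj g • P))
    (hne : MulAut.conj g • (P ⊓ MulAut.conj g • P) ≠ P ⊓ MulAut.conj g • P)
    (hstep : ∀ j, 1 ≤ j → Nat.card ↥(E P g 0 j) ≤ 2 * Nat.card ↥(E P g 0 (j + 1)))
    (hstable : ∀ j, 1 ≤ j → E P g 0 (j + 1) = E P g 0 j →
      (∀ i, 1 ≤ i → i < j → E P g 0 (i + 1) ≠ E P g 0 i) → E P g 0 j = ⊥) :
    ∃ s : ℕ, 2 ≤ s ∧ ∀ j, 1 ≤ j → j ≤ s → Nat.card ↥(E P g 0 j) = 2 ^ (s - j) := by
  classical
  -- strict decrease of the cardinality at a non-stable step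
  have hlt : ∀ j, E P g 0 (j + 1) ≠ E P g 0 j →
      Nat.card ↥(E P g 0 (j + 1)) < Nat.card ↥(E P g 0 j) := by
    intro j hj
    by_contra hcon
    push Not at hcon
    exact hj (Subgroup.eq_of_le_of_card_ge (T3c_E_anti P g j) hcon)
  -- the chain stabilises somewhere
  have hex : ∃ j, 1 ≤ j ∧ E P g 0 (j + 1) = E P g 0 j := by
    by_contra hcon
    push Not at hcon
    have hdec : ∀ n : ℕ, Nat.card ↥(E P g 0 (n + 1)) + n ≤ Nat.card ↥(E P g 0 1) := by
      intro n
      induction n with
      | zero => simp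
      | succ n ih =>
        have := hlt (n + 1) (hcon (n + 1) (by omega))
        omega
    have := hdec (Nat.card ↥(E P g 0 1) + 1)
    omega
  -- the first such index
  let s := Nat.find hex
  have hs1 : 1 ≤ s := (Nat.find_spec hex).1
  have hsstab : E P g 0 (s + 1) = E P g 0 s := (Nat.find_spec hex).2
  have hmin : ∀ i, 1 ≤ i → i < s → E P g 0 (i + 1) ≠ E P g 0 i := by
    intro i hi his heq
    exact Nat.find_min hex his ⟨hi, heq⟩
  have hbot : E P g 0 s = ⊥ := hstable s hs1 hsstab hmin
  -- `s ≠ 1`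
  have hs2 : 2 ≤ s := by
    by_contra hcon
    have hs : s = 1 := by omega
    rw [hs, T3c_E_one] at hbot
    apply hne
    rw [hbot]
    exact Subgroup.smul_bot _
  refine ⟨s, hs2, ?_⟩
  -- downward induction
  have key : ∀ d : ℕ, d < s → Nat.card ↥(E P g 0 (s - d)) = 2 ^ d := by
    intro d
    induction d with
    | zero =>
      intro _
      rw [Nat.sub_zero, hbot, pow_zero]
      exact Subgroup.card_bot
    | succ d ih =>
      intro hd
      have ih' := ih (by omega)
      have hidx : s - (d + 1) + 1 = s - d := by omega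
      have hi1 : 1 ≤ s - (d + 1) := by omega
      have hi2 : s - (d + 1) < s := by omega
      have hneq := hmin (s - (d + 1)) hi1 hi2
      have h1 := hlt _ hneq
      have h3 := hstep (s - (d + 1)) hi1
      have h4 : Nat.card ↥(E P g 0 (s - (d + 1) + 1)) ∣ Nat.card ↥(E P g 0 (s - (d + 1))) :=
        Subgroup.card_dvd_of_le (T3c_E_anti P g _)
      rw [hidx] at h1 h3 h4
      rw [ih'] at h1 h3 h4
      obtain ⟨c, hc⟩ := h4
      rw [hc] at h1 h3 ⊢
      have hpos : 0 < 2 ^ d := by positivity
      have hc2 : c = 2 := by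
        have hc_ge : 2 ≤ c := by
          by_contra hcc
          have : c ≤ 1 := by omega
          have : 2 ^ d * c ≤ 2 ^ d * 1 := Nat.mul_le_mul_left _ this
          omega
        have hc_le : c ≤ 2 := by
          by_contra hcc
          have : 3 ≤ c := by omega
          have : 2 ^ d * 3 ≤ 2 ^ d * c := Nat.mul_le_mul_left _ this
          omega
        omega
      rw [hc2, pow_succ]
  intro j hj1 hjs
  have := key (s - j) (by omega)
  have hsub : s - (s - j) = j := by omega
  rw [hsub] at this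
  exact this

end Cfsg.Agent.Helper41.Sims3
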