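import Mathlib

set_option autoImplicit false
set_option linter.style.haveILetI false

/-!
# Solvability of two-generator subgroups: generic lemmas
-/

namespace Cfsg.Agent.Helper41.Sol

section Generic

variable {G : Type*} [Group G]

/-- commuting generators -/
theorem isSolvable_closure_of_commute {x y : G} (h : x * y = y * x) :
    Group.IsSolvable ↥(Subgroup.closure ({x, y} : Set G)) := by
  have hc : IsMulCommutative ↥(Subgroup.closure ({x, y} : Set G)) :=
    Subgroup.isMulCommutative_closure (by
      intro a ha b hb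
      simp only [Set.mem_insert_iff, Set.mem_singleton_iff] at ha hb
      rcases ha with rfl | rfl <;> rcases hb with rfl | rfl <;>
        first | rfl | exact h | exact h.symm)
  exact Group.isSolvable_of_comm (fun a b => hc.is_comm.comm a b)

/-- a subgroup below a solvable subgroup is solvable -/
theorem isSolvable_of_le {H K : Subgroup G} (hle : H ≤ K) [hK : Group.IsSolvable ↥K] :
    Group.IsSolvable ↥H :=
  Group.isSolvable_of_isSolvable_injective (f := Subgroup.inclusion hle)
    (Subgroup.inclusion_injective hle)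

/-- `y` inverts `x`: the subgroup generated is solvable -/
theorem isSolvable_closure_of_invert {x y : G} (h : y * x * y⁻¹ = x⁻¹) :
    Group.IsSolvable ↥(Subgroup.closure ({x, y} : Set G)) := by
  set K := Subgroup.closure ({x, y} : Set G) with hK
  set N := Subgroup.zpowers x with hN
  have hxK : x ∈ K := Subgroup.subset_closure (by simp)
  have hyK : y ∈ K := Subgroup.subset_closure (by simp)
  -- `K` normalizes `N`
  have hyN : y ∈ Subgroup.normalizer (N : Set G) := by
    rw [Subgroup.mem_normalizer_iff]
    have key : ∀ z : G, z ∈ N → y * z * y⁻¹ ∈ N := by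
      intro z hz
      obtain ⟨i, rfl⟩ := Subgroup.mem_zpowers_iff.1 hz
      have : y * x ^ i * y⁻¹ = (x⁻¹) ^ i := by
        have h1 := map_zpow (MulAut.conj y) x i
        rw [MulAut.conj_apply, MulAut.conj_apply, h] at h1
        exact h1
      rw [this, inv_zpow]
      exact Subgroup.inv_mem _ (Subgroup.zpow_mem_zpowers x i)
    have key' : ∀ z : G, z ∈ N → y⁻¹ * z * y ∈ N := by
      intro z hz
      obtain ⟨i, rfl⟩ := Subgroup.mem_zpowers_iff.1 hz
      have h' : y⁻¹ * x * y = x⁻¹ := by
        have h2 : y * x⁻¹ * y⁻¹ = x := by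
          have : y * x⁻¹ * y⁻¹ = (y * x * y⁻¹)⁻¹ := by group
          rw [this, h, inv_inv]
        calc y⁻¹ * x * y = y⁻¹ * (y * x⁻¹ * y⁻¹) * y := by rw [h2]
          _ = x⁻¹ := by group
      have : y⁻¹ * x ^ i * y = (x⁻¹) ^ i := by
        have h1 := map_zpow (MulAut.conj y⁻¹) x i
        rw [MulAut.conj_apply, MulAut.conj_apply, inv_inv, h'] at h1
        exact h1
      rw [this, inv_zpow]
      exact Subgroup.inv_mem _ (Subgroup.zpow_mem_zpowers x i)
    intro z
    constructor
    · exact key z
    · intro hz
      have := key' _ hz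
      have e : y⁻¹ * (y * z * y⁻¹) * y = z := by group
      rwa [e] at this
  have hxN : x ∈ Subgroup.normalizer (N : Set G) :=
    Subgroup.le_normalizer (Subgroup.mem_zpowers x)
  have hKN : K ≤ Subgroup.normalizer (N : Set G) := by
    rw [hK, Subgroup.closure_le]
    intro z hz
    simp only [Set.mem_insert_iff, Set.mem_singleton_iff] at hz
    rcases hz with rfl | rfl
    · exact hxN
    · exact hyN
  set N' := N.subgroupOf K with hN'
  haveI : N'.Normal := by
    constructor
    intro n hn g
    rw [hN', Subgroup.mem_subgroupOf] at hn ⊢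
    have := (Subgroup.mem_normalizer_iff.1 (hKN g.2) n.1).1 hn
    simpa using this
  -- the quotient is cyclic, generated by `y`
  have hgen : ∀ k : K, ∃ i : ℤ, (QuotientGroup.mk' N') k = (QuotientGroup.mk' N' ⟨y, hyK⟩) ^ i := by
    rintro ⟨k, hk⟩
    induction hk using Subgroup.closure_induction with
    | mem z hz =>
      simp only [Set.mem_insert_iff, Set.mem_singleton_iff] at hz
      rcases hz with rfl | rfl
      · refine ⟨0, ?_⟩
        rw [zpow_zero]
        apply (QuotientGroup.eq_one_iff _).2
        rw [hN', Subgroup.mem_subgroupOf]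
        exact Subgroup.mem_zpowers _
      · exact ⟨1, by rw [zpow_one]⟩
    | one =>
      exact ⟨0, by rw [zpow_zero]; exact map_one _⟩
    | mul a b ha hb iha ihb =>
      obtain ⟨i, hi⟩ := iha
      obtain ⟨j, hj⟩ := ihb
      refine ⟨i + j, ?_⟩
      have : (⟨a * b, Subgroup.mul_mem _ ha hb⟩ : K) = ⟨a, ha⟩ * ⟨b, hb⟩ := rfl
      rw [this, map_mul, hi, hj, zpow_add]
    | inv a ha iha =>
      obtain ⟨i, hi⟩ := iha
      refine ⟨-i, ?_⟩
      have : (⟨a⁻¹, Subgroup.inv_mem _ ha⟩ : K) = (⟨a, ha⟩ : K)⁻¹ := rfl
      rw [this, map_inv, hi, zpow_neg]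
  haveI : Group.IsSolvable (K ⧸ N') := by
    apply Group.isSolvable_of_comm
    intro a b
    obtain ⟨a, rfl⟩ := QuotientGroup.mk'_surjective N' a
    obtain ⟨b, rfl⟩ := QuotientGroup.mk'_surjective N' b
    obtain ⟨i, hi⟩ := hgen a
    obtain ⟨j, hj⟩ := hgen b
    rw [hi, hj, ← zpow_add, ← zpow_add, add_comm]
  haveI : Group.IsSolvable N' := by
    apply Group.isSolvable_of_comm
    rintro ⟨a, ha⟩ ⟨b, hb⟩
    rw [hN', Subgroup.mem_subgroupOf] at ha hb
    obtain ⟨i, hi⟩ := Subgroup.mem_zpowers_iff.1 ha
    obtain ⟨j, hj⟩ := Subgroup.mem_zpowers_iff.1 hb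
    apply Subtype.ext
    apply Subtype.ext
    show (a : G) * (b : G) = (b : G) * (a : G)
    rw [← hi, ← hj, ← zpow_add, ← zpow_add, add_comm]
  exact Group.isSolvable_of_ker_le_range N'.subtype (QuotientGroup.mk' N')
    (by rw [QuotientGroup.ker_mk', Subgroup.range_subtype])

/-- two involutions generate a solvable group -/
theorem isSolvable_closure_of_involutions {x y : G} (hx : x * x = 1) (hy : y * y = 1) :
    Group.IsSolvable ↥(Subgroup.closure ({x, y} : Set G)) := by
  have hxi : x⁻¹ = x := inv_eq_of_mul_eq_one_right hx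
  have hyi : y⁻¹ = y := inv_eq_of_mul_eq_one_right hy
  have h : x * (x * y) * x⁻¹ = (x * y)⁻¹ := by
    rw [mul_inv_rev, hxi, hyi, ← mul_assoc, hx, one_mul]
  haveI := isSolvable_closure_of_invert h
  apply isSolvable_of_le (K := Subgroup.closure ({x * y, x} : Set G))
  rw [Subgroup.closure_le]
  intro z hz
  simp only [Set.mem_insert_iff, Set.mem_singleton_iff] at hz
  rcases hz with rfl | rfl
  · exact Subgroup.subset_closure (by simp)
  · have h1 : z = x⁻¹ * (x * z) := by group
    rw [h1]
    exact Subgroup.mul_mem _ (Subgroup.inv_mem _ (Subgroup.subset_closure (by simp)))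
      (Subgroup.subset_closure (by simp))

/-- `x` inverts `y` -/
theorem isSolvable_closure_of_invert' {x y : G} (h : x * y * x⁻¹ = y⁻¹) :
    Group.IsSolvable ↥(Subgroup.closure ({x, y} : Set G)) := by
  rw [Set.pair_comm]
  exact isSolvable_closure_of_invert h

/-- transport of the solubilizer along an isomorphism -/
theorem isSolvable_closure_map_iff {G' : Type*} [Group G'] (e : G ≃* G') (x y : G) :
    Group.IsSolvable ↥(Subgroup.closure ({e x, e y} : Set G')) ↔
      Group.IsSolvable ↥(Subgroup.closure ({x, y} : Set G)) := by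
  have hmap : Subgroup.closure ({e x, e y} : Set G') =
      (Subgroup.closure ({x, y} : Set G)).map e.toMonoidHom := by
    rw [MonoidHom.map_closure, Set.image_pair]
    rfl
  rw [hmap]
  let ε := (Subgroup.closure ({x, y} : Set G)).equivMapOfInjective e.toMonoidHom e.injective
  constructor
  · intro h
    exact Group.isSolvable_of_isSolvable_injective (f := ε.toMonoidHom) ε.injective
  · intro h
    exact Group.isSolvable_of_isSolvable_injective (f := ε.symm.toMonoidHom) ε.symm.injective

theorem card_sol_congr {G' : Type*} [Group G'] (e : G ≃* G') (x : G) :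
    Nat.card {y : G // Group.IsSolvable ↥(Subgroup.closure ({x, y} : Set G))} =
      Nat.card {y : G' // Group.IsSolvable ↥(Subgroup.closure ({e x, y} : Set G'))} := by
  apply Nat.card_congr
  exact Equiv.subtypeEquiv e.toEquiv (fun y => (isSolvable_closure_map_iff e x y).symm)

/-- groups of order six -/
theorem cases_of_card_six {H : Type*} [Group H] (h6 : Nat.card H = 6) (x y : H) :
    x * y = y * x ∨ y * x * y⁻¹ = x⁻¹ ∨ (x * x = 1 ∧ y * y = 1) ∨
      (x * x = 1 ∧ x * y * x⁻¹ = y⁻¹) := by
  haveI : Finite H := Nat.finite_of_card_ne_zero (by rw [h6]; norm_num)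
  have key : ∀ a b : H, orderOf a = 3 → b * a * b⁻¹ = a ∨ b * a * b⁻¹ = a⁻¹ := by
    intro a b ha
    have hcard : Nat.card (Subgroup.zpowers a) = 3 := by rw [Nat.card_zpowers, ha]
    have hidx : (Subgroup.zpowers a).index = 2 := by
      have := Subgroup.card_mul_index (Subgroup.zpowers a)
      rw [hcard, h6] at this
      omega
    haveI : (Subgroup.zpowers a).Normal := Subgroup.normal_of_index_eq_two hidx
    have hmem : b * a * b⁻¹ ∈ Subgroup.zpowers a :=
      Subgroup.Normal.conj_mem inferInstance a (Subgroup.mem_zpowers a) b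
    classical
    rw [mem_zpowers_iff_mem_range_orderOf, ha] at hmem
    simp only [Finset.mem_image, Finset.mem_range] at hmem
    obtain ⟨k, hk, hk'⟩ := hmem
    have ha3 : a ^ 3 = 1 := by rw [← ha]; exact pow_orderOf_eq_one a
    interval_cases k
    · exfalso
      rw [pow_zero] at hk'
      have : a = 1 := by
        have : b * a * b⁻¹ = 1 := hk'.symm
        have h2 : a = b⁻¹ * (b * a * b⁻¹) * b := by group
        rw [h2, this]; group
      rw [this, orderOf_one] at ha
      omega
    · left; rw [← hk', pow_one]
    · right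
      rw [← hk']
      apply eq_inv_of_mul_eq_one_left
      rw [← pow_succ, ha3]
  have hcyc : ∀ a : H, orderOf a = 6 → ∀ u v : H, u * v = v * u := by
    intro a ha u v
    haveI : IsCyclic H := isCyclic_of_orderOf_eq_card a (by rw [ha, h6])
    letI := IsCyclic.commGroup (α := H)
    exact mul_comm u v
  have hdiv : ∀ a : H, orderOf a = 1 ∨ orderOf a = 2 ∨ orderOf a = 3 ∨ orderOf a = 6 := by
    intro a
    have h := orderOf_dvd_natCard a
    rw [h6] at h
    have hle := Nat.le_of_dvd (by norm_num) h
    interval_cases (orderOf a) <;> simp_all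
  rcases hdiv x with hx | hx | hx | hx
  · left
    rw [orderOf_eq_one_iff] at hx
    rw [hx, one_mul, mul_one]
  · have hx2 : x * x = 1 := by rw [← pow_two, ← hx]; exact pow_orderOf_eq_one x
    rcases hdiv y with hy | hy | hy | hy
    · left
      rw [orderOf_eq_one_iff] at hy
      rw [hy, one_mul, mul_one]
    · right; right; left
      exact ⟨hx2, by rw [← pow_two, ← hy]; exact pow_orderOf_eq_one y⟩
    · rcases key y x hy with h | h
      · left
        have : x * y = (x * y * x⁻¹) * x := by group
        rw [this, h]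
      · right; right; right
        exact ⟨hx2, h⟩
    · left; exact hcyc y hy x y
  · rcases key x y hx with h | h
    · left
      have : y * x = (y * x * y⁻¹) * y := by group
      rw [this, h]
    · right; left; exact h
  · left; exact hcyc x hx x y

end Generic

end Cfsg.Agent.Helper41.Sol
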