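import Mathlib
import Cfsg.Agent.Helper41.SolGeneric

set_option autoImplicit false
set_option linter.style.haveILetI false

/-!
# Solvability of two-generator subgroups: the `A₄` relations
-/

namespace Cfsg.Agent.Helper41.Sol3

open Cfsg.Agent.Helper41.Sol

section Generic

variable {G : Type*} [Group G]

/-- `x` lies in a commutative subgroup normalized by `y`: the subgroup generated is solvable -/
theorem isSolvable_closure_of_normal_comm (N : Subgroup G)
    (hN : ∀ u ∈ N, ∀ v ∈ N, u * v = v * u) {x y : G} (hx : x ∈ N)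
    (hy : y ∈ Subgroup.normalizer (N : Set G)) :
    Group.IsSolvable ↥(Subgroup.closure ({x, y} : Set G)) := by
  set K := Subgroup.closure ({x, y} : Set G) with hK
  have hxK : x ∈ K := Subgroup.subset_closure (by simp)
  have hyK : y ∈ K := Subgroup.subset_closure (by simp)
  have hxN : x ∈ Subgroup.normalizer (N : Set G) := Subgroup.le_normalizer hx
  have hKN : K ≤ Subgroup.normalizer (N : Set G) := by
    rw [hK, Subgroup.closure_le]
    intro z hz
    simp only [Set.mem_insert_iff, Set.mem_singleton_iff] at hz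
    rcases hz with rfl | rfl
    · exact hxN
    · exact hy
  set N' := N.subgroupOf K with hN'
  haveI : N'.Normal := by
    constructor
    intro n hn g
    rw [hN', Subgroup.mem_subgroupOf] at hn ⊢
    have := (Subgroup.mem_normalizer_iff.1 (hKN g.2) n.1).1 hn
    simpa using this
  have hgen : ∀ k : K, ∃ i : ℤ, (QuotientGroup.mk' N') k = (QuotientGroup.mk' N' ⟨y, hyK⟩) ^ i := by
    rintro ⟨k, hk⟩
    induction hk using Subgroup.closure_induction with
    | mem z hz =>
      simp only [Set.mem_insert_iff, Set.mem_singleton_iff] at hz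
      rcases hz with rfl | rfl
      · refine ⟨0, ?_⟩
        rw [zpow_zero]
        apply (QuotientGroup.eq_one_iff _).2
        rw [hN', Subgroup.mem_subgroupOf]
        exact hx
      · exact ⟨1, by rw [zpow_one]⟩
    | one =>
      exact ⟨0, by rw [zpow_zero]; exact map_one _⟩
    | mul a b ha hb iha ihb =>
      obtain ⟨i, hi⟩ := iha
      obtain ⟨j, hj⟩ := ihb
      refine ⟨i + j, ?_⟩
      have : (⟨a * b, Subgroup.mul_mem _ ha hb⟩ : K) = ⟨a, ha⟩ * ⟨b, hb⟩ := rfl
      rw [this, map_mul, hi, hj, zpow_add]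
    | inv a ha iha =>
      obtain ⟨i, hi⟩ := iha
      refine ⟨-i, ?_⟩
      have : (⟨a⁻¹, Subgroup.inv_mem _ ha⟩ : K) = (⟨a, ha⟩ : K)⁻¹ := rfl
      rw [this, map_inv, hi, zpow_neg]
  haveI : Group.IsSolvable (K ⧸ N') := by
    apply Group.isSolvable_of_comm
    intro a b
    obtain ⟨a, rfl⟩ := QuotientGroup.mk'_surjective N' a
    obtain ⟨b, rfl⟩ := QuotientGroup.mk'_surjective N' b
    obtain ⟨i, hi⟩ := hgen a
    obtain ⟨j, hj⟩ := hgen b
    rw [hi, hj, ← zpow_add, ← zpow_add, add_comm]
  haveI : Group.IsSolvable N' := by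
    apply Group.isSolvable_of_comm
    rintro ⟨a, ha⟩ ⟨b, hb⟩
    rw [hN', Subgroup.mem_subgroupOf] at ha hb
    apply Subtype.ext
    apply Subtype.ext
    show (a : G) * (b : G) = (b : G) * (a : G)
    exact hN _ ha _ hb
  exact Group.isSolvable_of_ker_le_range N'.subtype (QuotientGroup.mk' N')
    (by rw [QuotientGroup.ker_mk', Subgroup.range_subtype])

/-- the relations of `A₄`: `a² = b³ = (ab)³ = 1` -/
theorem isSolvable_closure_of_A4rel {a b : G} (ha : a * a = 1) (hb : b ^ 3 = 1)
    (hab : (a * b) ^ 3 = 1) :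
    Group.IsSolvable ↥(Subgroup.closure ({a, b} : Set G)) := by
  have hai : a⁻¹ = a := inv_eq_of_mul_eq_one_right ha
  have hb2 : b * b = b⁻¹ := by
    apply eq_inv_of_mul_eq_one_left
    rw [← hb]; simp only [pow_succ, pow_zero, one_mul, mul_assoc]
  have hbi2 : b⁻¹ * b⁻¹ = b := by
    rw [← mul_inv_rev, hb2, inv_inv]
  set a₁ := b * a * b⁻¹ with ha₁
  set a₂ := b⁻¹ * a * b with ha₂
  have h11 : a₁ * a₁ = 1 := by
    rw [ha₁]
    calc b * a * b⁻¹ * (b * a * b⁻¹) = b * (a * a) * b⁻¹ := by group
      _ = 1 := by rw [ha]; group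
  have h22 : a₂ * a₂ = 1 := by
    rw [ha₂]
    calc b⁻¹ * a * b * (b⁻¹ * a * b) = b⁻¹ * (a * a) * b := by group
      _ = 1 := by rw [ha]; group
  have hprod : a * a₁ * a₂ = 1 := by
    rw [ha₁, ha₂]
    calc a * (b * a * b⁻¹) * (b⁻¹ * a * b) = a * b * a * (b⁻¹ * b⁻¹) * a * b := by group
      _ = a * b * a * b * a * b := by rw [hbi2]
      _ = (a * b) ^ 3 := by simp only [pow_succ, pow_zero, one_mul, mul_assoc]
      _ = 1 := hab
  have h01 : a * a₁ = a₂ := by
    have : a * a₁ = a₂⁻¹ := eq_inv_of_mul_eq_one_left hprod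
    rw [this]
    exact inv_eq_of_mul_eq_one_right h22
  have h1i : a₁⁻¹ = a₁ := inv_eq_of_mul_eq_one_right h11
  have h2i : a₂⁻¹ = a₂ := inv_eq_of_mul_eq_one_right h22
  have hc01 : a * a₁ = a₁ * a := by
    have h := h22
    rw [← h01] at h
    -- (a a₁)(a a₁) = 1
    calc a * a₁ = (a * a₁ * (a * a₁))⁻¹ * (a * a₁) := by rw [h, inv_one, one_mul]
      _ = (a * a₁)⁻¹ := by group
      _ = a₁⁻¹ * a⁻¹ := by group
      _ = a₁ * a := by rw [h1i, hai]
  have h12 : a₁ * a₂ = a := by
    rw [← h01, ← mul_assoc, ← hc01, mul_assoc, h11, mul_one]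
  have hc12 : a₁ * a₂ = a₂ * a₁ := by
    rw [h12, ← h01, mul_assoc, h11, mul_one]
  have hc02 : a * a₂ = a₂ * a := by
    rw [← h01, ← mul_assoc, ha, one_mul, hc01, mul_assoc, ha, mul_one]
  set V := Subgroup.closure ({a, a₁, a₂} : Set G) with hV
  have hVc : ∀ u ∈ V, ∀ v ∈ V, u * v = v * u := by
    have hc : IsMulCommutative ↥V :=
      Subgroup.isMulCommutative_closure (by
        intro u hu v hv
        simp only [Set.mem_insert_iff, Set.mem_singleton_iff] at hu hv
        rcases hu with hu | hu | hu <;> rcases hv with hv | hv | hv <;> rw [hu, hv]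
        · exact hc01
        · exact hc02
        · exact hc01.symm
        · exact hc12
        · exact hc02.symm
        · exact hc12.symm)
    intro u hu v hv
    exact congrArg Subtype.val (hc.is_comm.comm (⟨u, hu⟩ : V) ⟨v, hv⟩)
  have haV : a ∈ V := Subgroup.subset_closure (by simp)
  have hbV : b ∈ Subgroup.normalizer (V : Set G) := by
    have hmap : V.map (MulAut.conj b).toMonoidHom = V := by
      rw [hV, MonoidHom.map_closure]
      congr 1
      ext z
      simp only [Set.mem_image, Set.mem_insert_iff, Set.mem_singleton_iff, MulEquiv.coe_toMonoidHom,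
        MulAut.conj_apply]
      constructor
      · rintro ⟨w, (rfl | rfl | rfl), rfl⟩
        · right; left; rfl
        · right; right
          rw [ha₁, ha₂]
          calc b * (b * a * b⁻¹) * b⁻¹ = (b * b) * a * (b⁻¹ * b⁻¹) := by group
            _ = b⁻¹ * a * b := by rw [hb2, hbi2]
        · left
          rw [ha₂]; group
      · rintro (rfl | rfl | rfl)
        · refine ⟨a₂, Or.inr (Or.inr rfl), ?_⟩
          rw [ha₂]; group
        · exact ⟨a, Or.inl rfl, rfl⟩
        · refine ⟨a₁, Or.inr (Or.inl rfl), ?_⟩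
          rw [ha₁]
          calc b * (b * a * b⁻¹) * b⁻¹ = (b * b) * a * (b⁻¹ * b⁻¹) := by group
            _ = b⁻¹ * a * b := by rw [hb2, hbi2]
    rw [Subgroup.mem_normalizer_iff]
    intro h
    constructor
    · intro hh
      rw [← hmap]
      exact ⟨h, hh, rfl⟩
    · intro hh
      rw [← hmap] at hh
      obtain ⟨h', hh', he⟩ := hh
      simp only [MulEquiv.coe_toMonoidHom, MulAut.conj_apply] at he
      have : h' = h := by
        have := congrArg (fun t => b⁻¹ * t * b) he
        simpa [mul_assoc] using this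
      rw [← this]; exact hh'
  exact isSolvable_closure_of_normal_comm V hVc haV hbV

/-- the pairs of non-commuting elements of `A₄`, by relations -/
def A4Pair (x y : G) : Prop :=
  (x * x = 1 ∧ y ^ 3 = 1 ∧ (x * y) ^ 3 = 1) ∨ (x ^ 3 = 1 ∧ y * y = 1 ∧ (x * y) ^ 3 = 1) ∨
  (x ^ 3 = 1 ∧ y ^ 3 = 1 ∧ ((x * y) * (x * y) = 1 ∨ (x * y⁻¹) * (x * y⁻¹) = 1))

theorem isSolvable_closure_of_A4Pair {x y : G} (h : A4Pair x y) :
    Group.IsSolvable ↥(Subgroup.closure ({x, y} : Set G)) := by
  rcases h with ⟨hx, hy, hxy⟩ | ⟨hx, hy, hxy⟩ | ⟨hx, hy, hxy | hxy⟩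
  · exact isSolvable_closure_of_A4rel hx hy hxy
  · rw [Set.pair_comm]
    apply isSolvable_closure_of_A4rel hy hx
    have : y * x = x⁻¹ * (x * y) * (x⁻¹)⁻¹ := by group
    rw [this, conj_pow, hxy]
    group
  · haveI := isSolvable_closure_of_A4rel (a := x * y) (b := y⁻¹) hxy
      (by rw [inv_pow, hy, inv_one]) (by rw [mul_assoc, mul_inv_cancel, mul_one, hx])
    apply isSolvable_of_le (K := Subgroup.closure ({x * y, y⁻¹} : Set G))
    rw [Subgroup.closure_le]
    intro z hz
    simp only [Set.mem_insert_iff, Set.mem_singleton_iff] at hz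
    rcases hz with rfl | rfl
    · have h1 : z = (z * y) * y⁻¹ := by group
      rw [h1]
      exact Subgroup.mul_mem _ (Subgroup.subset_closure (by simp))
        (Subgroup.subset_closure (by simp))
    · have h1 : z = (z⁻¹)⁻¹ := by group
      rw [h1]
      exact Subgroup.inv_mem _ (Subgroup.subset_closure (by simp))
  · haveI := isSolvable_closure_of_A4rel (a := x * y⁻¹) (b := y) hxy hy
      (by rw [mul_assoc, inv_mul_cancel, mul_one, hx])
    apply isSolvable_of_le (K := Subgroup.closure ({x * y⁻¹, y} : Set G))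
    rw [Subgroup.closure_le]
    intro z hz
    simp only [Set.mem_insert_iff, Set.mem_singleton_iff] at hz
    rcases hz with rfl | rfl
    · have h1 : z = (z * y⁻¹) * y := by group
      rw [h1]
      exact Subgroup.mul_mem _ (Subgroup.subset_closure (by simp))
        (Subgroup.subset_closure (by simp))
    · exact Subgroup.subset_closure (by simp)

end Generic

set_option maxRecDepth 1000000 in
/-- pairs in `A₄` -/
theorem a4_cases : ∀ x y : alternatingGroup (Fin 4), x * y = y * x ∨ A4Pair x y := by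
  unfold A4Pair
  decide +kernel

end Cfsg.Agent.Helper41.Sol3
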