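import Mathlib
import Cfsg.Agent.Helper41.MaxEven
import Cfsg.Agent.Helper41.SolGeneric

set_option autoImplicit false
set_option linter.style.haveILetI false

/-!
# Pairs of elements in a proper subgroup of `PSL₂(2^p)`, `p` prime
-/

namespace Cfsg.Agent.Helper41.Sol

open Matrix Cfsg.Agent.Helper46.Dk Cfsg.Agent.Helper41.DkR

variable {F : Type*} [Field F] [Fintype F]

local notation "PSL2F" => Matrix.ProjectiveSpecialLinearGroup (Fin 2) F
local notation "SL2F" => Matrix.SpecialLinearGroup (Fin 2) F
local notation "Ebar" => AlgebraicClosure F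

/-- pairs in a dihedral group -/
theorem dihedral_cases {n : ℕ} (X Y : DihedralGroup n) :
    X * Y = Y * X ∨ Y * X * Y⁻¹ = X⁻¹ ∨ (X * X = 1 ∧ Y * Y = 1) ∨
      (X * X = 1 ∧ X * Y * X⁻¹ = Y⁻¹) := by
  have hinv : ∀ i j : ZMod n, DihedralGroup.sr j * DihedralGroup.r i * (DihedralGroup.sr j)⁻¹ =
      (DihedralGroup.r i)⁻¹ := by
    intro i j
    rw [DihedralGroup.inv_sr, DihedralGroup.sr_mul_r, DihedralGroup.sr_mul_sr, DihedralGroup.inv_r]
    congr 1
    ring
  have hsq : ∀ i : ZMod n, DihedralGroup.sr i * DihedralGroup.sr i = 1 := by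
    intro i
    rw [DihedralGroup.sr_mul_sr, sub_self, DihedralGroup.one_def]
  rcases X with i | i <;> rcases Y with j | j
  · left
    rw [DihedralGroup.r_mul_r, DihedralGroup.r_mul_r, add_comm]
  · right; left
    exact hinv i j
  · right; right; right
    exact ⟨hsq i, hinv j i⟩
  · right; right; left
    exact ⟨hsq i, hsq j⟩

/-- proper subgroups of `PSL₂(2^p)`: the possible pairs -/
theorem psl_cases [CharP F 2] (p : ℕ) (hp : p.Prime) (hF : Fintype.card F = 2 ^ p)
    (H : Subgroup PSL2F) (hH : H ≠ ⊤) (x y : PSL2F) (hx : x ∈ H) (hy : y ∈ H) :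
    BorelType 2 H ∨ x * y = y * x ∨ y * x * y⁻¹ = x⁻¹ ∨ (x * x = 1 ∧ y * y = 1) ∨
      (x * x = 1 ∧ x * y * x⁻¹ = y⁻¹) := by
  classical
  rcases dickson_list_char_two H with hc | ⟨n, a, ha, hn2, ⟨e⟩⟩ | hB | hfr
  · -- cyclic
    right; left
    haveI := hc
    letI := IsCyclic.commGroup (α := H)
    exact congrArg Subtype.val (mul_comm (⟨x, hx⟩ : H) ⟨y, hy⟩)
  · -- dihedral
    right
    have hval : ∀ a b : H, a = b → (a : PSL2F) = b := fun a b h => congrArg Subtype.val h
    rcases dihedral_cases (e ⟨x, hx⟩) (e ⟨y, hy⟩) with h | h | ⟨h1, h2⟩ | ⟨h1, h2⟩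
    · left
      rw [← map_mul, ← map_mul] at h
      exact hval _ _ (e.injective h)
    · right; left
      rw [← map_inv, ← map_inv, ← map_mul, ← map_mul] at h
      exact hval _ _ (e.injective h)
    · right; right; left
      rw [← map_mul, ← map_one e] at h1 h2
      exact ⟨hval _ _ (e.injective h1), hval _ _ (e.injective h2)⟩
    · right; right; right
      rw [← map_mul, ← map_one e] at h1
      rw [← map_inv, ← map_inv, ← map_mul, ← map_mul] at h2
      exact ⟨hval _ _ (e.injective h1), hval _ _ (e.injective h2)⟩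
  · exact Or.inl hB
  · -- subfield type
    right
    have h2 : (2 : F) = 0 := two_eq_zero_F
    haveI : CharP Ebar 2 :=
      charP_of_injective_algebraMap (algebraMap F Ebar).injective 2
    obtain ⟨c, K, hfin, hKle, ⟨e⟩, -⟩ := subfield_case_char_two h2 H hfr
    haveI := hfin
    haveI : Fintype K := Fintype.ofFinite K
    haveI : CharP K 2 := (RingHom.charP_iff_charP K.subtype 2).2 inferInstance
    obtain ⟨j, -, hj⟩ := FiniteField.card K 2
    let ψ : K →+* F :=
      ((algebraMap F Ebar).rangeRestrictFieldEquiv.symm : (algebraMap F Ebar).fieldRange →+* F).comp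
        (Subfield.inclusion hKle)
    letI : Algebra K F := ψ.toAlgebra
    have hcard : Fintype.card F = Fintype.card K ^ Module.finrank K F :=
      Module.card_eq_pow_finrank (K := K) (V := F)
    set m := Module.finrank K F with hm
    have hpjm : p = j * m := by
      rw [hF, hj, ← pow_mul] at hcard
      exact Nat.pow_right_injective (le_refl 2) hcard
    have hqeven : Even (Fintype.card K) := by
      rw [hj]; exact (Nat.even_pow.2 ⟨even_two, j.ne_zero⟩)
    have hHcard : Nat.card H = Fintype.card K * (Fintype.card K ^ 2 - 1) := by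
      rw [Nat.card_congr e.toEquiv, Cfsg.Agent.Helper41.card_PSL2_of_even hqeven]
    have hGcard : Nat.card PSL2F = Fintype.card F * (Fintype.card F ^ 2 - 1) := card_PSL2F
    rcases (Nat.dvd_prime hp).1 (Dvd.intro _ hpjm.symm) with h1 | h1
    · -- `K` has two elements
      have h6 : Nat.card H = 6 := by
        rw [hHcard, hj, h1]; norm_num
      rcases cases_of_card_six h6 (⟨x, hx⟩ : H) ⟨y, hy⟩ with h | h | ⟨h, h'⟩ | ⟨h, h'⟩
      · left; exact congrArg Subtype.val h
      · right; left; exact congrArg Subtype.val h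
      · right; right; left; exact ⟨congrArg Subtype.val h, congrArg Subtype.val h'⟩
      · right; right; right; exact ⟨congrArg Subtype.val h, congrArg Subtype.val h'⟩
    · -- `K = F`
      exfalso
      apply hH
      apply Subgroup.eq_top_of_card_eq
      rw [hHcard, hGcard, hj, hF, h1]

end Cfsg.Agent.Helper41.Sol
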