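import Mathlib
import Cfsg.Agent.Helper41.SolCases
import Cfsg.Agent.Helper41.Sol3A

set_option autoImplicit false
set_option linter.style.haveILetI false

/-!
# Proper subgroups of `PSL₂(3^p)`, `p` an odd prime, and the pairs of elements they contain
-/

namespace Cfsg.Agent.Helper41.Sol3

open Matrix Cfsg.Agent.Helper46.Dk Cfsg.Agent.Helper41.DkR Cfsg.Agent.Helper41.Sol

variable {F : Type*} [Field F] [Fintype F]

local notation "PSL2F" => Matrix.ProjectiveSpecialLinearGroup (Fin 2) F
local notation "SL2F" => Matrix.SpecialLinearGroup (Fin 2) F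

theorem odd_card_of_eq (p : ℕ) (hF : Fintype.card F = 3 ^ p) : Odd (Fintype.card F) := by
  rw [hF]; exact Odd.pow (by decide)

/-- `PSL₂(K)` for `|K| = 3` is `A₄` -/
theorem psl_three_equiv (K : Type*) [Field K] [Fintype K] (hK : Fintype.card K = 3) :
    Nonempty (Matrix.ProjectiveSpecialLinearGroup (Fin 2) K ≃* alternatingGroup (Fin 4)) := by
  have hodd : Odd (Fintype.card K) := by rw [hK]; decide
  obtain ⟨A, ⟨e⟩⟩ := Cfsg.Agent.Helper41.exists_alternating_four_subgroup (F := K) hodd
  have h1 := Cfsg.Agent.Helper41.two_mul_card_PSL2 (F := K) hodd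
  rw [hK] at h1
  have h2 : Nat.card (Matrix.ProjectiveSpecialLinearGroup (Fin 2) K) = 12 := by
    norm_num at h1; omega
  have h3 : Nat.card A = 12 := by
    rw [Nat.card_congr e.toEquiv, Cfsg.Agent.Helper41.card_alternatingGroup_four]
  have htop : A = ⊤ := Subgroup.eq_top_of_card_eq A (by rw [h2, h3])
  exact ⟨(Subgroup.topEquiv.symm.trans (MulEquiv.subgroupCongr htop.symm)).trans e⟩

/-- proper subgroups of `PSL₂(3^p)`, `p` an odd prime -/
theorem sub3 [CharP F 3] (p : ℕ) (hp : p.Prime) (hodd : Odd p) (hF : Fintype.card F = 3 ^ p)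
    (H : Subgroup PSL2F) (hH : H ≠ ⊤) :
    IsCyclic H ∨ (∃ n : ℕ, Nonempty (H ≃* DihedralGroup n)) ∨ BorelType 3 H ∨
      Nonempty (H ≃* alternatingGroup (Fin 4)) := by
  classical
  haveI : CharP (AlgebraicClosure F) 3 :=
    charP_of_injective_algebraMap (algebraMap F (AlgebraicClosure F)).injective 3
  haveI : Finite ↥(liftSL H) := inferInstance
  have hFodd : Odd (Fintype.card F) := odd_card_of_eq p hF
  have hG2 := Cfsg.Agent.Helper41.two_mul_card_PSL2 (F := F) hFodd
  have hdvd : Nat.card H ∣ Nat.card PSL2F := Subgroup.card_subgroup_dvd_card H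
  have h48 : ∀ k : ℕ, Nat.card H = 24 * k → False := by
    intro k hk
    apply Cfsg.Agent.Helper41.not_fortyeight_dvd p hodd
    rw [← hF, ← hG2]
    obtain ⟨j, hj⟩ := hdvd
    rw [hj, hk]
    exact ⟨k * j, by ring⟩
  obtain ⟨e⟩ := nonempty_equiv_quotient H
  rcases dickson_main (ρ := liftRep H) 3 (liftRep_injective H) with h1 | ⟨n, a, ha, hnp, ⟨e1⟩⟩ |
    ⟨x₀, hx₀, htop⟩ | ⟨⟨e1⟩⟩ | ⟨⟨e1⟩⟩ | ⟨⟨e1⟩⟩ | ⟨K, hKfin, hKtr, hKiso⟩
  · left
    exact e.isCyclic.1 h1
  · right; left
    exact ⟨n, ⟨e.symm.trans e1⟩⟩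
  · right; right; left
    exact borelType_of_uni 3 H x₀ hx₀ htop
  · right; right; right
    exact ⟨e.symm.trans e1⟩
  · exfalso
    apply h48 1
    rw [Nat.card_congr (e.symm.trans e1).toEquiv, Cfsg.Agent.Helper41.card_perm_four]
  · exfalso
    apply Cfsg.Agent.Helper41.not_five_dvd p hodd
    rw [← hF, ← hG2]
    have h60 : Nat.card H = 60 := by
      rw [Nat.card_congr (e.symm.trans e1).toEquiv, Cfsg.Agent.Helper41.card_alternatingGroup_five]
    obtain ⟨j, hj⟩ := hdvd
    rw [hj, h60]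
    exact ⟨24 * j, by ring⟩
  · have hiso : Nonempty (H ≃* Matrix.ProjectiveSpecialLinearGroup (Fin 2) K) ∨
        Nonempty (H ≃* Matrix.ProjGenLinGroup (Fin 2) K) := by
      rcases hKiso with ⟨⟨e1⟩⟩ | ⟨⟨e1⟩⟩
      · exact Or.inl ⟨e.symm.trans e1⟩
      · exact Or.inr ⟨e.symm.trans e1⟩
    obtain ⟨K', _, _, m, hm, hiso'⟩ := concl_of_field H K hKfin hKtr hiso
    -- the order of `K'`
    obtain ⟨r, hr, hchar⟩ := exists_char_prime K'
    haveI := hr
    haveI := hchar
    obtain ⟨⟨n, hn0⟩, -, hn⟩ := FiniteField.card K' r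
    simp only [PNat.mk_coe] at hn
    rw [hF, hn, ← pow_mul] at hm
    have hr3 : r = 3 := by
      have h1 : r ∣ 3 ^ p := by
        rw [← hm]
        exact dvd_pow_self r (by
          have : 0 < n * m := by
            rcases Nat.eq_zero_or_pos (n * m) with h0 | h0
            · rw [h0, pow_zero] at hm
              have := Nat.one_lt_pow hp.ne_zero (by norm_num : 1 < 3)
              omega
            · exact h0
          omega)
      exact (Nat.prime_dvd_prime_iff_eq hr.out Nat.prime_three).1 (hr.out.dvd_of_dvd_pow h1)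
    rw [hr3] at hm hn
    have hnm : n * m = p := Nat.pow_right_injective (by norm_num : 2 ≤ 3) hm
    rcases (Nat.dvd_prime hp).1 (Dvd.intro _ hnm) with hn1 | hnp
    · -- `|K'| = 3`
      rw [hn1, pow_one] at hn
      rcases hiso' with ⟨⟨e1⟩⟩ | ⟨⟨e1⟩⟩
      · right; right; right
        obtain ⟨e2⟩ := psl_three_equiv K' hn
        exact ⟨e1.trans e2⟩
      · exfalso
        apply h48 1
        rw [Nat.card_congr e1.toEquiv, Cfsg.Agent.Helper41.card_PGL2, hn]
        norm_num
    · -- `|K'| = |F|`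
      exfalso
      rw [hnp, ← hF] at hn
      have hK2 := Cfsg.Agent.Helper41.two_mul_card_PSL2 (F := K') (by rw [hn]; exact hFodd)
      rw [hn, ← hG2] at hK2
      rcases hiso' with ⟨⟨e1⟩⟩ | ⟨⟨e1⟩⟩
      · apply hH
        apply Subgroup.eq_top_of_card_eq
        rw [Nat.card_congr e1.toEquiv]
        omega
      · have h1 : Nat.card H = 2 * Nat.card PSL2F := by
          rw [Nat.card_congr e1.toEquiv, Cfsg.Agent.Helper41.card_PGL2, hn, hG2]
        have h2 := Nat.le_of_dvd Nat.card_pos hdvd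
        have h3 : 0 < Nat.card PSL2F := Nat.card_pos
        omega

/-- proper subgroups of `PSL₂(3^p)`: the possible pairs -/
theorem psl_cases3 [CharP F 3] (p : ℕ) (hp : p.Prime) (hodd : Odd p)
    (hF : Fintype.card F = 3 ^ p)
    (H : Subgroup PSL2F) (hH : H ≠ ⊤) (x y : PSL2F) (hx : x ∈ H) (hy : y ∈ H) :
    BorelType 3 H ∨ x * y = y * x ∨ y * x * y⁻¹ = x⁻¹ ∨ (x * x = 1 ∧ y * y = 1) ∨
      (x * x = 1 ∧ x * y * x⁻¹ = y⁻¹) ∨ A4Pair x y := by
  classical
  have hval : ∀ a b : H, a = b → (a : PSL2F) = b := fun a b h => congrArg Subtype.val h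
  rcases sub3 p hp hodd hF H hH with hc | ⟨n, ⟨e⟩⟩ | hB | ⟨⟨e⟩⟩
  · right; left
    haveI := hc
    letI := IsCyclic.commGroup (α := H)
    exact congrArg Subtype.val (mul_comm (⟨x, hx⟩ : H) ⟨y, hy⟩)
  · right
    rcases dihedral_cases (e ⟨x, hx⟩) (e ⟨y, hy⟩) with h | h | ⟨h1, h2⟩ | ⟨h1, h2⟩
    · left
      rw [← map_mul, ← map_mul] at h
      exact hval _ _ (e.injective h)
    · right; left
      rw [← map_inv, ← map_inv, ← map_mul, ← map_mul] at h
      exact hval _ _ (e.injective h)
    · right; right; left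
      rw [← map_mul, ← map_one e] at h1 h2
      exact ⟨hval _ _ (e.injective h1), hval _ _ (e.injective h2)⟩
    · right; right; right; left
      rw [← map_mul, ← map_one e] at h1
      rw [← map_inv, ← map_inv, ← map_mul, ← map_mul] at h2
      exact ⟨hval _ _ (e.injective h1), hval _ _ (e.injective h2)⟩
  · exact Or.inl hB
  · right
    have key : ∀ (u v : H) (k : ℕ), (e u * e v) ^ k = 1 → ((u : PSL2F) * v) ^ k = 1 := by
      intro u v k h
      rw [← map_mul, ← map_pow, ← map_one e] at h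
      have := hval _ _ (e.injective h)
      simpa using this
    have key1 : ∀ (u : H) (k : ℕ), (e u) ^ k = 1 → (u : PSL2F) ^ k = 1 := by
      intro u k h
      rw [← map_pow, ← map_one e] at h
      have := hval _ _ (e.injective h)
      simpa using this
    have key2 : ∀ (u : H), (e u) * (e u) = 1 → (u : PSL2F) * u = 1 := by
      intro u h
      rw [← map_mul, ← map_one e] at h
      exact hval _ _ (e.injective h)
    rcases a4_cases (e ⟨x, hx⟩) (e ⟨y, hy⟩) with h | ⟨h1, h2, h3⟩ | ⟨h1, h2, h3⟩ | ⟨h1, h2, h3⟩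
    · left
      rw [← map_mul, ← map_mul] at h
      exact hval _ _ (e.injective h)
    · right; right; right; right; left
      exact ⟨key2 _ h1, key1 _ _ h2, key _ _ _ h3⟩
    · right; right; right; right; right; left
      exact ⟨key1 _ _ h1, key2 _ h2, key _ _ _ h3⟩
    · right; right; right; right; right; right
      refine ⟨key1 _ _ h1, key1 _ _ h2, ?_⟩
      rcases h3 with h3 | h3
      · left
        rw [← map_mul, ← map_mul, ← map_one e] at h3
        exact hval _ _ (e.injective h3)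
      · right
        rw [← map_inv, ← map_mul, ← map_mul, ← map_one e] at h3
        exact hval _ _ (e.injective h3)

end Cfsg.Agent.Helper41.Sol3
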