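import Mathlib
import Cfsg.Agent.Helper41.SolCases

set_option autoImplicit false
set_option linter.style.haveILetI false
set_option linter.unusedSimpArgs false

/-!
# Pairs of elements of `SL₂(2^p)` generating a solvable subgroup
-/

namespace Cfsg.Agent.Helper41.Sol

open Matrix Cfsg.Agent.Helper46.Dk Cfsg.Agent.Helper41.DkR

variable {F : Type*} [Field F] [Fintype F]

local notation "PSL2F" => Matrix.ProjectiveSpecialLinearGroup (Fin 2) F
local notation "SL2F" => Matrix.SpecialLinearGroup (Fin 2) F

theorem charP_two_of_even (heven : Even (Fintype.card F)) : CharP F 2 := by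
  have h2 := Cfsg.Agent.Helper5.two_eq_zero_of_even_card heven
  obtain ⟨p, hp, hc⟩ := exists_char_prime F
  have : ((2 : ℕ) : F) = 0 := by exact_mod_cast h2
  have hdvd := (CharP.cast_eq_zero_iff F p 2).1 this
  rcases (Nat.dvd_prime Nat.prime_two).1 hdvd with h | h
  · exact absurd h hp.out.one_lt.ne'
  · rw [h] at hc; exact hc

/-- the isomorphism `SL₂(F) ≃* PSL₂(F)` in characteristic two -/
noncomputable def slEquiv (h2 : (2 : F) = 0) : SL2F ≃* PSL2F :=
  MulEquiv.ofBijective (QuotientGroup.mk' (Subgroup.center SL2F))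
    ⟨Cfsg.Agent.Helper41.mk_injective_of_two_eq_zero h2, QuotientGroup.mk'_surjective _⟩

omit [Fintype F] in
theorem slEquiv_apply (h2 : (2 : F) = 0) (X : SL2F) :
    slEquiv h2 X = QuotientGroup.mk' (Subgroup.center SL2F) X := rfl

variable [CharP F 2]

/-- the pair cases, in `SL₂(F)` -/
theorem sl_cases (p : ℕ) (hp : p.Prime) (hF : Fintype.card F = 2 ^ p) (X Y : SL2F)
    (hne : Subgroup.closure ({X, Y} : Set SL2F) ≠ ⊤) :
    (∃ K : SL2F, (K * X * K⁻¹).1 1 0 = 0 ∧ (K * Y * K⁻¹).1 1 0 = 0) ∨ X * Y = Y * X ∨
      Y * X * Y⁻¹ = X⁻¹ ∨ (X * X = 1 ∧ Y * Y = 1) ∨ (X * X = 1 ∧ X * Y * X⁻¹ = Y⁻¹) := by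
  have h2 : (2 : F) = 0 := two_eq_zero_F
  set e := slEquiv h2 with he
  set H := (Subgroup.closure ({X, Y} : Set SL2F)).map e.toMonoidHom with hH
  have hHne : H ≠ ⊤ := by
    intro h
    apply hne
    have h1 : (⊤ : Subgroup SL2F).map e.toMonoidHom = ⊤ :=
      Subgroup.map_top_of_surjective _ e.surjective
    rw [← h1] at h
    exact Subgroup.map_injective e.injective h
  have hx : e X ∈ H := Subgroup.mem_map_of_mem _ (Subgroup.subset_closure (by simp))
  have hy : e Y ∈ H := Subgroup.mem_map_of_mem _ (Subgroup.subset_closure (by simp))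
  rcases psl_cases p hp hF H hHne (e X) (e Y) hx hy with hB | h | h | ⟨h, h'⟩ | ⟨h, h'⟩
  · left
    obtain ⟨P, g, hle⟩ := hB
    obtain ⟨k, -, hN⟩ := exists_conj_sylowP 2 P
    obtain ⟨K, hK⟩ := e.surjective (k⁻¹ * g)
    have key : ∀ Z : SL2F, e Z ∈ H → (K * Z * K⁻¹).1 1 0 = 0 := by
      intro Z hz
      have h1 := hle (Subgroup.mem_map_of_mem (MulAut.conj g).toMonoidHom hz)
      rw [hN] at h1
      obtain ⟨b, ⟨b0, hb0, rfl⟩, hb⟩ := h1
      have h3 : e (K * Z * K⁻¹) = e b0 := by
        rw [map_mul, map_mul, map_inv, hK]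
        simp only [MulEquiv.coe_toMonoidHom, MulAut.conj_apply] at hb
        rw [slEquiv_apply h2 b0]
        have : ∀ z : PSL2F, g * z * g⁻¹ = k * (QuotientGroup.mk' _ b0) * k⁻¹ →
            k⁻¹ * g * z * (k⁻¹ * g)⁻¹ = QuotientGroup.mk' _ b0 := by
          intro z hz
          calc k⁻¹ * g * z * (k⁻¹ * g)⁻¹ = k⁻¹ * (g * z * g⁻¹) * k := by group
            _ = _ := by rw [hz]; group
        exact this _ hb.symm
      rw [e.injective h3]
      exact (mem_BB b0).1 hb0
    exact ⟨K, key X hx, key Y hy⟩
  · right; left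
    apply e.injective
    rw [map_mul, map_mul, h]
  · right; right; left
    apply e.injective
    rw [map_mul, map_mul, map_inv, map_inv, h]
  · right; right; right; left
    constructor
    · apply e.injective
      rw [map_mul, map_one, h]
    · apply e.injective
      rw [map_mul, map_one, h']
  · right; right; right; right
    constructor
    · apply e.injective
      rw [map_mul, map_one, h]
    · apply e.injective
      rw [map_mul, map_mul, map_inv, map_inv, h']


/-- `SL₂(F)` is not solvable -/
theorem not_isSolvable_SL (h4 : 4 ≤ Fintype.card F) : ¬ Group.IsSolvable SL2F := by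
  intro hs
  have h2 : (2 : F) = 0 := two_eq_zero_F
  haveI := Cfsg.Agent.Helper5.isSimpleGroup_PSL2_of_card h4
  haveI : Group.IsSolvable PSL2F :=
    Group.isSolvable_of_surjective (f := (slEquiv h2).toMonoidHom) (slEquiv h2).surjective
  have hcomm := (IsSimpleGroup.comm_iff_isSolvable (G := PSL2F)).2 inferInstance
  have h1 := hcomm (slEquiv h2 (uU 1)) (slEquiv h2 (vV 1))
  rw [← map_mul, ← map_mul] at h1
  have h3 := (slEquiv h2).injective h1
  have h5 := congrArg (fun M : SL2F => M.1 0 0) h3
  simp only [mul_00] at h5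
  have e1 : (uU (1 : F)).1 0 0 = 1 := rfl
  have e2 : (uU (1 : F)).1 0 1 = 1 := rfl
  have e3 : (vV (1 : F)).1 0 0 = 1 := rfl
  have e4 : (vV (1 : F)).1 1 0 = 1 := rfl
  have e5 : (vV (1 : F)).1 0 1 = 0 := rfl
  have e6 : (uU (1 : F)).1 1 0 = 0 := rfl
  rw [e1, e2, e3, e4, e5, e6] at h5
  have : (1 : F) = 0 := by linear_combination h2 - h5
  exact one_ne_zero this

/-- a solvable two-generator subgroup: the cases -/
theorem sl_cases_of_isSolvable (p : ℕ) (hp : p.Prime) (hF : Fintype.card F = 2 ^ p) (X Y : SL2F)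
    (hs : Group.IsSolvable ↥(Subgroup.closure ({X, Y} : Set SL2F))) :
    (∃ K : SL2F, (K * X * K⁻¹).1 1 0 = 0 ∧ (K * Y * K⁻¹).1 1 0 = 0) ∨ X * Y = Y * X ∨
      Y * X * Y⁻¹ = X⁻¹ ∨ (X * X = 1 ∧ Y * Y = 1) ∨ (X * X = 1 ∧ X * Y * X⁻¹ = Y⁻¹) := by
  apply sl_cases p hp hF
  intro htop
  have h4 : 4 ≤ Fintype.card F := by
    rw [hF]
    calc 4 = 2 ^ 2 := by norm_num
      _ ≤ 2 ^ p := Nat.pow_le_pow_right (by norm_num) hp.two_le
  apply not_isSolvable_SL h4
  rw [htop] at hs
  exact Group.isSolvable_of_surjective (f := (Subgroup.topEquiv (G := SL2F)).toMonoidHom)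
    Subgroup.topEquiv.surjective

omit [Fintype F] [CharP F 2] in
/-- both generators in a conjugate of the Borel subgroup -/
theorem isSolvable_of_conj_BB (K X Y : SL2F) (hX : (K * X * K⁻¹).1 1 0 = 0)
    (hY : (K * Y * K⁻¹).1 1 0 = 0) :
    Group.IsSolvable ↥(Subgroup.closure ({X, Y} : Set SL2F)) := by
  rw [← isSolvable_closure_map_iff (MulAut.conj K) X Y]
  apply isSolvable_of_le (K := (BB : Subgroup SL2F))
  rw [Subgroup.closure_le]
  intro z hz
  simp only [Set.mem_insert_iff, Set.mem_singleton_iff] at hz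
  rcases hz with rfl | rfl
  · exact (mem_BB _).2 hX
  · exact (mem_BB _).2 hY

omit [Fintype F] [CharP F 2] in
theorem isSolvable_of_BB (X Y : SL2F) (hX : X.1 1 0 = 0) (hY : Y.1 1 0 = 0) :
    Group.IsSolvable ↥(Subgroup.closure ({X, Y} : Set SL2F)) := by
  apply isSolvable_of_le (K := (BB : Subgroup SL2F))
  rw [Subgroup.closure_le]
  intro z hz
  simp only [Set.mem_insert_iff, Set.mem_singleton_iff] at hz
  rcases hz with rfl | rfl
  · exact (mem_BB _).2 hX
  · exact (mem_BB _).2 hY

omit [Fintype F] in
/-- trace zero elements are involutions -/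
theorem mul_self_of_tr_eq_zero (M : SL2F) (h : tr M = 0) : M * M = 1 := by
  have h2 : (2 : F) = 0 := by
    have := CharP.cast_eq_zero F 2
    exact_mod_cast this
  have hd := det' M
  unfold tr at h
  apply ext'
  · rw [mul_00, one_00]
    linear_combination (M.1 0 0) * h - hd - h2
  · rw [mul_01, one_01]
    linear_combination (M.1 0 1) * h
  · rw [mul_10, one_10]
    linear_combination (M.1 1 0) * h
  · rw [mul_11, one_11]
    linear_combination (M.1 1 1) * h - hd - h2

omit [Fintype F] [CharP F 2] in
theorem tr_eq_zero_of_mul_self (M : SL2F) (h : M * M = 1) (hc : M.1 1 0 ≠ 0) : tr M = 0 := by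
  have h1 := congrArg (fun Z : SL2F => Z.1 1 0) h
  simp only [mul_10, one_10] at h1
  unfold tr
  have : M.1 1 0 * (M.1 0 0 + M.1 1 1) = 0 := by linear_combination h1
  rcases mul_eq_zero.1 this with h | h
  · exact absurd h hc
  · exact h

/-- the solubilizer of the transvection -/
theorem sol_uU_iff (p : ℕ) (hp : p.Prime) (hF : Fintype.card F = 2 ^ p) (M : SL2F) :
    Group.IsSolvable ↥(Subgroup.closure ({uU (1 : F), M} : Set SL2F)) ↔
      M.1 1 0 = 0 ∨ (M.1 1 0 ≠ 0 ∧ tr M = 0) ∨ (M.1 1 0 ≠ 0 ∧ tr M = M.1 1 0) := by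
  have h2 : (2 : F) = 0 := two_eq_zero_F
  have e00 : (uU (1 : F)).1 0 0 = 1 := rfl
  have e01 : (uU (1 : F)).1 0 1 = 1 := rfl
  have e10 : (uU (1 : F)).1 1 0 = 0 := rfl
  have e11 : (uU (1 : F)).1 1 1 = 1 := rfl
  have hu2 : uU (1 : F) * uU 1 = 1 := by
    apply ext'
    · rw [mul_00, one_00, e00, e01, e10]; ring
    · rw [mul_01, one_01, e00, e01, e11]; linear_combination h2
    · rw [mul_10, one_10, e00, e10, e11]; ring
    · rw [mul_11, one_11, e01, e10, e11]; ring
  constructor
  · intro hs
    by_cases hc : M.1 1 0 = 0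
    · exact Or.inl hc
    right
    rcases sl_cases_of_isSolvable p hp hF _ _ hs with ⟨K, hK1, hK2⟩ | h | h | ⟨-, h⟩ | ⟨-, h⟩
    · exfalso
      rw [conj_10, e00, e01, e10, e11] at hK1
      have hk : K.1 1 0 = 0 := by
        have : (K.1 1 0) ^ 2 = 0 := by linear_combination -hK1
        exact pow_eq_zero_iff (two_ne_zero) |>.1 this
      rw [conj_10, hk] at hK2
      have hd := det' K
      rw [hk] at hd
      have hk11 : K.1 1 1 ≠ 0 := by
        intro h0
        rw [h0] at hd
        simp at hd
      apply hc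
      have : K.1 1 1 * K.1 1 1 * M.1 1 0 = 0 := by linear_combination hK2
      rcases mul_eq_zero.1 this with h | h
      · rcases mul_eq_zero.1 h with h | h <;> exact absurd h hk11
      · exact h
    · exfalso
      apply hc
      have h1 := congrArg (fun Z : SL2F => Z.1 0 0) h
      simp only [mul_00, e00, e01, e10] at h1
      linear_combination h1
    · exfalso
      apply hc
      have hinv : (uU (1 : F))⁻¹ = uU 1 := inv_eq_of_mul_eq_one_right hu2
      rw [hinv, mul_inv_eq_iff_eq_mul] at h
      have h1 := congrArg (fun Z : SL2F => Z.1 0 0) h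
      simp only [mul_00, e00, e01, e10] at h1
      linear_combination -h1
    · left
      exact ⟨hc, tr_eq_zero_of_mul_self M h hc⟩
    · right
      refine ⟨hc, ?_⟩
      have h1 := congrArg (fun Z : SL2F => Z.1 0 0) h
      simp only [conj_00, inv_00, e00, e01, e10, e11] at h1
      unfold tr
      linear_combination -h1 + (M.1 0 0) * h2
  · rintro (h | ⟨-, h⟩ | ⟨-, h⟩)
    · exact isSolvable_of_BB _ _ e10 h
    · exact isSolvable_closure_of_involutions hu2 (mul_self_of_tr_eq_zero M h)
    · apply isSolvable_closure_of_invert'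
      unfold tr at h
      apply ext'
      · simp only [conj_00, inv_00, e00, e01, e10, e11]
        linear_combination -h + (M.1 0 0) * h2
      · simp only [conj_01, inv_01, e00, e01, e10, e11]
        linear_combination h + (M.1 0 1 - M.1 0 0) * h2
      · simp only [conj_10, inv_10, e00, e01, e10, e11]
        linear_combination (M.1 1 0) * h2
      · simp only [conj_11, inv_11, e00, e01, e10, e11]
        linear_combination h - (M.1 0 0) * h2


/-- the solubilizer of a split torus element -/
theorem sol_dD_iff (p : ℕ) (hp : p.Prime) (hF : Fintype.card F = 2 ^ p) (l : Fˣ)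
    (hl : (l : F) * l ≠ 1) (M : SL2F) :
    Group.IsSolvable ↥(Subgroup.closure ({dD l, M} : Set SL2F)) ↔
      M.1 1 0 = 0 ∨ M.1 0 1 = 0 ∨ (M.1 0 0 = 0 ∧ M.1 1 1 = 0) := by
  have h2 : (2 : F) = 0 := two_eq_zero_F
  set li : F := ((l⁻¹ : Fˣ) : F) with hli
  have hlli : (l : F) * li = 1 := by rw [hli, ← Units.val_mul, mul_inv_cancel, Units.val_one]
  have e00 : (dD l).1 0 0 = (l : F) := rfl
  have e01 : (dD l).1 0 1 = 0 := rfl
  have e10 : (dD l).1 1 0 = 0 := rfl
  have e11 : (dD l).1 1 1 = li := rfl
  have hne : (l : F) - li ≠ 0 := by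
    intro h
    apply hl
    have : (l : F) = li := sub_eq_zero.1 h
    rw [this] at hlli ⊢
    exact hlli
  constructor
  · intro hs
    rcases sl_cases_of_isSolvable p hp hF _ _ hs with ⟨K, hK1, hK2⟩ | h | h | ⟨h, -⟩ | ⟨h, -⟩
    · simp only [conj_10, e00, e01, e10, e11] at hK1
      have hkk : K.1 1 0 * K.1 1 1 * ((l : F) - li) = 0 := by linear_combination hK1
      have hd := det' K
      rcases mul_eq_zero.1 hkk with h | h
      · rcases mul_eq_zero.1 h with hk | hk
        · left
          rw [conj_10, hk] at hK2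
          rw [hk] at hd
          have hk11 : K.1 1 1 ≠ 0 := by
            intro h0
            rw [h0] at hd
            simp at hd
          have : K.1 1 1 * K.1 1 1 * M.1 1 0 = 0 := by linear_combination hK2
          rcases mul_eq_zero.1 this with h | h
          · rcases mul_eq_zero.1 h with h | h <;> exact absurd h hk11
          · exact h
        · right; left
          rw [conj_10, hk] at hK2
          rw [hk] at hd
          have hk10 : K.1 1 0 ≠ 0 := by
            intro h0
            rw [h0] at hd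
            simp at hd
          have : K.1 1 0 * K.1 1 0 * M.1 0 1 = 0 := by linear_combination -hK2
          rcases mul_eq_zero.1 this with h | h
          · rcases mul_eq_zero.1 h with h | h <;> exact absurd h hk10
          · exact h
      · exact absurd h hne
    · right; left
      have h1 := congrArg (fun Z : SL2F => Z.1 0 1) h
      simp only [mul_01, e00, e01, e10, e11] at h1
      have : M.1 0 1 * ((l : F) - li) = 0 := by linear_combination h1
      rcases mul_eq_zero.1 this with h | h
      · exact h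
      · exact absurd h hne
    · right; right
      rw [mul_inv_eq_iff_eq_mul] at h
      have h00 := congrArg (fun Z : SL2F => Z.1 0 0) h
      have h11 := congrArg (fun Z : SL2F => Z.1 1 1) h
      simp only [mul_00, mul_11, inv_00, inv_01, inv_10, inv_11, e00, e01, e10, e11] at h00 h11
      constructor
      · have : M.1 0 0 * ((l : F) - li) = 0 := by linear_combination h00
        rcases mul_eq_zero.1 this with h | h
        · exact h
        · exact absurd h hne
      · have : M.1 1 1 * ((l : F) - li) = 0 := by linear_combination -h11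
        rcases mul_eq_zero.1 this with h | h
        · exact h
        · exact absurd h hne
    all_goals
      exfalso
      apply hl
      have h1 := congrArg (fun Z : SL2F => Z.1 0 0) h
      simp only [mul_00, e00, e01, e10, one_00] at h1
      linear_combination h1
  · rintro (h | h | ⟨ha, hd0⟩)
    · exact isSolvable_of_BB _ _ e10 h
    · apply isSolvable_of_conj_BB wW
      · simp only [conj_10, e00, e01, e10, e11]
        have w10 : (wW : SL2F).1 1 0 = -1 := rfl
        have w11 : (wW : SL2F).1 1 1 = 0 := rfl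
        rw [w10, w11]; ring
      · simp only [conj_10]
        have w10 : (wW : SL2F).1 1 0 = -1 := rfl
        have w11 : (wW : SL2F).1 1 1 = 0 := rfl
        rw [w10, w11, h]; ring
    · apply isSolvable_closure_of_invert
      have hd := det' M
      rw [ha, hd0] at hd
      apply ext'
      · simp only [conj_00, inv_00, e00, e01, e10, e11, ha, hd0]
        linear_combination li * hd
      · simp only [conj_01, inv_01, e00, e01, e10, e11, ha, hd0]
        ring
      · simp only [conj_10, inv_10, e00, e01, e10, e11, ha, hd0]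
        ring
      · simp only [conj_11, inv_11, e00, e01, e10, e11, ha, hd0]
        linear_combination (l : F) * hd

omit [Fintype F] in
/-- an upper triangular matrix has a rational eigenvalue -/
theorem root_of_upper (Z : SL2F) (h : Z.1 1 0 = 0) :
    (Z.1 0 0) ^ 2 + tr Z * Z.1 0 0 + 1 = 0 := by
  have h2 : (2 : F) = 0 := by
    have := CharP.cast_eq_zero F 2
    exact_mod_cast this
  have hd := det' Z
  rw [h] at hd
  unfold tr
  linear_combination hd + (Z.1 0 0 ^ 2 + 1) * h2

/-- the solubilizer of a nonsplit torus element -/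
theorem sol_nonsplit_iff (p : ℕ) (hp : p.Prime) (hF : Fintype.card F = 2 ^ p) (X : SL2F)
    (hroot : ∀ a : F, a ^ 2 + tr X * a + 1 ≠ 0) (M : SL2F) :
    Group.IsSolvable ↥(Subgroup.closure ({X, M} : Set SL2F)) ↔
      M * X = X * M ∨ M * X * M⁻¹ = X⁻¹ := by
  have h2 : (2 : F) = 0 := two_eq_zero_F
  have hsq : X * X ≠ 1 := by
    intro h
    by_cases hc : X.1 1 0 = 0
    · exact hroot _ (root_of_upper X hc)
    · have := tr_eq_zero_of_mul_self X h hc
      apply hroot 1
      rw [this]
      linear_combination h2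
  constructor
  · intro hs
    rcases sl_cases_of_isSolvable p hp hF _ _ hs with ⟨K, hK1, -⟩ | h | h | ⟨h, -⟩ | ⟨h, -⟩
    · exfalso
      have := root_of_upper _ hK1
      rw [tr_conj] at this
      exact hroot _ this
    · exact Or.inl h.symm
    · exact Or.inr h
    · exact absurd h hsq
    · exact absurd h hsq
  · rintro (h | h)
    · exact isSolvable_closure_of_commute h.symm
    · exact isSolvable_closure_of_invert h

end Cfsg.Agent.Helper41.Sol
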