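import Mathlib
import Cfsg.Agent.Helper41.SolSL
import Cfsg.Agent.Helper41.Sol3B

set_option autoImplicit false
set_option linter.style.haveILetI false
set_option linter.unusedSimpArgs false

/-!
# From `PSL₂` to `SL₂`: signs, traces and the lifted pair lemma
-/

namespace Cfsg.Agent.Helper41.Sol3

open Matrix Cfsg.Agent.Helper46.Dk Cfsg.Agent.Helper41.DkR Cfsg.Agent.Helper41.Sol

variable {F : Type*} [Field F]

local notation "PSL2F" => Matrix.ProjectiveSpecialLinearGroup (Fin 2) F
local notation "SL2F" => Matrix.SpecialLinearGroup (Fin 2) F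

/-- the projection `SL₂(F) → PSL₂(F)` -/
abbrev prj : SL2F →* PSL2F := QuotientGroup.mk' (Subgroup.center SL2F)

theorem prj_surjective : Function.Surjective (prj (F := F)) := QuotientGroup.mk'_surjective _

theorem neg_00 (A : SL2F) : (-A).1 0 0 = -(A.1 0 0) := by
  rw [Matrix.SpecialLinearGroup.coe_neg]; rfl
theorem neg_01 (A : SL2F) : (-A).1 0 1 = -(A.1 0 1) := by
  rw [Matrix.SpecialLinearGroup.coe_neg]; rfl
theorem neg_10 (A : SL2F) : (-A).1 1 0 = -(A.1 1 0) := by
  rw [Matrix.SpecialLinearGroup.coe_neg]; rfl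
theorem neg_11 (A : SL2F) : (-A).1 1 1 = -(A.1 1 1) := by
  rw [Matrix.SpecialLinearGroup.coe_neg]; rfl

theorem prj_neg_one : prj (-1 : SL2F) = 1 := by
  apply (QuotientGroup.eq_one_iff _).2
  rw [Matrix.SpecialLinearGroup.mem_center_iff]
  refine ⟨-1, by simp, ?_⟩
  ext i j
  fin_cases i <;> fin_cases j <;> simp [Matrix.SpecialLinearGroup.coe_neg]

theorem prj_neg (A : SL2F) : prj (-A) = prj A := by
  have : -A = (-1 : SL2F) * A := by rw [neg_one_mul]
  rw [this, map_mul, prj_neg_one, one_mul]

theorem prj_eq_iff (A B : SL2F) : prj A = prj B ↔ A = B ∨ A = -B := by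
  constructor
  · intro h
    obtain ⟨r, hr, hAB⟩ := Cfsg.Agent.Helper41.coe_eq_smul_of_mk_eq A B h
    rcases hr with rfl | rfl
    · left
      apply Subtype.ext
      rw [hAB, one_smul]
    · right
      apply Subtype.ext
      rw [Matrix.SpecialLinearGroup.coe_neg, hAB]
      simp
  · rintro (rfl | rfl)
    · rfl
    · exact prj_neg B

/-- trace zero elements square to `-1` -/
theorem mul_self_of_tr_eq_zero' (Z : SL2F) (h : tr Z = 0) : Z * Z = -1 := by
  have hd := det' Z
  unfold tr at h
  apply ext'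
  · rw [mul_00, neg_00, one_00]
    linear_combination (Z.1 0 0) * h - hd
  · rw [mul_01, neg_01, one_01]
    linear_combination (Z.1 0 1) * h
  · rw [mul_10, neg_10, one_10]
    linear_combination (Z.1 1 0) * h
  · rw [mul_11, neg_11, one_11]
    linear_combination (Z.1 1 1) * h - hd

theorem prj_mul_self_iff (h2 : (2 : F) ≠ 0) (Z : SL2F) :
    prj Z * prj Z = 1 ↔ Z = 1 ∨ Z = -1 ∨ tr Z = 0 := by
  constructor
  · intro h
    rw [← map_mul, ← map_one prj, prj_eq_iff] at h
    by_cases ht : tr Z = 0
    · exact Or.inr (Or.inr ht)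
    · have hd := det' Z
      unfold tr at ht
      rcases h with h | h
      · have h00 := congrArg (fun M : SL2F => M.1 0 0) h
        have h01 := congrArg (fun M : SL2F => M.1 0 1) h
        have h10 := congrArg (fun M : SL2F => M.1 1 0) h
        have h11 := congrArg (fun M : SL2F => M.1 1 1) h
        simp only [mul_00, mul_01, mul_10, mul_11, one_00, one_01, one_10, one_11] at h00 h01 h10 h11
        have hb : Z.1 0 1 = 0 := by
          have : Z.1 0 1 * (Z.1 0 0 + Z.1 1 1) = 0 := by linear_combination h01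
          rcases mul_eq_zero.1 this with h | h
          · exact h
          · exact absurd h ht
        have hc : Z.1 1 0 = 0 := by
          have : Z.1 1 0 * (Z.1 0 0 + Z.1 1 1) = 0 := by linear_combination h10
          rcases mul_eq_zero.1 this with h | h
          · exact h
          · exact absurd h ht
        rw [hb] at h00 h11 hd
        have ha : (Z.1 0 0 - 1) * (Z.1 0 0 + 1) = 0 := by linear_combination h00
        rcases mul_eq_zero.1 ha with ha | ha
        · left
          have ha' : Z.1 0 0 = 1 := by linear_combination ha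
          apply ext'
          · rw [ha', one_00]
          · rw [hb, one_01]
          · rw [hc, one_10]
          · rw [one_11]
            rw [ha'] at hd
            linear_combination hd
        · right; left
          have ha' : Z.1 0 0 = -1 := by linear_combination ha
          apply ext'
          · rw [ha', neg_00, one_00]
          · rw [hb, neg_01, one_01, neg_zero]
          · rw [hc, neg_10, one_10, neg_zero]
          · rw [neg_11, one_11]
            rw [ha'] at hd
            linear_combination -hd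
      · exfalso
        have h00 := congrArg (fun M : SL2F => M.1 0 0) h
        have h01 := congrArg (fun M : SL2F => M.1 0 1) h
        have h10 := congrArg (fun M : SL2F => M.1 1 0) h
        have h11 := congrArg (fun M : SL2F => M.1 1 1) h
        simp only [mul_00, mul_01, mul_10, mul_11, neg_00, neg_01, neg_10, neg_11,
          one_00, one_01, one_10, one_11] at h00 h01 h10 h11
        have hb : Z.1 0 1 = 0 := by
          have : Z.1 0 1 * (Z.1 0 0 + Z.1 1 1) = 0 := by linear_combination h01
          rcases mul_eq_zero.1 this with h | h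
          · exact h
          · exact absurd h ht
        rw [hb] at h00 h11 hd
        have h3 : (Z.1 0 0 - Z.1 1 1) * (Z.1 0 0 + Z.1 1 1) = 0 := by
          linear_combination h00 - h11
        rcases mul_eq_zero.1 h3 with h3 | h3
        · have had : Z.1 0 0 = Z.1 1 1 := by linear_combination h3
          rw [← had] at hd
          apply h2
          linear_combination h00 - hd
        · exact ht h3
  · rintro (rfl | rfl | h)
    · rw [map_one, one_mul]
    · rw [prj_neg_one, one_mul]
    · rw [← map_mul, mul_self_of_tr_eq_zero' Z h, prj_neg_one]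

theorem three_eq_zero [CharP F 3] : (3 : F) = 0 := by
  have := CharP.cast_eq_zero F 3
  exact_mod_cast this

theorem two_ne_zero_of_three [CharP F 3] : (2 : F) ≠ 0 := by
  intro h
  have h3 := three_eq_zero (F := F)
  have : (1 : F) = 0 := by linear_combination h3 - h
  exact one_ne_zero this

theorem prj_pow_three_iff [CharP F 3] (Z : SL2F) :
    (prj Z) ^ 3 = 1 ↔ (tr Z) ^ 2 = 1 := by
  have h3 := three_eq_zero (F := F)
  have hd := det' Z
  have e00 : (Z * Z * Z).1 0 0 = ((tr Z) ^ 2 - 1) * Z.1 0 0 - tr Z := by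
    unfold tr
    simp only [mul_00, mul_01, mul_10, mul_11]
    linear_combination (-(2 * Z.1 0 0 + Z.1 1 1)) * hd
  have e01 : (Z * Z * Z).1 0 1 = ((tr Z) ^ 2 - 1) * Z.1 0 1 := by
    unfold tr
    simp only [mul_00, mul_01, mul_10, mul_11]
    linear_combination (-(Z.1 0 1)) * hd
  have e10 : (Z * Z * Z).1 1 0 = ((tr Z) ^ 2 - 1) * Z.1 1 0 := by
    unfold tr
    simp only [mul_00, mul_01, mul_10, mul_11]
    linear_combination (-(Z.1 1 0)) * hd
  have e11 : (Z * Z * Z).1 1 1 = ((tr Z) ^ 2 - 1) * Z.1 1 1 - tr Z := by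
    unfold tr
    simp only [mul_00, mul_01, mul_10, mul_11]
    linear_combination (-(Z.1 0 0 + 2 * Z.1 1 1)) * hd
  have hpow : (prj Z) ^ 3 = prj (Z * Z * Z) := by
    rw [← map_pow]
    congr 1
    simp only [pow_succ, pow_zero, one_mul]
  rw [hpow, ← map_one prj, prj_eq_iff]
  constructor
  · intro h
    by_contra ht
    have ht' : (tr Z) ^ 2 - 1 ≠ 0 := fun h0 => ht (by linear_combination h0)
    have hb : Z.1 0 1 = 0 := by
      have h01 : (Z * Z * Z).1 0 1 = 0 := by
        rcases h with h | h
        · rw [h, one_01]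
        · rw [h, neg_01, one_01, neg_zero]
      rw [e01] at h01
      rcases mul_eq_zero.1 h01 with h | h
      · exact absurd h ht'
      · exact h
    have had : Z.1 0 0 = Z.1 1 1 := by
      have h00 : (Z * Z * Z).1 0 0 = (Z * Z * Z).1 1 1 := by
        rcases h with h | h
        · rw [h, one_00, one_11]
        · rw [h, neg_00, neg_11, one_00, one_11]
      rw [e00, e11] at h00
      have : ((tr Z) ^ 2 - 1) * (Z.1 0 0 - Z.1 1 1) = 0 := by linear_combination h00
      rcases mul_eq_zero.1 this with h | h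
      · exact absurd h ht'
      · linear_combination h
    apply ht
    unfold tr
    rw [hb, ← had] at hd
    rw [← had]
    linear_combination 4 * hd + h3
  · intro ht
    have hfac : (tr Z - 1) * (tr Z + 1) = 0 := by linear_combination ht
    rcases mul_eq_zero.1 hfac with h | h
    · right
      have ht1 : tr Z = 1 := by linear_combination h
      apply ext'
      · rw [e00, neg_00, one_00, ht1]; ring
      · rw [e01, neg_01, one_01, ht1]; ring
      · rw [e10, neg_10, one_10, ht1]; ring
      · rw [e11, neg_11, one_11, ht1]; ring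
    · left
      have ht1 : tr Z = -1 := by linear_combination h
      apply ext'
      · rw [e00, one_00, ht1]; ring
      · rw [e01, one_01, ht1]; ring
      · rw [e10, one_10, ht1]; ring
      · rw [e11, one_11, ht1]; ring

section Fin

variable [Fintype F]

/-- `PSL₂(F)` is not solvable -/
theorem not_isSolvable_PSL (h2 : (2 : F) ≠ 0) (h4 : 4 ≤ Fintype.card F) :
    ¬ Group.IsSolvable PSL2F := by
  intro hs
  haveI := Cfsg.Agent.Helper5.isSimpleGroup_PSL2_of_card h4
  have hcomm := (IsSimpleGroup.comm_iff_isSolvable (G := PSL2F)).2 hs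
  have h1 := hcomm (prj (uU 1)) (prj (vV 1))
  rw [← map_mul, ← map_mul, prj_eq_iff] at h1
  have e1 : (uU (1 : F)).1 0 0 = 1 := rfl
  have e2 : (uU (1 : F)).1 0 1 = 1 := rfl
  have e3 : (vV (1 : F)).1 0 0 = 1 := rfl
  have e4 : (vV (1 : F)).1 1 0 = 1 := rfl
  have e5 : (vV (1 : F)).1 0 1 = 0 := rfl
  have e6 : (uU (1 : F)).1 1 0 = 0 := rfl
  have e7 : (uU (1 : F)).1 1 1 = 1 := rfl
  have e8 : (vV (1 : F)).1 1 1 = 1 := rfl
  rcases h1 with h1 | h1
  · have h5 := congrArg (fun M : SL2F => M.1 0 0) h1
    simp only [mul_00, e1, e2, e3, e4, e5, e6] at h5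
    have : (1 : F) = 0 := by linear_combination h5
    exact one_ne_zero this
  · have h5 := congrArg (fun M : SL2F => M.1 0 1) h1
    simp only [mul_01, neg_01, e1, e2, e5, e8, e3, e7] at h5
    apply h2
    linear_combination h5

/-- a subgroup of Borel type lifts to a conjugate of the upper triangular group -/
theorem borel_lift (p : ℕ) [Fact p.Prime] [CharP F p] (H : Subgroup PSL2F) (hB : BorelType p H) :
    ∃ K : SL2F, ∀ Z : SL2F, prj Z ∈ H → (K * Z * K⁻¹).1 1 0 = 0 := by
  obtain ⟨P, g, hle⟩ := hB
  obtain ⟨k, -, hN⟩ := exists_conj_sylowP p P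
  obtain ⟨K, hK⟩ := prj_surjective (F := F) (k⁻¹ * g)
  refine ⟨K, ?_⟩
  intro Z hz
  have h1 := hle (Subgroup.mem_map_of_mem (MulAut.conj g).toMonoidHom hz)
  rw [hN] at h1
  obtain ⟨b, ⟨b0, hb0, rfl⟩, hb⟩ := h1
  have h3 : prj (K * Z * K⁻¹) = prj b0 := by
    rw [map_mul, map_mul, map_inv, hK]
    simp only [MulEquiv.coe_toMonoidHom, MulAut.conj_apply] at hb
    have : ∀ z : PSL2F, g * z * g⁻¹ = k * (QuotientGroup.mk' _ b0) * k⁻¹ →
        k⁻¹ * g * z * (k⁻¹ * g)⁻¹ = QuotientGroup.mk' _ b0 := by
      intro z hz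
      calc k⁻¹ * g * z * (k⁻¹ * g)⁻¹ = k⁻¹ * (g * z * g⁻¹) * k := by group
        _ = _ := by rw [hz]; group
    exact this _ hb.symm
  have hb0' : b0.1 1 0 = 0 := (mem_BB b0).1 hb0
  rcases (prj_eq_iff _ _).1 h3 with h | h
  · rw [h]; exact hb0'
  · rw [h, neg_10, hb0', neg_zero]

/-- the pair cases, lifted to `SL₂(F)` -/
theorem sl_cases3 [CharP F 3] (p : ℕ) (hp : p.Prime) (hodd : Odd p)
    (hF : Fintype.card F = 3 ^ p) (X Y : SL2F)
    (hs : Group.IsSolvable ↥(Subgroup.closure ({prj X, prj Y} : Set PSL2F))) :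
    (∃ K : SL2F, (K * X * K⁻¹).1 1 0 = 0 ∧ (K * Y * K⁻¹).1 1 0 = 0) ∨
      prj X * prj Y = prj Y * prj X ∨ prj Y * prj X * (prj Y)⁻¹ = (prj X)⁻¹ ∨
      (prj X * prj X = 1 ∧ prj Y * prj Y = 1) ∨
      (prj X * prj X = 1 ∧ (prj X * prj Y) * (prj X * prj Y) = 1) ∨
      A4Pair (prj X) (prj Y) := by
  have h2 : (2 : F) ≠ 0 := two_ne_zero_of_three
  have h4 : 4 ≤ Fintype.card F := by
    rw [hF]
    calc 4 ≤ 3 ^ 2 := by norm_num
      _ ≤ 3 ^ p := Nat.pow_le_pow_right (by norm_num) hp.two_le
  set H := Subgroup.closure ({prj X, prj Y} : Set PSL2F) with hH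
  have hHne : H ≠ ⊤ := by
    intro htop
    apply not_isSolvable_PSL h2 h4
    rw [htop] at hs
    exact Group.isSolvable_of_surjective (f := (Subgroup.topEquiv (G := PSL2F)).toMonoidHom)
      Subgroup.topEquiv.surjective
  have hx : prj X ∈ H := Subgroup.subset_closure (by simp)
  have hy : prj Y ∈ H := Subgroup.subset_closure (by simp)
  rcases psl_cases3 p hp hodd hF H hHne _ _ hx hy with hB | h | h | h | ⟨h, h'⟩ | h
  · left
    obtain ⟨K, hK⟩ := borel_lift 3 H hB
    exact ⟨K, hK X hx, hK Y hy⟩
  · exact Or.inr (Or.inl h)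
  · exact Or.inr (Or.inr (Or.inl h))
  · exact Or.inr (Or.inr (Or.inr (Or.inl h)))
  · right; right; right; right; left
    refine ⟨h, ?_⟩
    have hxi : (prj X)⁻¹ = prj X := inv_eq_of_mul_eq_one_right h
    rw [hxi] at h'
    calc prj X * prj Y * (prj X * prj Y) = (prj X * prj Y * prj X) * prj Y := by group
      _ = 1 := by rw [h', inv_mul_cancel]
  · exact Or.inr (Or.inr (Or.inr (Or.inr (Or.inr h))))

end Fin

/-- solvability passes to the image in `PSL₂` -/
theorem isSolvable_prj_of_isSolvable (X Y : SL2F)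
    (hs : Group.IsSolvable ↥(Subgroup.closure ({X, Y} : Set SL2F))) :
    Group.IsSolvable ↥(Subgroup.closure ({prj X, prj Y} : Set PSL2F)) := by
  have hmap : Subgroup.closure ({prj X, prj Y} : Set PSL2F) =
      (Subgroup.closure ({X, Y} : Set SL2F)).map prj := by
    rw [MonoidHom.map_closure, Set.image_pair]
  rw [hmap]
  exact Group.isSolvable_of_surjective
    (f := prj.subgroupMap (Subgroup.closure ({X, Y} : Set SL2F)))
    (MonoidHom.subgroupMap_surjective _ _)

end Cfsg.Agent.Helper41.Sol3
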