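import Mathlib
import Cfsg.Agent.Helper41.Sol3C

set_option autoImplicit false
set_option linter.style.haveILetI false
set_option linter.unusedSimpArgs false
set_option linter.unusedVariables false

/-!
# The solubilizers in `PSL₂(3^p)`: explicit descriptions in `SL₂`
-/

namespace Cfsg.Agent.Helper41.Sol3

open Matrix Cfsg.Agent.Helper46.Dk Cfsg.Agent.Helper41.DkR Cfsg.Agent.Helper41.Sol

variable {F : Type*} [Field F]

local notation "PSL2F" => Matrix.ProjectiveSpecialLinearGroup (Fin 2) F
local notation "SL2F" => Matrix.SpecialLinearGroup (Fin 2) F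

theorem tr_neg (Z : SL2F) : tr (-Z) = -tr Z := by
  unfold tr
  rw [neg_00, neg_11]; ring

theorem tr_inv (Z : SL2F) : tr Z⁻¹ = tr Z := by
  unfold tr
  rw [inv_00, inv_11]; ring

theorem three_pow_mod_four (p : ℕ) (hodd : Odd p) : 3 ^ p % 4 = 3 := by
  obtain ⟨k, rfl⟩ := hodd
  rw [pow_succ, pow_mul, Nat.mul_mod, Nat.pow_mod]
  norm_num

theorem three_pow_mod_eight (p : ℕ) (hodd : Odd p) : 3 ^ p % 8 = 3 := by
  obtain ⟨k, rfl⟩ := hodd
  rw [pow_succ, pow_mul, Nat.mul_mod, Nat.pow_mod]
  norm_num

/-- `-1` is not a square -/
theorem neg_one_not_sq [Fintype F] (p : ℕ) (hodd : Odd p) (hF : Fintype.card F = 3 ^ p) (a : F) :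
    a * a ≠ -1 := by
  intro h
  have hsq : IsSquare (-1 : F) := ⟨a, h.symm⟩
  rw [FiniteField.isSquare_neg_one_iff, hF] at hsq
  exact hsq (three_pow_mod_four p hodd)

theorem prj_mul_self_of_tr (Z : SL2F) (h : tr Z = 0) : prj Z * prj Z = 1 := by
  rw [← map_mul, mul_self_of_tr_eq_zero' Z h, prj_neg_one]

/-- an upper triangular matrix has a rational eigenvalue -/
theorem root_of_upper' (Z : SL2F) (h : Z.1 1 0 = 0) :
    (-(Z.1 0 0)) ^ 2 + tr Z * (-(Z.1 0 0)) + 1 = 0 := by
  have hd := det' Z
  rw [h] at hd
  unfold tr
  linear_combination -hd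

section Main

variable [Fintype F] [CharP F 3]

/-- the solubilizer of a split torus element -/
theorem sol3_dD_iff (p : ℕ) (hp : p.Prime) (hodd : Odd p) (hF : Fintype.card F = 3 ^ p) (l : Fˣ)
    (hl : (l : F) * l ≠ 1) (M : SL2F) :
    Group.IsSolvable ↥(Subgroup.closure ({prj (dD l), prj M} : Set PSL2F)) ↔
      M.1 1 0 = 0 ∨ M.1 0 1 = 0 ∨ (M.1 0 0 = 0 ∧ M.1 1 1 = 0) := by
  have h2 : (2 : F) ≠ 0 := two_ne_zero_of_three
  have h3 := three_eq_zero (F := F)
  set li : F := ((l⁻¹ : Fˣ) : F) with hli
  have hlli : (l : F) * li = 1 := by rw [hli, ← Units.val_mul, mul_inv_cancel, Units.val_one]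
  have hl0 : (l : F) ≠ 0 := l.ne_zero
  have hli0 : li ≠ 0 := by
    intro h
    rw [h, mul_zero] at hlli
    exact zero_ne_one hlli
  have e00 : (dD l).1 0 0 = (l : F) := rfl
  have e01 : (dD l).1 0 1 = 0 := rfl
  have e10 : (dD l).1 1 0 = 0 := rfl
  have e11 : (dD l).1 1 1 = li := rfl
  have hne : (l : F) - li ≠ 0 := by
    intro h
    apply hl
    have : (l : F) = li := sub_eq_zero.1 h
    rw [this] at hlli ⊢
    exact hlli
  -- `x` is not an involution
  have hxx : ¬ (prj (dD l) * prj (dD l) = 1) := by
    intro h
    rcases (prj_mul_self_iff h2 _).1 h with h | h | h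
    · have h00 := congrArg (fun Z : SL2F => Z.1 0 0) h
      simp only [e00, one_00] at h00
      apply hl
      rw [h00]; ring
    · have h00 := congrArg (fun Z : SL2F => Z.1 0 0) h
      simp only [e00, neg_00, one_00] at h00
      apply hl
      rw [h00]; ring
    · unfold tr at h
      rw [e00, e11] at h
      apply neg_one_not_sq p hodd hF (l : F)
      linear_combination (l : F) * h - hlli
  -- `x` is not of order three
  have hx3 : ¬ ((prj (dD l)) ^ 3 = 1) := by
    intro h
    rw [prj_pow_three_iff] at h
    unfold tr at h
    rw [e00, e11] at h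
    apply hl
    have : ((l : F) * l - 1) ^ 2 = 0 := by
      linear_combination ((l : F) ^ 2) * h - (2 * (l : F) ^ 2 + l * li + 1) * hlli - ((l : F) ^ 2) * h3
    have := pow_eq_zero_iff (two_ne_zero) |>.1 this
    linear_combination this
  constructor
  · intro hs
    rcases sl_cases3 p hp hodd hF _ _ hs with ⟨K, hK1, hK2⟩ | h | h | ⟨h, -⟩ | ⟨h, -⟩ | h
    · simp only [conj_10, e00, e01, e10, e11] at hK1
      have hkk : K.1 1 0 * K.1 1 1 * ((l : F) - li) = 0 := by linear_combination hK1
      have hd := det' K
      rcases mul_eq_zero.1 hkk with h | h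
      · rcases mul_eq_zero.1 h with hk | hk
        · left
          rw [conj_10, hk] at hK2
          rw [hk] at hd
          have hk11 : K.1 1 1 ≠ 0 := by
            intro h0
            rw [h0] at hd
            simp at hd
          have : K.1 1 1 * K.1 1 1 * M.1 1 0 = 0 := by linear_combination hK2
          rcases mul_eq_zero.1 this with h | h
          · rcases mul_eq_zero.1 h with h | h <;> exact absurd h hk11
          · exact h
        · right; left
          rw [conj_10, hk] at hK2
          rw [hk] at hd
          have hk10 : K.1 1 0 ≠ 0 := by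
            intro h0
            rw [h0] at hd
            simp at hd
          have : K.1 1 0 * K.1 1 0 * M.1 0 1 = 0 := by linear_combination -hK2
          rcases mul_eq_zero.1 this with h | h
          · rcases mul_eq_zero.1 h with h | h <;> exact absurd h hk10
          · exact h
      · exact absurd h hne
    · rw [← map_mul, ← map_mul, prj_eq_iff] at h
      rcases h with h | h
      · right; left
        have h1 := congrArg (fun Z : SL2F => Z.1 0 1) h
        simp only [mul_01, e00, e01, e10, e11] at h1
        have : M.1 0 1 * ((l : F) - li) = 0 := by linear_combination h1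
        rcases mul_eq_zero.1 this with h | h
        · exact h
        · exact absurd h hne
      · right; right
        have h00 := congrArg (fun Z : SL2F => Z.1 0 0) h
        have h11 := congrArg (fun Z : SL2F => Z.1 1 1) h
        simp only [mul_00, mul_11, neg_00, neg_11, e00, e01, e10, e11] at h00 h11
        constructor
        · have : (2 * (l : F)) * M.1 0 0 = 0 := by linear_combination h00
          rcases mul_eq_zero.1 this with h | h
          · exact absurd h (mul_ne_zero h2 hl0)
          · exact h
        · have : (2 * li) * M.1 1 1 = 0 := by linear_combination h11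
          rcases mul_eq_zero.1 this with h | h
          · exact absurd h (mul_ne_zero h2 hli0)
          · exact h
    · rw [← map_mul, ← map_inv, ← map_mul, ← map_inv, prj_eq_iff] at h
      rcases h with h | h
      · right; right
        rw [mul_inv_eq_iff_eq_mul] at h
        have h00 := congrArg (fun Z : SL2F => Z.1 0 0) h
        have h11 := congrArg (fun Z : SL2F => Z.1 1 1) h
        simp only [mul_00, mul_11, inv_00, inv_01, inv_10, inv_11, e00, e01, e10, e11] at h00 h11
        constructor
        · have : M.1 0 0 * ((l : F) - li) = 0 := by linear_combination h00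
          rcases mul_eq_zero.1 this with h | h
          · exact h
          · exact absurd h hne
        · have : M.1 1 1 * ((l : F) - li) = 0 := by linear_combination -h11
          rcases mul_eq_zero.1 this with h | h
          · exact h
          · exact absurd h hne
      · right; left
        rw [mul_inv_eq_iff_eq_mul, neg_mul] at h
        have h01 := congrArg (fun Z : SL2F => Z.1 0 1) h
        simp only [mul_01, neg_01, inv_00, inv_01, inv_10, inv_11, e00, e01, e10, e11] at h01
        have : (2 * li) * M.1 0 1 = 0 := by linear_combination h01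
        rcases mul_eq_zero.1 this with h | h
        · exact absurd h (mul_ne_zero h2 hli0)
        · exact h
    · exact absurd h hxx
    · exact absurd h hxx
    · rcases h with ⟨h, -, -⟩ | ⟨h, -, -⟩ | ⟨h, -, -⟩
      · exact absurd h hxx
      · exact absurd h hx3
      · exact absurd h hx3
  · intro h
    apply isSolvable_prj_of_isSolvable
    rcases h with h | h | ⟨ha, hd0⟩
    · exact isSolvable_of_BB _ _ e10 h
    · apply isSolvable_of_conj_BB wW
      · simp only [conj_10, e00, e01, e10, e11]
        have w10 : (wW : SL2F).1 1 0 = -1 := rfl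
        have w11 : (wW : SL2F).1 1 1 = 0 := rfl
        rw [w10, w11]; ring
      · simp only [conj_10]
        have w10 : (wW : SL2F).1 1 0 = -1 := rfl
        have w11 : (wW : SL2F).1 1 1 = 0 := rfl
        rw [w10, w11, h]; ring
    · apply isSolvable_closure_of_invert
      have hd := det' M
      rw [ha, hd0] at hd
      apply ext'
      · simp only [conj_00, inv_00, e00, e01, e10, e11, ha, hd0]
        linear_combination li * hd
      · simp only [conj_01, inv_01, e00, e01, e10, e11, ha, hd0]
        ring
      · simp only [conj_10, inv_10, e00, e01, e10, e11, ha, hd0]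
        ring
      · simp only [conj_11, inv_11, e00, e01, e10, e11, ha, hd0]
        linear_combination (l : F) * hd

/-- the solubilizer of a nonsplit torus element -/
theorem sol3_nonsplit_iff (p : ℕ) (hp : p.Prime) (hodd : Odd p) (hF : Fintype.card F = 3 ^ p)
    (X : SL2F) (ht : tr X ≠ 0) (hroot : ∀ a : F, a ^ 2 + tr X * a + 1 ≠ 0) (M : SL2F) :
    Group.IsSolvable ↥(Subgroup.closure ({prj X, prj M} : Set PSL2F)) ↔
      M * X = X * M ∨ M * X * M⁻¹ = X⁻¹ := by
  have h2 : (2 : F) ≠ 0 := two_ne_zero_of_three
  have h3 := three_eq_zero (F := F)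
  have hxx : ¬ (prj X * prj X = 1) := by
    intro h
    rcases (prj_mul_self_iff h2 _).1 h with h | h | h
    · apply hroot (-1)
      rw [h]
      unfold tr
      rw [one_00, one_11]; ring
    · apply hroot 1
      rw [h]
      unfold tr
      rw [neg_00, neg_11, one_00, one_11]; ring
    · exact ht h
  have hx3 : ¬ ((prj X) ^ 3 = 1) := by
    intro h
    rw [prj_pow_three_iff] at h
    have hfac : (tr X - 1) * (tr X + 1) = 0 := by linear_combination h
    rcases mul_eq_zero.1 hfac with h | h
    · apply hroot 1
      have : tr X = 1 := by linear_combination h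
      rw [this]
      linear_combination h3
    · apply hroot (-1)
      have : tr X = -1 := by linear_combination h
      rw [this]
      linear_combination h3
  have hneg : ∀ Z : SL2F, tr Z = tr X → X ≠ -Z := by
    intro Z hZ h
    have := congrArg tr h
    rw [tr_neg, hZ] at this
    apply ht
    have h4 : 2 * tr X = 0 := by linear_combination this
    rcases mul_eq_zero.1 h4 with h | h
    · exact absurd h h2
    · exact h
  constructor
  · intro hs
    rcases sl_cases3 p hp hodd hF _ _ hs with ⟨K, hK1, -⟩ | h | h | ⟨h, -⟩ | ⟨h, -⟩ | h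
    · exfalso
      have := root_of_upper' _ hK1
      rw [tr_conj] at this
      exact hroot _ this
    · rw [← map_mul, ← map_mul, prj_eq_iff] at h
      rcases h with h | h
      · exact Or.inl h.symm
      · exfalso
        apply hneg (M * X * M⁻¹) (tr_conj _ _)
        rw [← neg_mul, ← h, mul_inv_cancel_right]
    · rw [← map_mul, ← map_inv, ← map_mul, ← map_inv, prj_eq_iff] at h
      rcases h with h | h
      · exact Or.inr h
      · exfalso
        apply hneg (M * X * M⁻¹)⁻¹ (by rw [tr_inv, tr_conj])
        rw [h, inv_neg, inv_inv, neg_neg]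
    · exact absurd h hxx
    · exact absurd h hxx
    · rcases h with ⟨h, -, -⟩ | ⟨h, -, -⟩ | ⟨h, -, -⟩
      · exact absurd h hxx
      · exact absurd h hx3
      · exact absurd h hx3
  · intro h
    apply isSolvable_prj_of_isSolvable
    rcases h with h | h
    · exact isSolvable_closure_of_commute h.symm
    · exact isSolvable_closure_of_invert h

/-- the solubilizer of an involution -/
theorem sol3_wW_iff (p : ℕ) (hp : p.Prime) (hodd : Odd p) (hF : Fintype.card F = 3 ^ p)
    (M : SL2F) :
    Group.IsSolvable ↥(Subgroup.closure ({prj wW, prj M} : Set PSL2F)) ↔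
      (M.1 0 0 = M.1 1 1 ∧ M.1 0 1 = -M.1 1 0) ∨ tr M = 0 ∨ M.1 1 0 - M.1 0 1 = 0 ∨
        ((tr M) ^ 2 = 1 ∧ (M.1 1 0 - M.1 0 1) ^ 2 = 1) := by
  have h2 : (2 : F) ≠ 0 := two_ne_zero_of_three
  have h3 := three_eq_zero (F := F)
  have w00 : (wW : SL2F).1 0 0 = 0 := rfl
  have w01 : (wW : SL2F).1 0 1 = 1 := rfl
  have w10 : (wW : SL2F).1 1 0 = -1 := rfl
  have w11 : (wW : SL2F).1 1 1 = 0 := rfl
  have htw : tr (wW : SL2F) = 0 := by
    unfold tr; rw [w00, w11]; ring
  have htwM : tr (wW * M) = M.1 1 0 - M.1 0 1 := by
    unfold tr
    rw [mul_00, mul_11, w00, w01, w10, w11]; ring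
  have hxx : prj (wW : SL2F) * prj wW = 1 := prj_mul_self_of_tr _ htw
  have hx3 : ¬ ((prj (wW : SL2F)) ^ 3 = 1) := by
    intro h
    rw [prj_pow_three_iff, htw] at h
    have : (1 : F) = 0 := by linear_combination -h
    exact one_ne_zero this
  constructor
  · intro hs
    rcases sl_cases3 p hp hodd hF _ _ hs with ⟨K, hK1, -⟩ | h | h | ⟨-, h⟩ | ⟨-, h⟩ | h
    · exfalso
      have := root_of_upper' _ hK1
      rw [tr_conj, htw] at this
      apply neg_one_not_sq p hodd hF (-(K * wW * K⁻¹).1 0 0)
      linear_combination this
    · rw [← map_mul, ← map_mul, prj_eq_iff] at h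
      rcases h with h | h
      · left
        have h00 := congrArg (fun Z : SL2F => Z.1 0 0) h
        have h01 := congrArg (fun Z : SL2F => Z.1 0 1) h
        simp only [mul_00, mul_01, w00, w01, w10, w11] at h00 h01
        exact ⟨by linear_combination -h01, by linear_combination h00⟩
      · right; left
        have h01 := congrArg (fun Z : SL2F => Z.1 0 1) h
        simp only [mul_01, neg_01, w00, w01, w10, w11] at h01
        unfold tr
        linear_combination h01
    · rw [← map_mul, ← map_inv, ← map_mul, ← map_inv, prj_eq_iff] at h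
      rcases h with h | h
      · right; left
        rw [mul_inv_eq_iff_eq_mul] at h
        have h01 := congrArg (fun Z : SL2F => Z.1 0 1) h
        simp only [mul_01, inv_00, inv_01, inv_10, inv_11, w00, w01, w10, w11] at h01
        unfold tr
        linear_combination h01
      · left
        rw [mul_inv_eq_iff_eq_mul, neg_mul] at h
        have h00 := congrArg (fun Z : SL2F => Z.1 0 0) h
        have h01 := congrArg (fun Z : SL2F => Z.1 0 1) h
        simp only [mul_00, mul_01, neg_00, neg_01, inv_00, inv_01, inv_10, inv_11,
          w00, w01, w10, w11] at h00 h01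
        exact ⟨by linear_combination h01, by linear_combination -h00⟩
    · rcases (prj_mul_self_iff h2 _).1 h with h | h | h
      · left
        rw [h, one_00, one_11, one_01, one_10]
        exact ⟨rfl, by ring⟩
      · left
        rw [h, neg_00, neg_11, neg_01, neg_10, one_00, one_11, one_01, one_10]
        exact ⟨rfl, by ring⟩
      · exact Or.inr (Or.inl h)
    · rw [← map_mul] at h
      rcases (prj_mul_self_iff h2 _).1 h with h | h | h
      · right; left
        have h01 := congrArg (fun Z : SL2F => Z.1 0 1) h
        have h10 := congrArg (fun Z : SL2F => Z.1 1 0) h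
        simp only [mul_01, mul_10, w00, w01, w10, w11, one_01, one_10] at h01 h10
        unfold tr
        linear_combination h01 - h10
      · right; left
        have h01 := congrArg (fun Z : SL2F => Z.1 0 1) h
        have h10 := congrArg (fun Z : SL2F => Z.1 1 0) h
        simp only [mul_01, mul_10, neg_01, neg_10, w00, w01, w10, w11, one_01, one_10] at h01 h10
        unfold tr
        linear_combination h01 - h10
      · right; right; left
        rw [← htwM]; exact h
    · rcases h with ⟨-, hy, hxy⟩ | ⟨h, -, -⟩ | ⟨h, -, -⟩
      · right; right; right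
        rw [← map_mul, prj_pow_three_iff, htwM] at hxy
        rw [prj_pow_three_iff] at hy
        exact ⟨hy, hxy⟩
      · exact absurd h hx3
      · exact absurd h hx3
  · rintro (⟨h1, h2'⟩ | h | h | ⟨h, h'⟩)
    · apply isSolvable_prj_of_isSolvable
      apply isSolvable_closure_of_commute
      apply ext'
      · simp only [mul_00, w00, w01, w10, w11]
        linear_combination h2'
      · simp only [mul_01, w00, w01, w10, w11]
        linear_combination -h1
      · simp only [mul_10, w00, w01, w10, w11]
        linear_combination -h1
      · simp only [mul_11, w00, w01, w10, w11]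
        linear_combination -h2'
    · exact isSolvable_closure_of_involutions hxx (prj_mul_self_of_tr _ h)
    · apply isSolvable_closure_of_invert'
      have hq : prj (wW * M) * prj (wW * M) = 1 := prj_mul_self_of_tr _ (by rw [htwM]; exact h)
      rw [map_mul] at hq
      have hxi : (prj (wW : SL2F))⁻¹ = prj wW := inv_eq_of_mul_eq_one_right hxx
      rw [hxi]
      calc prj wW * prj M * prj wW = (prj wW * prj M * (prj wW * prj M)) * (prj M)⁻¹ := by group
        _ = (prj M)⁻¹ := by rw [hq, one_mul]
    · apply isSolvable_closure_of_A4Pair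
      left
      refine ⟨hxx, (prj_pow_three_iff _).2 h, ?_⟩
      rw [← map_mul, prj_pow_three_iff, htwM]
      exact h'

/-- the solubilizer of an element of order three -/
theorem sol3_uU_iff (p : ℕ) (hp : p.Prime) (hodd : Odd p) (hF : Fintype.card F = 3 ^ p)
    (β : F) (hβ : β ≠ 0) (M : SL2F) :
    Group.IsSolvable ↥(Subgroup.closure ({prj (uU β), prj M} : Set PSL2F)) ↔
      M.1 1 0 = 0 ∨ ((β * M.1 1 0) ^ 2 = 1 ∧ (tr M = 0 ∨ (tr M) ^ 2 = 1)) := by
  have h2 : (2 : F) ≠ 0 := two_ne_zero_of_three
  have h3 := three_eq_zero (F := F)
  have e00 : (uU β).1 0 0 = 1 := rfl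
  have e01 : (uU β).1 0 1 = β := rfl
  have e10 : (uU β).1 1 0 = 0 := rfl
  have e11 : (uU β).1 1 1 = 1 := rfl
  have htu : tr (uU β) = 2 := by
    unfold tr; rw [e00, e11]; ring
  have htuM : tr (uU β * M) = tr M + β * M.1 1 0 := by
    unfold tr
    rw [mul_00, mul_11, e00, e01, e10, e11]; ring
  have htuMi : tr (uU β * M⁻¹) = tr M - β * M.1 1 0 := by
    unfold tr
    rw [mul_00, mul_11, inv_00, inv_10, inv_01, inv_11, e00, e01, e10, e11]; ring
  have huM10 : (uU β * M).1 1 0 = M.1 1 0 := by
    rw [mul_10, e10, e11]; ring
  have huMi10 : (uU β * M⁻¹).1 1 0 = -M.1 1 0 := by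
    rw [mul_10, inv_00, inv_10, e10, e11]; ring
  have hx3 : (prj (uU β)) ^ 3 = 1 := by
    rw [prj_pow_three_iff, htu]
    linear_combination h3
  have hxx : ¬ (prj (uU β) * prj (uU β) = 1) := by
    intro h
    rcases (prj_mul_self_iff h2 _).1 h with h | h | h
    · have h01 := congrArg (fun Z : SL2F => Z.1 0 1) h
      simp only [e01, one_01] at h01
      exact hβ h01
    · have h00 := congrArg (fun Z : SL2F => Z.1 0 0) h
      simp only [e00, neg_00, one_00] at h00
      apply h2
      linear_combination h00
    · rw [htu] at h
      exact h2 h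
  -- a scalar matrix has vanishing lower left entry
  have hsc : ∀ Z : SL2F, Z = 1 ∨ Z = -1 → Z.1 1 0 = 0 := by
    rintro Z (rfl | rfl)
    · exact one_10
    · rw [neg_10, one_10, neg_zero]
  constructor
  · intro hs
    rcases sl_cases3 p hp hodd hF _ _ hs with ⟨K, hK1, hK2⟩ | h | h | ⟨h, -⟩ | ⟨h, -⟩ | h
    · left
      simp only [conj_10, e00, e01, e10, e11] at hK1
      have hk : K.1 1 0 = 0 := by
        have : β * (K.1 1 0 * K.1 1 0) = 0 := by linear_combination -hK1
        rcases mul_eq_zero.1 this with h | h
        · exact absurd h hβ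
        · exact mul_self_eq_zero.1 h
      have hd := det' K
      rw [conj_10, hk] at hK2
      rw [hk] at hd
      have hk11 : K.1 1 1 ≠ 0 := by
        intro h0
        rw [h0] at hd
        simp at hd
      have : K.1 1 1 * K.1 1 1 * M.1 1 0 = 0 := by linear_combination hK2
      rcases mul_eq_zero.1 this with h | h
      · rcases mul_eq_zero.1 h with h | h <;> exact absurd h hk11
      · exact h
    · left
      rw [← map_mul, ← map_mul, prj_eq_iff] at h
      rcases h with h | h
      · have h00 := congrArg (fun Z : SL2F => Z.1 0 0) h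
        simp only [mul_00, e00, e01, e10, e11] at h00
        have : β * M.1 1 0 = 0 := by linear_combination h00
        rcases mul_eq_zero.1 this with h | h
        · exact absurd h hβ
        · exact h
      · have h10 := congrArg (fun Z : SL2F => Z.1 1 0) h
        simp only [mul_10, neg_10, e00, e01, e10, e11] at h10
        have : 2 * M.1 1 0 = 0 := by linear_combination h10
        rcases mul_eq_zero.1 this with h | h
        · exact absurd h h2
        · exact h
    · left
      rw [← map_mul, ← map_inv, ← map_mul, ← map_inv, prj_eq_iff] at h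
      rcases h with h | h
      · rw [mul_inv_eq_iff_eq_mul] at h
        have h00 := congrArg (fun Z : SL2F => Z.1 0 0) h
        simp only [mul_00, inv_00, inv_01, inv_10, inv_11, e00, e01, e10, e11] at h00
        have : β * M.1 1 0 = 0 := by linear_combination h00
        rcases mul_eq_zero.1 this with h | h
        · exact absurd h hβ
        · exact h
      · rw [mul_inv_eq_iff_eq_mul, neg_mul] at h
        have h10 := congrArg (fun Z : SL2F => Z.1 1 0) h
        simp only [mul_10, neg_10, inv_00, inv_01, inv_10, inv_11, e00, e01, e10, e11] at h10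
        have : 2 * M.1 1 0 = 0 := by linear_combination h10
        rcases mul_eq_zero.1 this with h | h
        · exact absurd h h2
        · exact h
    · exact absurd h hxx
    · exact absurd h hxx
    · rcases h with ⟨h, -, -⟩ | ⟨-, hy, hxy⟩ | ⟨-, hy, hxy | hxy⟩
      · exact absurd h hxx
      · rcases (prj_mul_self_iff h2 _).1 hy with h | h | h
        · exact Or.inl (hsc _ (Or.inl h))
        · exact Or.inl (hsc _ (Or.inr h))
        · right
          rw [← map_mul, prj_pow_three_iff, htuM, h, zero_add] at hxy
          exact ⟨hxy, Or.inl h⟩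
      · rw [prj_pow_three_iff] at hy
        rw [← map_mul] at hxy
        rcases (prj_mul_self_iff h2 _).1 hxy with h | h | h
        · left
          rw [← huM10]; exact hsc _ (Or.inl h)
        · left
          rw [← huM10]; exact hsc _ (Or.inr h)
        · right
          rw [htuM] at h
          refine ⟨?_, Or.inr hy⟩
          have : β * M.1 1 0 = -tr M := by linear_combination h
          rw [this]
          linear_combination hy
      · rw [prj_pow_three_iff] at hy
        rw [← map_inv, ← map_mul] at hxy
        rcases (prj_mul_self_iff h2 _).1 hxy with h | h | h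
        · left
          have := hsc _ (Or.inl h)
          rw [huMi10] at this
          exact neg_eq_zero.1 this
        · left
          have := hsc _ (Or.inr h)
          rw [huMi10] at this
          exact neg_eq_zero.1 this
        · right
          rw [htuMi] at h
          refine ⟨?_, Or.inr hy⟩
          have : β * M.1 1 0 = tr M := by linear_combination -h
          rw [this]
          exact hy
  · rintro (h | ⟨hc, h | h⟩)
    · apply isSolvable_prj_of_isSolvable
      exact isSolvable_of_BB _ _ e10 h
    · apply isSolvable_closure_of_A4Pair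
      right; left
      refine ⟨hx3, prj_mul_self_of_tr _ h, ?_⟩
      rw [← map_mul, prj_pow_three_iff, htuM, h, zero_add]
      exact hc
    · apply isSolvable_closure_of_A4Pair
      right; right
      refine ⟨hx3, (prj_pow_three_iff _).2 h, ?_⟩
      have hfac : (β * M.1 1 0 + tr M) * (β * M.1 1 0 - tr M) = 0 := by
        linear_combination hc - h
      rcases mul_eq_zero.1 hfac with h' | h'
      · left
        rw [← map_mul]
        apply prj_mul_self_of_tr
        rw [htuM]
        linear_combination h'
      · right
        rw [← map_inv, ← map_mul]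
        apply prj_mul_self_of_tr
        rw [htuMi]
        linear_combination -h'

end Main

end Cfsg.Agent.Helper41.Sol3
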