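import Mathlib
import Cfsg.Agent.Helper46.PSL2Borel

set_option autoImplicit false
set_option linter.style.haveILetI false
set_option linter.unusedSimpArgs false

/-!
# Counting matrices in `SL₂(F)` by shape
-/

namespace Cfsg.Agent.Helper41.Sol

open Matrix Cfsg.Agent.Helper46.Dk

section Generic

/-- the elements commuting with or inverting `X` -/
theorem card_comm_or_invert {G : Type*} [Group G] [Finite G] (X W : G)
    (hW : W * X * W⁻¹ = X⁻¹) (hsq : X * X ≠ 1) :
    Nat.card {M : G // M * X = X * M ∨ M * X * M⁻¹ = X⁻¹} =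
      2 * Nat.card (Subgroup.centralizer ({X} : Set G)) := by
  classical
  have hdisj : Disjoint (fun M : G => M * X = X * M) (fun M : G => M * X * M⁻¹ = X⁻¹) := by
    rw [disjoint_iff_inf_le]
    intro M hM
    obtain ⟨h1, h2⟩ := hM
    apply hsq
    have h1' : M * X = X * M := h1
    have h2' : M * X * M⁻¹ = X⁻¹ := h2
    rw [h1', mul_inv_cancel_right] at h2'
    calc X * X = X * X⁻¹ := by rw [← h2']
      _ = 1 := mul_inv_cancel X
  rw [Nat.card_congr (subtypeOrEquiv _ _ hdisj), Nat.card_sum]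
  have e1 : {M : G // M * X = X * M} ≃ Subgroup.centralizer ({X} : Set G) :=
    Equiv.subtypeEquivRight (fun M => Subgroup.mem_centralizer_singleton_iff.symm)
  have e2 : {M : G // M * X * M⁻¹ = X⁻¹} ≃ {M : G // M * X = X * M} := by
    refine ⟨fun M => ⟨W⁻¹ * M.1, ?_⟩, fun M => ⟨W * M.1, ?_⟩, ?_, ?_⟩
    · obtain ⟨M, h⟩ := M
      have hW' : W⁻¹ * X⁻¹ * W = X := by rw [← hW]; group
      have hM' : M * X = X⁻¹ * M := by
        calc M * X = M * X * M⁻¹ * M := by group
          _ = X⁻¹ * M := by rw [h]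
      show W⁻¹ * M * X = X * (W⁻¹ * M)
      calc W⁻¹ * M * X = W⁻¹ * (M * X) := by group
        _ = W⁻¹ * X⁻¹ * W * (W⁻¹ * M) := by rw [hM']; group
        _ = X * (W⁻¹ * M) := by rw [hW']
    · obtain ⟨M, h⟩ := M
      show W * M * X * (W * M)⁻¹ = X⁻¹
      calc W * M * X * (W * M)⁻¹ = W * (M * X) * M⁻¹ * W⁻¹ := by group
        _ = W * X * W⁻¹ := by rw [h]; group
        _ = X⁻¹ := hW
    · intro M
      apply Subtype.ext
      show W * (W⁻¹ * M.1) = M.1
      group
    · intro M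
      apply Subtype.ext
      show W⁻¹ * (W * M.1) = M.1
      group
  rw [Nat.card_congr e2, Nat.card_congr e1]
  ring

end Generic

variable {F : Type*} [Field F]

local notation "SL2F" => Matrix.SpecialLinearGroup (Fin 2) F

/-- matrices with prescribed trace as a function of the lower left entry -/
noncomputable def trFibreEquiv (f : F → F) :
    {M : SL2F // M.1 1 0 ≠ 0 ∧ tr M = f (M.1 1 0)} ≃ Fˣ × F where
  toFun M := (Units.mk0 (M.1.1 1 0) M.2.1, M.1.1 0 0)
  invFun x := ⟨mk4 x.2 ((x.2 * (f x.1 - x.2) - 1) / x.1) x.1 (f x.1 - x.2) (by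
      have := x.1.ne_zero
      field_simp
      ring), by
    refine ⟨?_, ?_⟩
    · simp only [mk4_10]
      exact x.1.ne_zero
    · unfold tr
      simp only [mk4_00, mk4_11, mk4_10]
      ring⟩
  left_inv := by
    rintro ⟨M, hc, ht⟩
    apply Subtype.ext
    unfold tr at ht
    have hd := det' M
    apply ext'
    · rfl
    · simp only [mk4_01, Units.val_mk0]
      rw [div_eq_iff hc]
      linear_combination (-(M.1 0 0)) * ht + hd
    · rfl
    · simp only [mk4_11, Units.val_mk0]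
      linear_combination -ht
  right_inv := by
    rintro ⟨c, a⟩
    apply Prod.ext
    · apply Units.ext
      rfl
    · rfl

/-- lower triangular, not diagonal... : `M 0 1 = 0` and `M 1 0 ≠ 0` -/
noncomputable def lowerEquiv :
    {M : SL2F // M.1 1 0 ≠ 0 ∧ M.1 0 1 = 0} ≃ Fˣ × Fˣ where
  toFun M := (Units.mk0 (M.1.1 1 0) M.2.1, Units.mk0 (M.1.1 0 0) (by
    intro h
    have hd := det' M.1
    rw [h, M.2.2] at hd
    simp at hd))
  invFun x := ⟨mk4 x.2 0 x.1 ((x.2⁻¹ : Fˣ) : F) (by simp), by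
    refine ⟨?_, ?_⟩
    · simp only [mk4_10]
      exact x.1.ne_zero
    · simp only [mk4_01]⟩
  left_inv := by
    rintro ⟨M, hc, hb⟩
    apply Subtype.ext
    have hd := det' M
    rw [hb] at hd
    apply ext'
    · rfl
    · simp only [mk4_01]
      exact hb.symm
    · rfl
    · simp only [mk4_11]
      rw [Units.val_inv_eq_inv_val, Units.val_mk0]
      apply inv_eq_of_mul_eq_one_right
      linear_combination hd
  right_inv := by
    rintro ⟨c, a⟩
    apply Prod.ext
    · apply Units.ext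
      rfl
    · apply Units.ext
      rfl

/-- antidiagonal matrices -/
noncomputable def antiEquiv :
    {M : SL2F // M.1 0 0 = 0 ∧ M.1 1 1 = 0} ≃ Fˣ where
  toFun M := Units.mk0 (M.1.1 0 1) (by
    intro h
    have hd := det' M.1
    rw [h, M.2.1] at hd
    simp at hd)
  invFun x := ⟨mk4 0 (x : F) (-((x⁻¹ : Fˣ) : F)) 0 (by simp), by
    refine ⟨?_, ?_⟩
    · simp only [mk4_00]
    · simp only [mk4_11]⟩
  left_inv := by
    rintro ⟨M, ha, hd0⟩
    apply Subtype.ext
    have hd := det' M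
    rw [ha, hd0] at hd
    apply ext'
    · simp only [mk4_00]
      exact ha.symm
    · rfl
    · simp only [mk4_10]
      rw [Units.val_inv_eq_inv_val, Units.val_mk0, neg_eq_iff_eq_neg]
      apply inv_eq_of_mul_eq_one_right
      linear_combination hd
    · simp only [mk4_11]
      exact hd0.symm
  right_inv := by
    intro x
    apply Units.ext
    rfl

variable [Fintype F]

theorem card_trFibre (f : F → F) :
    Nat.card {M : SL2F // M.1 1 0 ≠ 0 ∧ tr M = f (M.1 1 0)} =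
      (Fintype.card F - 1) * Fintype.card F := by
  rw [Nat.card_congr (trFibreEquiv f), Nat.card_prod, Nat.card_units, Nat.card_eq_fintype_card]

theorem card_upper : Nat.card {M : SL2F // M.1 1 0 = 0} =
    Fintype.card F * (Fintype.card F - 1) := by
  rw [← card_BBF]
  rfl

/-- the count for the solubilizer of a transvection -/
theorem card_sol_uU :
    Nat.card {M : SL2F // M.1 1 0 = 0 ∨ (M.1 1 0 ≠ 0 ∧ tr M = 0) ∨
      (M.1 1 0 ≠ 0 ∧ tr M = M.1 1 0)} =
      3 * Fintype.card F * (Fintype.card F - 1) := by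
  classical
  have hd1 : Disjoint (fun M : SL2F => M.1 1 0 = 0)
      (fun M : SL2F => (M.1 1 0 ≠ 0 ∧ tr M = 0) ∨ (M.1 1 0 ≠ 0 ∧ tr M = M.1 1 0)) := by
    rw [disjoint_iff_inf_le]
    rintro M ⟨h1, h2⟩
    have h1' : M.1 1 0 = 0 := h1
    rcases h2 with h | h <;> exact h.1 h1'
  have hd2 : Disjoint (fun M : SL2F => M.1 1 0 ≠ 0 ∧ tr M = 0)
      (fun M : SL2F => M.1 1 0 ≠ 0 ∧ tr M = M.1 1 0) := by
    rw [disjoint_iff_inf_le]
    rintro M ⟨h1, h2⟩
    have h1' : M.1 1 0 ≠ 0 ∧ tr M = 0 := h1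
    have h2' : M.1 1 0 ≠ 0 ∧ tr M = M.1 1 0 := h2
    apply h1'.1
    rw [← h2'.2, h1'.2]
  rw [Nat.card_congr (subtypeOrEquiv _ _ hd1), Nat.card_sum,
    Nat.card_congr (subtypeOrEquiv _ _ hd2), Nat.card_sum, card_upper,
    card_trFibre (fun _ => 0), card_trFibre (fun c => c)]
  ring

/-- the count for the solubilizer of a split torus element -/
theorem card_sol_dD :
    Nat.card {M : SL2F // M.1 1 0 = 0 ∨ M.1 0 1 = 0 ∨ (M.1 0 0 = 0 ∧ M.1 1 1 = 0)} =
      2 * Fintype.card F * (Fintype.card F - 1) := by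
  classical
  have hiff : ∀ M : SL2F, (M.1 1 0 = 0 ∨ M.1 0 1 = 0 ∨ (M.1 0 0 = 0 ∧ M.1 1 1 = 0)) ↔
      (M.1 1 0 = 0 ∨ (M.1 1 0 ≠ 0 ∧ M.1 0 1 = 0) ∨ (M.1 0 0 = 0 ∧ M.1 1 1 = 0)) := by
    intro M
    by_cases h : M.1 1 0 = 0
    · simp [h]
    · simp [h]
  rw [Nat.card_congr (Equiv.subtypeEquivRight hiff)]
  have hd1 : Disjoint (fun M : SL2F => M.1 1 0 = 0)
      (fun M : SL2F => (M.1 1 0 ≠ 0 ∧ M.1 0 1 = 0) ∨ (M.1 0 0 = 0 ∧ M.1 1 1 = 0)) := by
    rw [disjoint_iff_inf_le]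
    rintro M ⟨h1, h2⟩
    have h1' : M.1 1 0 = 0 := h1
    rcases h2 with h | h
    · exact h.1 h1'
    · have hd := det' M
      rw [h.1, h1'] at hd
      simp at hd
  have hd2 : Disjoint (fun M : SL2F => M.1 1 0 ≠ 0 ∧ M.1 0 1 = 0)
      (fun M : SL2F => M.1 0 0 = 0 ∧ M.1 1 1 = 0) := by
    rw [disjoint_iff_inf_le]
    rintro M ⟨h1, h2⟩
    have h1' : M.1 1 0 ≠ 0 ∧ M.1 0 1 = 0 := h1
    have h2' : M.1 0 0 = 0 ∧ M.1 1 1 = 0 := h2
    have hd := det' M
    rw [h2'.1, h1'.2] at hd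
    simp at hd
  rw [Nat.card_congr (subtypeOrEquiv _ _ hd1), Nat.card_sum,
    Nat.card_congr (subtypeOrEquiv _ _ hd2), Nat.card_sum, card_upper,
    Nat.card_congr lowerEquiv, Nat.card_congr antiEquiv, Nat.card_prod, Nat.card_units,
    Nat.card_eq_fintype_card]
  have hq : 1 ≤ Fintype.card F := Fintype.card_pos
  obtain ⟨m, hm⟩ : ∃ m, Fintype.card F = m + 1 := ⟨Fintype.card F - 1, by omega⟩
  rw [hm, Nat.add_sub_cancel]
  ring

end Cfsg.Agent.Helper41.Sol
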