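import Mathlib
import Cfsg.Agent.Helper41.Sol3D
import Cfsg.Agent.Helper41.SolCount
import Cfsg.Agent.Helper42.SL2OddCount
import Cfsg.Agent.Helper42.SL2Cent
import Cfsg.Agent.S0809

set_option autoImplicit false
set_option linter.style.haveILetI false
set_option linter.unusedSimpArgs false
set_option linter.unusedVariables false

/-!
# Counting the solubilizers in `SL₂(3^p)`
-/

namespace Cfsg.Agent.Helper41.Sol3

open Matrix Cfsg.Agent.Helper46.Dk Cfsg.Agent.Helper41.DkR Cfsg.Agent.Helper41.Sol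
open Cfsg.Agent.Helper42

section Generic

theorem card_or_of_disjoint {α : Type*} [Finite α] (P Q : α → Prop) (h : ∀ x, P x → Q x → False) :
    Nat.card {x // P x ∨ Q x} = Nat.card {x // P x} + Nat.card {x // Q x} := by
  classical
  have hd : Disjoint P Q := by
    rw [disjoint_iff_inf_le]
    rintro x ⟨h1, h2⟩
    exact h x h1 h2
  rw [Nat.card_congr (subtypeOrEquiv _ _ hd), Nat.card_sum]

theorem card_or_add_card_and {α : Type*} [Finite α] (P Q : α → Prop) :
    Nat.card {x // P x ∨ Q x} + Nat.card {x // P x ∧ Q x} =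
      Nat.card {x // P x} + Nat.card {x // Q x} := by
  classical
  have h1 : Nat.card {x // P x ∨ Q x} = Nat.card {x // P x} + Nat.card {x // Q x ∧ ¬ P x} := by
    rw [← card_or_of_disjoint P (fun x => Q x ∧ ¬ P x) (fun x hp hq => hq.2 hp)]
    apply Nat.card_congr
    apply Equiv.subtypeEquivRight
    intro x
    by_cases hp : P x <;> simp [hp]
  have h2 : Nat.card {x // Q x} = Nat.card {x // P x ∧ Q x} + Nat.card {x // Q x ∧ ¬ P x} := by
    rw [← card_or_of_disjoint (fun x => P x ∧ Q x) (fun x => Q x ∧ ¬ P x)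
      (fun x hp hq => hq.2 hp.1)]
    apply Nat.card_congr
    apply Equiv.subtypeEquivRight
    intro x
    by_cases hp : P x <;> simp [hp]
  omega

end Generic

variable {F : Type*} [Field F]

local notation "PSL2F" => Matrix.ProjectiveSpecialLinearGroup (Fin 2) F
local notation "SL2F" => Matrix.SpecialLinearGroup (Fin 2) F

/-- the fibres of the projection have two elements -/
theorem card_prj_fibre [Finite F] (h2 : (2 : F) ≠ 0) (P : PSL2F → Prop) :
    Nat.card {Y : SL2F // P (prj Y)} = 2 * Nat.card {y : PSL2F // P y} := by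
  have e := QuotientGroup.preimageMkEquivSubgroupProdSet (Subgroup.center SL2F) {y : PSL2F | P y}
  have h1 : Nat.card {Y : SL2F // P (prj Y)} =
      Nat.card ((QuotientGroup.mk : SL2F → PSL2F) ⁻¹' {y : PSL2F | P y}) := rfl
  rw [h1, Nat.card_congr e, Nat.card_prod, Cfsg.Agent.Helper5.card_center_SL2_of_two_ne_zero h2]
  rfl

/-- matrices with prescribed lower left entry and trace -/
noncomputable def ctEquiv (Q : F → F → Prop) (hQ : ∀ c t, Q c t → c ≠ 0) :
    {M : SL2F // Q (M.1 1 0) (tr M)} ≃ {x : F × F // Q x.1 x.2} × F where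
  toFun M := (⟨(M.1.1 1 0, tr M.1), M.2⟩, M.1.1 0 0)
  invFun x := ⟨mk4 x.2 ((x.2 * (x.1.1.2 - x.2) - 1) / x.1.1.1) x.1.1.1 (x.1.1.2 - x.2) (by
      have := hQ _ _ x.1.2
      field_simp
      ring), by
    have h1 : tr (mk4 x.2 ((x.2 * (x.1.1.2 - x.2) - 1) / x.1.1.1) x.1.1.1 (x.1.1.2 - x.2) (by
      have := hQ _ _ x.1.2
      field_simp
      ring)) = x.1.1.2 := by
      unfold tr
      simp only [mk4_00, mk4_11]
      ring
    rw [h1]
    simp only [mk4_10]
    exact x.1.2⟩
  left_inv := by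
    rintro ⟨M, hM⟩
    apply Subtype.ext
    have hc := hQ _ _ hM
    have hd := det' M
    apply ext'
    · rfl
    · simp only [mk4_01]
      rw [div_eq_iff hc]
      unfold tr
      linear_combination hd
    · rfl
    · simp only [mk4_11]
      unfold tr
      ring
  right_inv := by
    rintro ⟨⟨⟨c, t⟩, hx⟩, a⟩
    apply Prod.ext
    · apply Subtype.ext
      apply Prod.ext
      · rfl
      · show tr _ = t
        unfold tr
        simp only [mk4_00, mk4_11]
        ring
    · rfl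

section Fin

variable [Fintype F]

theorem card_sq_eq_one (h2 : (2 : F) ≠ 0) : Nat.card {u : F // u ^ 2 = 1} = 2 := by
  classical
  rw [Nat.card_eq_fintype_card, Fintype.card_subtype]
  have : (Finset.univ.filter (fun u : F => u ^ 2 = 1)) = {1, -1} := by
    ext u
    simp only [Finset.mem_filter, Finset.mem_univ, true_and, Finset.mem_insert,
      Finset.mem_singleton]
    constructor
    · intro h
      have : (u - 1) * (u + 1) = 0 := by linear_combination h
      rcases mul_eq_zero.1 this with h | h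
      · left; linear_combination h
      · right; linear_combination h
    · rintro (rfl | rfl) <;> ring
  rw [this, Finset.card_insert_of_notMem, Finset.card_singleton]
  rw [Finset.mem_singleton]
  intro h
  apply h2
  linear_combination h

theorem card_zero_or_sq (h2 : (2 : F) ≠ 0) : Nat.card {t : F // t = 0 ∨ t ^ 2 = 1} = 3 := by
  rw [card_or_of_disjoint (fun t : F => t = 0) (fun t : F => t ^ 2 = 1), card_sq_eq_one h2]
  · have : Nat.card {t : F // t = 0} = 1 := by
      rw [Nat.card_eq_one_iff_unique]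
      exact ⟨⟨by rintro ⟨a, ha⟩ ⟨b, hb⟩; apply Subtype.ext; show a = b; rw [ha, hb]⟩,
        ⟨⟨0, rfl⟩⟩⟩
    rw [this]
  · intro t h0 h1
    rw [h0] at h1
    simp at h1

/-- the count for the solubilizer of an element of order three -/
theorem card_sol3_uU (h2 : (2 : F) ≠ 0) (β : F) (hβ : β ≠ 0) :
    Nat.card {M : SL2F // M.1 1 0 = 0 ∨
      ((β * M.1 1 0) ^ 2 = 1 ∧ (tr M = 0 ∨ (tr M) ^ 2 = 1))} =
      Fintype.card F * (Fintype.card F + 5) := by
  have hQ : ∀ c t : F, ((β * c) ^ 2 = 1 ∧ (t = 0 ∨ t ^ 2 = 1)) → c ≠ 0 := by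
    rintro c t ⟨h, -⟩ rfl
    simp at h
  rw [card_or_of_disjoint (fun M : SL2F => M.1 1 0 = 0)
    (fun M : SL2F => (β * M.1 1 0) ^ 2 = 1 ∧ (tr M = 0 ∨ (tr M) ^ 2 = 1))
    (fun M h0 h1 => hQ _ _ h1 h0), card_upper,
    Nat.card_congr (ctEquiv (fun c t => (β * c) ^ 2 = 1 ∧ (t = 0 ∨ t ^ 2 = 1)) hQ),
    Nat.card_prod, Nat.card_eq_fintype_card (α := F)]
  have h6 : Nat.card {x : F × F // (β * x.1) ^ 2 = 1 ∧ (x.2 = 0 ∨ x.2 ^ 2 = 1)} = 6 := by
    rw [Nat.card_congr (Equiv.subtypeProdEquivProd (p := fun c : F => (β * c) ^ 2 = 1)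
      (q := fun t : F => t = 0 ∨ t ^ 2 = 1)), Nat.card_prod, card_zero_or_sq h2]
    have : Nat.card {c : F // (β * c) ^ 2 = 1} = 2 := by
      exact (Nat.card_congr (Equiv.subtypeEquiv (Equiv.mulLeft₀ β hβ) (fun c => Iff.rfl))).trans
        (card_sq_eq_one h2)
    rw [this]
  rw [h6]
  have hq : 1 ≤ Fintype.card F := Fintype.card_pos
  obtain ⟨m, hm⟩ : ∃ m, Fintype.card F = m + 1 := ⟨Fintype.card F - 1, by omega⟩
  rw [hm, Nat.add_sub_cancel]
  ring

/-- the conic `a² + b² = κ` has `q + 1` points when `-1` is not a square -/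
theorem card_conic (h2 : (2 : F) ≠ 0) (h4 : Fintype.card F % 4 = 3) (κ : F) (hκ : κ ≠ 0) :
    Nat.card {x : F × F // x.1 ^ 2 + x.2 ^ 2 = κ} = Fintype.card F + 1 := by
  classical
  have hodd : Fintype.card F % 2 = 1 := by omega
  have h04 : (0 : F) ^ 2 ≠ 4 := by
    intro h
    apply h2
    have : (2 : F) * 2 = 0 := by linear_combination -h
    exact mul_self_eq_zero.1 this
  obtain ⟨p₀, hp₀⟩ := exists_qform_eq h2 hodd (0 : F) h04 κ
  have h1 := card_fiber_eq_of_mem (0 : F) κ hκ p₀ hp₀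
  have h3 := card_normOne_add_rootCount_odd h2 hodd (0 : F) h04
  rw [Cfsg.Agent.S0809.rootCount_zero_of_mod_four_eq_three h4, add_zero] at h3
  rw [← h3, ← h1, Nat.card_eq_fintype_card, Fintype.card_subtype]
  congr 1
  ext x
  simp only [Finset.mem_filter, Finset.mem_univ, true_and]
  unfold qform
  constructor
  · intro h; rw [← h]; ring
  · intro h; rw [← h]; ring

/-- the points of the conic `a² + b² = 1` off the axes -/
theorem card_conic_off (h2 : (2 : F) ≠ 0) (h4 : Fintype.card F % 4 = 3) :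
    Nat.card {x : F × F // x.1 ^ 2 + x.2 ^ 2 = 1 ∧ x.1 ≠ 0 ∧ x.2 ≠ 0} + 4 = Fintype.card F + 1 := by
  classical
  rw [← card_conic h2 h4 1 one_ne_zero]
  have hsplit : Nat.card {x : F × F // x.1 ^ 2 + x.2 ^ 2 = 1} =
      Nat.card {x : F × F // x.1 ^ 2 + x.2 ^ 2 = 1 ∧ x.1 ≠ 0 ∧ x.2 ≠ 0} +
        Nat.card {x : F × F // x.1 ^ 2 + x.2 ^ 2 = 1 ∧ (x.1 = 0 ∨ x.2 = 0)} := by
    rw [← card_or_of_disjoint (fun x : F × F => x.1 ^ 2 + x.2 ^ 2 = 1 ∧ x.1 ≠ 0 ∧ x.2 ≠ 0)
      (fun x : F × F => x.1 ^ 2 + x.2 ^ 2 = 1 ∧ (x.1 = 0 ∨ x.2 = 0))]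
    · apply Nat.card_congr
      apply Equiv.subtypeEquivRight
      intro x
      by_cases h1 : x.1 = 0 <;> by_cases h2 : x.2 = 0 <;> simp [h1, h2]
    · rintro x ⟨-, h1, h2⟩ ⟨-, h | h⟩
      · exact h1 h
      · exact h2 h
  rw [hsplit]
  congr 1
  rw [Nat.card_eq_fintype_card, Fintype.card_subtype]
  have : (Finset.univ.filter (fun x : F × F => x.1 ^ 2 + x.2 ^ 2 = 1 ∧ (x.1 = 0 ∨ x.2 = 0))) =
      {((0 : F), (1 : F)), ((0 : F), (-1 : F)), ((1 : F), (0 : F)), ((-1 : F), (0 : F))} := by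
    ext ⟨a, b⟩
    simp only [Finset.mem_filter, Finset.mem_univ, true_and, Finset.mem_insert,
      Finset.mem_singleton, Prod.mk.injEq]
    constructor
    · rintro ⟨h, h0 | h0⟩
      · rw [h0] at h
        have : (b - 1) * (b + 1) = 0 := by linear_combination h
        rcases mul_eq_zero.1 this with hb | hb
        · left; exact ⟨h0, by linear_combination hb⟩
        · right; left; exact ⟨h0, by linear_combination hb⟩
      · rw [h0] at h
        have : (a - 1) * (a + 1) = 0 := by linear_combination h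
        rcases mul_eq_zero.1 this with ha | ha
        · right; right; left; exact ⟨by linear_combination ha, h0⟩
        · right; right; right; exact ⟨by linear_combination ha, h0⟩
    · rintro (⟨rfl, rfl⟩ | ⟨rfl, rfl⟩ | ⟨rfl, rfl⟩ | ⟨rfl, rfl⟩) <;> simp
  rw [this]
  have h1m : (1 : F) ≠ -1 := by
    intro h
    apply h2
    linear_combination h
  have h10 : (1 : F) ≠ 0 := one_ne_zero
  rw [Finset.card_insert_of_notMem, Finset.card_insert_of_notMem, Finset.card_insert_of_notMem,
    Finset.card_singleton]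
  · simp only [Finset.mem_singleton, Prod.mk.injEq]
    rintro ⟨h, -⟩
    exact h1m h
  · simp only [Finset.mem_insert, Finset.mem_singleton, Prod.mk.injEq]
    rintro (⟨h, -⟩ | ⟨h, -⟩)
    · exact h10 h.symm
    · apply h10
      linear_combination h
  · simp only [Finset.mem_insert, Finset.mem_singleton, Prod.mk.injEq]
    rintro (⟨-, h⟩ | ⟨h, -⟩ | ⟨h, -⟩)
    · exact h1m h
    · exact h10 h.symm
    · apply h10
      linear_combination h

end Fin

end Cfsg.Agent.Helper41.Sol3
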