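import Mathlib
import Cfsg.Agent.Helper41.Sol3E
import Cfsg.Agent.Helper41.SL2Torus

set_option autoImplicit false
set_option linter.style.haveILetI false
set_option linter.unusedSimpArgs false
set_option linter.unusedVariables false

/-!
# Counting the solubilizers in `SL₂(3^p)`: involutions and nonsplit elements
-/

namespace Cfsg.Agent.Helper41.Sol3

open Matrix Cfsg.Agent.Helper46.Dk Cfsg.Agent.Helper41.DkR Cfsg.Agent.Helper41.Sol
open Cfsg.Agent.Helper42

variable {F : Type*} [Field F] [Fintype F]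

local notation "PSL2F" => Matrix.ProjectiveSpecialLinearGroup (Fin 2) F
local notation "SL2F" => Matrix.SpecialLinearGroup (Fin 2) F

/-- trace zero matrices -/
theorem card_tr_zero (hns : ∀ a : F, a * a ≠ -1) :
    Nat.card {M : SL2F // tr M = 0} = Fintype.card F * (Fintype.card F - 1) := by
  have hiff : ∀ M : SL2F, tr M = 0 ↔ (M.1 1 0 ≠ 0 ∧ tr M = (fun _ : F => (0 : F)) (M.1 1 0)) := by
    intro M
    constructor
    · intro h
      refine ⟨?_, h⟩
      intro hc
      have hd := det' M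
      unfold tr at h
      rw [hc] at hd
      apply hns (M.1 0 0)
      linear_combination (M.1 0 0) * h - hd
    · exact fun h => h.2
  exact (Nat.card_congr (Equiv.subtypeEquivRight hiff)).trans
    ((card_trFibre (fun _ : F => (0 : F))).trans (mul_comm _ _))

theorem tr_wW_mul (M : SL2F) : tr (wW * M) = M.1 1 0 - M.1 0 1 := by
  have w00 : (wW : SL2F).1 0 0 = 0 := rfl
  have w01 : (wW : SL2F).1 0 1 = 1 := rfl
  have w10 : (wW : SL2F).1 1 0 = -1 := rfl
  have w11 : (wW : SL2F).1 1 1 = 0 := rfl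
  unfold tr
  rw [mul_00, mul_11, w00, w01, w10, w11]; ring

theorem card_s_zero (hns : ∀ a : F, a * a ≠ -1) :
    Nat.card {M : SL2F // M.1 1 0 - M.1 0 1 = 0} = Fintype.card F * (Fintype.card F - 1) := by
  rw [← card_tr_zero hns]
  apply Nat.card_congr
  exact Equiv.subtypeEquiv (Equiv.mulLeft (wW : SL2F)) (fun M => by
    show M.1 1 0 - M.1 0 1 = 0 ↔ tr (wW * M) = 0
    rw [tr_wW_mul])

/-- trace zero and symmetric -/
noncomputable def tsZeroEquiv :
    {M : SL2F // tr M = 0 ∧ M.1 1 0 - M.1 0 1 = 0} ≃ {x : F × F // x.1 ^ 2 + x.2 ^ 2 = -1} where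
  toFun M := ⟨(M.1.1 0 0, M.1.1 0 1), by
    have hd := det' M.1
    have h1 := M.2.1
    have h2 := M.2.2
    unfold tr at h1
    show M.1.1 0 0 ^ 2 + M.1.1 0 1 ^ 2 = -1
    linear_combination (M.1.1 0 0) * h1 - hd - (M.1.1 0 1) * h2⟩
  invFun x := ⟨mk4 x.1.1 x.1.2 x.1.2 (-x.1.1) (by linear_combination -x.2), by
    refine ⟨?_, ?_⟩
    · unfold tr
      simp only [mk4_00, mk4_11]
      ring
    · simp only [mk4_10, mk4_01]
      ring⟩
  left_inv := by
    rintro ⟨M, h1, h2⟩
    apply Subtype.ext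
    unfold tr at h1
    apply ext'
    · rfl
    · rfl
    · simp only [mk4_10]
      linear_combination -h2
    · simp only [mk4_11]
      linear_combination -h1
  right_inv := by
    rintro ⟨⟨a, b⟩, h⟩
    rfl

section Three

variable [CharP F 3]

/-- both traces of order three type -/
noncomputable def tsOneEquiv :
    {M : SL2F // (tr M) ^ 2 = 1 ∧ (M.1 1 0 - M.1 0 1) ^ 2 = 1} ≃
      ({t : F // t ^ 2 = 1} × {s : F // s ^ 2 = 1}) × {x : F × F // x.1 ^ 2 + x.2 ^ 2 = 1} where
  toFun M := ((⟨tr M.1, M.2.1⟩, ⟨M.1.1 1 0 - M.1.1 0 1, M.2.2⟩),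
    ⟨(M.1.1 0 0 - M.1.1 1 1, M.1.1 1 0 + M.1.1 0 1), by
      have h3 := three_eq_zero (F := F)
      have hd := det' M.1
      have h1 := M.2.1
      have h2 := M.2.2
      unfold tr at h1
      show (M.1.1 0 0 - M.1.1 1 1) ^ 2 + (M.1.1 1 0 + M.1.1 0 1) ^ 2 = 1
      linear_combination h1 + h2 - 4 * hd - h3⟩)
  invFun x := ⟨mk4 (-(x.1.1.1 + x.2.1.1)) (x.1.2.1 - x.2.1.2) (-(x.1.2.1 + x.2.1.2))
      (x.2.1.1 - x.1.1.1) (by
        have h1 := x.1.1.2
        have h2 := x.1.2.2
        have h3 := x.2.2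
        linear_combination h1 + h2 - h3), by
    have h3 := three_eq_zero (F := F)
    refine ⟨?_, ?_⟩
    · unfold tr
      simp only [mk4_00, mk4_11]
      have h1 := x.1.1.2
      linear_combination h1 + (x.1.1.1 ^ 2) * h3
    · simp only [mk4_10, mk4_01]
      have h2 := x.1.2.2
      linear_combination h2 + (x.1.2.1 ^ 2) * h3⟩
  left_inv := by
    rintro ⟨M, h1, h2⟩
    have h3 := three_eq_zero (F := F)
    apply Subtype.ext
    apply ext'
    · simp only [mk4_00]
      unfold tr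
      linear_combination (-(M.1 0 0)) * h3
    · simp only [mk4_01]
      linear_combination (-(M.1 0 1)) * h3
    · simp only [mk4_10]
      linear_combination (-(M.1 1 0)) * h3
    · simp only [mk4_11]
      unfold tr
      linear_combination (-(M.1 1 1)) * h3
  right_inv := by
    rintro ⟨⟨⟨t, ht⟩, ⟨s, hs⟩⟩, ⟨⟨u, v⟩, huv⟩⟩
    have h3 := three_eq_zero (F := F)
    apply Prod.ext
    · apply Prod.ext
      · apply Subtype.ext
        show tr _ = t
        unfold tr
        simp only [mk4_00, mk4_11]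
        linear_combination (-t) * h3
      · apply Subtype.ext
        show _ - _ = s
        simp only [mk4_10, mk4_01]
        linear_combination (-s) * h3
    · apply Subtype.ext
      apply Prod.ext
      · show _ - _ = u
        simp only [mk4_00, mk4_11]
        linear_combination (-u) * h3
      · show _ + _ = v
        simp only [mk4_10, mk4_01]
        linear_combination (-v) * h3

/-- the centralizer of `wW`, off the axes -/
noncomputable def centOffEquiv :
    {M : SL2F // (M.1 0 0 = M.1 1 1 ∧ M.1 0 1 = -M.1 1 0) ∧ tr M ≠ 0 ∧ M.1 1 0 - M.1 0 1 ≠ 0} ≃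
      {x : F × F // x.1 ^ 2 + x.2 ^ 2 = 1 ∧ x.1 ≠ 0 ∧ x.2 ≠ 0} where
  toFun M := ⟨(M.1.1 0 0, M.1.1 1 0), by
    have hd := det' M.1
    obtain ⟨⟨h1, h2⟩, h3, h4⟩ := M.2
    refine ⟨?_, ?_, ?_⟩
    · show M.1.1 0 0 ^ 2 + M.1.1 1 0 ^ 2 = 1
      rw [← h1, h2] at hd
      linear_combination hd
    · show M.1.1 0 0 ≠ 0
      intro h0
      apply h3
      unfold tr
      rw [← h1, h0]; ring
    · show M.1.1 1 0 ≠ 0
      intro h0
      apply h4
      rw [h2, h0]; ring⟩
  invFun x := ⟨mk4 x.1.1 (-x.1.2) x.1.2 x.1.1 (by linear_combination x.2.1), by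
    have h2 : (2 : F) ≠ 0 := two_ne_zero_of_three
    refine ⟨⟨?_, ?_⟩, ?_, ?_⟩
    · simp only [mk4_00, mk4_11]
    · simp only [mk4_01, mk4_10]
    · unfold tr
      simp only [mk4_00, mk4_11]
      intro h
      have : 2 * x.1.1 = 0 := by linear_combination h
      rcases mul_eq_zero.1 this with h | h
      · exact h2 h
      · exact x.2.2.1 h
    · simp only [mk4_10, mk4_01]
      intro h
      have : 2 * x.1.2 = 0 := by linear_combination h
      rcases mul_eq_zero.1 this with h | h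
      · exact h2 h
      · exact x.2.2.2 h⟩
  left_inv := by
    rintro ⟨M, ⟨h1, h2⟩, h3, h4⟩
    apply Subtype.ext
    apply ext'
    · rfl
    · simp only [mk4_01]
      exact h2.symm
    · rfl
    · simp only [mk4_11]
      exact h1
  right_inv := by
    rintro ⟨⟨a, b⟩, h⟩
    rfl

/-- the count for the solubilizer of an involution -/
theorem card_sol3_wW (h4 : Fintype.card F % 4 = 3) :
    Nat.card {M : SL2F // (M.1 0 0 = M.1 1 1 ∧ M.1 0 1 = -M.1 1 0) ∨ tr M = 0 ∨
      M.1 1 0 - M.1 0 1 = 0 ∨ ((tr M) ^ 2 = 1 ∧ (M.1 1 0 - M.1 0 1) ^ 2 = 1)} =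
      2 * Fintype.card F * (Fintype.card F + 1) := by
  have h2 : (2 : F) ≠ 0 := two_ne_zero_of_three
  have h3 := three_eq_zero (F := F)
  have hns : ∀ a : F, a * a ≠ -1 := by
    intro a h
    have hsq : IsSquare (-1 : F) := ⟨a, h.symm⟩
    rw [FiniteField.isSquare_neg_one_iff] at hsq
    exact hsq h4
  have hm1 : (-1 : F) ≠ 0 := neg_ne_zero.2 one_ne_zero
  -- the pieces
  have hA := card_tr_zero hns
  have hB := card_s_zero hns
  have hAB : Nat.card {M : SL2F // tr M = 0 ∧ M.1 1 0 - M.1 0 1 = 0} = Fintype.card F + 1 := by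
    rw [Nat.card_congr tsZeroEquiv, card_conic h2 h4 (-1) hm1]
  have hC : Nat.card {M : SL2F // (tr M) ^ 2 = 1 ∧ (M.1 1 0 - M.1 0 1) ^ 2 = 1} =
      4 * (Fintype.card F + 1) := by
    rw [Nat.card_congr tsOneEquiv, Nat.card_prod, Nat.card_prod, card_sq_eq_one h2,
      card_conic h2 h4 1 one_ne_zero]
  have hD : Nat.card {M : SL2F // (M.1 0 0 = M.1 1 1 ∧ M.1 0 1 = -M.1 1 0) ∧ tr M ≠ 0 ∧
      M.1 1 0 - M.1 0 1 ≠ 0} + 4 = Fintype.card F + 1 := by
    rw [Nat.card_congr centOffEquiv]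
    exact card_conic_off h2 h4
  have hor := card_or_add_card_and (fun M : SL2F => tr M = 0)
    (fun M : SL2F => M.1 1 0 - M.1 0 1 = 0)
  rw [hAB, hA, hB] at hor
  -- reorganize the predicate
  have hiff : ∀ M : SL2F, ((M.1 0 0 = M.1 1 1 ∧ M.1 0 1 = -M.1 1 0) ∨ tr M = 0 ∨
      M.1 1 0 - M.1 0 1 = 0 ∨ ((tr M) ^ 2 = 1 ∧ (M.1 1 0 - M.1 0 1) ^ 2 = 1)) ↔
      (((tr M = 0 ∨ M.1 1 0 - M.1 0 1 = 0) ∨
        ((tr M) ^ 2 = 1 ∧ (M.1 1 0 - M.1 0 1) ^ 2 = 1)) ∨
        ((M.1 0 0 = M.1 1 1 ∧ M.1 0 1 = -M.1 1 0) ∧ tr M ≠ 0 ∧ M.1 1 0 - M.1 0 1 ≠ 0)) := by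
    intro M
    by_cases ht : tr M = 0
    · simp [ht]
    · by_cases hs : M.1 1 0 - M.1 0 1 = 0
      · simp [hs]
      · simp only [ht, hs, false_or, ne_eq, not_false_eq_true, and_self, and_true]
        tauto
  rw [Nat.card_congr (Equiv.subtypeEquivRight hiff),
    card_or_of_disjoint (fun M : SL2F => (tr M = 0 ∨ M.1 1 0 - M.1 0 1 = 0) ∨
        ((tr M) ^ 2 = 1 ∧ (M.1 1 0 - M.1 0 1) ^ 2 = 1))
      (fun M : SL2F => (M.1 0 0 = M.1 1 1 ∧ M.1 0 1 = -M.1 1 0) ∧ tr M ≠ 0 ∧
        M.1 1 0 - M.1 0 1 ≠ 0),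
    card_or_of_disjoint (fun M : SL2F => tr M = 0 ∨ M.1 1 0 - M.1 0 1 = 0)
      (fun M : SL2F => (tr M) ^ 2 = 1 ∧ (M.1 1 0 - M.1 0 1) ^ 2 = 1), hC]
  · have hq : 3 ≤ Fintype.card F := by omega
    obtain ⟨m, hm⟩ : ∃ m, Fintype.card F = m + 1 := ⟨Fintype.card F - 1, by omega⟩
    rw [hm] at hor hD ⊢
    rw [Nat.add_sub_cancel] at hor
    have e1 : 2 * (m + 1) * (m + 1 + 1) = 2 * ((m + 1) * m) + 4 * (m + 1) := by ring
    rw [e1]
    omega
  · rintro M (h | h) ⟨h1, h2'⟩
    · rw [h] at h1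
      have : (1 : F) = 0 := by linear_combination -h1
      exact one_ne_zero this
    · rw [h] at h2'
      have : (1 : F) = 0 := by linear_combination -h2'
      exact one_ne_zero this
  · rintro M (h | ⟨h1, h2'⟩) ⟨⟨ha, hb⟩, ht, hs⟩
    · rcases h with h | h
      · exact ht h
      · exact hs h
    · have hd := det' M
      unfold tr at h1
      rw [← ha, hb] at hd
      rw [← ha] at h1
      rw [hb] at h2'
      have : (1 : F) = 0 := by
        linear_combination 2 * h1 + 2 * h2' - 8 * hd - h3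
      exact one_ne_zero this

end Three

/-- the count for the solubilizer of a nonsplit element -/
theorem card_sol3_nonsplit (h2 : (2 : F) ≠ 0) (hodd : Fintype.card F % 2 = 1) (X : SL2F)
    (ht : tr X ≠ 0) (hroot : ∀ a : F, a ^ 2 + tr X * a + 1 ≠ 0) :
    Nat.card {M : SL2F // M * X = X * M ∨ M * X * M⁻¹ = X⁻¹} = 2 * (Fintype.card F + 1) := by
  classical
  have htr : X.1.trace = tr X := Matrix.trace_fin_two _
  have ht4 : (X.1.trace) ^ 2 ≠ 4 := by
    rw [htr]
    intro h
    have hfac : (tr X - 2) * (tr X + 2) = 0 := by linear_combination h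
    rcases mul_eq_zero.1 hfac with h | h
    · apply hroot (-1)
      have : tr X = 2 := by linear_combination h
      rw [this]; ring
    · apply hroot 1
      have : tr X = -2 := by linear_combination h
      rw [this]; ring
  obtain ⟨W, hW⟩ := Cfsg.Agent.Helper41.sl2_exists_conj_eq_inv hodd h2 X ht4
  have hsq : X * X ≠ 1 := by
    intro h
    have h1 : prj X * prj X = 1 := by rw [← map_mul, h, map_one]
    rcases (prj_mul_self_iff h2 X).1 h1 with h | h | h
    · apply hroot (-1)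
      rw [h]
      unfold tr
      rw [one_00, one_11]; ring
    · apply hroot 1
      rw [h]
      unfold tr
      rw [neg_00, neg_11, one_00, one_11]; ring
    · exact ht h
  rw [card_comm_or_invert X W hW hsq]
  congr 1
  have hns : IsNonScalarMat X.1 := by
    rintro ⟨h01, h10, h⟩
    have hd := det' X
    rw [h01, h] at hd
    apply ht4
    rw [htr]
    unfold tr
    rw [h]
    linear_combination 4 * hd
  rw [card_centralizer X hns]
  have h1 := card_normOne_add_rootCount_odd h2 hodd (tr X) (by rw [← htr]; exact ht4)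
  have hr : rootCount (tr X) = 0 := by
    unfold rootCount
    rw [Finset.card_eq_zero, Finset.filter_eq_empty_iff]
    intro a _ ha
    exact hroot a ha
  rw [hr, add_zero] at h1
  rw [← h1, htr]
  show Nat.card {p : F × F // qform (tr X) p = 1} = _
  rw [Nat.card_eq_fintype_card, Fintype.card_subtype]

end Cfsg.Agent.Helper41.Sol3
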