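import Mathlib
import Cfsg.Agent.Helper41.Sol3F
import Cfsg.Agent.Helper46.DkRational

set_option autoImplicit false
set_option linter.style.haveILetI false
set_option linter.unusedSimpArgs false
set_option linter.unusedVariables false

/-!
# The sizes of the solubilizers in `PSL₂(3^p)`, `p` an odd prime
-/

namespace Cfsg.Agent.Helper41.Sol3

open Matrix Cfsg.Agent.Helper46.Dk Cfsg.Agent.Helper41.DkR Cfsg.Agent.Helper41.Sol
open Cfsg.Agent.Helper42

variable {F : Type*} [Field F] [Fintype F]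

local notation "PSL2F" => Matrix.ProjectiveSpecialLinearGroup (Fin 2) F
local notation "SL2F" => Matrix.SpecialLinearGroup (Fin 2) F

/-- lifting the count to `SL₂` -/
theorem two_mul_card_sol (h2 : (2 : F) ≠ 0) (x : PSL2F) :
    2 * Nat.card {y : PSL2F // Group.IsSolvable ↥(Subgroup.closure ({x, y} : Set PSL2F))} =
      Nat.card {Y : SL2F // Group.IsSolvable ↥(Subgroup.closure ({x, prj Y} : Set PSL2F))} :=
  (card_prj_fibre h2
    (fun y => Group.IsSolvable ↥(Subgroup.closure ({x, y} : Set PSL2F)))).symm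

/-- the count is invariant under conjugation -/
theorem card_sol_conj (X g : SL2F) :
    Nat.card {y : PSL2F // Group.IsSolvable ↥(Subgroup.closure ({prj X, y} : Set PSL2F))} =
      Nat.card {y : PSL2F //
        Group.IsSolvable ↥(Subgroup.closure ({prj (g * X * g⁻¹), y} : Set PSL2F))} := by
  rw [card_sol_congr (MulAut.conj (prj g)) (prj X), MulAut.conj_apply, ← map_mul, ← map_inv,
    ← map_mul]

/-- halving an even exponent -/
theorem prj_pow_half (h2 : (2 : F) ≠ 0) (A : SL2F) (n : ℕ) (hn : Even n) (h : A ^ n = 1) :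
    (prj A) ^ (n / 2) = 1 := by
  obtain ⟨k, rfl⟩ := hn
  have hk : (k + k) / 2 = k := by omega
  rw [hk, ← map_pow]
  apply (QuotientGroup.eq_one_iff _).2
  apply Cfsg.Agent.Helper41.sl2_mem_center_of_sq_eq_one h2
  rw [← pow_mul, mul_two]
  exact h

theorem dvd_two_of_dvd {d q : ℕ} (hq : 1 ≤ q) (h1 : d ∣ q - 1) (h2 : d ∣ q + 1) : d ∣ 2 := by
  have := Nat.dvd_sub h2 h1
  have e : q + 1 - (q - 1) = 2 := by omega
  rwa [e] at this

theorem eq_one_of_dvd_three_of_dvd {d p : ℕ} (hp : p ≠ 0) (h3 : d ∣ 3)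
    (h : d ∣ 3 ^ p - 1 ∨ d ∣ 3 ^ p + 1) : d = 1 := by
  rcases (Nat.dvd_prime Nat.prime_three).1 h3 with h1 | h1
  · exact h1
  · exfalso
    obtain ⟨k, hk⟩ : 3 ∣ 3 ^ p := dvd_pow_self 3 hp
    have hpos : 0 < 3 ^ p := by positivity
    rw [h1] at h
    rcases h with ⟨j, hj⟩ | ⟨j, hj⟩ <;> omega

section Main

variable [CharP F 3]

/-- the type of an element from its order: split case excluded -/
theorem orderOf_dvd_of_split (X : SL2F) (ht : (tr X) ^ 2 ≠ 1) (a : F)
    (ha : a ^ 2 + tr X * a + 1 = 0) (hq : Odd (Fintype.card F)) :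
    orderOf (prj X) ∣ (Fintype.card F - 1) / 2 := by
  have h2 : (2 : F) ≠ 0 := two_ne_zero_of_three
  have h3 := three_eq_zero (F := F)
  have htr : X.1.trace = tr X := Matrix.trace_fin_two _
  have h1 : 1 < Fintype.card F := Fintype.one_lt_card
  apply orderOf_dvd_of_pow_eq_one
  apply prj_pow_half h2
  · obtain ⟨k, hk⟩ := hq
    exact ⟨k, by omega⟩
  · have hX := Cfsg.Agent.Helper41.sl2_pow_card_eq_self X (by
      rw [htr]
      intro h
      apply ht
      linear_combination h + h3) (-a) (by rw [htr]; linear_combination ha)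
    have : X ^ (Fintype.card F - 1) * X = 1 * X := by
      rw [← pow_succ, Nat.sub_add_cancel (by omega), hX, one_mul]
    exact mul_right_cancel this

theorem orderOf_dvd_of_nonsplit (X : SL2F) (hroot : ∀ a : F, a ^ 2 + tr X * a + 1 ≠ 0)
    (hq : Odd (Fintype.card F)) :
    orderOf (prj X) ∣ (Fintype.card F + 1) / 2 := by
  have h2 : (2 : F) ≠ 0 := two_ne_zero_of_three
  have htr : X.1.trace = tr X := Matrix.trace_fin_two _
  apply orderOf_dvd_of_pow_eq_one
  apply prj_pow_half h2
  · obtain ⟨k, hk⟩ := hq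
    exact ⟨k + 1, by omega⟩
  · apply Cfsg.Agent.Helper41.sl2_pow_card_add_one_eq_one 3 X
    intro a ha
    apply hroot (-a)
    rw [htr] at ha
    linear_combination ha

variable (p : ℕ) (hp : p.Prime) (hodd : Odd p) (hF : Fintype.card F = 3 ^ p)
include hp hodd hF

/-- the solubilizer of an involution -/
theorem card_sol_invol (x : PSL2F) (hx : orderOf x = 2) :
    Nat.card {y : PSL2F // Group.IsSolvable ↥(Subgroup.closure ({x, y} : Set PSL2F))} =
      Fintype.card F * (Fintype.card F + 1) := by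
  have h2 : (2 : F) ≠ 0 := two_ne_zero_of_three
  have h4 : Fintype.card F % 4 = 3 := by rw [hF]; exact three_pow_mod_four p hodd
  have hodd' : Fintype.card F % 2 = 1 := by omega
  obtain ⟨X, rfl⟩ := prj_surjective x
  have hx2 : prj X * prj X = 1 := by
    have := pow_orderOf_eq_one (prj X)
    rwa [hx, pow_two] at this
  have hx1 : prj X ≠ 1 := by
    intro h
    rw [h, orderOf_one] at hx
    omega
  have htX : tr X = 0 := by
    rcases (prj_mul_self_iff h2 X).1 hx2 with h | h | h
    · exact absurd (by rw [h, map_one]) hx1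
    · exact absurd (by rw [h, prj_neg_one]) hx1
    · exact h
  obtain ⟨g, hg⟩ := Cfsg.Agent.S0809.exists_conj_of_trace_zero hodd' h2 X wW
    (by rw [Matrix.trace_fin_two]; exact htX) (by
      have w00 : (wW : SL2F).1 0 0 = 0 := rfl
      have w11 : (wW : SL2F).1 1 1 = 0 := rfl
      rw [Matrix.trace_fin_two, w00, w11, add_zero])
  have key := two_mul_card_sol h2 (prj (wW : SL2F))
  rw [Nat.card_congr (Equiv.subtypeEquivRight (sol3_wW_iff p hp hodd hF)), card_sol3_wW h4] at key
  rw [card_sol_conj X g, hg]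
  have : 2 * Nat.card {y : PSL2F //
      Group.IsSolvable ↥(Subgroup.closure ({prj (wW : SL2F), y} : Set PSL2F))} =
      2 * (Fintype.card F * (Fintype.card F + 1)) := by
    rw [key]; ring
  omega

/-- the solubilizer of an element of order three -/
theorem card_sol_three (x : PSL2F) (hx : orderOf x = 3) :
    2 * Nat.card {y : PSL2F // Group.IsSolvable ↥(Subgroup.closure ({x, y} : Set PSL2F))} =
      Fintype.card F * (Fintype.card F + 5) := by
  have h2 : (2 : F) ≠ 0 := two_ne_zero_of_three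
  have h3 := three_eq_zero (F := F)
  obtain ⟨X, rfl⟩ := prj_surjective x
  have hx3 : (prj X) ^ 3 = 1 := by
    have := pow_orderOf_eq_one (prj X)
    rwa [hx] at this
  have hx1 : prj X ≠ 1 := by
    intro h
    rw [h, orderOf_one] at hx
    omega
  have htX : (tr X) ^ 2 = 1 := (prj_pow_three_iff X).1 hx3
  -- a lift of trace two
  obtain ⟨X', hX', htX'⟩ : ∃ X' : SL2F, prj X' = prj X ∧ tr X' = 2 := by
    have hfac : (tr X - 1) * (tr X + 1) = 0 := by linear_combination htX
    rcases mul_eq_zero.1 hfac with h | h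
    · refine ⟨-X, prj_neg X, ?_⟩
      rw [tr_neg]
      linear_combination -h - h3
    · exact ⟨X, rfl, by linear_combination h - h3⟩
  rw [← hX']
  rw [← hX'] at hx1
  obtain ⟨c, hc⟩ := exists_conj_mem_PU_of_tr X' (by rw [htX']; norm_num)
  obtain ⟨hc10, hc00⟩ := (mem_PU _).1 hc
  have htc : tr (c * X' * c⁻¹) = 2 := by rw [tr_conj, htX']
  have hc1 : (c * X' * c⁻¹).1 0 0 = 1 := by
    unfold tr at htc
    rw [← hc00] at htc
    have : 2 * ((c * X' * c⁻¹).1 0 0 - 1) = 0 := by linear_combination htc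
    rcases mul_eq_zero.1 this with h | h
    · exact absurd h h2
    · linear_combination h
  have hcu : c * X' * c⁻¹ = uU ((c * X' * c⁻¹).1 0 1) := by
    apply ext'
    · rw [hc1]; rfl
    · rfl
    · rw [hc10]; rfl
    · rw [← hc00, hc1]; rfl
  set β := (c * X' * c⁻¹).1 0 1 with hβdef
  have hβ : β ≠ 0 := by
    intro h0
    apply hx1
    have h1 : c * X' * c⁻¹ = 1 := by
      rw [hcu, h0]
      apply ext' <;> simp [uU]
    have : X' = 1 := by
      have h5 : X' = c⁻¹ * (c * X' * c⁻¹) * c := by group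
      rw [h5, h1]; group
    rw [this, map_one]
  rw [card_sol_conj X' c, hcu, two_mul_card_sol h2,
    Nat.card_congr (Equiv.subtypeEquivRight (sol3_uU_iff p hp hodd hF β hβ)), card_sol3_uU h2 β hβ]

/-- the solubilizer of a split semisimple element -/
theorem card_sol_split3 (x : PSL2F) (hx1 : x ≠ 1) (hx2 : orderOf x ≠ 2)
    (hdvd : orderOf x ∣ 3 ^ p - 1) :
    Nat.card {y : PSL2F // Group.IsSolvable ↥(Subgroup.closure ({x, y} : Set PSL2F))} =
      Fintype.card F * (Fintype.card F - 1) := by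
  have h2 : (2 : F) ≠ 0 := two_ne_zero_of_three
  have h3 := three_eq_zero (F := F)
  have hFodd : Odd (Fintype.card F) := odd_card_of_eq p hF
  have hodd' : Fintype.card F % 2 = 1 := Nat.odd_iff.1 hFodd
  have hq1 : 1 ≤ 3 ^ p := Nat.one_le_pow _ _ (by norm_num)
  obtain ⟨X, rfl⟩ := prj_surjective x
  have hord1 : orderOf (prj X) ≠ 1 := by
    intro h
    exact hx1 (orderOf_eq_one_iff.1 h)
  have hndvd2 : ¬ orderOf (prj X) ∣ 2 := by
    intro h
    rcases (Nat.dvd_prime Nat.prime_two).1 h with h | h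
    · exact hord1 h
    · exact hx2 h
  -- the trace is not of order three type
  have ht : (tr X) ^ 2 ≠ 1 := by
    intro h
    have h5 := orderOf_dvd_of_pow_eq_one ((prj_pow_three_iff X).2 h)
    exact hord1 (eq_one_of_dvd_three_of_dvd hp.ne_zero h5 (Or.inl hdvd))
  -- there is a root
  have hroot : ∃ a : F, a ^ 2 + tr X * a + 1 = 0 := by
    by_contra hcon
    push Not at hcon
    have h5 := orderOf_dvd_of_nonsplit X hcon hFodd
    rw [hF] at h5
    apply hndvd2
    apply dvd_two_of_dvd hq1 hdvd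
    refine h5.trans ?_
    exact Nat.div_dvd_of_dvd (by
      obtain ⟨k, hk⟩ := hFodd
      rw [hF] at hk
      exact ⟨k + 1, by omega⟩)
  obtain ⟨a, ha⟩ := hroot
  have ha0 : a ≠ 0 := by
    rintro rfl
    simp at ha
  set l : Fˣ := Units.mk0 (-a) (neg_ne_zero.2 ha0) with hl
  have hlv : (l : F) = -a := rfl
  have hliv : ((l⁻¹ : Fˣ) : F) = a + tr X := by
    rw [Units.val_inv_eq_inv_val, hlv]
    apply inv_eq_of_mul_eq_one_right
    linear_combination -ha
  have hll : (l : F) * l ≠ 1 := by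
    intro h
    apply ht
    rw [hlv] at h
    have h6 : a * tr X = -2 := by linear_combination ha - h
    have h8 : a * a = 1 := by linear_combination h
    have h7 : (tr X) ^ 2 = 4 := by
      calc (tr X) ^ 2 = (a * a) * (tr X) ^ 2 := by rw [h8, one_mul]
        _ = (a * tr X) ^ 2 := by ring
        _ = 4 := by rw [h6]; ring
    linear_combination h7 + h3
  -- conjugate to the diagonal matrix
  have htrd : (dD l).1.trace = X.1.trace := by
    rw [Matrix.trace_fin_two, Matrix.trace_fin_two]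
    show (l : F) + ((l⁻¹ : Fˣ) : F) = X.1 0 0 + X.1 1 1
    rw [hlv, hliv]
    unfold tr
    ring
  have ht4 : (X.1.trace) ^ 2 ≠ 4 := by
    rw [Matrix.trace_fin_two]
    intro h
    apply ht
    unfold tr
    linear_combination h + h3
  have hXns := Cfsg.Agent.Helper41.not_scalar_of_trace_sq_ne_four X.1 X.det_coe ht4
  have hDns := Cfsg.Agent.Helper41.not_scalar_of_trace_sq_ne_four (dD l).1 (dD l).det_coe
    (by rw [htrd]; exact ht4)
  obtain ⟨S, hS, hSX⟩ := Cfsg.Agent.Helper41.exists_sl2_conj_of_trace_eq X.1 (dD l).1 X.det_coe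
    (dD l).det_coe htrd hXns hDns
    (fun e _ => Cfsg.Agent.Helper41.normForm_surjective_of_odd hodd' h2 _ ht4 e)
  obtain ⟨g, hg⟩ : ∃ g : SL2F, g.1 = S := ⟨⟨S, hS⟩, rfl⟩
  have hgX : g * X * g⁻¹ = dD l := by
    rw [mul_inv_eq_iff_eq_mul]
    apply Subtype.ext
    rw [Matrix.SpecialLinearGroup.coe_mul, Matrix.SpecialLinearGroup.coe_mul, hg]
    exact hSX
  have key := two_mul_card_sol h2 (prj (dD l))
  rw [Nat.card_congr (Equiv.subtypeEquivRight (sol3_dD_iff p hp hodd hF l hll)), card_sol_dD]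
    at key
  rw [card_sol_conj X g, hgX]
  have : 2 * Nat.card {y : PSL2F //
      Group.IsSolvable ↥(Subgroup.closure ({prj (dD l), y} : Set PSL2F))} =
      2 * (Fintype.card F * (Fintype.card F - 1)) := by
    rw [key]; ring
  omega

/-- the solubilizer of a nonsplit semisimple element -/
theorem card_sol_nonsplit3 (x : PSL2F) (hx1 : x ≠ 1) (hx2 : orderOf x ≠ 2)
    (hdvd : orderOf x ∣ 3 ^ p + 1) :
    Nat.card {y : PSL2F // Group.IsSolvable ↥(Subgroup.closure ({x, y} : Set PSL2F))} =
      Fintype.card F + 1 := by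
  have h2 : (2 : F) ≠ 0 := two_ne_zero_of_three
  have h3 := three_eq_zero (F := F)
  have hFodd : Odd (Fintype.card F) := odd_card_of_eq p hF
  have hodd' : Fintype.card F % 2 = 1 := Nat.odd_iff.1 hFodd
  have hq1 : 1 ≤ 3 ^ p := Nat.one_le_pow _ _ (by norm_num)
  obtain ⟨X, rfl⟩ := prj_surjective x
  have hord1 : orderOf (prj X) ≠ 1 := by
    intro h
    exact hx1 (orderOf_eq_one_iff.1 h)
  have hndvd2 : ¬ orderOf (prj X) ∣ 2 := by
    intro h
    rcases (Nat.dvd_prime Nat.prime_two).1 h with h | h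
    · exact hord1 h
    · exact hx2 h
  have ht : (tr X) ^ 2 ≠ 1 := by
    intro h
    have h5 := orderOf_dvd_of_pow_eq_one ((prj_pow_three_iff X).2 h)
    exact hord1 (eq_one_of_dvd_three_of_dvd hp.ne_zero h5 (Or.inr hdvd))
  have ht0 : tr X ≠ 0 := by
    intro h
    apply hndvd2
    apply orderOf_dvd_of_pow_eq_one
    rw [pow_two]
    exact prj_mul_self_of_tr X h
  have hroot : ∀ a : F, a ^ 2 + tr X * a + 1 ≠ 0 := by
    intro a ha
    have h5 := orderOf_dvd_of_split X ht a ha hFodd
    rw [hF] at h5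
    apply hndvd2
    refine dvd_two_of_dvd hq1 (h5.trans ?_) hdvd
    exact Nat.div_dvd_of_dvd (by
      obtain ⟨k, hk⟩ := hFodd
      rw [hF] at hk
      exact ⟨k, by omega⟩)
  have key := two_mul_card_sol h2 (prj X)
  rw [Nat.card_congr (Equiv.subtypeEquivRight (sol3_nonsplit_iff p hp hodd hF X ht0 hroot)),
    card_sol3_nonsplit h2 hodd' X ht0 hroot] at key
  omega

end Main

end Cfsg.Agent.Helper41.Sol3
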