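import Mathlib
import Cfsg.Agent.Helper41.SolSL
import Cfsg.Agent.Helper41.SolCount
import Cfsg.Agent.Helper42.SL2Char2Count

set_option autoImplicit false
set_option linter.style.haveILetI false
set_option linter.unusedSimpArgs false

/-!
# The sizes of the solubilizers in `SL₂(2^p)`
-/

namespace Cfsg.Agent.Helper41.Sol

open Matrix Cfsg.Agent.Helper46.Dk Cfsg.Agent.Helper41.DkR Cfsg.Agent.Helper42

variable {F : Type*} [Field F] [Fintype F] [CharP F 2]

local notation "SL2F" => Matrix.SpecialLinearGroup (Fin 2) F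

/-- conjugacy in `SL₂(F)`: same trace -/
theorem exists_conj_of_tr_eq (X Y : SL2F) (hX : ∀ r : F, X.1 ≠ Matrix.scalar (Fin 2) r)
    (hY : ∀ r : F, Y.1 ≠ Matrix.scalar (Fin 2) r) (ht : tr Y = tr X) :
    ∃ K : SL2F, K * X * K⁻¹ = Y := by
  have hnorm : ∀ e : F, e ≠ 0 → ∃ α β : F, α ^ 2 + X.1.trace * α * β + β ^ 2 = e := by
    intro e _
    obtain ⟨s, hs⟩ := FiniteField.isSquare_of_char_two (ringChar.eq F 2) e
    exact ⟨s, 0, by rw [hs]; ring⟩
  obtain ⟨S, hS, hSX⟩ := Cfsg.Agent.Helper41.exists_sl2_conj_of_trace_eq X.1 Y.1 X.det_coe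
    Y.det_coe (by rw [Matrix.trace_fin_two, Matrix.trace_fin_two]; exact ht) hX hY hnorm
  obtain ⟨K, hK⟩ : ∃ K : SL2F, K.1 = S := ⟨⟨S, hS⟩, rfl⟩
  refine ⟨K, ?_⟩
  rw [mul_inv_eq_iff_eq_mul]
  apply Subtype.ext
  show K.1 * X.1 = Y.1 * K.1
  rw [hK]
  exact hSX

omit [Fintype F] in
theorem eq_one_of_mul_self (r : F) (h : r * r = 1) : r = 1 := by
  have h2 : (2 : F) = 0 := by
    have := CharP.cast_eq_zero F 2
    exact_mod_cast this
  have : (r - 1) ^ 2 = 0 := by linear_combination h - (r - 1) * h2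
  have := pow_eq_zero_iff (two_ne_zero) |>.1 this
  exact sub_eq_zero.1 this

omit [Fintype F] in
theorem not_scalar_of_ne_one (X : SL2F) (hX : X ≠ 1) :
    ∀ r : F, X.1 ≠ Matrix.scalar (Fin 2) r := by
  intro r h
  apply hX
  have hd := det' X
  have h00 : X.1 0 0 = r := by rw [h]; simp
  have h01 : X.1 0 1 = 0 := by rw [h]; simp
  have h10 : X.1 1 0 = 0 := by rw [h]; simp
  have h11 : X.1 1 1 = r := by rw [h]; simp
  rw [h00, h01, h11] at hd
  have hr : r = 1 := eq_one_of_mul_self r (by linear_combination hd)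
  apply ext'
  · rw [h00, hr, one_00]
  · rw [h01, one_01]
  · rw [h10, one_10]
  · rw [h11, hr, one_11]

omit [Fintype F] in
theorem isNonScalarMat_of_ne_one (X : SL2F) (hX : X ≠ 1) : IsNonScalarMat X.1 := by
  rintro ⟨h01, h10, h⟩
  apply hX
  have hd := det' X
  rw [h01, h] at hd
  have hr : X.1 1 1 = 1 := eq_one_of_mul_self _ (by linear_combination hd)
  apply ext'
  · rw [h, hr, one_00]
  · rw [h01, one_01]
  · rw [h10, one_10]
  · rw [hr, one_11]

theorem card_centralizer_add [DecidableEq F] (X : SL2F) (hX : X ≠ 1) :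
    Nat.card (Subgroup.centralizer ({X} : Set SL2F)) + rootCount (tr X) =
      Fintype.card F + 1 := by
  rw [card_centralizer X (isNonScalarMat_of_ne_one X hX)]
  have h1 := card_normOne_add_rootCount (F := F) (tr X)
  rw [← h1]
  congr 1
  have htr : X.1.trace = tr X := Matrix.trace_fin_two _
  rw [htr]
  show Nat.card {p : F × F // qform (tr X) p = 1} = _
  rw [Nat.card_eq_fintype_card, Fintype.card_subtype]

omit [Fintype F] in
theorem tr_eq_zero_of_mul_self' (X : SL2F) (h : X * X = 1) : tr X = 0 := by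
  have h2 : (2 : F) = 0 := by
    have := CharP.cast_eq_zero F 2
    exact_mod_cast this
  have h00 := congrArg (fun Z : SL2F => Z.1 0 0) h
  have h11 := congrArg (fun Z : SL2F => Z.1 1 1) h
  simp only [mul_00, mul_11, one_00, one_11] at h00 h11
  have hd := det' X
  unfold tr
  have : (X.1 0 0 + X.1 1 1) ^ 2 = 0 := by
    linear_combination h00 + h11 + 2 * hd + 2 * h2
  exact pow_eq_zero_iff (two_ne_zero) |>.1 this

theorem odd_eq_one_of_dvd_two {n : ℕ} (hodd : Odd n) (h : n ∣ 2) : n = 1 := by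
  rcases (Nat.dvd_prime Nat.prime_two).1 h with h | h
  · exact h
  · rw [h] at hodd
    exact absurd hodd (by decide)

/-- the solubilizer of an involution -/
theorem card_sol_involution (p : ℕ) (hp : p.Prime) (hF : Fintype.card F = 2 ^ p) (X : SL2F)
    (hX1 : X ≠ 1) (hX2 : X * X = 1) :
    Nat.card {Y : SL2F // Group.IsSolvable ↥(Subgroup.closure ({X, Y} : Set SL2F))} =
      3 * Fintype.card F * (Fintype.card F - 1) := by
  have h2 : (2 : F) = 0 := two_eq_zero_F
  have htr := tr_eq_zero_of_mul_self' X hX2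
  have hu : ∀ r : F, (uU (1 : F)).1 ≠ Matrix.scalar (Fin 2) r := by
    intro r h
    have h01 : (uU (1 : F)).1 0 1 = 0 := by rw [h]; simp
    have e01 : (uU (1 : F)).1 0 1 = 1 := rfl
    rw [e01] at h01
    exact one_ne_zero h01
  obtain ⟨K, hK⟩ := exists_conj_of_tr_eq X (uU 1) (not_scalar_of_ne_one X hX1) hu (by
    rw [htr]
    unfold tr
    have e00 : (uU (1 : F)).1 0 0 = 1 := rfl
    have e11 : (uU (1 : F)).1 1 1 = 1 := rfl
    rw [e00, e11]
    linear_combination h2)
  rw [card_sol_congr (MulAut.conj K) X, MulAut.conj_apply, hK,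
    Nat.card_congr (Equiv.subtypeEquivRight (sol_uU_iff p hp hF))]
  exact card_sol_uU

/-- the solubilizer of a split semisimple element -/
theorem card_sol_split (p : ℕ) (hp : p.Prime) (hF : Fintype.card F = 2 ^ p) (X : SL2F)
    (hX1 : X ≠ 1) (hX2 : X ^ (Fintype.card F - 1) = 1) :
    Nat.card {Y : SL2F // Group.IsSolvable ↥(Subgroup.closure ({X, Y} : Set SL2F))} =
      2 * Fintype.card F * (Fintype.card F - 1) := by
  classical
  have h2 : (2 : F) = 0 := two_eq_zero_F
  have hq : 1 ≤ Fintype.card F := Fintype.card_pos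
  set n := orderOf X with hn
  have hn1 : n ≠ 1 := fun h => hX1 (orderOf_eq_one_iff.1 h)
  have hndvd : n ∣ Fintype.card F - 1 := orderOf_dvd_of_pow_eq_one hX2
  have hnodd : Odd n := Odd.of_dvd_nat odd_card_sub_one hndvd
  have hC := card_centralizer_add X hX1
  have hnC : n ∣ Nat.card (Subgroup.centralizer ({X} : Set SL2F)) :=
    Subgroup.orderOf_dvd_natCard _ (Subgroup.mem_centralizer_singleton_iff.2 rfl)
  have hsq : X * X ≠ 1 := by
    intro h
    apply hn1
    apply odd_eq_one_of_dvd_two hnodd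
    apply orderOf_dvd_of_pow_eq_one
    rw [pow_two, h]
  have hr : rootCount (tr X) ≠ 0 := by
    intro h0
    rw [h0, add_zero] at hC
    rw [hC] at hnC
    apply hn1
    apply odd_eq_one_of_dvd_two hnodd
    have := Nat.dvd_sub hnC hndvd
    have e : Fintype.card F + 1 - (Fintype.card F - 1) = 2 := by omega
    rwa [e] at this
  obtain ⟨l, hl⟩ := Finset.card_pos.1 (Nat.pos_of_ne_zero hr)
  rw [Finset.mem_filter] at hl
  have hroot := hl.2
  have hl0 : l ≠ 0 := by
    rintro rfl
    simp at hroot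
  have hll : l * l ≠ 1 := by
    intro h
    have hl1 := eq_one_of_mul_self l h
    rw [hl1] at hroot
    apply hsq
    apply mul_self_of_tr_eq_zero
    linear_combination hroot - h2
  let lu : Fˣ := Units.mk0 l hl0
  have e00 : (dD lu).1 0 0 = l := rfl
  have e01 : (dD lu).1 0 1 = 0 := rfl
  have e11 : (dD lu).1 1 1 = ((lu⁻¹ : Fˣ) : F) := rfl
  have hlli : l * ((lu⁻¹ : Fˣ) : F) = 1 := by
    have : ((lu * lu⁻¹ : Fˣ) : F) = 1 := by rw [mul_inv_cancel, Units.val_one]
    rwa [Units.val_mul] at this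
  have hD : ∀ r : F, (dD lu).1 ≠ Matrix.scalar (Fin 2) r := by
    intro r h
    have h00 : (dD lu).1 0 0 = r := by rw [h]; simp
    have h11 : (dD lu).1 1 1 = r := by rw [h]; simp
    rw [e00] at h00
    rw [e11] at h11
    apply hll
    rw [← h11] at h00
    rw [h00] at hlli ⊢
    exact hlli
  have htr : tr (dD lu) = tr X := by
    unfold tr
    rw [e00, e11]
    have h3 : l * (l + ((lu⁻¹ : Fˣ) : F) - (X.1 0 0 + X.1 1 1)) = 0 := by
      unfold tr at hroot
      linear_combination hroot + hlli - ((X.1 0 0 + X.1 1 1) * l) * h2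
    rcases mul_eq_zero.1 h3 with h | h
    · exact absurd h hl0
    · exact sub_eq_zero.1 h
  obtain ⟨K, hK⟩ := exists_conj_of_tr_eq X (dD lu) (not_scalar_of_ne_one X hX1) hD htr
  rw [card_sol_congr (MulAut.conj K) X, MulAut.conj_apply, hK,
    Nat.card_congr (Equiv.subtypeEquivRight (sol_dD_iff p hp hF lu hll))]
  exact card_sol_dD

/-- the solubilizer of a nonsplit semisimple element -/
theorem card_sol_nonsplit (p : ℕ) (hp : p.Prime) (hF : Fintype.card F = 2 ^ p) (X : SL2F)
    (hX1 : X ≠ 1) (hX2 : X ^ (Fintype.card F + 1) = 1) :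
    Nat.card {Y : SL2F // Group.IsSolvable ↥(Subgroup.closure ({X, Y} : Set SL2F))} =
      2 * (Fintype.card F + 1) := by
  classical
  have h2 : (2 : F) = 0 := two_eq_zero_F
  have hq : 1 ≤ Fintype.card F := Fintype.card_pos
  set n := orderOf X with hn
  have hn1 : n ≠ 1 := fun h => hX1 (orderOf_eq_one_iff.1 h)
  have hndvd : n ∣ Fintype.card F + 1 := orderOf_dvd_of_pow_eq_one hX2
  have hnodd : Odd n := Odd.of_dvd_nat odd_card_add_one hndvd
  have hC := card_centralizer_add X hX1
  have hnC : n ∣ Nat.card (Subgroup.centralizer ({X} : Set SL2F)) :=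
    Subgroup.orderOf_dvd_natCard _ (Subgroup.mem_centralizer_singleton_iff.2 rfl)
  have hsq : X * X ≠ 1 := by
    intro h
    apply hn1
    apply odd_eq_one_of_dvd_two hnodd
    apply orderOf_dvd_of_pow_eq_one
    rw [pow_two, h]
  have hroot : ∀ a : F, a ^ 2 + tr X * a + 1 ≠ 0 := by
    intro a ha
    have hr : 0 < rootCount (tr X) :=
      Finset.card_pos.2 ⟨a, Finset.mem_filter.2 ⟨Finset.mem_univ _, ha⟩⟩
    have hr2 := rootCount_le_two (tr X)
    have hnr : n ∣ rootCount (tr X) := by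
      rw [← hC] at hndvd
      exact (Nat.dvd_add_right hnC).1 hndvd
    have hle := Nat.le_of_dvd hr hnr
    apply hn1
    obtain ⟨t, ht⟩ := hnodd
    omega
  have hr0 : rootCount (tr X) = 0 := by
    unfold rootCount
    rw [Finset.card_eq_zero, Finset.filter_eq_empty_iff]
    intro a _
    exact hroot a
  rw [hr0, add_zero] at hC
  have htr0 : tr X ≠ 0 := by
    intro h
    apply hroot 1
    rw [h]
    linear_combination h2
  obtain ⟨W, -, hW⟩ := exists_invert X (by
    intro h
    apply htr0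
    have : (tr X) ^ 2 = 0 := by rw [h]; linear_combination 2 * h2
    exact pow_eq_zero_iff (two_ne_zero) |>.1 this)
  rw [Nat.card_congr (Equiv.subtypeEquivRight (sol_nonsplit_iff p hp hF X hroot)),
    card_comm_or_invert X W hW hsq, hC]

end Cfsg.Agent.Helper41.Sol
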