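import Mathlib

/-!
`2 × 2` matrix algebra for the covering theorem in `PSp₄(F)` (S2460):
matrices with an irreducible characteristic polynomial `X² - τ X + ν`.
-/

set_option autoImplicit false

namespace Cfsg.Agent.Helper41.Sp4

open scoped Matrix

variable {F : Type*} [Field F]

/-- the quadratic `X² - τ X + ν` has no root in `F` -/
def IrrQ (τ ν : F) : Prop := ∀ c : F, c ^ 2 - τ * c + ν ≠ 0

theorem IrrQ.ne_zero {τ ν : F} (h : IrrQ τ ν) : ν ≠ 0 := fun h0 => h 0 (by rw [h0]; ring)

/-- the norm is surjective: every nonzero `ν` is the constant term of an irreducible quadratic -/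
theorem exists_irrQ [Finite F] {ν : F} (hν : ν ≠ 0) : ∃ τ, IrrQ τ ν := by
  by_contra hcon
  have h : ∀ τ : F, ∃ c : F, c ^ 2 - τ * c + ν = 0 := by
    intro τ
    by_contra h'
    exact hcon ⟨τ, fun c hc => h' ⟨c, hc⟩⟩
  choose r hr using h
  have hr0 : ∀ τ, r τ ≠ 0 := by
    intro τ h0
    have := hr τ
    rw [h0] at this
    apply hν
    linear_combination this
  have hinj : Function.Injective r := by
    intro τ₁ τ₂ h12
    have h1 := hr τ₁
    have h2 := hr τ₂
    rw [h12] at h1
    have h3 : (τ₁ - τ₂) * r τ₂ = 0 := by linear_combination h2 - h1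
    rcases mul_eq_zero.mp h3 with h4 | h4
    · exact sub_eq_zero.mp h4
    · exact absurd h4 (hr0 τ₂)
  obtain ⟨τ, hτ⟩ := (Finite.injective_iff_surjective.mp hinj) 0
  exact hr0 τ hτ

/-- the inverse quadratic is irreducible as well -/
theorem IrrQ.inv {τ ν : F} (h : IrrQ τ ν) : IrrQ (τ / ν) (1 / ν) := by
  intro c hc
  have hν := h.ne_zero
  by_cases hc0 : c = 0
  · rw [hc0] at hc
    have : (1 : F) / ν = 0 := by linear_combination hc
    exact one_ne_zero ((div_eq_zero_iff.mp this).resolve_right hν)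
  · apply h (1 / c)
    field_simp
    field_simp at hc
    linear_combination hc

/-- a matrix with irreducible characteristic polynomial is conjugate to any other such matrix -/
theorem conj_comp (N : Matrix (Fin 2) (Fin 2) F) (hirr : IrrQ N.trace N.det) :
    ∃ S : Matrix (Fin 2) (Fin 2) F, S.det ≠ 0 ∧ N * S = S * !![0, -N.det; 1, N.trace] := by
  refine ⟨!![1, N 0 0; 0, N 1 0], ?_, ?_⟩
  · rw [Matrix.det_fin_two_of]
    intro h0
    have h1 : N 1 0 = 0 := by linear_combination h0
    apply hirr (N 0 0)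
    rw [Matrix.trace_fin_two, Matrix.det_fin_two, h1]
    ring
  · rw [Matrix.trace_fin_two, Matrix.det_fin_two]
    ext i j
    fin_cases i <;> fin_cases j <;> simp [Matrix.mul_apply, Fin.sum_univ_two] <;> ring

theorem conj_of_irr (N₁ N₂ : Matrix (Fin 2) (Fin 2) F) (ht : N₁.trace = N₂.trace)
    (hd : N₁.det = N₂.det) (hirr : IrrQ N₁.trace N₁.det) :
    ∃ S : Matrix (Fin 2) (Fin 2) F, S.det ≠ 0 ∧ N₁ * S = S * N₂ := by
  obtain ⟨S₁, hS₁, h1⟩ := conj_comp N₁ hirr
  have hirr2 : IrrQ N₂.trace N₂.det := by rw [← ht, ← hd]; exact hirr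
  obtain ⟨S₂, hS₂, h2⟩ := conj_comp N₂ hirr2
  rw [← ht, ← hd] at h2
  have hu2 : IsUnit S₂.det := isUnit_iff_ne_zero.mpr hS₂
  refine ⟨S₁ * S₂⁻¹, ?_, ?_⟩
  · rw [Matrix.det_mul, Matrix.det_nonsing_inv, Ring.inverse_eq_inv']
    exact mul_ne_zero hS₁ (inv_ne_zero hS₂)
  · have h3 : S₂⁻¹ * N₂ = !![0, -N₁.det; 1, N₁.trace] * S₂⁻¹ := by
      have : S₂⁻¹ * (N₂ * S₂) * S₂⁻¹ = S₂⁻¹ * (S₂ * !![0, -N₁.det; 1, N₁.trace]) * S₂⁻¹ := by rw [h2]
      rw [Matrix.mul_assoc, Matrix.mul_assoc, Matrix.mul_nonsing_inv _ hu2, Matrix.mul_one,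
        ← Matrix.mul_assoc S₂⁻¹ S₂, Matrix.nonsing_inv_mul _ hu2, Matrix.one_mul] at this
      exact this
    rw [← Matrix.mul_assoc, h1, Matrix.mul_assoc, Matrix.mul_assoc, h3]

/-- a matrix with irreducible characteristic polynomial and determinant `≠ 1` fixes no nonzero symmetric
form -/
theorem fpf_sym (N X : Matrix (Fin 2) (Fin 2) F) (hirr : IrrQ N.trace N.det) (h1 : N.det ≠ 1)
    (hX : X 0 1 = X 1 0) (h : N * X * Nᵀ = X) : X = 0 := by
  have e00 := congrFun (congrFun h 0) 0
  have e01 := congrFun (congrFun h 0) 1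
  have e11 := congrFun (congrFun h 1) 1
  simp only [Matrix.mul_apply, Fin.sum_univ_two, Matrix.transpose_apply] at e00 e01 e11
  rw [Matrix.trace_fin_two, Matrix.det_fin_two] at hirr
  rw [Matrix.det_fin_two] at h1
  set a := N 0 0
  set b := N 0 1
  set c := N 1 0
  set d := N 1 1
  set x := X 0 0
  set y := X 0 1
  set z := X 1 1
  rw [← hX] at e00 e01 e11
  have hD : (a * d - b * c - 1) * (1 - (a + d) + (a * d - b * c)) * (1 + (a + d) + (a * d - b * c)) ≠ 0 := by
    refine mul_ne_zero (mul_ne_zero (sub_ne_zero.mpr h1) ?_) ?_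
    · have := hirr 1
      intro h0
      apply this
      linear_combination h0
    · have := hirr (-1)
      intro h0
      apply this
      linear_combination h0
  have E1 : (a * a - 1) * x + 2 * a * b * y + b * b * z = 0 := by linear_combination e00
  have E2 : a * c * x + (a * d + b * c - 1) * y + b * d * z = 0 := by linear_combination e01
  have E3 : c * c * x + 2 * c * d * y + (d * d - 1) * z = 0 := by linear_combination e11
  have hx : x = 0 := by
    have : (a * d - b * c - 1) * (1 - (a + d) + (a * d - b * c)) * (1 + (a + d) + (a * d - b * c)) * x = 0 := by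
      linear_combination ((a * d + b * c - 1) * (d * d - 1) - 2 * b * c * d * d) * E1
        + (-(2 * a * b * (d * d - 1) - 2 * b * b * c * d)) * E2 + (b * b * (a * d - b * c + 1)) * E3
    exact (mul_eq_zero.mp this).resolve_left hD
  have hy : y = 0 := by
    have : (a * d - b * c - 1) * (1 - (a + d) + (a * d - b * c)) * (1 + (a + d) + (a * d - b * c)) * y = 0 := by
      linear_combination (-(a * c * (d * d - 1) - b * d * c * c)) * E1
        + ((a * a - 1) * (d * d - 1) - b * b * c * c) * E2 + (-((a * a - 1) * b * d - a * b * b * c)) * E3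
    exact (mul_eq_zero.mp this).resolve_left hD
  have hz : z = 0 := by
    have : (a * d - b * c - 1) * (1 - (a + d) + (a * d - b * c)) * (1 + (a + d) + (a * d - b * c)) * z = 0 := by
      linear_combination (c * c * (a * d - b * c + 1)) * E1
        + (-(2 * c * d * (a * a - 1) - 2 * a * b * c * c)) * E2 + ((a * a - 1) * (a * d + b * c - 1) - 2 * a * a * b * c) * E3
    exact (mul_eq_zero.mp this).resolve_left hD
  ext i j
  fin_cases i <;> fin_cases j
  · exact hx
  · exact hy
  · show X 1 0 = 0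
    rw [← hX]; exact hy
  · exact hz

end Cfsg.Agent.Helper41.Sp4
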