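import Cfsg.Agent.Helper41.Sp4A

/-!
More `2 × 2` algebra for S2460: solvability of `N X Nᵀ - X = Y`, orders prime to the characteristic, and the
factorisations `P = M₁ M₂` with `M₁`, `M₂⁻¹` of a given irreducible characteristic polynomial.
-/

set_option autoImplicit false

namespace Cfsg.Agent.Helper41.Sp4

open scoped Matrix

variable {F : Type*} [Field F]

/-- `N X Nᵀ - X = Y` is solvable in symmetric matrices -/
theorem exists_sym_sol [Finite F] (N Y : Matrix (Fin 2) (Fin 2) F) (hirr : IrrQ N.trace N.det)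
    (h1 : N.det ≠ 1) (hY : Y 0 1 = Y 1 0) :
    ∃ X : Matrix (Fin 2) (Fin 2) F, X 0 1 = X 1 0 ∧ N * X * Nᵀ - X = Y := by
  let S := {X : Matrix (Fin 2) (Fin 2) F // X 0 1 = X 1 0}
  have hsym : ∀ X : Matrix (Fin 2) (Fin 2) F, X 0 1 = X 1 0 → (N * X * Nᵀ - X) 0 1 = (N * X * Nᵀ - X) 1 0 := by
    intro X hX
    simp only [Matrix.sub_apply, Matrix.mul_apply, Fin.sum_univ_two, Matrix.transpose_apply]
    rw [hX]
    ring
  let φ : S → S := fun X => ⟨N * X.1 * Nᵀ - X.1, hsym X.1 X.2⟩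
  have hinj : Function.Injective φ := by
    intro X₁ X₂ h12
    have h := congrArg Subtype.val h12
    simp only [φ] at h
    have h0 : N * (X₁.1 - X₂.1) * Nᵀ = X₁.1 - X₂.1 := by
      rw [Matrix.mul_sub, Matrix.sub_mul]
      have : N * X₁.1 * Nᵀ - N * X₂.1 * Nᵀ - (X₁.1 - X₂.1) = 0 := by
        rw [show N * X₁.1 * Nᵀ - N * X₂.1 * Nᵀ - (X₁.1 - X₂.1)
          = (N * X₁.1 * Nᵀ - X₁.1) - (N * X₂.1 * Nᵀ - X₂.1) by abel, h, sub_self]
      exact sub_eq_zero.mp this
    have hs : (X₁.1 - X₂.1) 0 1 = (X₁.1 - X₂.1) 1 0 := by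
      simp only [Matrix.sub_apply]
      rw [X₁.2, X₂.2]
    have := fpf_sym N _ hirr h1 hs h0
    exact Subtype.ext (sub_eq_zero.mp this)
  obtain ⟨X, hX⟩ := (Finite.injective_iff_surjective.mp hinj) ⟨Y, hY⟩
  exact ⟨X.1, X.2, congrArg Subtype.val hX⟩

/-- Cayley–Hamilton for `2 × 2` matrices -/
theorem sq_eq (N : Matrix (Fin 2) (Fin 2) F) : N * N = N.trace • N - N.det • (1 : Matrix (Fin 2) (Fin 2) F) := by
  rw [Matrix.trace_fin_two, Matrix.det_fin_two]
  ext i j
  fin_cases i <;> fin_cases j <;> simp [Matrix.mul_apply, Fin.sum_univ_two] <;> ring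

theorem pow_mem_span (N : Matrix (Fin 2) (Fin 2) F) (k : ℕ) :
    ∃ a b : F, N ^ k = a • (1 : Matrix (Fin 2) (Fin 2) F) + b • N := by
  induction k with
  | zero => exact ⟨1, 0, by simp⟩
  | succ k ih =>
    obtain ⟨a, b, hab⟩ := ih
    refine ⟨-(b * N.det), a + b * N.trace, ?_⟩
    rw [pow_succ, hab, Matrix.add_mul, Matrix.smul_mul, Matrix.smul_mul, Matrix.one_mul, sq_eq]
    rw [smul_sub, smul_smul, smul_smul, add_smul, neg_smul]
    abel

/-- a matrix with irreducible characteristic polynomial has order prime to the characteristic -/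
theorem pow_eq_one_of_pow_mul (p : ℕ) [Fact p.Prime] [CharP F p] (N : Matrix (Fin 2) (Fin 2) F)
    (hirr : IrrQ N.trace N.det) (k : ℕ) (h : N ^ (p * k) = 1) : N ^ k = 1 := by
  obtain ⟨a, b, hab⟩ := pow_mem_span N k
  have hQ : (N ^ k) ^ p = 1 := by rw [← pow_mul, mul_comm]; exact h
  have hR : (N ^ k - 1) ^ p = 0 := by
    rw [sub_pow_char_of_commute p (Commute.one_right _), hQ, one_pow, sub_self]
  have hdet : (N ^ k - 1).det = 0 := by
    have := congrArg Matrix.det hR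
    rw [Matrix.det_pow, Matrix.det_zero] at this
    exact pow_eq_zero_iff (Fact.out : p.Prime).ne_zero |>.mp this
  rw [Matrix.trace_fin_two, Matrix.det_fin_two] at hirr
  have hform : (N ^ k - 1).det = (a - 1) ^ 2 + (a - 1) * b * (N 0 0 + N 1 1)
      + b ^ 2 * (N 0 0 * N 1 1 - N 0 1 * N 1 0) := by
    rw [hab, Matrix.det_fin_two]
    simp [Matrix.add_apply, Matrix.smul_apply, Matrix.sub_apply, Matrix.one_apply]
    ring
  rw [hform] at hdet
  have hb : b = 0 := by
    by_contra hb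
    apply hirr (-(a - 1) / b)
    field_simp
    linear_combination hdet
  have ha : a = 1 := by
    rw [hb] at hdet
    have : (a - 1) ^ 2 = 0 := by linear_combination hdet
    exact sub_eq_zero.mp ((pow_eq_zero_iff (two_ne_zero)).mp this)
  rw [hab, ha, hb]
  simp

/-- splitting `P = M₁ M₂` once `M₁` is found -/
theorem split_of_M1 {τ ν : F} (hν : ν ≠ 0) (P M₁ : Matrix (Fin 2) (Fin 2) F) (hP : P.det = 1)
    (hd : M₁.det = ν) (hlin : (M₁.adjugate * P).trace = τ) :
    ∃ M₂ : Matrix (Fin 2) (Fin 2) F, P = M₁ * M₂ ∧ M₂.trace = τ / ν ∧ M₂.det = 1 / ν := by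
  refine ⟨ν⁻¹ • (M₁.adjugate * P), ?_, ?_, ?_⟩
  · rw [Matrix.mul_smul, ← Matrix.mul_assoc, Matrix.mul_adjugate, hd, Matrix.smul_mul, Matrix.one_mul,
      smul_smul, inv_mul_cancel₀ hν, one_smul]
  · rw [Matrix.trace_smul, hlin, smul_eq_mul]
    field_simp
  · rw [Matrix.det_smul, Matrix.det_mul, Matrix.det_adjugate, hd, hP]
    simp only [Fintype.card_fin]
    field_simp
    norm_num

/-- case (α): `P` upper triangular with distinct diagonal entries -/
theorem accA (τ ν : F) (P : Matrix (Fin 2) (Fin 2) F) (h10 : P 1 0 = 0) (hne : P 0 0 ≠ P 1 1) :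
    ∃ M₁ : Matrix (Fin 2) (Fin 2) F, M₁.trace = τ ∧ M₁.det = ν ∧ (M₁.adjugate * P).trace = τ := by
  have hne' : P 1 1 - P 0 0 ≠ 0 := sub_ne_zero.mpr (Ne.symm hne)
  set a := (τ * (1 - P 0 0) + P 0 1) / (P 1 1 - P 0 0) with ha
  refine ⟨!![a, -(a ^ 2 - τ * a + ν); 1, τ - a], ?_, ?_, ?_⟩
  · rw [Matrix.trace_fin_two_of]; ring
  · rw [Matrix.det_fin_two_of]; ring
  · rw [Matrix.adjugate_fin_two_of, Matrix.trace_fin_two]
    simp only [Matrix.mul_apply, Fin.sum_univ_two, Matrix.of_apply, Matrix.cons_val', Matrix.cons_val_zero,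
      Matrix.cons_val_one, Matrix.empty_val', Matrix.cons_val_fin_one]
    rw [h10]
    have : a * (P 1 1 - P 0 0) = τ * (1 - P 0 0) + P 0 1 := by
      rw [ha]; field_simp
    linear_combination this

/-- case (δ): `P = [[0, u], [-u⁻¹, 0]]` in odd characteristic -/
theorem accD [Fintype F] (hodd : Fintype.card F % 2 = 1) (τ ν u : F) (hu : u ≠ 0) :
    ∃ M₁ : Matrix (Fin 2) (Fin 2) F, M₁.trace = τ ∧ M₁.det = ν ∧
      (M₁.adjugate * !![0, u; -u⁻¹, 0]).trace = τ := by
  have hf : (Polynomial.C (1 : F) * Polynomial.X ^ 2 + Polynomial.C (-τ) * Polynomial.X + Polynomial.C ν).degree = 2 :=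
    Polynomial.degree_quadratic one_ne_zero
  have hg : (Polynomial.C (1 : F) * Polynomial.X ^ 2 + Polynomial.C τ * Polynomial.X + Polynomial.C 0).degree = 2 :=
    Polynomial.degree_quadratic one_ne_zero
  obtain ⟨a, y, hay⟩ := FiniteField.exists_root_sum_quadratic hf hg hodd
  simp only [Polynomial.eval_add, Polynomial.eval_mul, Polynomial.eval_C, Polynomial.eval_pow, Polynomial.eval_X] at hay
  refine ⟨!![a, u * (τ + y); y / u, τ - a], ?_, ?_, ?_⟩
  · rw [Matrix.trace_fin_two_of]; ring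
  · rw [Matrix.det_fin_two_of]
    field_simp
    linear_combination -hay
  · rw [Matrix.adjugate_fin_two_of, Matrix.trace_fin_two]
    simp only [Matrix.mul_apply, Fin.sum_univ_two, Matrix.of_apply, Matrix.cons_val', Matrix.cons_val_zero,
      Matrix.cons_val_one, Matrix.empty_val', Matrix.cons_val_fin_one]
    field_simp
    ring

end Cfsg.Agent.Helper41.Sp4
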