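import Cfsg.Agent.Helper41.Sp4A2

/-!
The field with three elements: for every invertible `C` there is a symmetric `Z` with `Z C = M₁ M₂`,
`M₁` of characteristic polynomial `X² - X - 1` and `M₂` of that of its inverse (S2460).
-/

set_option autoImplicit false

namespace Cfsg.Agent.Helper41.Sp4

open scoped Matrix

set_option maxRecDepth 100000 in
theorem acc3_zmod : ∀ c1 c2 c3 c4 : ZMod 3, c1 * c4 - c2 * c3 ≠ 0 →
    ∃ z1 z2 z3 a b c : ZMod 3,
      (z1 * c1 + z2 * c3) * (z2 * c2 + z3 * c4) - (z1 * c2 + z2 * c4) * (z2 * c1 + z3 * c3) = 1 ∧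
      a * (1 - a) - b * c = -1 ∧
      (1 - a) * (z1 * c1 + z2 * c3) - b * (z2 * c1 + z3 * c3) - c * (z1 * c2 + z2 * c4)
        + a * (z2 * c2 + z3 * c4) = 1 := by
  decide +kernel

variable {F : Type*} [Field F]

/-- transfer to any field with three elements -/
theorem acc3 (e : ZMod 3 ≃+* F) (C : Matrix (Fin 2) (Fin 2) F) (hC : C.det ≠ 0) :
    ∃ Z M₁ : Matrix (Fin 2) (Fin 2) F, Z 0 1 = Z 1 0 ∧ (Z * C).det = 1 ∧ M₁.trace = 1 ∧ M₁.det = -1 ∧
      (M₁.adjugate * (Z * C)).trace = 1 := by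
  have h00 : e (e.symm (C 0 0)) = C 0 0 := e.apply_symm_apply _
  have h01 : e (e.symm (C 0 1)) = C 0 1 := e.apply_symm_apply _
  have h10 : e (e.symm (C 1 0)) = C 1 0 := e.apply_symm_apply _
  have h11 : e (e.symm (C 1 1)) = C 1 1 := e.apply_symm_apply _
  have hC' : e.symm (C 0 0) * e.symm (C 1 1) - e.symm (C 0 1) * e.symm (C 1 0) ≠ 0 := by
    intro h0
    apply hC
    have := congrArg e h0
    rw [map_sub, map_mul, map_mul, h00, h01, h10, h11, map_zero] at this
    rw [Matrix.det_fin_two]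
    exact this
  obtain ⟨z1, z2, z3, a, b, c, e1, e2, e3⟩ := acc3_zmod _ _ _ _ hC'
  have E1 := congrArg e e1
  have E2 := congrArg e e2
  have E3 := congrArg e e3
  simp only [map_sub, map_mul, map_add, map_one, map_neg, h00, h01, h10, h11] at E1 E2 E3
  refine ⟨!![e z1, e z2; e z2, e z3], !![e a, e b; e c, 1 - e a], rfl, ?_, ?_, ?_, ?_⟩
  · rw [Matrix.det_fin_two]
    simp only [Matrix.mul_apply, Fin.sum_univ_two, Matrix.of_apply, Matrix.cons_val', Matrix.cons_val_zero,
      Matrix.cons_val_one, Matrix.empty_val', Matrix.cons_val_fin_one]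
    linear_combination E1
  · rw [Matrix.trace_fin_two_of]; ring
  · rw [Matrix.det_fin_two_of]
    linear_combination E2
  · rw [Matrix.adjugate_fin_two_of, Matrix.trace_fin_two]
    simp only [Matrix.mul_apply, Fin.sum_univ_two, Matrix.of_apply, Matrix.cons_val', Matrix.cons_val_zero,
      Matrix.cons_val_one, Matrix.empty_val', Matrix.cons_val_fin_one]
    linear_combination E3

end Cfsg.Agent.Helper41.Sp4
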