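import Cfsg.Agent.Helper41.Sp4A2

/-!
Block matrices in `Sp₄(F)` for S2460: the Siegel parabolic, its Levi factor and unipotent radicals, and the
main algebraic lemma: an element whose upper left block is a product `M₁ M₂` (with `M₁`, `M₂⁻¹` of the
characteristic polynomial of `K`) is a product of two conjugates of `x = diag(K, K⁻ᵀ)`.
-/

set_option autoImplicit false

namespace Cfsg.Agent.Helper41.Sp4

open scoped Matrix

variable {F : Type*} [Field F]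

omit [Field F] in
theorem isSymm_iff (X : Matrix (Fin 2) (Fin 2) F) : Xᵀ = X ↔ X 0 1 = X 1 0 := by
  constructor
  · intro h
    have := congrFun (congrFun h 1) 0
    simpa using this
  · intro h
    ext i j
    fin_cases i <;> fin_cases j <;> simp [Matrix.transpose_apply, h]

/-- upper unipotent radical of the Siegel parabolic -/
def nU (X : Matrix (Fin 2) (Fin 2) F) (hX : Xᵀ = X) : Matrix.symplecticGroup (Fin 2) F :=
  ⟨Matrix.fromBlocks 1 X 0 1, SymplecticGroup.fromBlocks_mem_iff.mpr ⟨by simp, by simp [hX], by simp⟩⟩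

/-- lower unipotent radical of the Siegel parabolic -/
def nL (Y : Matrix (Fin 2) (Fin 2) F) (hY : Yᵀ = Y) : Matrix.symplecticGroup (Fin 2) F :=
  ⟨Matrix.fromBlocks 1 0 Y 1, SymplecticGroup.fromBlocks_mem_iff.mpr ⟨by simp [hY], by simp, by simp⟩⟩

theorem inv_transpose_mul (N : Matrix (Fin 2) (Fin 2) F) (hN : N.det ≠ 0) : Nᵀ * (N⁻¹)ᵀ = 1 := by
  rw [← Matrix.transpose_mul, Matrix.nonsing_inv_mul _ (isUnit_iff_ne_zero.mpr hN), Matrix.transpose_one]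

/-- the Levi factor `diag(N, N⁻ᵀ)` -/
noncomputable def lev (N : Matrix (Fin 2) (Fin 2) F) (hN : N.det ≠ 0) : Matrix.symplecticGroup (Fin 2) F :=
  ⟨Matrix.fromBlocks N 0 0 (N⁻¹)ᵀ, SymplecticGroup.fromBlocks_mem_iff.mpr
    ⟨by simp, by simp, by simp [inv_transpose_mul N hN]⟩⟩

@[simp] theorem coe_nU (X : Matrix (Fin 2) (Fin 2) F) (hX : Xᵀ = X) :
    ((nU X hX : Matrix.symplecticGroup (Fin 2) F) : Matrix (Fin 2 ⊕ Fin 2) (Fin 2 ⊕ Fin 2) F)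
      = Matrix.fromBlocks 1 X 0 1 := rfl

@[simp] theorem coe_nL (Y : Matrix (Fin 2) (Fin 2) F) (hY : Yᵀ = Y) :
    ((nL Y hY : Matrix.symplecticGroup (Fin 2) F) : Matrix (Fin 2 ⊕ Fin 2) (Fin 2 ⊕ Fin 2) F)
      = Matrix.fromBlocks 1 0 Y 1 := rfl

@[simp] theorem coe_lev (N : Matrix (Fin 2) (Fin 2) F) (hN : N.det ≠ 0) :
    ((lev N hN : Matrix.symplecticGroup (Fin 2) F) : Matrix (Fin 2 ⊕ Fin 2) (Fin 2 ⊕ Fin 2) F)
      = Matrix.fromBlocks N 0 0 (N⁻¹)ᵀ := rfl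

/-- conjugacy from a matrix identity -/
theorem isConj_of_mul_eq (a b u : Matrix.symplecticGroup (Fin 2) F)
    (h : (u : Matrix (Fin 2 ⊕ Fin 2) (Fin 2 ⊕ Fin 2) F) * a = b * u) : IsConj a b := by
  rw [isConj_iff]
  refine ⟨u, ?_⟩
  rw [mul_inv_eq_iff_eq_mul]
  exact Subtype.ext h

theorem inv_mul_inv_transpose (N S : Matrix (Fin 2) (Fin 2) F) :
    ((N * S)⁻¹)ᵀ = (N⁻¹)ᵀ * (S⁻¹)ᵀ := by
  rw [Matrix.mul_inv_rev, Matrix.transpose_mul]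

/-- `lev N` and `lev N'` are conjugate when `N S = S N'` -/
theorem isConj_lev (N N' S : Matrix (Fin 2) (Fin 2) F) (hN : N.det ≠ 0) (hN' : N'.det ≠ 0) (hS : S.det ≠ 0)
    (h : N * S = S * N') : IsConj (lev N' hN') (lev N hN) := by
  apply isConj_of_mul_eq _ _ (lev S hS)
  rw [coe_lev, coe_lev, coe_lev, Matrix.fromBlocks_multiply, Matrix.fromBlocks_multiply]
  have h2 : (S⁻¹)ᵀ * (N'⁻¹)ᵀ = (N⁻¹)ᵀ * (S⁻¹)ᵀ := by
    rw [← inv_mul_inv_transpose, ← inv_mul_inv_transpose, h]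
  simp [h, h2]

/-- conjugation by `J` swaps `N` and `N⁻ᵀ` -/
theorem isConj_lev_J (N : Matrix (Fin 2) (Fin 2) F) (hN : N.det ≠ 0) (hN' : ((N⁻¹)ᵀ).det ≠ 0) :
    IsConj (lev N hN) (lev ((N⁻¹)ᵀ) hN') := by
  apply isConj_of_mul_eq _ _ (SymplecticGroup.symJ (Fin 2) F)
  rw [coe_lev, coe_lev, SymplecticGroup.coe_J, Matrix.J, Matrix.fromBlocks_multiply, Matrix.fromBlocks_multiply]
  have : (((N⁻¹)ᵀ)⁻¹)ᵀ = N := by
    rw [Matrix.transpose_nonsing_inv, Matrix.transpose_transpose, Matrix.nonsing_inv_nonsing_inv _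
      (isUnit_iff_ne_zero.mpr hN)]
  simp [this]

/-- `lev N * nU X` is conjugate to `lev N` -/
theorem isConj_lev_nU [Finite F] (N X : Matrix (Fin 2) (Fin 2) F) (hN : N.det ≠ 0) (hX : Xᵀ = X)
    (hirr : IrrQ N.trace N.det) (h1 : N.det ≠ 1) : IsConj (lev N hN) (lev N hN * nU X hX) := by
  have hY : (-(N * X * Nᵀ)) 0 1 = (-(N * X * Nᵀ)) 1 0 := by
    rw [← isSymm_iff]
    rw [Matrix.transpose_neg, Matrix.transpose_mul, Matrix.transpose_mul, Matrix.transpose_transpose, hX,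
      Matrix.mul_assoc]
  obtain ⟨X', hX', hsol⟩ := exists_sym_sol N _ hirr h1 hY
  have hX'' : X'ᵀ = X' := (isSymm_iff X').mpr hX'
  apply isConj_of_mul_eq _ _ (nU X' hX'')
  rw [Submonoid.coe_mul, coe_lev, coe_nU, coe_nU, Matrix.fromBlocks_multiply, Matrix.fromBlocks_multiply,
    Matrix.fromBlocks_multiply]
  have hNN : N * (Nᵀ * (N⁻¹)ᵀ) = N := by rw [inv_transpose_mul N hN, Matrix.mul_one]
  have key : X' * (N⁻¹)ᵀ = N * X' + N * X := by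
    have h2 : N * X' * Nᵀ - X' = -(N * X * Nᵀ) := hsol
    have h3 : X' = N * X' * Nᵀ + N * X * Nᵀ := by
      rw [← sub_eq_zero]
      have : X' - (N * X' * Nᵀ + N * X * Nᵀ) = -((N * X' * Nᵀ - X') + N * X * Nᵀ) := by abel
      rw [this, h2]; simp
    calc X' * (N⁻¹)ᵀ = (N * X' * Nᵀ + N * X * Nᵀ) * (N⁻¹)ᵀ := by rw [← h3]
      _ = N * X' * (Nᵀ * (N⁻¹)ᵀ) + N * X * (Nᵀ * (N⁻¹)ᵀ) := by
        rw [Matrix.add_mul, Matrix.mul_assoc, Matrix.mul_assoc (N * X)]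
      _ = N * X' + N * X := by rw [inv_transpose_mul N hN, Matrix.mul_one, Matrix.mul_one]
  simp [key]

theorem trace_inv (N : Matrix (Fin 2) (Fin 2) F) : (N⁻¹).trace = N.trace / N.det := by
  rw [Matrix.inv_def, Matrix.trace_smul, Matrix.adjugate_fin_two, Matrix.trace_fin_two_of, Matrix.trace_fin_two,
    Ring.inverse_eq_inv', smul_eq_mul]
  ring

theorem det_inv' (N : Matrix (Fin 2) (Fin 2) F) : (N⁻¹).det = 1 / N.det := by
  rw [Matrix.det_nonsing_inv, Ring.inverse_eq_inv', one_div]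

/-- `nL Y * lev N` is conjugate to `lev N` -/
theorem isConj_nL_lev [Finite F] (N Y : Matrix (Fin 2) (Fin 2) F) (hN : N.det ≠ 0) (hY : Yᵀ = Y)
    (hirr : IrrQ N.trace N.det) (h1 : N.det ≠ 1) : IsConj (lev N hN) (nL Y hY * lev N hN) := by
  have hirr' : IrrQ ((N⁻¹)ᵀ).trace ((N⁻¹)ᵀ).det := by
    rw [Matrix.trace_transpose, Matrix.det_transpose, trace_inv, det_inv']
    exact hirr.inv
  have h1' : ((N⁻¹)ᵀ).det ≠ 1 := by
    rw [Matrix.det_transpose, det_inv']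
    intro h
    apply h1
    field_simp at h
    exact h.symm
  have hY2 : (-Y) 0 1 = (-Y) 1 0 := by
    rw [← isSymm_iff, Matrix.transpose_neg, hY]
  obtain ⟨Y', hY', hsol⟩ := exists_sym_sol ((N⁻¹)ᵀ) _ hirr' h1' hY2
  have hY'' : Y'ᵀ = Y' := (isSymm_iff Y').mpr hY'
  apply isConj_of_mul_eq _ _ (nL Y' hY'')
  rw [Submonoid.coe_mul, coe_lev, coe_nL, coe_nL, Matrix.fromBlocks_multiply, Matrix.fromBlocks_multiply,
    Matrix.fromBlocks_multiply]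
  rw [Matrix.transpose_transpose] at hsol
  have hu : IsUnit N.det := isUnit_iff_ne_zero.mpr hN
  have key : Y' * N = Y * N + (N⁻¹)ᵀ * Y' := by
    have h3 : Y' = (N⁻¹)ᵀ * Y' * N⁻¹ + Y := by
      rw [← sub_eq_zero]
      have : Y' - ((N⁻¹)ᵀ * Y' * N⁻¹ + Y) = -(((N⁻¹)ᵀ * Y' * N⁻¹ - Y') + Y) := by abel
      rw [this, hsol]; simp
    calc Y' * N = ((N⁻¹)ᵀ * Y' * N⁻¹ + Y) * N := by rw [← h3]
      _ = (N⁻¹)ᵀ * Y' * (N⁻¹ * N) + Y * N := by rw [Matrix.add_mul, Matrix.mul_assoc ((N⁻¹)ᵀ * Y')]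
      _ = Y * N + (N⁻¹)ᵀ * Y' := by rw [Matrix.nonsing_inv_mul _ hu, Matrix.mul_one, add_comm]
  simp [key]

theorem lev_mul (N₁ N₂ : Matrix (Fin 2) (Fin 2) F) (h1 : N₁.det ≠ 0) (h2 : N₂.det ≠ 0) (h12 : (N₁ * N₂).det ≠ 0) :
    lev (N₁ * N₂) h12 = lev N₁ h1 * lev N₂ h2 := by
  apply Subtype.ext
  rw [Submonoid.coe_mul, coe_lev, coe_lev, coe_lev, Matrix.fromBlocks_multiply, inv_mul_inv_transpose]
  simp

/-- Gauss decomposition with respect to the Siegel parabolic -/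
theorem gauss (g : Matrix.symplecticGroup (Fin 2) F)
    (hA : (g : Matrix (Fin 2 ⊕ Fin 2) (Fin 2 ⊕ Fin 2) F).toBlocks₁₁.det ≠ 0) :
    ∃ (X Y : Matrix (Fin 2) (Fin 2) F) (hX : Xᵀ = X) (hY : Yᵀ = Y),
      g = nL Y hY * lev _ hA * nU X hX := by
  set A := (g : Matrix (Fin 2 ⊕ Fin 2) (Fin 2 ⊕ Fin 2) F).toBlocks₁₁ with hAdef
  set B := (g : Matrix (Fin 2 ⊕ Fin 2) (Fin 2 ⊕ Fin 2) F).toBlocks₁₂ with hBdef
  set C := (g : Matrix (Fin 2 ⊕ Fin 2) (Fin 2 ⊕ Fin 2) F).toBlocks₂₁ with hCdef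
  set D := (g : Matrix (Fin 2 ⊕ Fin 2) (Fin 2 ⊕ Fin 2) F).toBlocks₂₂ with hDdef
  have hg : (g : Matrix (Fin 2 ⊕ Fin 2) (Fin 2 ⊕ Fin 2) F) = Matrix.fromBlocks A B C D :=
    (Matrix.fromBlocks_toBlocks _).symm
  have hmem : Matrix.fromBlocks A B C D ∈ Matrix.symplecticGroup (Fin 2) F := by rw [← hg]; exact g.2
  obtain ⟨r1, r2, r3⟩ := SymplecticGroup.fromBlocks_mem_iff.mp hmem
  have hmemT : Matrix.fromBlocks Aᵀ Cᵀ Bᵀ Dᵀ ∈ Matrix.symplecticGroup (Fin 2) F := by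
    rw [← Matrix.fromBlocks_transpose]
    exact SymplecticGroup.transpose_mem hmem
  obtain ⟨s1, s2, s3⟩ := SymplecticGroup.fromBlocks_mem_iff.mp hmemT
  simp only [Matrix.transpose_transpose] at s1 s2 s3
  have hu : IsUnit A.det := isUnit_iff_ne_zero.mpr hA
  have hAT : Aᵀ * (A⁻¹)ᵀ = 1 := inv_transpose_mul A hA
  have hAT' : (A⁻¹)ᵀ * Aᵀ = 1 := by
    rw [← Matrix.transpose_mul, Matrix.mul_nonsing_inv _ hu, Matrix.transpose_one]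
  -- C A⁻¹ = A⁻ᵀ Cᵀ
  have hCA : C * A⁻¹ = (A⁻¹)ᵀ * Cᵀ := by
    calc C * A⁻¹ = ((A⁻¹)ᵀ * Aᵀ) * C * A⁻¹ := by rw [hAT', Matrix.one_mul]
      _ = (A⁻¹)ᵀ * (Aᵀ * C) * A⁻¹ := by rw [Matrix.mul_assoc (A⁻¹)ᵀ]
      _ = (A⁻¹)ᵀ * (Cᵀ * A) * A⁻¹ := by rw [r1]
      _ = (A⁻¹)ᵀ * Cᵀ * (A * A⁻¹) := by rw [← Matrix.mul_assoc (A⁻¹)ᵀ, Matrix.mul_assoc]
      _ = (A⁻¹)ᵀ * Cᵀ := by rw [Matrix.mul_nonsing_inv _ hu, Matrix.mul_one]
  have hY : (C * A⁻¹)ᵀ = C * A⁻¹ := by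
    rw [Matrix.transpose_mul, ← hCA]
  -- A⁻¹ B = Bᵀ A⁻ᵀ
  have hAB : A⁻¹ * B = Bᵀ * (A⁻¹)ᵀ := by
    calc A⁻¹ * B = A⁻¹ * B * (Aᵀ * (A⁻¹)ᵀ) := by rw [hAT, Matrix.mul_one]
      _ = A⁻¹ * (B * Aᵀ) * (A⁻¹)ᵀ := by rw [← Matrix.mul_assoc, Matrix.mul_assoc A⁻¹ B]
      _ = A⁻¹ * (A * Bᵀ) * (A⁻¹)ᵀ := by rw [s1]
      _ = (A⁻¹ * A) * Bᵀ * (A⁻¹)ᵀ := by rw [← Matrix.mul_assoc A⁻¹ A]
      _ = Bᵀ * (A⁻¹)ᵀ := by rw [Matrix.nonsing_inv_mul _ hu, Matrix.one_mul]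
  have hX : (A⁻¹ * B)ᵀ = A⁻¹ * B := by
    rw [Matrix.transpose_mul, ← hAB]
  refine ⟨A⁻¹ * B, C * A⁻¹, hX, hY, ?_⟩
  apply Subtype.ext
  rw [Submonoid.coe_mul, Submonoid.coe_mul, coe_lev, coe_nL, coe_nU, hg, Matrix.fromBlocks_multiply,
    Matrix.fromBlocks_multiply]
  have e1 : A * (A⁻¹ * B) = B := by rw [← Matrix.mul_assoc, Matrix.mul_nonsing_inv _ hu, Matrix.one_mul]
  have e2 : C * A⁻¹ * A = C := by rw [Matrix.mul_assoc, Matrix.nonsing_inv_mul _ hu, Matrix.mul_one]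
  have e3 : C * (A⁻¹ * B) + (A⁻¹)ᵀ = D := by
    have : D = (A⁻¹)ᵀ * (Aᵀ * D) := by rw [← Matrix.mul_assoc, hAT', Matrix.one_mul]
    rw [this, show Aᵀ * D = 1 + Cᵀ * B from by rw [← r3]; abel, Matrix.mul_add, Matrix.mul_one,
      ← Matrix.mul_assoc (A⁻¹)ᵀ, ← hCA, Matrix.mul_assoc, add_comm]
  simp [e1, e2, e3, Matrix.mul_assoc]

theorem isConj_lev_of_char {τ ν : F} (hirr : IrrQ τ ν) (K N : Matrix (Fin 2) (Fin 2) F)
    (hK : K.det ≠ 0) (hN : N.det ≠ 0) (htK : K.trace = τ) (hdK : K.det = ν) (htN : N.trace = τ)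
    (hdN : N.det = ν) : IsConj (lev K hK) (lev N hN) := by
  obtain ⟨S, hS, h⟩ := conj_of_irr N K (by rw [htN, htK]) (by rw [hdN, hdK]) (by rw [htN, hdN]; exact hirr)
  exact isConj_lev N K S hN hK hS h

/-- main algebraic lemma: if the upper left block of `g` is `M₁ M₂` with `M₁` of the characteristic polynomial
of `K` and `M₂` of that of `K⁻¹`, then `g` is a product of two conjugates of `lev K` -/
theorem prod_of_block [Finite F] {τ ν : F} (hirr : IrrQ τ ν) (h1 : ν ≠ 1) (K : Matrix (Fin 2) (Fin 2) F)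
    (hK : K.det ≠ 0) (htK : K.trace = τ) (hdK : K.det = ν)
    (g : Matrix.symplecticGroup (Fin 2) F) (M₁ M₂ : Matrix (Fin 2) (Fin 2) F)
    (hA : (g : Matrix (Fin 2 ⊕ Fin 2) (Fin 2 ⊕ Fin 2) F).toBlocks₁₁ = M₁ * M₂)
    (ht1 : M₁.trace = τ) (hd1 : M₁.det = ν) (ht2 : M₂.trace = τ / ν) (hd2 : M₂.det = 1 / ν) :
    ∃ u v : Matrix.symplecticGroup (Fin 2) F, g = (u * lev K hK * u⁻¹) * (v * lev K hK * v⁻¹) := by
  have hν : ν ≠ 0 := hirr.ne_zero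
  have hM1 : M₁.det ≠ 0 := by rw [hd1]; exact hν
  have hM2 : M₂.det ≠ 0 := by rw [hd2]; exact one_div_ne_zero hν
  have hA' : (g : Matrix (Fin 2 ⊕ Fin 2) (Fin 2 ⊕ Fin 2) F).toBlocks₁₁.det ≠ 0 := by
    rw [hA, Matrix.det_mul]; exact mul_ne_zero hM1 hM2
  obtain ⟨X, Y, hX, hY, hg⟩ := gauss g hA'
  have hlev : ∀ (A : Matrix (Fin 2) (Fin 2) F) (hA0 : A.det ≠ 0), A = M₁ * M₂ →
      lev A hA0 = lev M₁ hM1 * lev M₂ hM2 := by
    intro A hA0 h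
    subst h
    exact lev_mul M₁ M₂ hM1 hM2 hA0
  rw [hlev _ hA' hA] at hg
  have hg2 : g = (nL Y hY * lev M₁ hM1) * (lev M₂ hM2 * nU X hX) := by
    rw [hg]; simp only [mul_assoc]
  -- first factor
  have c1 : IsConj (lev K hK) (nL Y hY * lev M₁ hM1) := by
    refine (isConj_lev_of_char hirr K M₁ hK hM1 htK hdK ht1 hd1).trans ?_
    exact isConj_nL_lev M₁ Y hM1 hY (by rw [ht1, hd1]; exact hirr) (by rw [hd1]; exact h1)
  -- second factor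
  have hM2' : ((M₂⁻¹)ᵀ).det ≠ 0 := by
    rw [Matrix.det_transpose, det_inv', hd2]
    exact one_div_ne_zero (one_div_ne_zero hν)
  have c2 : IsConj (lev K hK) (lev M₂ hM2 * nU X hX) := by
    have a1 : IsConj (lev K hK) (lev ((M₂⁻¹)ᵀ) hM2') := by
      apply isConj_lev_of_char hirr K _ hK hM2' htK hdK
      · rw [Matrix.trace_transpose, trace_inv, ht2, hd2]; field_simp
      · rw [Matrix.det_transpose, det_inv', hd2]; field_simp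
    have a2 : IsConj (lev ((M₂⁻¹)ᵀ) hM2') (lev M₂ hM2) := (isConj_lev_J M₂ hM2 hM2').symm
    have a3 : IsConj (lev M₂ hM2) (lev M₂ hM2 * nU X hX) := by
      apply isConj_lev_nU M₂ X hM2 hX
      · rw [ht2, hd2]; exact hirr.inv
      · rw [hd2]
        intro h
        apply h1
        field_simp at h
        exact h.symm
    exact (a1.trans a2).trans a3
  obtain ⟨u, hu⟩ := isConj_iff.mp c1
  obtain ⟨v, hv⟩ := isConj_iff.mp c2
  exact ⟨u, v, by rw [hu, hv]; exact hg2⟩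

end Cfsg.Agent.Helper41.Sp4
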