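import Cfsg.Agent.Helper41.Sp4B
import Cfsg.Agent.Helper41.Sp4A3
import Cfsg.Agent.Helper13.SpFrames

/-!
Geometry of `Sp₄(F)` for S2460, part 1: products of two conjugates, the central element `-1`, adjusting the upper
left block when the lower left block is invertible, and reading off blocks from isotropic frames.
-/

set_option autoImplicit false

namespace Cfsg.Agent.Helper41.Sp4

open scoped Matrix
open Cfsg.Agent.Helper13

variable {F : Type*} [Field F]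

/-- `g` is a product of two conjugates of `x` -/
def IsProd2 (x g : Matrix.symplecticGroup (Fin 2) F) : Prop :=
  ∃ u v : Matrix.symplecticGroup (Fin 2) F, g = (u * x * u⁻¹) * (v * x * v⁻¹)

theorem IsProd2.conj {x g : Matrix.symplecticGroup (Fin 2) F} (s : Matrix.symplecticGroup (Fin 2) F)
    (h : IsProd2 x (s⁻¹ * g * s)) : IsProd2 x g := by
  obtain ⟨u, v, huv⟩ := h
  refine ⟨s * u, s * v, ?_⟩
  have : g = s * (s⁻¹ * g * s) * s⁻¹ := by group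
  rw [this, huv]
  group

/-- the negative of a symplectic matrix -/
def negS (g : Matrix.symplecticGroup (Fin 2) F) : Matrix.symplecticGroup (Fin 2) F :=
  ⟨-g.1, SymplecticGroup.neg_mem g.2⟩

@[simp] theorem coe_negS (g : Matrix.symplecticGroup (Fin 2) F) :
    ((negS g : Matrix.symplecticGroup (Fin 2) F) : Matrix (Fin 2 ⊕ Fin 2) (Fin 2 ⊕ Fin 2) F) = -g.1 := rfl

theorem negS_eq (g : Matrix.symplecticGroup (Fin 2) F) : negS g = g * negS 1 := by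
  apply Subtype.ext
  rw [Submonoid.coe_mul, coe_negS, coe_negS, Submonoid.coe_one, Matrix.mul_neg, Matrix.mul_one]

theorem negS_one_mem_center :
    negS (1 : Matrix.symplecticGroup (Fin 2) F) ∈ Subgroup.center (Matrix.symplecticGroup (Fin 2) F) := by
  rw [Subgroup.mem_center_iff]
  intro g
  apply Subtype.ext
  rw [Submonoid.coe_mul, Submonoid.coe_mul, coe_negS, Submonoid.coe_one, Matrix.mul_neg, Matrix.mul_one,
    Matrix.neg_mul, Matrix.one_mul]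

theorem nU_mul_nU_neg (X : Matrix (Fin 2) (Fin 2) F) (hX : Xᵀ = X) (hX' : (-X)ᵀ = -X) :
    nU X hX * nU (-X) hX' = 1 := by
  apply Subtype.ext
  rw [Submonoid.coe_mul, coe_nU, coe_nU, Matrix.fromBlocks_multiply, Submonoid.coe_one]
  simp [Matrix.fromBlocks_one]

/-- adjusting the upper left block when the lower left block is invertible -/
theorem isProd2_of_C [Finite F] {τ ν : F} (hirr : IrrQ τ ν) (h1 : ν ≠ 1) (K : Matrix (Fin 2) (Fin 2) F)
    (hK : K.det ≠ 0) (htK : K.trace = τ) (hdK : K.det = ν)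
    (g : Matrix.symplecticGroup (Fin 2) F) (Z M₁ : Matrix (Fin 2) (Fin 2) F) (hZ : Zᵀ = Z)
    (hC : (g : Matrix (Fin 2 ⊕ Fin 2) (Fin 2 ⊕ Fin 2) F).toBlocks₂₁.det ≠ 0)
    (hP : (Z * (g : Matrix (Fin 2 ⊕ Fin 2) (Fin 2 ⊕ Fin 2) F).toBlocks₂₁).det = 1)
    (ht : M₁.trace = τ) (hd : M₁.det = ν)
    (hlin : (M₁.adjugate * (Z * (g : Matrix (Fin 2 ⊕ Fin 2) (Fin 2 ⊕ Fin 2) F).toBlocks₂₁)).trace = τ) :
    IsProd2 (lev K hK) g := by
  set A := (g : Matrix (Fin 2 ⊕ Fin 2) (Fin 2 ⊕ Fin 2) F).toBlocks₁₁ with hAdef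
  set B := (g : Matrix (Fin 2 ⊕ Fin 2) (Fin 2 ⊕ Fin 2) F).toBlocks₁₂ with hBdef
  set C := (g : Matrix (Fin 2 ⊕ Fin 2) (Fin 2 ⊕ Fin 2) F).toBlocks₂₁ with hCdef
  set D := (g : Matrix (Fin 2 ⊕ Fin 2) (Fin 2 ⊕ Fin 2) F).toBlocks₂₂ with hDdef
  have hg : (g : Matrix (Fin 2 ⊕ Fin 2) (Fin 2 ⊕ Fin 2) F) = Matrix.fromBlocks A B C D :=
    (Matrix.fromBlocks_toBlocks _).symm
  have hmem : Matrix.fromBlocks A B C D ∈ Matrix.symplecticGroup (Fin 2) F := by rw [← hg]; exact g.2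
  obtain ⟨r1, -, -⟩ := SymplecticGroup.fromBlocks_mem_iff.mp hmem
  have hu : IsUnit C.det := isUnit_iff_ne_zero.mpr hC
  have hAC : (A * C⁻¹)ᵀ = A * C⁻¹ := by
    rw [Matrix.transpose_mul]
    calc (C⁻¹)ᵀ * Aᵀ = (C⁻¹)ᵀ * Aᵀ * (C * C⁻¹) := by rw [Matrix.mul_nonsing_inv _ hu, Matrix.mul_one]
      _ = (C⁻¹)ᵀ * (Aᵀ * C) * C⁻¹ := by simp only [Matrix.mul_assoc]
      _ = (C⁻¹)ᵀ * (Cᵀ * A) * C⁻¹ := by rw [r1]
      _ = ((C⁻¹)ᵀ * Cᵀ) * A * C⁻¹ := by simp only [Matrix.mul_assoc]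
      _ = A * C⁻¹ := by
        rw [← Matrix.transpose_mul, Matrix.mul_nonsing_inv _ hu, Matrix.transpose_one, Matrix.one_mul]
  have hX : (Z - A * C⁻¹)ᵀ = Z - A * C⁻¹ := by rw [Matrix.transpose_sub, hZ, hAC]
  have hX' : (-(Z - A * C⁻¹))ᵀ = -(Z - A * C⁻¹) := by rw [Matrix.transpose_neg, hX]
  set s := nU (Z - A * C⁻¹) hX with hs
  have hsinv : s⁻¹ = nU (-(Z - A * C⁻¹)) hX' := by
    rw [inv_eq_iff_mul_eq_one]
    exact nU_mul_nU_neg _ hX hX'
  have hblock : ((s * g * s⁻¹ : Matrix.symplecticGroup (Fin 2) F) :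
      Matrix (Fin 2 ⊕ Fin 2) (Fin 2 ⊕ Fin 2) F).toBlocks₁₁ = Z * C := by
    rw [hsinv, Submonoid.coe_mul, Submonoid.coe_mul, hs, coe_nU, coe_nU, hg, Matrix.fromBlocks_multiply,
      Matrix.fromBlocks_multiply, Matrix.toBlocks_fromBlocks₁₁]
    have : (Z - A * C⁻¹) * C = Z * C - A := by
      rw [Matrix.sub_mul, Matrix.mul_assoc, Matrix.nonsing_inv_mul _ hu, Matrix.mul_one]
    simp [this]
  obtain ⟨M₂, hM, ht2, hd2⟩ := split_of_M1 hirr.ne_zero (Z * C) M₁ hP hd hlin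
  have := prod_of_block hirr h1 K hK htK hdK (s * g * s⁻¹) M₁ M₂ (by rw [hblock, hM]) ht hd ht2 hd2
  apply IsProd2.conj s⁻¹
  rw [inv_inv]
  exact this

end Cfsg.Agent.Helper41.Sp4
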