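import Cfsg.Agent.Helper41.Sp4C

/-!
Geometry of `Sp₄(F)` for S2460, part 2: frames and the three kinds of good configurations.
-/

set_option autoImplicit false

namespace Cfsg.Agent.Helper41.Sp4

open scoped Matrix
open Cfsg.Agent.Helper13

variable {F : Type*} [Field F]

/-- the standard isotropic basis vectors `e₀, e₁` -/
def stdE (i : Fin 2) : Fin 2 ⊕ Fin 2 → F := Pi.single (Sum.inl i) 1

/-- the standard isotropic basis vectors `f₀, f₁` -/
def stdF (i : Fin 2) : Fin 2 ⊕ Fin 2 → F := Pi.single (Sum.inr i) 1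

theorem mulVec_stdE (M : Matrix (Fin 2 ⊕ Fin 2) (Fin 2 ⊕ Fin 2) F) (j : Fin 2) :
    M *ᵥ stdE j = fun i => M i (Sum.inl j) := by
  rw [stdE, Matrix.mulVec_single_one]
  rfl

theorem mulVec_stdF (M : Matrix (Fin 2 ⊕ Fin 2) (Fin 2 ⊕ Fin 2) F) (j : Fin 2) :
    M *ᵥ stdF j = fun i => M i (Sum.inr j) := by
  rw [stdF, Matrix.mulVec_single_one]
  rfl

theorem sympForm_stdE_right (z : Fin 2 ⊕ Fin 2 → F) (i : Fin 2) :
    Cfsg.sympForm 2 F z (stdE i) = z (Sum.inr i) := by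
  rw [sympForm_eq_sum, Fin.sum_univ_two]
  fin_cases i <;> simp [stdE, Pi.single_apply]

theorem sympForm_stdF_right (z : Fin 2 ⊕ Fin 2 → F) (i : Fin 2) :
    Cfsg.sympForm 2 F z (stdF i) = -z (Sum.inl i) := by
  rw [sympForm_eq_sum, Fin.sum_univ_two]
  fin_cases i <;> simp [stdF, Pi.single_apply]

theorem stdE_frame : IsTIFrame 2 (stdE : Fin 2 → (Fin 2 ⊕ Fin 2 → F)) := by
  constructor
  · have h := ((Pi.basisFun F (Fin 2 ⊕ Fin 2)).linearIndependent).comp Sum.inl Sum.inl_injective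
    have e : (stdE : Fin 2 → (Fin 2 ⊕ Fin 2 → F)) = ⇑(Pi.basisFun F (Fin 2 ⊕ Fin 2)) ∘ Sum.inl := by
      funext i
      simp [stdE, Pi.basisFun_apply]
    rw [e]
    exact h
  · intro i j
    rw [sympForm_stdE_right]
    simp [stdE]

theorem preserves (s : Matrix.symplecticGroup (Fin 2) F) (u v : Fin 2 ⊕ Fin 2 → F) :
    Cfsg.sympForm 2 F (s.1 *ᵥ u) (s.1 *ᵥ v) = Cfsg.sympForm 2 F u v :=
  (mem_symplecticGroup_iff_preserves s.1).mp s.2 u v

theorem inv_mulVec_mulVec (s : Matrix.symplecticGroup (Fin 2) F) (z : Fin 2 ⊕ Fin 2 → F) :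
    (s⁻¹).1 *ᵥ (s.1 *ᵥ z) = z := by
  rw [Matrix.mulVec_mulVec, ← Submonoid.coe_mul, inv_mul_cancel, Submonoid.coe_one, Matrix.one_mulVec]

theorem mulVec_injective (s : Matrix.symplecticGroup (Fin 2) F) {a b : Fin 2 ⊕ Fin 2 → F}
    (h : s.1 *ᵥ a = s.1 *ᵥ b) : a = b := by
  rw [← inv_mulVec_mulVec s a, h, inv_mulVec_mulVec]

theorem conj_mulVec (s g : Matrix.symplecticGroup (Fin 2) F) (z : Fin 2 ⊕ Fin 2 → F) :
    s.1 *ᵥ ((s⁻¹ * g * s).1 *ᵥ z) = g.1 *ᵥ (s.1 *ᵥ z) := by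
  have : s.1 * (s⁻¹ * g * s).1 = g.1 * s.1 := by
    rw [← Submonoid.coe_mul, ← Submonoid.coe_mul]
    congr 1
    group
  rw [Matrix.mulVec_mulVec, this, ← Matrix.mulVec_mulVec]

/-- an isotropic pair is the image of the standard pair -/
theorem exists_frame_map (v w : Fin 2 ⊕ Fin 2 → F) (hli : LinearIndependent F ![v, w])
    (hvw : Cfsg.sympForm 2 F v w = 0) :
    ∃ s : Matrix.symplecticGroup (Fin 2) F, s.1 *ᵥ stdE 0 = v ∧ s.1 *ᵥ stdE 1 = w := by
  have hf : IsTIFrame 2 (![v, w] : Fin 2 → (Fin 2 ⊕ Fin 2 → F)) := by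
    refine ⟨hli, ?_⟩
    intro i j
    fin_cases i <;> fin_cases j
    · simp
    · simpa using hvw
    · simp only [Fin.mk_one, Fin.isValue, Matrix.cons_val_one, Matrix.cons_val_fin_one, Fin.zero_eta,
        Matrix.cons_val_zero]
      rw [sympForm_swap, hvw, neg_zero]
    · simp
  obtain ⟨s, hs⟩ := exists_symp_map_frame (stdE : Fin 2 → (Fin 2 ⊕ Fin 2 → F)) ![v, w] stdE_frame hf
  exact ⟨s, by simpa using hs 0, by simpa using hs 1⟩

/-- the lower left block of a conjugate in terms of the form -/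
theorem C_entry (s g : Matrix.symplecticGroup (Fin 2) F) (i j : Fin 2) :
    (s⁻¹ * g * s).1.toBlocks₂₁ i j
      = Cfsg.sympForm 2 F (g.1 *ᵥ (s.1 *ᵥ stdE j)) (s.1 *ᵥ stdE i) := by
  rw [← conj_mulVec, preserves, sympForm_stdE_right, mulVec_stdE]
  rfl

/-- the upper left block of a conjugate in terms of the form -/
theorem A_entry (s g : Matrix.symplecticGroup (Fin 2) F) (i j : Fin 2) :
    (s⁻¹ * g * s).1.toBlocks₁₁ i j
      = -Cfsg.sympForm 2 F (g.1 *ᵥ (s.1 *ᵥ stdE j)) (s.1 *ᵥ stdF i) := by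
  rw [← conj_mulVec, preserves, sympForm_stdF_right, mulVec_stdE, neg_neg]
  rfl

/-- acceptability of triangular lower left blocks -/
def AccTri (τ ν : F) : Prop :=
  ∀ C : Matrix (Fin 2) (Fin 2) F, C 1 0 = 0 → C 0 0 ≠ 0 → C 1 1 ≠ 0 →
    ∃ Z M₁ : Matrix (Fin 2) (Fin 2) F, Z 0 1 = Z 1 0 ∧ (Z * C).det = 1 ∧ M₁.trace = τ ∧ M₁.det = ν ∧
      (M₁.adjugate * (Z * C)).trace = τ

theorem accTri_of_four [Fintype F] (h4 : 4 ≤ Fintype.card F) (τ ν : F) : AccTri τ ν := by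
  classical
  intro C h10 h00 h11
  have hcard : ({0, 1, -1} : Finset F).card < (Finset.univ : Finset F).card := by
    rw [Finset.card_univ]
    exact lt_of_le_of_lt Finset.card_le_three (by omega)
  obtain ⟨s, -, hs⟩ := Finset.exists_mem_notMem_of_card_lt_card hcard
  simp only [Finset.mem_insert, Finset.mem_singleton, not_or] at hs
  obtain ⟨hs0, hs1, hs2⟩ := hs
  have hss : s ≠ s⁻¹ := by
    intro h
    have : s * s = 1 := by
      nth_rewrite 2 [h]
      exact mul_inv_cancel₀ hs0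
    have h2 : (s - 1) * (s + 1) = 0 := by linear_combination this
    rcases mul_eq_zero.mp h2 with h3 | h3
    · exact hs1 (sub_eq_zero.mp h3)
    · exact hs2 (eq_neg_of_add_eq_zero_left h3)
  set Z : Matrix (Fin 2) (Fin 2) F := !![s / C 0 0, 0; 0, s⁻¹ / C 1 1] with hZ
  have e00 : (Z * C) 0 0 = s := by
    simp only [hZ, Matrix.mul_apply, Fin.sum_univ_two, Matrix.of_apply, Matrix.cons_val', Matrix.cons_val_zero,
      Matrix.cons_val_one, Matrix.empty_val', Matrix.cons_val_fin_one]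
    field_simp
    ring
  have e10 : (Z * C) 1 0 = 0 := by
    simp only [hZ, Matrix.mul_apply, Fin.sum_univ_two, Matrix.of_apply, Matrix.cons_val', Matrix.cons_val_zero,
      Matrix.cons_val_one, Matrix.empty_val', Matrix.cons_val_fin_one]
    rw [h10]
    ring
  have e11 : (Z * C) 1 1 = s⁻¹ := by
    simp only [hZ, Matrix.mul_apply, Fin.sum_univ_two, Matrix.of_apply, Matrix.cons_val', Matrix.cons_val_zero,
      Matrix.cons_val_one, Matrix.empty_val', Matrix.cons_val_fin_one]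
    field_simp
    ring
  obtain ⟨M₁, ht, hd, hlin⟩ := accA τ ν (Z * C) e10 (by rw [e00, e11]; exact hss)
  refine ⟨Z, M₁, by simp [hZ], ?_, ht, hd, hlin⟩
  rw [Matrix.det_fin_two, e00, e10, e11, mul_zero, sub_zero, mul_inv_cancel₀ hs0]

theorem accTri_of_three (e : ZMod 3 ≃+* F) : AccTri (1 : F) (-1) := by
  intro C h10 h00 h11
  have hC : C.det ≠ 0 := by
    rw [Matrix.det_fin_two, h10, mul_zero, sub_zero]
    exact mul_ne_zero h00 h11
  exact acc3 e C hC

section main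

variable [Finite F] {τ ν : F} (hirr : IrrQ τ ν) (h1 : ν ≠ 1) (K : Matrix (Fin 2) (Fin 2) F)
  (hK : K.det ≠ 0) (htK : K.trace = τ) (hdK : K.det = ν)

include hirr h1 htK hdK

/-- configurations of the first kind -/
theorem isProd2_of_goodA (hacc : AccTri τ ν) (g : Matrix.symplecticGroup (Fin 2) F)
    (v w : Fin 2 ⊕ Fin 2 → F) (hvw : Cfsg.sympForm 2 F v w = 0)
    (h2 : Cfsg.sympForm 2 F (g.1 *ᵥ v) w = 0) (hv : Cfsg.sympForm 2 F (g.1 *ᵥ v) v ≠ 0)
    (hw : Cfsg.sympForm 2 F (g.1 *ᵥ w) w ≠ 0) : IsProd2 (lev K hK) g := by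
  have hli : LinearIndependent F ![v, w] := by
    rw [LinearIndependent.pair_iff]
    intro a b hab
    have e1 : Cfsg.sympForm 2 F (g.1 *ᵥ (a • v + b • w)) w = b * Cfsg.sympForm 2 F (g.1 *ᵥ w) w := by
      rw [Matrix.mulVec_add, Matrix.mulVec_smul, Matrix.mulVec_smul, sympForm_add_left, sympForm_smul_left,
        sympForm_smul_left, h2, mul_zero, zero_add]
    rw [hab, Matrix.mulVec_zero, sympForm_zero_left] at e1
    have hb : b = 0 := by
      rcases mul_eq_zero.mp e1.symm with h | h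
      · exact h
      · exact absurd h hw
    rw [hb, zero_smul, add_zero] at hab
    have e2 : Cfsg.sympForm 2 F (g.1 *ᵥ (a • v)) v = a * Cfsg.sympForm 2 F (g.1 *ᵥ v) v := by
      rw [Matrix.mulVec_smul, sympForm_smul_left]
    rw [hab, Matrix.mulVec_zero, sympForm_zero_left] at e2
    have ha : a = 0 := by
      rcases mul_eq_zero.mp e2.symm with h | h
      · exact h
      · exact absurd h hv
    exact ⟨ha, hb⟩
  obtain ⟨s, hs0, hs1⟩ := exists_frame_map v w hli hvw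
  have c00 : (s⁻¹ * g * s).1.toBlocks₂₁ 0 0 = Cfsg.sympForm 2 F (g.1 *ᵥ v) v := by
    rw [C_entry, hs0]
  have c10 : (s⁻¹ * g * s).1.toBlocks₂₁ 1 0 = 0 := by
    rw [C_entry, hs0, hs1, h2]
  have c11 : (s⁻¹ * g * s).1.toBlocks₂₁ 1 1 = Cfsg.sympForm 2 F (g.1 *ᵥ w) w := by
    rw [C_entry, hs1]
  obtain ⟨Z, M₁, hZ, hP, ht, hd, hlin⟩ := hacc _ c10 (by rw [c00]; exact hv) (by rw [c11]; exact hw)
  apply IsProd2.conj s
  refine isProd2_of_C hirr h1 K hK htK hdK _ Z M₁ ((isSymm_iff Z).mpr hZ) ?_ hP ht hd hlin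
  rw [Matrix.det_fin_two, c10, mul_zero, sub_zero, c00, c11]
  exact mul_ne_zero hv hw

/-- configurations of the third kind: an isotropic plane fixed pointwise -/
theorem isProd2_of_goodC (g : Matrix.symplecticGroup (Fin 2) F)
    (v w : Fin 2 ⊕ Fin 2 → F) (hli : LinearIndependent F ![v, w]) (hvw : Cfsg.sympForm 2 F v w = 0)
    (hv : g.1 *ᵥ v = v) (hw : g.1 *ᵥ w = w) : IsProd2 (lev K hK) g := by
  obtain ⟨s, hs0, hs1⟩ := exists_frame_map v w hli hvw
  apply IsProd2.conj s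
  have hA : (s⁻¹ * g * s).1.toBlocks₁₁ = 1 := by
    ext i j
    rw [A_entry]
    have hj : g.1 *ᵥ (s.1 *ᵥ stdE j) = s.1 *ᵥ stdE j := by
      fin_cases j
      · simpa [hs0] using hv
      · simpa [hs1] using hw
    rw [hj, preserves, sympForm_stdF_right]
    fin_cases i <;> fin_cases j <;> simp [stdE]
  have hu : IsUnit K.det := isUnit_iff_ne_zero.mpr hK
  refine prod_of_block hirr h1 K hK htK hdK _ K K⁻¹ ?_ htK hdK ?_ ?_
  · rw [hA, Matrix.mul_nonsing_inv _ hu]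
  · rw [trace_inv, htK, hdK]
  · rw [det_inv', hdK]

end main

end Cfsg.Agent.Helper41.Sp4
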