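import Cfsg.Agent.Helper41.Sp4D

/-!
Geometry of `Sp₄(F)` for S2460, part 3: configurations of the second kind and the elements `g` with
`B(g z, z) = 0` for all `z` (the involutions).
-/

set_option autoImplicit false

namespace Cfsg.Agent.Helper41.Sp4

open scoped Matrix
open Cfsg.Agent.Helper13

variable {F : Type*} [Field F]

theorem sympForm_eq_zero_of_forall {u : Fin 2 ⊕ Fin 2 → F} (h : ∀ x, Cfsg.sympForm 2 F x u = 0) : u = 0 := by
  by_contra hu
  obtain ⟨x, hx⟩ := sympForm_nondeg_left hu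
  exact hx (h x)

theorem exists_mulVec_ne (g : Matrix.symplecticGroup (Fin 2) F) (hg : g ≠ 1) : ∃ z, g.1 *ᵥ z ≠ z := by
  by_contra h
  simp only [not_exists, not_not] at h
  apply hg
  apply Subtype.ext
  rw [Submonoid.coe_one]
  apply matrix_eq_of_mulVec
  intro x
  rw [h x, Matrix.one_mulVec]

theorem exists_mulVec_ne_neg (g : Matrix.symplecticGroup (Fin 2) F) (hg : g ≠ negS 1) : ∃ z, g.1 *ᵥ z ≠ -z := by
  by_contra h
  simp only [not_exists, not_not] at h
  apply hg
  apply Subtype.ext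
  rw [coe_negS, Submonoid.coe_one]
  apply matrix_eq_of_mulVec
  intro x
  rw [h x, Matrix.neg_mulVec, Matrix.one_mulVec]

section phi

variable (g : Matrix.symplecticGroup (Fin 2) F) (hφ : ∀ z, Cfsg.sympForm 2 F (g.1 *ᵥ z) z = 0)

include hφ

theorem polar (z w : Fin 2 ⊕ Fin 2 → F) :
    Cfsg.sympForm 2 F (g.1 *ᵥ z) w + Cfsg.sympForm 2 F (g.1 *ᵥ w) z = 0 := by
  have h := hφ (z + w)
  rw [Matrix.mulVec_add, sympForm_add_left, sympForm_add_right, sympForm_add_right, hφ z, hφ w] at h
  linear_combination h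

theorem hsym (z w : Fin 2 ⊕ Fin 2 → F) :
    Cfsg.sympForm 2 F (g.1 *ᵥ z) w = Cfsg.sympForm 2 F z (g.1 *ᵥ w) := by
  have h := polar g hφ z w
  rw [sympForm_swap z (g.1 *ᵥ w)]
  linear_combination h

theorem hinv (z : Fin 2 ⊕ Fin 2 → F) : g.1 *ᵥ (g.1 *ᵥ z) = z := by
  have : g.1 *ᵥ (g.1 *ᵥ z) - z = 0 := by
    apply sympForm_eq_zero_of_forall
    intro x
    rw [sympForm_sub_right, ← hsym g hφ, preserves, sub_self]
  exact sub_eq_zero.mp this

end phi

section main

variable [Fintype F] {τ ν : F} (hirr : IrrQ τ ν) (h1 : ν ≠ 1) (K : Matrix (Fin 2) (Fin 2) F)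
  (hK : K.det ≠ 0) (htK : K.trace = τ) (hdK : K.det = ν)

include hirr h1 htK hdK

/-- configurations of the second kind: the lower left block is alternating -/
theorem isProd2_of_goodB (hodd : Fintype.card F % 2 = 1) (g : Matrix.symplecticGroup (Fin 2) F)
    (hφ : ∀ z, Cfsg.sympForm 2 F (g.1 *ᵥ z) z = 0)
    (v w : Fin 2 ⊕ Fin 2 → F) (hvw : Cfsg.sympForm 2 F v w = 0)
    (hne : Cfsg.sympForm 2 F (g.1 *ᵥ v) w ≠ 0) : IsProd2 (lev K hK) g := by
  have hwv : Cfsg.sympForm 2 F (g.1 *ᵥ w) v = -Cfsg.sympForm 2 F (g.1 *ᵥ v) w := by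
    linear_combination polar g hφ v w
  have hli : LinearIndependent F ![v, w] := by
    rw [LinearIndependent.pair_iff]
    intro a b hab
    have e1 : Cfsg.sympForm 2 F (g.1 *ᵥ (a • v + b • w)) w = a * Cfsg.sympForm 2 F (g.1 *ᵥ v) w := by
      rw [Matrix.mulVec_add, Matrix.mulVec_smul, Matrix.mulVec_smul, sympForm_add_left, sympForm_smul_left,
        sympForm_smul_left, hφ w, mul_zero, add_zero]
    rw [hab, Matrix.mulVec_zero, sympForm_zero_left] at e1
    have ha : a = 0 := by
      rcases mul_eq_zero.mp e1.symm with h | h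
      · exact h
      · exact absurd h hne
    rw [ha, zero_smul, zero_add] at hab
    have e2 : Cfsg.sympForm 2 F (g.1 *ᵥ (b • w)) v = b * Cfsg.sympForm 2 F (g.1 *ᵥ w) v := by
      rw [Matrix.mulVec_smul, sympForm_smul_left]
    rw [hab, Matrix.mulVec_zero, sympForm_zero_left, hwv] at e2
    have hb : b = 0 := by
      rcases mul_eq_zero.mp e2.symm with h | h
      · exact h
      · exact absurd (neg_eq_zero.mp h) hne
    exact ⟨ha, hb⟩
  obtain ⟨s, hs0, hs1⟩ := exists_frame_map v w hli hvw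
  set c := Cfsg.sympForm 2 F (g.1 *ᵥ v) w with hc
  have c00 : (s⁻¹ * g * s).1.toBlocks₂₁ 0 0 = 0 := by
    rw [C_entry, hs0, hφ]
  have c10 : (s⁻¹ * g * s).1.toBlocks₂₁ 1 0 = c := by
    rw [C_entry, hs0, hs1]
  have c01 : (s⁻¹ * g * s).1.toBlocks₂₁ 0 1 = -c := by
    rw [C_entry, hs0, hs1, hwv]
  have c11 : (s⁻¹ * g * s).1.toBlocks₂₁ 1 1 = 0 := by
    rw [C_entry, hs1, hφ]
  set Z : Matrix (Fin 2) (Fin 2) F := !![1, 0; 0, (c ^ 2)⁻¹] with hZ
  have hP : Z * (s⁻¹ * g * s).1.toBlocks₂₁ = !![0, -c; -(-c)⁻¹, 0] := by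
    generalize (s⁻¹ * g * s).1.toBlocks₂₁ = C at c00 c10 c01 c11
    ext i j
    fin_cases i <;> fin_cases j
    · simp [hZ, Matrix.mul_apply, Fin.sum_univ_two, c00]
    · simp [hZ, Matrix.mul_apply, Fin.sum_univ_two, c01]
    · simp [hZ, Matrix.mul_apply, Fin.sum_univ_two, c10]
      field_simp
    · simp [hZ, Matrix.mul_apply, Fin.sum_univ_two, c11]
  obtain ⟨M₁, ht, hd, hlin⟩ := accD hodd τ ν (-c) (neg_ne_zero.mpr hne)
  apply IsProd2.conj s
  refine isProd2_of_C hirr h1 K hK htK hdK _ Z M₁ ((isSymm_iff Z).mpr (by simp [hZ])) ?_ ?_ ht hd ?_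
  · rw [Matrix.det_fin_two, c00, c10, c01, c11]
    simp only [mul_zero, zero_sub, neg_mul, neg_neg]
    exact mul_ne_zero hne hne
  · rw [hP, Matrix.det_fin_two_of]
    field_simp
    ring
  · rw [hP]
    exact hlin

/-- the elements with `B(g z, z) = 0` for all `z` -/
theorem isProd2_of_phi_zero (g : Matrix.symplecticGroup (Fin 2) F) (hg1 : g ≠ 1) (hg2 : g ≠ negS 1)
    (hφ : ∀ z, Cfsg.sympForm 2 F (g.1 *ᵥ z) z = 0) : IsProd2 (lev K hK) g := by
  by_cases h2 : (2 : F) = 0
  · -- characteristic two: an isotropic plane fixed pointwise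
    have hneg : ∀ x : F, -x = x := by
      intro x
      linear_combination (-x) * h2
    have hnegv : ∀ x : Fin 2 ⊕ Fin 2 → F, -x = x := by
      intro x
      funext i
      exact hneg (x i)
    obtain ⟨z, hz⟩ := exists_mulVec_ne g hg1
    set v := z + g.1 *ᵥ z with hv
    have hv0 : v ≠ 0 := by
      intro h
      apply hz
      have : g.1 *ᵥ z = -z := by
        rw [hv] at h
        exact (neg_eq_of_add_eq_zero_right h).symm
      rw [this, hnegv]
    have hgv : g.1 *ᵥ v = v := by
      rw [hv, Matrix.mulVec_add, hinv g hφ, add_comm]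
    -- orthogonality of the image of `1 + g`
    have horth : ∀ z' : Fin 2 ⊕ Fin 2 → F, Cfsg.sympForm 2 F v (z' + g.1 *ᵥ z') = 0 := by
      intro z'
      rw [hv, sympForm_add_left, sympForm_add_right, sympForm_add_right, preserves,
        ← hsym g hφ z z']
      linear_combination (Cfsg.sympForm 2 F z z' + Cfsg.sympForm 2 F (g.1 *ᵥ z) z') * h2
    by_cases hrank : ∃ z', ∀ c : F, z' + g.1 *ᵥ z' ≠ c • v
    · obtain ⟨z', hz'⟩ := hrank
      refine isProd2_of_goodC hirr h1 K hK htK hdK g v (z' + g.1 *ᵥ z') ?_ (horth z') hgv ?_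
      · rw [LinearIndependent.pair_iff]
        intro a b hab
        have hb : b = 0 := by
          by_contra hb
          apply hz' (-(a / b))
          have : b • (z' + g.1 *ᵥ z') = -(a • v) := eq_neg_of_add_eq_zero_right hab
          calc z' + g.1 *ᵥ z' = b⁻¹ • (b • (z' + g.1 *ᵥ z')) := by
                rw [smul_smul, inv_mul_cancel₀ hb, one_smul]
            _ = (-(a / b)) • v := by
                rw [this, smul_neg, smul_smul, neg_smul]
                congr 2
                field_simp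
        rw [hb, zero_smul, add_zero] at hab
        rcases smul_eq_zero.mp hab with h | h
        · exact ⟨h, hb⟩
        · exact absurd h hv0
      · rw [Matrix.mulVec_add, hinv g hφ, add_comm]
    · simp only [not_exists, not_forall, not_not] at hrank
      -- `1 + g` has rank one
      have hE0 : (stdE 0 : Fin 2 ⊕ Fin 2 → F) ≠ 0 := by
        intro h
        have := congrFun h (Sum.inl 0)
        simp [stdE] at this
      obtain ⟨s, -, hs⟩ := exists_transvection_map_of_ne_zero hE0 hv0
      set w := s.1 *ᵥ stdE 1 with hw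
      have hvw : Cfsg.sympForm 2 F v w = 0 := by
        rw [← hs, hw, preserves, sympForm_stdE_right]
        simp [stdE]
      have hgw : g.1 *ᵥ w = w := by
        have : w + g.1 *ᵥ w = 0 := by
          apply sympForm_eq_zero_of_forall
          intro x
          obtain ⟨c, hc⟩ := hrank x
          have e1 : Cfsg.sympForm 2 F x (w + g.1 *ᵥ w) = Cfsg.sympForm 2 F (x + g.1 *ᵥ x) w := by
            rw [sympForm_add_right, sympForm_add_left, hsym g hφ x w]
          rw [e1, hc, sympForm_smul_left, hvw, mul_zero]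
        have h3 : g.1 *ᵥ w = -w := (neg_eq_of_add_eq_zero_right this).symm
        rw [h3, hnegv]
      refine isProd2_of_goodC hirr h1 K hK htK hdK g v w ?_ hvw hgv hgw
      rw [LinearIndependent.pair_iff]
      intro a b hab
      have h4 : s.1 *ᵥ (a • stdE 0 + b • stdE 1) = s.1 *ᵥ 0 := by
        rw [Matrix.mulVec_add, Matrix.mulVec_smul, Matrix.mulVec_smul, hs, ← hw, hab, Matrix.mulVec_zero]
      have h5 := mulVec_injective s h4
      have ha := congrFun h5 (Sum.inl 0)
      have hb := congrFun h5 (Sum.inl 1)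
      simp [stdE] at ha hb
      exact ⟨ha, hb⟩
  · -- odd characteristic
    have hodd : Fintype.card F % 2 = 1 := by
      apply FiniteField.odd_card_of_char_ne_two
      intro h
      haveI : CharP F 2 := ringChar.of_eq h
      exact h2 (CharTwo.two_eq_zero)
    obtain ⟨z₁, hz₁⟩ := exists_mulVec_ne_neg g hg2
    obtain ⟨z₂, hz₂⟩ := exists_mulVec_ne g hg1
    set a := z₁ + g.1 *ᵥ z₁ with ha
    set c := z₂ - g.1 *ᵥ z₂ with hc
    have ha0 : a ≠ 0 := by
      intro h
      apply hz₁
      rw [ha] at h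
      exact (neg_eq_of_add_eq_zero_right h).symm
    have hc0 : c ≠ 0 := by
      intro h
      apply hz₂
      rw [hc] at h
      exact (sub_eq_zero.mp h).symm
    have hga : g.1 *ᵥ a = a := by
      rw [ha, Matrix.mulVec_add, hinv g hφ, add_comm]
    have hgc : g.1 *ᵥ c = -c := by
      rw [hc, Matrix.mulVec_sub, hinv g hφ, neg_sub]
    obtain ⟨b₀, hb₀⟩ := sympForm_nondeg_left ha0
    obtain ⟨d₀, hd₀⟩ := sympForm_nondeg_left hc0
    have hab₀ : Cfsg.sympForm 2 F a b₀ ≠ 0 := by
      rw [sympForm_swap]; exact neg_ne_zero.mpr hb₀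
    have hcd₀ : Cfsg.sympForm 2 F c d₀ ≠ 0 := by
      rw [sympForm_swap]; exact neg_ne_zero.mpr hd₀
    set b := (2 * Cfsg.sympForm 2 F a b₀)⁻¹ • (b₀ + g.1 *ᵥ b₀) with hb
    set d := (2 * Cfsg.sympForm 2 F c d₀)⁻¹ • (d₀ - g.1 *ᵥ d₀) with hd
    have hgb : g.1 *ᵥ b = b := by
      rw [hb, Matrix.mulVec_smul, Matrix.mulVec_add, hinv g hφ, add_comm]
    have hgd : g.1 *ᵥ d = -d := by
      rw [hd, Matrix.mulVec_smul, Matrix.mulVec_sub, hinv g hφ, ← smul_neg, neg_sub]
    have hab : Cfsg.sympForm 2 F a b = 1 := by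
      rw [hb, sympForm_smul_right, sympForm_add_right, ← hsym g hφ a b₀, hga]
      field_simp
      ring
    have hcd : Cfsg.sympForm 2 F c d = 1 := by
      rw [hd, sympForm_smul_right, sympForm_sub_right, ← hsym g hφ c d₀, hgc, sympForm_neg_left]
      field_simp
      ring
    -- fixed vectors are orthogonal to negated vectors
    have horth : ∀ x y : Fin 2 ⊕ Fin 2 → F, g.1 *ᵥ x = x → g.1 *ᵥ y = -y → Cfsg.sympForm 2 F x y = 0 := by
      intro x y hx hy
      have h := preserves g x y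
      rw [hx, hy, sympForm_neg_right] at h
      have h3 : 2 * Cfsg.sympForm 2 F x y = 0 := by linear_combination -h
      rcases mul_eq_zero.mp h3 with h4 | h4
      · exact absurd h4 h2
      · exact h4
    have had : Cfsg.sympForm 2 F a d = 0 := horth a d hga hgd
    have hbc : Cfsg.sympForm 2 F c b = 0 := by
      rw [sympForm_swap, horth b c hgb hgc, neg_zero]
    refine isProd2_of_goodB hirr h1 K hK htK hdK hodd g hφ (a + c) (b - d) ?_ ?_
    · rw [sympForm_add_left, sympForm_sub_right, sympForm_sub_right, hab, had, hbc, hcd]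
      ring
    · rw [Matrix.mulVec_add, hga, hgc, sympForm_add_left, sympForm_neg_left, sympForm_sub_right,
        sympForm_sub_right, hab, had, hbc, hcd]
      intro h
      apply h2
      linear_combination h

end main

end Cfsg.Agent.Helper41.Sp4
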