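import Cfsg.Agent.Helper41.Sp4E

/-!
Geometry of `Sp₄(F)` for S2460, part 4: the elements `g` with `B(g v, v) ≠ 0` for some `v`; normal form and
explicit good configurations.
-/

set_option autoImplicit false

namespace Cfsg.Agent.Helper41.Sp4

open scoped Matrix
open Cfsg.Agent.Helper13

variable {F : Type*} [Field F]

/-- the normal form of the exceptional elements -/
def Gmat (β r b0 b1 : F) : Matrix (Fin 2 ⊕ Fin 2) (Fin 2 ⊕ Fin 2) F :=
  Matrix.fromBlocks !![0, 0; 0, 1] !![-β⁻¹, 0; b1, 0] !![β, b0 * β; 0, 0] !![r, b1 * β; -b0, 1]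

theorem Gmat_mulVec (β r b0 b1 x0 x1 x2 x3 : F) :
    Gmat β r b0 b1 *ᵥ Sum.elim ![x0, x1] ![x2, x3]
      = Sum.elim ![-β⁻¹ * x2, x1 + b1 * x2] ![β * x0 + b0 * β * x1 + r * x2 + b1 * β * x3, -b0 * x2 + x3] := by
  rw [Gmat, Matrix.fromBlocks_mulVec]
  funext i
  rcases i with i | i <;> fin_cases i <;>
    simp [Matrix.mulVec, dotProduct, Fin.sum_univ_two] <;> ring

theorem sympForm_elim (x0 x1 x2 x3 y0 y1 y2 y3 : F) :
    Cfsg.sympForm 2 F (Sum.elim ![x0, x1] ![x2, x3]) (Sum.elim ![y0, y1] ![y2, y3])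
      = x2 * y0 - x0 * y2 + (x3 * y1 - x1 * y3) := by
  rw [sympForm_eq_sum, Fin.sum_univ_two]
  simp

/-- the general configuration for `Gmat` -/
theorem Gmat_config (β r b0 b1 ya yb pa pb d θ : F) (hβ : β ≠ 0) (hd0 : d ≠ 0)
    (hd : d = 1 + (ya * b0 + yb * b1)) (hθ : θ = (pa * yb - ya * pb) / β) :
    Cfsg.sympForm 2 F (Sum.elim ![1, ya] ![0, yb]) (Sum.elim ![-(θ * d⁻¹), pa] ![θ * β, pb]) = 0 ∧
    Cfsg.sympForm 2 F (Gmat β r b0 b1 *ᵥ Sum.elim ![1, ya] ![0, yb])
      (Sum.elim ![-(θ * d⁻¹), pa] ![θ * β, pb]) = 0 ∧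
    Cfsg.sympForm 2 F (Gmat β r b0 b1 *ᵥ Sum.elim ![1, ya] ![0, yb]) (Sum.elim ![1, ya] ![0, yb]) = β * d ∧
    Cfsg.sympForm 2 F (Gmat β r b0 b1 *ᵥ (Sum.elim ![-(θ * d⁻¹), pa] ![θ * β, pb]))
      (Sum.elim ![-(θ * d⁻¹), pa] ![θ * β, pb])
      = θ * β * (θ * (1 - r * d⁻¹ + (d⁻¹) ^ 2) - (pa * b0 + pb * b1) * (1 + d⁻¹)) := by
  refine ⟨?_, ?_, ?_, ?_⟩
  · rw [sympForm_elim, hθ]
    field_simp
    ring
  · rw [Gmat_mulVec, sympForm_elim, hθ]
    field_simp
    rw [hd]
    ring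
  · rw [Gmat_mulVec, sympForm_elim]
    rw [hd]
    ring
  · rw [Gmat_mulVec, sympForm_elim, hθ]
    field_simp
    rw [hd]
    ring

theorem stdE_eq_elim_zero : (stdE 0 : Fin 2 ⊕ Fin 2 → F) = Sum.elim ![1, 0] ![0, 0] := by
  funext i
  rcases i with i | i <;> fin_cases i <;> simp [stdE]

theorem stdE_eq_elim_one : (stdE 1 : Fin 2 ⊕ Fin 2 → F) = Sum.elim ![0, 1] ![0, 0] := by
  funext i
  rcases i with i | i <;> fin_cases i <;> simp [stdE]

theorem elim_eq_zero_iff (x0 x1 x2 x3 : F) :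
    (Sum.elim ![x0, x1] ![x2, x3] : Fin 2 ⊕ Fin 2 → F) = 0 ↔ x0 = 0 ∧ x1 = 0 ∧ x2 = 0 ∧ x3 = 0 := by
  constructor
  · intro h
    refine ⟨?_, ?_, ?_, ?_⟩
    · simpa using congrFun h (Sum.inl 0)
    · simpa using congrFun h (Sum.inl 1)
    · simpa using congrFun h (Sum.inr 0)
    · simpa using congrFun h (Sum.inr 1)
  · rintro ⟨rfl, rfl, rfl, rfl⟩
    funext i
    rcases i with i | i <;> fin_cases i <;> simp

theorem smul_elim (a x0 x1 x2 x3 : F) :
    a • (Sum.elim ![x0, x1] ![x2, x3] : Fin 2 ⊕ Fin 2 → F) = Sum.elim ![a * x0, a * x1] ![a * x2, a * x3] := by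
  funext i
  rcases i with i | i <;> fin_cases i <;> simp

theorem add_elim (x0 x1 x2 x3 y0 y1 y2 y3 : F) :
    (Sum.elim ![x0, x1] ![x2, x3] : Fin 2 ⊕ Fin 2 → F) + Sum.elim ![y0, y1] ![y2, y3]
      = Sum.elim ![x0 + y0, x1 + y1] ![x2 + y2, x3 + y3] := by
  funext i
  rcases i with i | i <;> fin_cases i <;> simp

/-- every `Gmat` has a good configuration of the first or third kind -/
theorem Gmat_good [Fintype F] (h3 : 3 ≤ Fintype.card F) (β r b0 b1 : F) (hβ : β ≠ 0) :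
    (∃ v w : Fin 2 ⊕ Fin 2 → F, Cfsg.sympForm 2 F v w = 0 ∧
      Cfsg.sympForm 2 F (Gmat β r b0 b1 *ᵥ v) w = 0 ∧ Cfsg.sympForm 2 F (Gmat β r b0 b1 *ᵥ v) v ≠ 0 ∧
      Cfsg.sympForm 2 F (Gmat β r b0 b1 *ᵥ w) w ≠ 0) ∨
    (∃ v w : Fin 2 ⊕ Fin 2 → F, LinearIndependent F ![v, w] ∧ Cfsg.sympForm 2 F v w = 0 ∧
      Gmat β r b0 b1 *ᵥ v = v ∧ Gmat β r b0 b1 *ᵥ w = w) := by
  classical
  by_cases hb : b0 = 0 ∧ b1 = 0
  · obtain ⟨rfl, rfl⟩ := hb
    by_cases hr : r = 2
    · subst hr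
      right
      refine ⟨Sum.elim ![0, 1] ![0, 0], Sum.elim ![-1, 0] ![β, 0], ?_, ?_, ?_, ?_⟩
      · rw [LinearIndependent.pair_iff]
        intro a b hab
        rw [smul_elim, smul_elim, add_elim, elim_eq_zero_iff] at hab
        obtain ⟨h0, h1, -, -⟩ := hab
        constructor
        · linear_combination h1
        · linear_combination -h0
      · rw [sympForm_elim]; ring
      · rw [Gmat_mulVec]; simp
      · rw [Gmat_mulVec]
        congr 1
        · congr 1
          · field_simp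
          · simp
        · congr 1
          · ring
          · simp
    · left
      obtain ⟨e1, e2, e3, e4⟩ := Gmat_config β r 0 0 1 0 0 1 1 (-1 / β) hβ one_ne_zero (by ring) (by ring)
      refine ⟨_, _, e1, e2, ?_, ?_⟩
      · rw [e3, mul_one]; exact hβ
      · rw [e4]
        have : (2 : F) - r ≠ 0 := fun h => hr (by linear_combination -h)
        have e : -1 / β * β * (-1 / β * (1 - r * (1 : F)⁻¹ + ((1 : F)⁻¹) ^ 2) - (0 * 0 + 1 * 0) * (1 + (1 : F)⁻¹))
            = (2 - r) / β := by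
          field_simp
          ring
        rw [e]
        exact div_ne_zero this hβ
  · left
    obtain ⟨p, q, hδ⟩ : ∃ p q : F, p * b0 + q * b1 ≠ 0 := by
      by_cases h0 : b0 = 0
      · refine ⟨0, 1, ?_⟩
        intro h
        apply hb
        exact ⟨h0, by linear_combination h⟩
      · exact ⟨1, 0, by simpa using h0⟩
    set δ := p * b0 + q * b1 with hδdef
    by_cases h2 : (2 : F) = 0
    · -- characteristic two
      have hcard : ({0, 1} : Finset F).card < (Finset.univ : Finset F).card := by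
        rw [Finset.card_univ]
        exact lt_of_le_of_lt Finset.card_le_two (by omega)
      obtain ⟨c, -, hc⟩ := Finset.exists_mem_notMem_of_card_lt_card hcard
      simp only [Finset.mem_insert, Finset.mem_singleton, not_or] at hc
      obtain ⟨hc0, hc1⟩ := hc
      have hc2 : 1 + c ≠ 0 := by
        intro h
        apply hc1
        linear_combination h - h2
      have ht : c⁻¹ - 1 ≠ 0 := by
        intro h
        apply hc1
        have : c⁻¹ = 1 := by linear_combination h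
        rw [← inv_inv c, this, inv_one]
      have key : ∃ s : F, (c⁻¹ - 1) / β * (1 - r * c + c ^ 2) - s * δ * (1 + c) ≠ 0 := by
        by_cases h : (c⁻¹ - 1) / β * (1 - r * c + c ^ 2) = 0
        · refine ⟨1, ?_⟩
          rw [h, zero_sub, one_mul]
          exact neg_ne_zero.mpr (mul_ne_zero hδ hc2)
        · exact ⟨0, by simpa using h⟩
      obtain ⟨s, hs⟩ := key
      obtain ⟨e1, e2, e3, e4⟩ := Gmat_config β r b0 b1 ((c⁻¹ - 1) / δ * p) ((c⁻¹ - 1) / δ * q)
        (b1 + s * p) (-b0 + s * q) c⁻¹ ((c⁻¹ - 1) / β) hβ (inv_ne_zero hc0)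
        (by field_simp; rw [hδdef]; ring) (by field_simp; rw [hδdef]; ring)
      refine ⟨_, _, e1, e2, ?_, ?_⟩
      · rw [e3]
        exact mul_ne_zero hβ (inv_ne_zero hc0)
      · rw [e4, inv_inv]
        have e : (b1 + s * p) * b0 + (-b0 + s * q) * b1 = s * δ := by rw [hδdef]; ring
        rw [e]
        exact mul_ne_zero (mul_ne_zero (div_ne_zero ht hβ) hβ) hs
    · -- odd characteristic
      have hcard : ({0, 2 * δ / (2 - r)} : Finset F).card < (Finset.univ : Finset F).card := by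
        rw [Finset.card_univ]
        exact lt_of_le_of_lt Finset.card_le_two (by omega)
      obtain ⟨θ, -, hθ⟩ := Finset.exists_mem_notMem_of_card_lt_card hcard
      simp only [Finset.mem_insert, Finset.mem_singleton, not_or] at hθ
      obtain ⟨hθ0, hθ1⟩ := hθ
      obtain ⟨e1, e2, e3, e4⟩ := Gmat_config β r b0 b1 (-θ * β / δ * b1) (-(-θ * β / δ * b0))
        p q 1 θ hβ one_ne_zero (by ring) (by field_simp; rw [hδdef]; ring)
      refine ⟨_, _, e1, e2, ?_, ?_⟩
      · rw [e3, mul_one]; exact hβ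
      · rw [e4]
        have e : θ * β * (θ * (1 - r * (1 : F)⁻¹ + ((1 : F)⁻¹) ^ 2) - (p * b0 + q * b1) * (1 + (1 : F)⁻¹))
            = θ * β * (θ * (2 - r) - 2 * δ) := by
          rw [hδdef]
          simp only [inv_one]
          ring
        rw [e]
        refine mul_ne_zero (mul_ne_zero hθ0 hβ) ?_
        by_cases hr : (2 : F) - r = 0
        · rw [hr, mul_zero, zero_sub]
          exact neg_ne_zero.mpr (mul_ne_zero h2 hδ)
        · intro h
          apply hθ1
          field_simp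
          linear_combination h

end Cfsg.Agent.Helper41.Sp4
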