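import Cfsg.Agent.Helper41.Sp4F

/-!
Geometry of `Sp₄(F)` for S2460, part 5: normalisation, the structure of the exceptional elements and the main
theorem: every non-central element, up to sign, is a product of two conjugates of `lev K`.
-/

set_option autoImplicit false

namespace Cfsg.Agent.Helper41.Sp4

open scoped Matrix
open Cfsg.Agent.Helper13

variable {F : Type*} [Field F]

theorem rel_EE (g : Matrix.symplecticGroup (Fin 2) F) (i j : Fin 2) :
    g.1 (Sum.inr 0) (Sum.inl i) * g.1 (Sum.inl 0) (Sum.inl j)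
      - g.1 (Sum.inl 0) (Sum.inl i) * g.1 (Sum.inr 0) (Sum.inl j)
      + (g.1 (Sum.inr 1) (Sum.inl i) * g.1 (Sum.inl 1) (Sum.inl j)
      - g.1 (Sum.inl 1) (Sum.inl i) * g.1 (Sum.inr 1) (Sum.inl j)) = 0 := by
  have h := preserves g (stdE i) (stdE j)
  rw [sympForm_stdE_right, mulVec_stdE, mulVec_stdE, sympForm_eq_sum, Fin.sum_univ_two] at h
  rw [h]
  simp [stdE]

theorem rel_EF (g : Matrix.symplecticGroup (Fin 2) F) (i j : Fin 2) :
    g.1 (Sum.inr 0) (Sum.inl i) * g.1 (Sum.inl 0) (Sum.inr j)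
      - g.1 (Sum.inl 0) (Sum.inl i) * g.1 (Sum.inr 0) (Sum.inr j)
      + (g.1 (Sum.inr 1) (Sum.inl i) * g.1 (Sum.inl 1) (Sum.inr j)
      - g.1 (Sum.inl 1) (Sum.inl i) * g.1 (Sum.inr 1) (Sum.inr j)) = if i = j then -1 else 0 := by
  have h := preserves g (stdE i) (stdF j)
  rw [sympForm_stdF_right, mulVec_stdE, mulVec_stdF, sympForm_eq_sum, Fin.sum_univ_two] at h
  rw [h]
  fin_cases i <;> fin_cases j <;> simp [stdE]

theorem rel_FF (g : Matrix.symplecticGroup (Fin 2) F) (i j : Fin 2) :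
    g.1 (Sum.inr 0) (Sum.inr i) * g.1 (Sum.inl 0) (Sum.inr j)
      - g.1 (Sum.inl 0) (Sum.inr i) * g.1 (Sum.inr 0) (Sum.inr j)
      + (g.1 (Sum.inr 1) (Sum.inr i) * g.1 (Sum.inl 1) (Sum.inr j)
      - g.1 (Sum.inl 1) (Sum.inr i) * g.1 (Sum.inr 1) (Sum.inr j)) = 0 := by
  have h := preserves g (stdF i) (stdF j)
  rw [sympForm_stdF_right, mulVec_stdF, mulVec_stdF, sympForm_eq_sum, Fin.sum_univ_two] at h
  rw [h]
  simp [stdF]

/-- normalisation: `g e₀ = β f₀` after conjugation -/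
theorem exists_norm (g : Matrix.symplecticGroup (Fin 2) F) (v₀ : Fin 2 ⊕ Fin 2 → F)
    (hβ : Cfsg.sympForm 2 F (g.1 *ᵥ v₀) v₀ ≠ 0) :
    ∃ s : Matrix.symplecticGroup (Fin 2) F,
      (s⁻¹ * g * s).1 *ᵥ stdE 0 = Cfsg.sympForm 2 F (g.1 *ᵥ v₀) v₀ • stdF 0 := by
  set β := Cfsg.sympForm 2 F (g.1 *ᵥ v₀) v₀ with hβdef
  have h1 : Cfsg.sympForm 2 F (stdF 0 : Fin 2 ⊕ Fin 2 → F) (stdE 0) = 1 := by
    rw [sympForm_stdE_right]
    simp [stdF]
  have h2 : Cfsg.sympForm 2 F (β⁻¹ • (g.1 *ᵥ v₀)) v₀ = 1 := by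
    rw [sympForm_smul_left, ← hβdef, inv_mul_cancel₀ hβ]
  obtain ⟨s, -, hs1, hs2⟩ := exists_transvection_map_pair h1 h2
  refine ⟨s, ?_⟩
  apply mulVec_injective s
  rw [conj_mulVec, hs2, Matrix.mulVec_smul, hs1, smul_smul, mul_inv_cancel₀ hβ, one_smul]

/-- the structure of the elements in normal position without a good configuration through `e₀` -/
theorem struct (g : Matrix.symplecticGroup (Fin 2) F) (β : F) (hβ : β ≠ 0)
    (hcol : g.1 *ᵥ stdE 0 = β • stdF 0) :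
    (∃ w : Fin 2 ⊕ Fin 2 → F, Cfsg.sympForm 2 F (stdE 0) w = 0 ∧
      Cfsg.sympForm 2 F (g.1 *ᵥ stdE 0) w = 0 ∧ Cfsg.sympForm 2 F (g.1 *ᵥ w) w ≠ 0) ∨
    ∃ ε r b0 b1 : F, (ε = 1 ∨ ε = -1) ∧ ε • g.1 = Gmat (ε * β) r b0 b1 := by
  rw [mulVec_stdE] at hcol
  have h00 : g.1 (Sum.inl 0) (Sum.inl 0) = 0 := by simpa [stdF] using congrFun hcol (Sum.inl 0)
  have h10 : g.1 (Sum.inl 1) (Sum.inl 0) = 0 := by simpa [stdF] using congrFun hcol (Sum.inl 1)
  have h20 : g.1 (Sum.inr 0) (Sum.inl 0) = β := by simpa [stdF] using congrFun hcol (Sum.inr 0)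
  have h30 : g.1 (Sum.inr 1) (Sum.inl 0) = 0 := by simpa [stdF] using congrFun hcol (Sum.inr 1)
  have hcol' : g.1 *ᵥ stdE 0 = β • stdF 0 := by rw [mulVec_stdE]; exact hcol
  have R1 := rel_EE g 0 1
  have R2 := rel_EF g 0 0
  have R3 := rel_EF g 0 1
  have R4 := rel_EF g 1 0
  have R5 := rel_EF g 1 1
  have R6 := rel_FF g 0 1
  rw [h00, h10, h20, h30] at R1 R2 R3
  simp only [if_true, if_false, Fin.isValue, zero_ne_one, one_ne_zero, zero_mul, sub_zero, add_zero,
    Fin.zero_eta, Fin.mk_one] at R1 R2 R3 R4 R5 R6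
  have a01 : g.1 (Sum.inl 0) (Sum.inl 1) = 0 := by
    rcases mul_eq_zero.mp R1 with h | h
    · exact absurd h hβ
    · exact h
  have b01 : g.1 (Sum.inl 0) (Sum.inr 1) = 0 := by
    rcases mul_eq_zero.mp R3 with h | h
    · exact absurd h hβ
    · exact h
  have b00 : g.1 (Sum.inl 0) (Sum.inr 0) = -β⁻¹ := by
    field_simp
    linear_combination R2
  -- first test: `w = e₁`
  by_cases t1 : g.1 (Sum.inr 1) (Sum.inl 1) = 0
  swap
  · left
    refine ⟨stdE 1, ?_, ?_, ?_⟩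
    · rw [sympForm_stdE_right]; simp [stdE]
    · rw [hcol', sympForm_stdE_right]; simp [stdF]
    · rw [sympForm_stdE_right, mulVec_stdE]; exact t1
  -- second test: `w = f₁`
  by_cases t2 : g.1 (Sum.inl 1) (Sum.inr 1) = 0
  swap
  · left
    refine ⟨stdF 1, ?_, ?_, ?_⟩
    · rw [sympForm_stdF_right]; simp [stdE]
    · rw [hcol', sympForm_stdF_right]; simp [stdF]
    · rw [sympForm_stdF_right, mulVec_stdF]; exact neg_ne_zero.mpr t2
  -- third test: `w = e₁ + f₁`
  by_cases t3 : g.1 (Sum.inr 1) (Sum.inr 1) = g.1 (Sum.inl 1) (Sum.inl 1)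
  swap
  · left
    refine ⟨stdE 1 + stdF 1, ?_, ?_, ?_⟩
    · rw [sympForm_add_right, sympForm_stdE_right, sympForm_stdF_right]; simp [stdE]
    · rw [hcol', sympForm_add_right, sympForm_stdE_right, sympForm_stdF_right]; simp [stdF]
    · rw [sympForm_add_right, sympForm_stdE_right, sympForm_stdF_right, Matrix.mulVec_add, mulVec_stdE,
        mulVec_stdF]
      simp only [Pi.add_apply]
      rw [t1, t2]
      intro h
      apply t3
      linear_combination h
  right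
  rw [a01, b01, t1, t2, t3] at R5
  rw [a01, t1, b00] at R4
  rw [b01, t2, b00, t3] at R6
  simp only [zero_mul, mul_zero, sub_zero, zero_sub, zero_add, add_zero] at R4 R5 R6
  set ε := g.1 (Sum.inl 1) (Sum.inl 1) with hε
  have hε2 : ε * ε = 1 := by linear_combination -R5
  have hε1 : ε = 1 ∨ ε = -1 := by
    have : (ε - 1) * (ε + 1) = 0 := by linear_combination hε2
    rcases mul_eq_zero.mp this with h | h
    · left; exact sub_eq_zero.mp h
    · right; exact eq_neg_of_add_eq_zero_left h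
  have hε0 : ε ≠ 0 := by
    intro h
    rw [h, mul_zero] at hε2
    exact zero_ne_one hε2
  refine ⟨ε, ε * g.1 (Sum.inr 0) (Sum.inr 0), g.1 (Sum.inr 0) (Sum.inl 1) / β, g.1 (Sum.inr 0) (Sum.inr 1) / β,
    hε1, ?_⟩
  have d10 : ε * g.1 (Sum.inr 1) (Sum.inr 0) = -(g.1 (Sum.inr 0) (Sum.inl 1) / β) := by
    field_simp
    have := R4
    field_simp at this
    linear_combination -this
  have b10 : ε * g.1 (Sum.inl 1) (Sum.inr 0) = g.1 (Sum.inr 0) (Sum.inr 1) / β := by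
    rw [eq_div_iff hβ]
    have := R6
    field_simp at this
    linear_combination -this
  ext i j
  rcases i with i | i <;> rcases j with j | j <;> fin_cases i <;> fin_cases j
  · simp [Gmat, h00]
  · simp [Gmat, a01]
  · simp [Gmat, h10]
  · simp [Gmat, ← hε, hε2]
  · simp [Gmat, b00]
    field_simp
    linear_combination hε2
  · simp [Gmat, b01]
  · simpa [Gmat] using b10
  · simp [Gmat, t2]
  · simp [Gmat, h20]
  · simp [Gmat]
    field_simp
  · simp [Gmat, h30]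
  · simp [Gmat, t1]
  · simp [Gmat]
  · simp [Gmat]
    field_simp
  · simpa [Gmat] using d10
  · simp [Gmat, t3, ← hε, hε2]

theorem negS_conj (s g : Matrix.symplecticGroup (Fin 2) F) : s⁻¹ * negS g * s = negS (s⁻¹ * g * s) := by
  apply Subtype.ext
  simp only [Submonoid.coe_mul, coe_negS, Matrix.mul_neg, Matrix.neg_mul]

section main

variable [Fintype F] {τ ν : F} (hirr : IrrQ τ ν) (h1 : ν ≠ 1) (K : Matrix (Fin 2) (Fin 2) F)
  (hK : K.det ≠ 0) (htK : K.trace = τ) (hdK : K.det = ν)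

include hirr h1 htK hdK

/-- elements whose matrix is a `Gmat` -/
theorem isProd2_of_Gmat (h3 : 3 ≤ Fintype.card F) (hacc : AccTri τ ν) (g : Matrix.symplecticGroup (Fin 2) F)
    (β r b0 b1 : F) (hβ : β ≠ 0) (hG : g.1 = Gmat β r b0 b1) : IsProd2 (lev K hK) g := by
  rcases Gmat_good h3 β r b0 b1 hβ with ⟨v, w, c1, c2, c3, c4⟩ | ⟨v, w, hli, c1, c2, c3⟩
  · rw [← hG] at c2 c3 c4
    exact isProd2_of_goodA hirr h1 K hK htK hdK hacc g v w c1 c2 c3 c4
  · rw [← hG] at c2 c3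
    exact isProd2_of_goodC hirr h1 K hK htK hdK g v w hli c1 c2 c3

/-- the main theorem on `Sp₄(F)`: a non-central element or its negative is a product of two conjugates -/
theorem main_tree (h3 : 3 ≤ Fintype.card F) (hacc : AccTri τ ν) (g : Matrix.symplecticGroup (Fin 2) F)
    (hg1 : g ≠ 1) (hg2 : g ≠ negS 1) : IsProd2 (lev K hK) g ∨ IsProd2 (lev K hK) (negS g) := by
  by_cases hφ : ∀ z, Cfsg.sympForm 2 F (g.1 *ᵥ z) z = 0
  · left
    exact isProd2_of_phi_zero hirr h1 K hK htK hdK g hg1 hg2 hφ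
  · simp only [not_forall] at hφ
    obtain ⟨v₀, hv₀⟩ := hφ
    obtain ⟨s, hs⟩ := exists_norm g v₀ hv₀
    set β := Cfsg.sympForm 2 F (g.1 *ᵥ v₀) v₀ with hβdef
    rcases struct (s⁻¹ * g * s) β hv₀ hs with ⟨w, hw1, hw2, hw3⟩ | ⟨ε, r, b0, b1, hε, hG⟩
    · left
      apply IsProd2.conj s
      refine isProd2_of_goodA hirr h1 K hK htK hdK hacc _ (stdE 0) w hw1 hw2 ?_ hw3
      rw [hs, sympForm_smul_left, sympForm_stdE_right]
      simpa [stdF] using hv₀
    · rcases hε with rfl | rfl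
      · left
        apply IsProd2.conj s
        rw [one_smul, one_mul] at hG
        exact isProd2_of_Gmat hirr h1 K hK htK hdK h3 hacc _ β r b0 b1 hv₀ hG
      · right
        apply IsProd2.conj s
        rw [negS_conj]
        refine isProd2_of_Gmat hirr h1 K hK htK hdK h3 hacc _ (-1 * β) r b0 b1 ?_ ?_
        · exact mul_ne_zero (neg_ne_zero.mpr one_ne_zero) hv₀
        · rw [coe_negS, ← hG, neg_smul, one_smul]

end main

end Cfsg.Agent.Helper41.Sp4
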