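import Cfsg.Agent.Helper41.Sp4G
import Cfsg.Prelude.Def_Classical

/-!
`PSp₄(F)`, `F` finite with at least 3 elements: the square of a semisimple class covers the non-identity elements
(assembly for S2460).
-/

set_option autoImplicit false

namespace Cfsg.Agent.Helper41.Sp4

open scoped Matrix

variable {F : Type*} [Field F]

theorem lev_pow_coe (K : Matrix (Fin 2) (Fin 2) F) (hK : K.det ≠ 0) (m : ℕ) :
    (((lev K hK) ^ m : Matrix.symplecticGroup (Fin 2) F) : Matrix (Fin 2 ⊕ Fin 2) (Fin 2 ⊕ Fin 2) F)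
      = Matrix.fromBlocks (K ^ m) 0 0 (((K⁻¹)ᵀ) ^ m) := by
  induction m with
  | zero => simp [Matrix.fromBlocks_one]
  | succ m ih =>
    rw [pow_succ, Submonoid.coe_mul, ih, coe_lev, Matrix.fromBlocks_multiply]
    simp [pow_succ]

theorem lev_pow_eq_one_iff (K : Matrix (Fin 2) (Fin 2) F) (hK : K.det ≠ 0) (m : ℕ) :
    (lev K hK) ^ m = 1 ↔ K ^ m = 1 := by
  constructor
  · intro h
    have h2 := congrArg (fun x : Matrix.symplecticGroup (Fin 2) F =>
      (x : Matrix (Fin 2 ⊕ Fin 2) (Fin 2 ⊕ Fin 2) F).toBlocks₁₁) h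
    simp only [lev_pow_coe, Matrix.toBlocks_fromBlocks₁₁, Submonoid.coe_one] at h2
    rw [h2, ← Matrix.fromBlocks_one, Matrix.toBlocks_fromBlocks₁₁]
  · intro h
    apply Subtype.ext
    have h3 : ((K⁻¹)ᵀ) ^ m = 1 := by
      rw [← Matrix.transpose_pow, Matrix.inv_pow', h, inv_one, Matrix.transpose_one]
    rw [lev_pow_coe, h, h3, Submonoid.coe_one, Matrix.fromBlocks_one]

theorem not_dvd_orderOf_lev [Fintype F] (p : ℕ) [Fact p.Prime] [CharP F p] (K : Matrix (Fin 2) (Fin 2) F)
    (hK : K.det ≠ 0) (hirr : IrrQ K.trace K.det) : ¬ p ∣ orderOf (lev K hK) := by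
  classical
  intro h
  obtain ⟨k, hk⟩ := h
  have h1 : (lev K hK) ^ (p * k) = 1 := by rw [← hk]; exact pow_orderOf_eq_one _
  have h2 : K ^ (p * k) = 1 := (lev_pow_eq_one_iff K hK _).mp h1
  have h3 : K ^ k = 1 := pow_eq_one_of_pow_mul p K hirr k h2
  have h4 : (lev K hK) ^ k = 1 := (lev_pow_eq_one_iff K hK _).mpr h3
  have h5 : orderOf (lev K hK) ∣ k := orderOf_dvd_of_pow_eq_one h4
  have hpos : 0 < orderOf (lev K hK) := orderOf_pos _
  rw [hk] at h5 hpos
  have hk0 : 0 < k := Nat.pos_of_mul_pos_left hpos |> fun _ => by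
    rcases Nat.eq_zero_or_pos k with h | h
    · rw [h, mul_zero] at hpos; exact absurd hpos (lt_irrefl 0)
    · exact h
  have hle := Nat.le_of_dvd hk0 h5
  have hp2 := (Fact.out : p.Prime).two_le
  nlinarith

/-- the field with three elements -/
theorem exists_ringEquiv_three' [Fintype F] [CharP F 3] (hF : Fintype.card F = 3) : Nonempty (ZMod 3 ≃+* F) := by
  have hinj : Function.Injective (ZMod.castHom (dvd_refl 3) F) := RingHom.injective _
  have hbij : Function.Bijective (ZMod.castHom (dvd_refl 3) F) := by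
    rw [Fintype.bijective_iff_injective_and_card]
    exact ⟨hinj, by rw [ZMod.card, hF]⟩
  exact ⟨RingEquiv.ofBijective _ hbij⟩

/-- the parameters of the class -/
theorem exists_params [Fintype F] (p : ℕ) [Fact p.Prime] [CharP F p] (h3 : 3 ≤ Fintype.card F) :
    ∃ τ ν : F, IrrQ τ ν ∧ ν ≠ 1 ∧ AccTri τ ν := by
  classical
  rcases Nat.lt_or_ge (Fintype.card F) 4 with h4 | h4
  · have hF : Fintype.card F = 3 := by omega
    obtain ⟨n, -, hn⟩ := FiniteField.card F p
    have hpq : p ∣ Fintype.card F := by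
      rw [hn]
      exact dvd_pow_self p n.pos.ne'
    have hp : p.Prime := Fact.out
    have hp3 : p = 3 := by
      rw [hF] at hpq
      exact (Nat.prime_dvd_prime_iff_eq hp Nat.prime_three).mp hpq
    subst hp3
    obtain ⟨e⟩ := exists_ringEquiv_three' hF
    refine ⟨1, -1, ?_, ?_, accTri_of_three e⟩
    · intro c hc
      have hc3 : c ^ 3 = c := by
        have := FiniteField.pow_card c
        rwa [hF] at this
      have h0 : c ^ 2 = 0 := by linear_combination hc3 - c * hc
      have hc0 : c = 0 := pow_eq_zero_iff (two_ne_zero) |>.mp h0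
      rw [hc0] at hc
      have : (-1 : F) = 0 := by linear_combination hc
      exact one_ne_zero (neg_eq_zero.mp this)
    · apply Ring.neg_one_ne_one_of_char_ne_two
      rw [ringChar.eq F 3]
      norm_num
  · have hcard : ({0, 1} : Finset F).card < (Finset.univ : Finset F).card := by
      rw [Finset.card_univ]
      exact lt_of_le_of_lt Finset.card_le_two (by omega)
    obtain ⟨ν, -, hν⟩ := Finset.exists_mem_notMem_of_card_lt_card hcard
    simp only [Finset.mem_insert, Finset.mem_singleton, not_or] at hν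
    obtain ⟨hν0, hν1⟩ := hν
    obtain ⟨τ, hτ⟩ := exists_irrQ hν0
    exact ⟨τ, ν, hτ, hν1, accTri_of_four h4 τ ν⟩

/-- the covering statement for `PSp₄(F)` -/
theorem psp_cover [Fintype F] (p : ℕ) [Fact p.Prime] [CharP F p] (h3 : 3 ≤ Fintype.card F) {τ ν : F}
    (hirr : IrrQ τ ν) (h1 : ν ≠ 1) (hacc : AccTri τ ν) :
    ∃ x : Cfsg.PSp 2 F, ¬ p ∣ orderOf x ∧ ∀ g : Cfsg.PSp 2 F, g ≠ 1 →
      ∃ u v : Cfsg.PSp 2 F, g = (u * x * u⁻¹) * (v * x * v⁻¹) := by
  classical
  set K : Matrix (Fin 2) (Fin 2) F := !![0, -ν; 1, τ] with hKdef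
  have htK : K.trace = τ := by rw [hKdef, Matrix.trace_fin_two_of]; ring
  have hdK : K.det = ν := by rw [hKdef, Matrix.det_fin_two_of]; ring
  have hK : K.det ≠ 0 := by rw [hdK]; exact hirr.ne_zero
  refine ⟨QuotientGroup.mk (lev K hK), ?_, ?_⟩
  · intro h
    have h2 : orderOf (QuotientGroup.mk (lev K hK) : Cfsg.PSp 2 F) ∣ orderOf (lev K hK) :=
      orderOf_map_dvd (QuotientGroup.mk' (Subgroup.center (Matrix.symplecticGroup (Fin 2) F))) _
    exact not_dvd_orderOf_lev p K hK (by rw [htK, hdK]; exact hirr) (h.trans h2)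
  · intro g hg
    obtain ⟨g, rfl⟩ := QuotientGroup.mk_surjective g
    have hg1 : g ≠ 1 := by
      rintro rfl
      exact hg rfl
    have hg2 : g ≠ negS 1 := by
      rintro rfl
      apply hg
      rw [QuotientGroup.eq_one_iff]
      exact negS_one_mem_center
    rcases main_tree hirr h1 K hK htK hdK h3 hacc g hg1 hg2 with ⟨u, v, huv⟩ | ⟨u, v, huv⟩
    · refine ⟨QuotientGroup.mk u, QuotientGroup.mk v, ?_⟩
      rw [huv]
      rfl
    · refine ⟨QuotientGroup.mk u, QuotientGroup.mk v, ?_⟩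
      have e : (QuotientGroup.mk g : Cfsg.PSp 2 F) = QuotientGroup.mk (negS g) := by
        rw [negS_eq, QuotientGroup.mk_mul, (QuotientGroup.eq_one_iff _).mpr negS_one_mem_center, mul_one]
      rw [e, huv]
      rfl

end Cfsg.Agent.Helper41.Sp4
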