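import Mathlib
import Cfsg.Agent.Helper86.Spec4.DefsU

/-!
# Piece (P3) for helper86 (S2511): degree and extreme coefficients of `pstar f`
-/

set_option autoImplicit false

namespace Cfsg.Agent.Helper41.Spec4U

open Matrix Polynomial Cfsg.Agent.Helper86.Spec4

variable {F : Type*} [Field F]

/-- (P3) coefficients and degree of `pstar f`. -/
theorem pstar_coeffs (bar : F →+* F) (f : F[X]) (hf : f.coeff 0 ≠ 0) :
    (pstar bar f).natDegree = f.natDegree ∧ (pstar bar f).coeff 0 = bar f.leadingCoeff ∧
      (pstar bar f).leadingCoeff = bar (f.coeff 0) := by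
  have hg0 : (f.map bar).coeff 0 ≠ 0 := by
    rw [coeff_map]
    exact (map_ne_zero bar).2 hf
  have htr : (f.map bar).natTrailingDegree = 0 :=
    natTrailingDegree_eq_zero_of_constantCoeff_ne_zero hg0
  unfold pstar
  refine ⟨?_, ?_, ?_⟩
  · rw [reverse_natDegree, htr, Nat.sub_zero, natDegree_map_eq_of_injective bar.injective]
  · rw [coeff_zero_reverse, leadingCoeff_map]
  · rw [reverse_leadingCoeff, trailingCoeff, htr, coeff_map]

end Cfsg.Agent.Helper41.Spec4U
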