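import Mathlib
import Cfsg.Agent.Helper86.Spec4.DefsU
import Cfsg.Agent.Helper41.Spec4UP3

/-!
# Piece (P2) for helper86 (S2511): `pstar` is an involution on polynomials with nonzero constant term
-/

set_option autoImplicit false

namespace Cfsg.Agent.Helper41.Spec4U

open Matrix Polynomial Cfsg.Agent.Helper86.Spec4

variable {F : Type*} [Field F]

/-- (P2) `pstar` is an involution on polynomials with nonzero constant term. -/
theorem pstar_pstar (bar : F →+* F) (hbar2 : ∀ x, bar (bar x) = x) (f : F[X]) (hf : f.coeff 0 ≠ 0) :
    pstar bar (pstar bar f) = f := by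
  have h3 := (pstar_coeffs bar f hf).1
  ext k
  unfold pstar at h3 ⊢
  rw [coeff_reverse, natDegree_map_eq_of_injective bar.injective, h3, coeff_map, coeff_reverse,
    natDegree_map_eq_of_injective bar.injective, coeff_map, revAt_invol, hbar2]

end Cfsg.Agent.Helper41.Spec4U
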