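import Mathlib
import Cfsg.Agent.Helper86.Spec4.DefsU

/-!
# Piece (V3A) for helper86 (S2511): irreducible minimal polynomial, `s ^ (NU q n / (q + 1)) = 1`
-/

set_option autoImplicit false

namespace Cfsg.Agent.Helper41.Spec4U

open Matrix Polynomial Cfsg.Agent.Helper86.Spec4

variable {F : Type*} [Field F] [Fintype F] {q n : ℕ}

/-- (V3A) irreducible minimal polynomial. -/
theorem pow_NU_eq_one_A (hF : Fintype.card F = q ^ 2) (bar : F →+* F)
    (hbar : ∀ x, bar x = x ^ q) (hn : 1 ≤ n) (s : Matrix (Fin n) (Fin n) F)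
    (hs : dag bar s * s = 1) (hdet : s.det = 1) (hirr : Irreducible (minpoly F s))
    (HX : ∃ k, s.charpoly = minpoly F s ^ k)
    (HN : Odd (minpoly F s).natDegree ∧
      (AdjoinRoot.root (minpoly F s)) ^ (q ^ (minpoly F s).natDegree + 1) = 1)
    (HR : (AdjoinRoot.root (minpoly F s)) ^
        ((Fintype.card F ^ (minpoly F s).natDegree - 1) / (Fintype.card F - 1)) =
      algebraMap F (AdjoinRoot (minpoly F s))
        ((-1) ^ (minpoly F s).natDegree * (minpoly F s).coeff 0))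
    (HA : ∀ (d k : ℕ) (ξ : AdjoinRoot (minpoly F s)), Odd d → 1 ≤ k → ξ ^ (q ^ d + 1) = 1 →
      (ξ ^ (((q ^ 2) ^ d - 1) / (q ^ 2 - 1))) ^ k = 1 → ξ ^ (NU q (d * k) / (q + 1)) = 1) :
    s ^ (NU q n / (q + 1)) = 1 := by
  obtain ⟨k, hk⟩ := HX
  obtain ⟨hodd, hroot⟩ := HN
  have hdeg : n = k * (minpoly F s).natDegree := by
    have h1 := Matrix.charpoly_natDegree_eq_dim s
    rw [hk, natDegree_pow, Fintype.card_fin] at h1
    exact h1.symm
  have hk1 : 1 ≤ k := by
    rcases Nat.eq_zero_or_pos k with h | h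
    · subst h
      rw [zero_mul] at hdeg
      omega
    · exact h
  have hdet' : ((-1) ^ (minpoly F s).natDegree * (minpoly F s).coeff 0) ^ k = 1 := by
    have h1 := Matrix.det_eq_sign_charpoly_coeff s
    rw [hdet, hk, Fintype.card_fin, coeff_zero_eq_eval_zero, eval_pow,
      ← coeff_zero_eq_eval_zero] at h1
    rw [mul_pow, ← pow_mul, mul_comm (minpoly F s).natDegree k, ← hdeg]
    exact h1.symm
  have h3 : ((AdjoinRoot.root (minpoly F s)) ^
      (((q ^ 2) ^ (minpoly F s).natDegree - 1) / (q ^ 2 - 1))) ^ k = 1 := by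
    rw [hF] at HR
    rw [HR, ← map_pow, hdet', map_one]
  have h4 := HA (minpoly F s).natDegree k (AdjoinRoot.root (minpoly F s)) hodd hk1 hroot h3
  rw [mul_comm, ← hdeg] at h4
  have hdvd : minpoly F s ∣ (X ^ (NU q n / (q + 1)) - 1 : F[X]) := by
    rw [← AdjoinRoot.mk_eq_zero, map_sub, map_pow, AdjoinRoot.mk_X, map_one, h4, sub_self]
  obtain ⟨c, hc⟩ := hdvd
  have h5 : aeval s (X ^ (NU q n / (q + 1)) - 1 : F[X]) = 0 := by
    rw [hc, map_mul, minpoly.aeval, zero_mul]
  rw [map_sub, map_pow, aeval_X, map_one, sub_eq_zero] at h5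
  exact h5

end Cfsg.Agent.Helper41.Spec4U
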