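import Mathlib
import Cfsg.Agent.Helper86.Spec4.DefsU

/-!
# Piece (V3B1) for helper86 (S2511): case B, multiplicities agree, `n = 2 d a`, and the determinant
-/

set_option autoImplicit false

namespace Cfsg.Agent.Helper41.Spec4U

open Matrix Polynomial Cfsg.Agent.Helper86.Spec4

variable {F : Type*} [Field F] {n : ℕ}

/-- (V3B1) case B: multiplicities agree, `n = 2 d a`, and the determinant. -/
theorem det_caseB (bar : F →+* F) (hbar2 : ∀ x, bar (bar x) = x) (hn : 1 ≤ n)
    (s : Matrix (Fin n) (Fin n) F) (f : F[X]) (hfm : f.Monic) (hf : Irreducible f)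
    (hf0 : f.coeff 0 ≠ 0) (hcop : IsCoprime f (pstar bar f))
    (HX : ∃ a b, Associated s.charpoly (f ^ a * pstar bar f ^ b))
    (HS : Associated (pstar bar s.charpoly) s.charpoly)
    (HP1 : ∀ g h : F[X], pstar bar (g * h) = pstar bar g * pstar bar h)
    (HP2 : pstar bar (pstar bar f) = f)
    (HP3 : (pstar bar f).natDegree = f.natDegree ∧ (pstar bar f).coeff 0 = bar f.leadingCoeff ∧
      (pstar bar f).leadingCoeff = bar (f.coeff 0))
    (HP4 : Irreducible (pstar bar f)) :
    ∃ a, 1 ≤ a ∧ n = 2 * f.natDegree * a ∧ s.det = (f.coeff 0 / bar (f.coeff 0)) ^ a := by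
  obtain ⟨a, b, hab⟩ := HX
  obtain ⟨hdg, hg0, hglead⟩ := HP3
  have hdf : 0 < f.natDegree := hf.natDegree_pos
  have hf_ne : f ≠ 0 := hf.ne_zero
  have hg_ne : pstar bar f ≠ 0 := HP4.ne_zero
  have hb0 : bar (f.coeff 0) ≠ 0 := (map_ne_zero bar).2 hf0
  -- `pstar` of powers
  have hone : pstar bar (1 : F[X]) = 1 := by
    unfold pstar
    rw [Polynomial.map_one, ← C_1, reverse_C]
  have hpow : ∀ (h : F[X]) (k : ℕ), pstar bar (h ^ k) = pstar bar h ^ k := by
    intro h k
    induction k with
    | zero => rw [pow_zero, pow_zero, hone]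
    | succ k ih => rw [pow_succ, HP1, ih, pow_succ]
  -- `pstar` of associated polynomials
  have hassoc : ∀ u v : F[X], Associated u v → Associated (pstar bar u) (pstar bar v) := by
    rintro u v ⟨w, hw⟩
    rw [← hw, HP1]
    obtain ⟨c, hc, hcw⟩ := Polynomial.isUnit_iff.1 w.isUnit
    rw [← hcw]
    have hC : pstar bar (C c) = C (bar c) := by
      unfold pstar
      rw [Polynomial.map_C, reverse_C]
    rw [hC]
    exact associated_mul_unit_right _ _
      (isUnit_C.2 (isUnit_iff_ne_zero.2 ((map_ne_zero bar).2 hc.ne_zero)))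
  have h1 : Associated (pstar bar f ^ a * f ^ b) (f ^ a * pstar bar f ^ b) := by
    have h2 := hassoc _ _ hab
    rw [HP1, hpow, hpow, HP2] at h2
    exact (h2.symm.trans HS).trans hab
  have hab' : a = b := by
    apply le_antisymm
    · have hd : pstar bar f ^ a ∣ f ^ a * pstar bar f ^ b :=
        (Dvd.intro _ rfl : pstar bar f ^ a ∣ pstar bar f ^ a * f ^ b).trans h1.dvd
      have hd2 : pstar bar f ^ a ∣ pstar bar f ^ b :=
        (IsCoprime.pow hcop.symm : IsCoprime (pstar bar f ^ a) (f ^ a)).dvd_of_dvd_mul_left hd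
      have h3 := natDegree_le_of_dvd hd2 (pow_ne_zero _ hg_ne)
      rw [natDegree_pow, natDegree_pow, hdg] at h3
      exact Nat.le_of_mul_le_mul_right h3 hdf
    · have hd : f ^ b ∣ f ^ a * pstar bar f ^ b :=
        (Dvd.intro_left _ rfl : f ^ b ∣ pstar bar f ^ a * f ^ b).trans h1.dvd
      have hd2 : f ^ b ∣ f ^ a :=
        (IsCoprime.pow hcop : IsCoprime (f ^ b) (pstar bar f ^ b)).dvd_of_dvd_mul_right hd
      have h3 := natDegree_le_of_dvd hd2 (pow_ne_zero _ hf_ne)
      rw [natDegree_pow, natDegree_pow] at h3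
      exact Nat.le_of_mul_le_mul_right h3 hdf
  subst hab'
  obtain ⟨w, hw⟩ := hab
  obtain ⟨c, hc, hcw⟩ := Polynomial.isUnit_iff.1 w.isUnit
  have hc0 : c ≠ 0 := hc.ne_zero
  rw [← hcw] at hw
  -- degrees
  have hdeg : n = 2 * f.natDegree * a := by
    have h2 := congrArg natDegree hw
    rw [natDegree_mul_C hc0, Matrix.charpoly_natDegree_eq_dim, Fintype.card_fin,
      natDegree_mul (pow_ne_zero _ hf_ne) (pow_ne_zero _ hg_ne), natDegree_pow, natDegree_pow,
      hdg] at h2
    rw [h2]; ring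
  have ha1 : 1 ≤ a := by
    rcases Nat.eq_zero_or_pos a with h | h
    · subst h
      rw [mul_zero] at hdeg
      omega
    · exact h
  -- leading coefficients
  have hlead : c = bar (f.coeff 0) ^ a := by
    have h2 := congrArg leadingCoeff hw
    rw [leadingCoeff_mul, leadingCoeff_C, (Matrix.charpoly_monic s).leadingCoeff, one_mul,
      leadingCoeff_mul, leadingCoeff_pow, leadingCoeff_pow, hglead, hfm.leadingCoeff, one_pow,
      one_mul] at h2
    exact h2
  -- constant coefficients
  have hconst : s.charpoly.coeff 0 * c = f.coeff 0 ^ a := by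
    have h2 := congrArg (fun p => p.coeff 0) hw
    simp only [mul_coeff_zero, coeff_C_zero] at h2
    rw [coeff_zero_eq_eval_zero (f ^ a), eval_pow, ← coeff_zero_eq_eval_zero,
      coeff_zero_eq_eval_zero (pstar bar f ^ a), eval_pow, ← coeff_zero_eq_eval_zero, hg0,
      hfm.leadingCoeff, map_one, one_pow, mul_one] at h2
    exact h2
  refine ⟨a, ha1, hdeg, ?_⟩
  have hsign : (-1 : F) ^ n = 1 := by
    rw [hdeg, mul_assoc, pow_mul]
    norm_num
  rw [Matrix.det_eq_sign_charpoly_coeff, Fintype.card_fin, hsign, one_mul, div_pow,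
    eq_div_iff (pow_ne_zero _ hb0), ← hlead]
  exact hconst

end Cfsg.Agent.Helper41.Spec4U
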