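import Mathlib
import Cfsg.Agent.Helper13.SubOddDefs
import Cfsg.Agent.Helper41.SubOddK3p

/-!
# (B1b) for S5965: the block matrix of (B1a) is not conjugate into the subfield subgroup when some
`j` has `r ∣ q ^ j - 1` but `r ∤ q₀ ^ j - 1`.
-/

set_option autoImplicit false

namespace Cfsg.Agent.Helper41.SubOddB1b

open Matrix Polynomial Cfsg Cfsg.Geo
open Cfsg.Agent.Helper43.PGLPrime (zp mult)
open Cfsg.Agent.Helper13.SubInv (subH)
open Cfsg.Agent.Helper13.SubOdd

variable {F : Type*} [Field F] {n : ℕ}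

/-- no nontrivial `r`-th roots of unity when `r ∤ q - 1` -/
theorem eq_one_of_pow_prime_eq_one [Fintype F] {r : ℕ} (hr : r.Prime)
    (h1 : ¬ r ∣ Fintype.card F - 1) (u : F) (hu : u ^ r = 1) : u = 1 := by
  have hne : u ≠ 0 := by
    intro h0; rw [h0, zero_pow hr.ne_zero] at hu; exact zero_ne_one hu
  have hdq : u ^ (Fintype.card F - 1) = 1 := FiniteField.pow_card_sub_one_eq_one _ hne
  have ho1 : orderOf u ∣ r := orderOf_dvd_of_pow_eq_one hu
  have ho2 : orderOf u ∣ Fintype.card F - 1 := orderOf_dvd_of_pow_eq_one hdq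
  have hcop' : Nat.Coprime r (Fintype.card F - 1) := (Nat.Prime.coprime_iff_not_dvd hr).mpr h1
  have : orderOf u = 1 := Nat.eq_one_of_dvd_coprimes hcop' ho1 ho2
  exact orderOf_eq_one_iff.mp this

/-- the arithmetic core -/
theorem arith_core (r q₀ k q j : ℕ) (hr : r.Prime) (hq : q = q₀ ^ k) (hq₀ : 0 < q₀)
    (u0 uq : (ZMod r)ˣ) (hu0 : (u0 : ZMod r) = (q₀ : ZMod r)) (huq : (uq : ZMod r) = (q : ZMod r))
    (hle : orderOf u0 ≤ orderOf uq) (hj : r ∣ q ^ j - 1) : r ∣ q₀ ^ j - 1 := by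
  have : NeZero r := ⟨hr.ne_zero⟩
  have huu : uq = u0 ^ k := by
    apply Units.ext
    rw [Units.val_pow_eq_pow_val, hu0, huq, hq, Nat.cast_pow]
  have hdvd : orderOf uq ∣ orderOf u0 := by rw [huu]; exact orderOf_pow_dvd k
  have hpos : 0 < orderOf u0 := orderOf_pos u0
  have heq : orderOf uq = orderOf u0 := le_antisymm (Nat.le_of_dvd hpos hdvd) hle
  have hqpos : 0 < q := by rw [hq]; exact Nat.pow_pos hq₀
  have huqj : uq ^ j = 1 := by
    apply Units.ext
    rw [Units.val_pow_eq_pow_val, huq, Units.val_one]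
    have h1le : 1 ≤ q ^ j := Nat.one_le_pow _ _ hqpos
    have := (ZMod.natCast_eq_zero_iff _ _).mpr hj
    rwa [Nat.cast_sub h1le, Nat.cast_pow, Nat.cast_one, sub_eq_zero] at this
  have hu0j : u0 ^ j = 1 := by
    apply orderOf_dvd_iff_pow_eq_one.mp
    rw [← heq]; exact orderOf_dvd_of_pow_eq_one huqj
  have h2 := congrArg (Units.val) hu0j
  rw [Units.val_pow_eq_pow_val, hu0, Units.val_one] at h2
  have h1le : 1 ≤ q₀ ^ j := Nat.one_le_pow _ _ hq₀
  apply (ZMod.natCast_eq_zero_iff _ _).mp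
  rw [Nat.cast_sub h1le, Nat.cast_pow, Nat.cast_one, h2, sub_self]

theorem coe_conj (P x : Matrix.SpecialLinearGroup (Fin n) F) :
    ((P⁻¹ * x * P : Matrix.SpecialLinearGroup (Fin n) F) : Matrix (Fin n) (Fin n) F) =
      ((Matrix.SpecialLinearGroup.toGL P : GL (Fin n) F) : Matrix (Fin n) (Fin n) F)⁻¹ *
        (x : Matrix (Fin n) (Fin n) F) *
        ((Matrix.SpecialLinearGroup.toGL P : GL (Fin n) F) : Matrix (Fin n) (Fin n) F) := by
  rw [Matrix.SpecialLinearGroup.coe_mul, Matrix.SpecialLinearGroup.coe_mul,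
    Matrix.SpecialLinearGroup.coe_inv, Matrix.inv_def]
  simp

/-- (B1b) -/
theorem not_conj_of_block [Fintype F] (p : ℕ) [Fact p.Prime] [CharP F p] (F₀ : Subfield F)
    (q₀ k : ℕ) (hF₀ : Nat.card ↥F₀ = q₀) (hq : Fintype.card F = q₀ ^ k) (r : ℕ) [Fact r.Prime]
    (hrp : r ≠ p) (h1 : ¬ r ∣ Fintype.card F - 1)
    (hB : ∃ j, 0 < j ∧ r ∣ Fintype.card F ^ j - 1 ∧ ¬ r ∣ q₀ ^ j - 1)
    (x : Matrix.SpecialLinearGroup (Fin n) F) (g : F[X]) (s : ℕ)
    (hxr : (x : Matrix (Fin n) (Fin n) F) ^ r = 1) (hg : g.Monic) (hgi : Irreducible g)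
    (hgc : g ∣ cyclotomic r F)
    (hch : (x : Matrix (Fin n) (Fin n) F).charpoly = g * (X - 1) ^ s)
    (P : Matrix.SpecialLinearGroup (Fin n) F) : P⁻¹ * x * P ∉ subH n F₀ := by
  classical
  intro hmem
  have hr : r.Prime := Fact.out
  have hp : p.Prime := Fact.out
  -- `n > 0`
  have hn : 0 < n := by
    rcases Nat.eq_zero_or_pos n with rfl | h
    · exfalso
      rw [Matrix.charpoly_isEmpty] at hch
      exact hgi.not_isUnit (IsUnit.of_mul_eq_one _ hch.symm)
    · exact h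
  -- `q₀ = p ^ a0`
  have : CharP ↥F₀ p := Subfield.charP F₀ p
  obtain ⟨a0, -, hcard0⟩ := FiniteField.card ↥F₀ p
  have hq₀ : q₀ = p ^ (a0 : ℕ) := by rw [← hF₀, Nat.card_eq_fintype_card, hcard0]
  obtain ⟨f, -, hcard⟩ := FiniteField.card F p
  set σ : F →+* F := iterateFrobenius F p a0 with hσ
  have hσx : ∀ x : F, σ x = x ^ q₀ := by
    intro x; rw [hσ, iterateFrobenius_def, hq₀]
  have hfix : ∀ a : F, a ∈ F₀ → σ a = a := by
    intro a ha
    rw [hσx]
    have := FiniteField.pow_card (⟨a, ha⟩ : ↥F₀)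
    rw [← Nat.card_eq_fintype_card, hF₀] at this
    have h2 := congrArg (Subtype.val) this
    simpa using h2
  -- the conjugate
  have hx1 : x ^ r = 1 := Subtype.ext (by rw [Matrix.SpecialLinearGroup.coe_pow, hxr]; rfl)
  have hc : (P⁻¹ * x * P) ^ r = 1 := by
    have := conj_pow (a := P⁻¹) (b := x) (i := r)
    rw [inv_inv] at this
    rw [this, hx1]; group
  obtain ⟨lam, hlam, hent⟩ := Cfsg.Agent.Helper13.SubInv.entries_of_mem_subH F₀ _ hmem
  set y : Matrix (Fin n) (Fin n) F :=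
    ((P⁻¹ * x * P : Matrix.SpecialLinearGroup (Fin n) F) : Matrix (Fin n) (Fin n) F) with hy
  have hyr : y ^ r = 1 := by
    rw [hy, ← Matrix.SpecialLinearGroup.coe_pow, hc, Matrix.SpecialLinearGroup.coe_one]
  have hych : y.charpoly = g * (X - 1) ^ s := by
    rw [hy, coe_conj, Matrix.charpoly_units_conj', hch]
  have hσlam : σ lam ≠ 0 := (map_ne_zero σ).mpr hlam
  have hσy : y.map σ = (σ lam * lam⁻¹) • y := by
    ext i j
    rw [Matrix.map_apply, Matrix.smul_apply, smul_eq_mul]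
    have h1 := hfix _ (hent i j)
    rw [map_div₀] at h1
    field_simp at h1 ⊢
    linear_combination h1
  have hur : (σ lam * lam⁻¹) ^ r = 1 := by
    have h2 : (y.map σ) ^ r = 1 := by
      rw [← Matrix.map_pow, hyr, Matrix.map_one _ (map_zero σ) (map_one σ)]
    rw [hσy, _root_.smul_pow, hyr] at h2
    have := congrFun (congrFun h2 ⟨0, hn⟩) ⟨0, hn⟩
    simpa using this
  have hu1 := eq_one_of_pow_prime_eq_one hr h1 _ hur
  have hlamF₀ : lam ∈ F₀ := by
    apply Cfsg.Agent.Helper41.SubOddK3p.mem_of_pow_eq F₀ q₀ hF₀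
    rw [← hσx]
    field_simp at hu1
    exact hu1
  have hyF₀ : ∀ i j, y i j ∈ F₀ := by
    intro i j
    have := F₀.mul_mem (hent i j) hlamF₀
    rwa [div_mul_cancel₀ _ hlam] at this
  have hymap : y.map σ = y := by
    ext i j; exact hfix _ (hyF₀ i j)
  have hχ : (g * (X - 1) ^ s).map σ = g * (X - 1) ^ s := by
    rw [← hych, ← Matrix.charpoly_map, hymap]
  have hgσ : g.map σ = g := by
    rw [Polynomial.map_mul, Polynomial.map_pow, Polynomial.map_sub, Polynomial.map_X,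
      Polynomial.map_one] at hχ
    have hne : ((X : F[X]) - 1) ^ s ≠ 0 := by
      apply pow_ne_zero
      have := X_sub_C_ne_zero (1 : F)
      rwa [C_1] at this
    exact mul_right_cancel₀ hne hχ
  have hgl : g ∈ lifts F₀.subtype := by
    rw [lifts_iff_coeff_lifts]
    intro i
    have : g.coeff i ∈ F₀ := by
      apply Cfsg.Agent.Helper41.SubOddK3p.mem_of_pow_eq F₀ q₀ hF₀
      rw [← hσx, ← coeff_map, hgσ]
    exact ⟨⟨_, this⟩, rfl⟩
  obtain ⟨g0, hg0map, hg0deg, hg0m⟩ := lifts_and_natDegree_eq_and_monic hgl hg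
  have hg0nu : ¬ IsUnit g0 := by
    intro hu
    apply hgi.not_isUnit
    rw [← hg0map]; exact hu.map (mapRingHom F₀.subtype)
  obtain ⟨h0, h0m, h0i, h0d⟩ := exists_monic_irreducible_factor g0 hg0nu
  have h0c : h0 ∣ cyclotomic r ↥F₀ := by
    rw [← map_dvd_map' F₀.subtype, map_cyclotomic]
    have h3 : h0.map F₀.subtype ∣ g0.map F₀.subtype := Polynomial.map_dvd _ h0d
    rw [hg0map] at h3
    exact h3.trans hgc
  have hcop : p.Coprime r := (Nat.coprime_primes hp hr).mpr (Ne.symm hrp)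
  have hd0 := natDegree_of_dvd_cyclotomic_of_irreducible hcard0 hcop h0c h0i
  have hd := natDegree_of_dvd_cyclotomic_of_irreducible hcard hcop hgc hgi
  have hle : h0.natDegree ≤ g.natDegree := by
    rw [← hg0deg]; exact natDegree_le_of_dvd h0d hg0m.ne_zero
  rw [hd0, hd] at hle
  obtain ⟨j, hj0, hjq, hjq0⟩ := hB
  apply hjq0
  have hq₀pos : 0 < q₀ := by rw [hq₀]; exact Nat.pow_pos hp.pos
  refine arith_core r q₀ k (Fintype.card F) j hr hq hq₀pos _ _ ?_ ?_ hle hjq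
  · rw [ZMod.coe_unitOfCoprime, hq₀]
  · rw [ZMod.coe_unitOfCoprime, hcard]

end Cfsg.Agent.Helper41.SubOddB1b
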