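import Cfsg.Agent.Helper6.SzCl1

/-!
# Piece (A6) for helper6 (S2457): the trace of the first product family in the Suzuki group
-/

set_option autoImplicit false

namespace Cfsg.Agent.Helper41.SzClA6

open Cfsg.Agent.Helper6

/-- the trace of `u(0,b) w u(0,e) u(0,b) w u(0,e)` as a polynomial identity -/
theorem mat_trace {F : Type*} [Field F] (b B e E : F) :
    Matrix.trace (uMat 0 b 0 B * tMat F *
      (uMat 0 e 0 E * (uMat 0 b 0 B * tMat F) * uMat 0 e 0 E)) =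
      (B + E) ^ 2 + 2 * (2 + 2 * b * e + b ^ 2 + e ^ 2) := by
  have h1 : uMat 0 b 0 B * tMat F = !![B, b, 0, 1; b, 0, 1, 0; 0, 1, 0, 0; 1, 0, 0, 0] := by
    ext i j
    fin_cases i <;> fin_cases j <;> simp [Matrix.mul_apply, Fin.sum_univ_four, uMat, tMat]
  rw [h1]
  simp only [Matrix.trace, Matrix.diag, Fin.sum_univ_four, Matrix.mul_apply, uMat]
  simp
  ring

variable {F : Type*} [Field F] [Fintype F] {m : ℕ}

/-- the matrix of `u(0,β)` -/
theorem coe_sU_zero (hF : Fintype.card F = 2 ^ (2 * m + 1)) (β : F) :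
    (((sU hF 0 β : Cfsg.Sz F m) : Matrix.SpecialLinearGroup (Fin 4) F) :
      Matrix (Fin 4) (Fin 4) F) = uMat 0 β 0 (β ^ (2 ^ (m + 1))) := by
  show uMat 0 β ((0 : F) ^ (2 ^ (m + 1))) (ovF F m 0 β) = _
  have h0 : (0 : F) ^ (2 ^ (m + 1)) = 0 := zero_pow (by positivity)
  have h1 : ovF F m 0 β = β ^ (2 ^ (m + 1)) := by
    unfold ovF
    rw [zero_mul, zero_pow (by positivity), add_zero, zero_add]
  rw [h0, h1]

/-- the matrix of `w` -/
theorem coe_sW' (hF : Fintype.card F = 2 ^ (2 * m + 1)) :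
    (((sW hF : Cfsg.Sz F m) : Matrix.SpecialLinearGroup (Fin 4) F) :
      Matrix (Fin 4) (Fin 4) F) = tMat F := rfl

/-- (A6) the first product family -/
theorem szTr_P1 (hm : 1 ≤ m) (hF : Fintype.card F = 2 ^ (2 * m + 1)) (b e : F) :
    szTr ((sU hF 0 b * sW hF) * (sU hF 0 e * (sU hF 0 b * sW hF) * (sU hF 0 e)⁻¹)) =
      ((b + e) ^ (2 ^ (m + 1))) ^ 2 := by
  have h2 : (2 : F) = 0 := two_eq_zero_of_card hF
  have hinv : (sU hF 0 e)⁻¹ = sU hF 0 e := by
    rw [sU_inv hm hF, mul_zero, add_zero]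
  rw [hinv]
  unfold szTr
  simp only [Subgroup.coe_mul, Matrix.SpecialLinearGroup.coe_mul, coe_sU_zero, coe_sW']
  rw [mat_trace, add_pow_sigma hF]
  linear_combination (2 + 2 * b * e + b ^ 2 + e ^ 2) * h2

end Cfsg.Agent.Helper41.SzClA6
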