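import Cfsg.Agent.Helper41.SzCl_A6

/-!
# Piece (A7) for helper6 (S2457): the trace of the second product family in the Suzuki group
-/

set_option autoImplicit false

namespace Cfsg.Agent.Helper41.SzClA7

open Cfsg.Agent.Helper6 Cfsg.Agent.Helper41.SzClA6

/-- the trace of `u(0,b) w u(0,b₁) w u(0,e) w u(0,b₁)` as a polynomial identity -/
theorem mat_trace2 {F : Type*} [Field F] (b B b₁ B₁ e E : F) :
    Matrix.trace (uMat 0 b 0 B * tMat F *
      (uMat 0 b₁ 0 B₁ * tMat F * uMat 0 e 0 E * (tMat F * uMat 0 b₁ 0 B₁))) =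
      B + E * (1 + b₁ * (b + b₁) + B₁ * (B + B₁)) + e * (B₁ * b + B * b₁) +
        2 * (B₁ + B₁ * b₁ * e) := by
  have h1 : ∀ x X : F,
      uMat 0 x 0 X * tMat F = !![X, x, 0, 1; x, 0, 1, 0; 0, 1, 0, 0; 1, 0, 0, 0] := by
    intro x X
    ext i j
    fin_cases i <;> fin_cases j <;> simp [Matrix.mul_apply, Fin.sum_univ_four, uMat, tMat]
  have h2 : tMat F * uMat 0 b₁ 0 B₁ =
      !![0, 0, 0, 1; 0, 0, 1, 0; 0, 1, 0, b₁; 1, 0, b₁, B₁] := by
    ext i j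
    fin_cases i <;> fin_cases j <;> simp [Matrix.mul_apply, Fin.sum_univ_four, uMat, tMat]
  rw [h1, h1, h2]
  simp only [Matrix.trace, Matrix.diag, Fin.sum_univ_four, Matrix.mul_apply, uMat]
  simp
  ring

variable {F : Type*} [Field F] [Fintype F] {m : ℕ}

/-- (A7) the second product family -/
theorem szTr_P2 (hm : 1 ≤ m) (hF : Fintype.card F = 2 ^ (2 * m + 1)) (b b₁ e : F) :
    szTr ((sU hF 0 b * sW hF) *
        ((sU hF 0 b₁ * sW hF) * sU hF 0 e * (sU hF 0 b₁ * sW hF)⁻¹)) =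
      b ^ (2 ^ (m + 1)) +
        e ^ (2 ^ (m + 1)) * (1 + b₁ * (b + b₁) + (b₁ * (b + b₁)) ^ (2 ^ (m + 1))) +
        e * (b₁ ^ (2 ^ (m + 1)) * b + b ^ (2 ^ (m + 1)) * b₁) := by
  have h2 : (2 : F) = 0 := two_eq_zero_of_card hF
  have hinv : (sU hF 0 b₁ * sW hF)⁻¹ = sW hF * sU hF 0 b₁ := by
    rw [mul_inv_rev, sW_inv, sU_inv hm hF, mul_zero, add_zero]
  rw [hinv]
  unfold szTr
  simp only [Subgroup.coe_mul, Matrix.SpecialLinearGroup.coe_mul, coe_sU_zero, coe_sW']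
  rw [mat_trace2, mul_pow, add_pow_sigma hF]
  linear_combination (b₁ ^ (2 ^ (m + 1)) + b₁ ^ (2 ^ (m + 1)) * b₁ * e) * h2

end Cfsg.Agent.Helper41.SzClA7
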