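import Cfsg.Agent.Helper95.SzOrd.Defs

/-!
# Piece (A1) for helper95 (Suzuki order theorem, S0347 / S1147 / S0340): basic consequences of regularity
-/

set_option autoImplicit false

namespace Cfsg.Agent.Helper41.SzOrd

open MulAction Cfsg.Agent.Helper95.SzOrd

variable {G Ω : Type*} [Group G] [Fintype G] [MulAction G Ω] [Fintype Ω]

/-- (A1) Basic consequences of regularity. -/
theorem A1_base {a : Ω} {Q : Subgroup G} (h : ZT a Q) :
    (∀ u ∈ Q, u ≠ 1 → ∀ c : Ω, u • c = c → c = a) ∧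
    Nat.card Ω = Nat.card Q + 1 ∧
    ∀ b : Ω, a ≠ b →
      (∀ g ∈ stabilizer G a, ∃ u ∈ Q, ∃ k ∈ Kab G a b, g = u * k) ∧
      Nat.card G = (Nat.card Q + 1) * Nat.card Q * Nat.card (Kab G a b) ∧
      (∀ k ∈ Kab G a b, k ≠ 1 → ∀ u ∈ Q, k * u * k⁻¹ = u → u = 1) := by
  classical
  obtain ⟨hfaith, h2t, h3, ⟨g₀, hg₀, a₀, b₀, hab₀, -, -⟩, -⟩ := h.hZ
  have hQa : ∀ u ∈ Q, u • a = a := fun u hu => mem_stabilizer_iff.1 (h.Qle hu)
  -- (1)
  have hfix : ∀ u ∈ Q, u ≠ 1 → ∀ c : Ω, u • c = c → c = a := by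
    intro u hu hu1 c hc
    by_contra hca
    obtain ⟨v, -, hv⟩ := h.reg c c hca hca
    have e1 : (⟨u, hu⟩ : Q) = v := hv ⟨u, hu⟩ hc
    have e2 : (1 : Q) = v := hv 1 (by simp)
    apply hu1
    have := e1.trans e2.symm
    exact congrArg Subtype.val this
  -- images of points other than `a` under `Q` are other than `a`
  have hne : ∀ u ∈ Q, ∀ c : Ω, c ≠ a → u • c ≠ a := by
    intro u hu c hc hca
    apply hc
    have h1 : u⁻¹ • (u • c) = u⁻¹ • a := by rw [hca]
    rw [inv_smul_smul] at h1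
    rw [h1]
    have h2 := hQa u⁻¹ (inv_mem hu)
    exact h2
  -- a second point
  have hex : ∃ b : Ω, b ≠ a := by
    by_cases h0 : a₀ = a
    · exact ⟨b₀, fun hb => hab₀ (h0.trans hb.symm)⟩
    · exact ⟨a₀, h0⟩
  -- (2)
  have hcard : Nat.card Ω = Nat.card Q + 1 := by
    obtain ⟨b, hb⟩ := hex
    have e : Q ≃ {c : Ω // c ≠ a} := by
      refine Equiv.ofBijective (fun u => ⟨(u : G) • b, hne u u.2 b hb⟩) ⟨?_, ?_⟩
      · intro u v huv
        have huv' : (u : G) • b = (v : G) • b := congrArg Subtype.val huv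
        obtain ⟨w, -, hw⟩ := h.reg b ((v : G) • b) hb (hne v v.2 b hb)
        rw [hw u huv', hw v rfl]
      · rintro ⟨c, hc⟩
        obtain ⟨w, hw, -⟩ := h.reg b c hb hc
        exact ⟨w, Subtype.ext hw⟩
    rw [← Nat.card_congr (Equiv.optionSubtypeNe a), Finite.card_option, Nat.card_congr e]
  refine ⟨hfix, hcard, ?_⟩
  intro b hab
  have hba : b ≠ a := Ne.symm hab
  -- (3a)
  have hQK : ∀ g ∈ stabilizer G a, ∃ u ∈ Q, ∃ k ∈ Kab G a b, g = u * k := by
    intro g hg
    have hga : g • a = a := mem_stabilizer_iff.1 hg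
    have hgb : g • b ≠ a := by
      intro hgb
      apply hba
      have h1 : g⁻¹ • (g • b) = g⁻¹ • a := by rw [hgb]
      rw [inv_smul_smul] at h1
      rw [h1]
      have h2 : g⁻¹ • (g • a) = g⁻¹ • a := by rw [hga]
      rw [inv_smul_smul] at h2
      exact h2.symm
    obtain ⟨u, hu, -⟩ := h.reg b (g • b) hba hgb
    refine ⟨u, u.2, (u : G)⁻¹ * g, ?_, by group⟩
    refine Subgroup.mem_inf.2 ⟨mul_mem (inv_mem (h.Qle u.2)) hg, ?_⟩
    rw [mem_stabilizer_iff, mul_smul, ← hu, inv_smul_smul]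
  -- (3c)
  have hKfpf : ∀ k ∈ Kab G a b, k ≠ 1 → ∀ u ∈ Q, k * u * k⁻¹ = u → u = 1 := by
    intro k hk hk1 u hu hku
    by_contra hu1
    obtain ⟨hka, hkb⟩ := Subgroup.mem_inf.1 hk
    rw [mem_stabilizer_iff] at hka hkb
    apply hk1
    have hub : u • b ≠ b := fun hub => hba (hfix u hu hu1 b hub)
    have hua : u • b ≠ a := hne u hu b hba
    have hkub : k • (u • b) = u • b := by
      have h1 : k * u = u * k := by
        calc k * u = (k * u * k⁻¹) * k := by group
          _ = u * k := by rw [hku]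
      rw [← mul_smul, h1, mul_smul, hkb]
    exact h3 k a b (u • b) hab (Ne.symm hub) (Ne.symm hua) hka hkb hkub
  refine ⟨hQK, ?_, hKfpf⟩
  -- (3b)
  have htr : IsPretransitive G Ω := by
    have := h2t
    exact isPretransitive_of_is_two_pretransitive
  have hidx := MulAction.index_stabilizer_of_transitive G a
  have hmul := Subgroup.index_mul_card (stabilizer G a)
  have hstab : Nat.card (stabilizer G a) = Nat.card Q * Nat.card (Kab G a b) := by
    rw [← Nat.card_prod]
    symm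
    refine Nat.card_congr (Equiv.ofBijective
      (fun p : Q × Kab G a b => (⟨(p.1 : G) * (p.2 : G),
        mul_mem (h.Qle p.1.2) (Subgroup.mem_inf.1 p.2.2).1⟩ : stabilizer G a)) ⟨?_, ?_⟩)
    · rintro ⟨u, k⟩ ⟨u', k'⟩ hp
      have hp' : (u : G) * (k : G) = (u' : G) * (k' : G) := congrArg Subtype.val hp
      have h1 : (u' : G)⁻¹ * (u : G) = (k' : G) * (k : G)⁻¹ := by
        calc (u' : G)⁻¹ * (u : G) = (u' : G)⁻¹ * ((u : G) * (k : G)) * (k : G)⁻¹ := by group
          _ = (k' : G) * (k : G)⁻¹ := by rw [hp']; group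
      have h2 : (u' : G)⁻¹ * (u : G) = 1 := by
        by_contra hne1
        apply hba
        apply hfix _ (mul_mem (inv_mem u'.2) u.2) hne1 b
        rw [h1, mul_smul]
        have hkb := mem_stabilizer_iff.1 (Subgroup.mem_inf.1 k.2).2
        have hk'b := mem_stabilizer_iff.1 (Subgroup.mem_inf.1 k'.2).2
        have : (k : G)⁻¹ • b = b := by
          have h4 : (k : G)⁻¹ • ((k : G) • b) = (k : G)⁻¹ • b := by rw [hkb]
          rw [inv_smul_smul] at h4
          exact h4.symm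
        rw [this, hk'b]
      have hu : (u : G) = (u' : G) := by
        have := inv_mul_eq_one.1 h2
        exact this.symm
      have hk : (k : G) = (k' : G) := by
        rw [hu] at hp'
        exact mul_left_cancel hp'
      exact Prod.ext (Subtype.ext hu) (Subtype.ext hk)
    · rintro ⟨g, hg⟩
      obtain ⟨u, hu, k, hk, rfl⟩ := hQK g hg
      exact ⟨(⟨u, hu⟩, ⟨k, hk⟩), rfl⟩
  rw [← hmul, hidx, hcard, hstab, mul_assoc]

end Cfsg.Agent.Helper41.SzOrd
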