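import Cfsg.Agent.Helper95.SzOrd.Defs
import Cfsg.Agent.Helper41.SzOrdA1
import Cfsg.Agent.S0882
import Cfsg.Agent.S0738

/-!
# Piece (A2) for helper95 (Suzuki order theorem, S0347 / S1147 / S0340): involutions
-/

set_option autoImplicit false

namespace Cfsg.Agent.Helper41.SzOrd

open MulAction Cfsg.Agent.Helper95.SzOrd

/-- a free action of a finite group on a finite set: the order of the group divides the size of the set -/
theorem A2_card_dvd_of_free {K X : Type*} [Group K] [MulAction K X]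
    (hfree : ∀ (k : K) (x : X), k • x = x → k = 1) : Nat.card K ∣ Nat.card X := by
  have hst : ∀ x : X, stabilizer K x = ⊥ := by
    intro x
    rw [Subgroup.eq_bot_iff_forall]
    intro k hk
    exact hfree k x (mem_stabilizer_iff.1 hk)
  have e := MulAction.selfEquivOrbitsQuotientProd hst
  rw [Nat.card_congr e, Nat.card_prod]
  exact Dvd.intro_left _ rfl

/-- an involution of a group in which only the identity fixes three points, acting on a set of odd
size, fixes exactly one point -/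
theorem A2_existsUnique_fixed {G Ω : Type*} [Group G] [MulAction G Ω] [Finite Ω]
    (h3 : ∀ g : G, ∀ a b c : Ω, a ≠ b → b ≠ c → a ≠ c → g • a = a → g • b = b → g • c = c → g = 1)
    (hodd : Odd (Nat.card Ω)) {t : G} (ht : orderOf t = 2) : ∃! c : Ω, t • c = c := by
  classical
  have := Fintype.ofFinite Ω
  have : Fact (Nat.Prime 2) := ⟨Nat.prime_two⟩
  have hZ : IsPGroup 2 (Subgroup.zpowers t) :=
    IsPGroup.of_card (n := 1) (by rw [Nat.card_zpowers, ht, pow_one])
  have hmod := hZ.card_modEq_card_fixedPoints Ω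
  have hfp : ∀ c : Ω, c ∈ MulAction.fixedPoints (Subgroup.zpowers t) Ω ↔ t • c = c := by
    intro c
    rw [MulAction.mem_fixedPoints]
    constructor
    · intro h
      exact h ⟨t, Subgroup.mem_zpowers t⟩
    · rintro h ⟨z, hz⟩
      obtain ⟨k, rfl⟩ := Subgroup.mem_zpowers_iff.1 hz
      exact mem_stabilizer_iff.1 ((stabilizer G c).zpow_mem (mem_stabilizer_iff.2 h) k)
  have hcard : Nat.card (MulAction.fixedPoints (Subgroup.zpowers t) Ω) =
      (Finset.univ.filter (fun c : Ω => t • c = c)).card := by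
    rw [← Fintype.card_subtype, ← Nat.card_eq_fintype_card]
    exact Nat.card_congr (Equiv.subtypeEquivRight hfp)
  rw [hcard] at hmod
  have hsodd : Odd (Finset.univ.filter (fun c : Ω => t • c = c)).card := by
    rw [Nat.odd_iff] at hodd ⊢
    rw [← hmod]
    exact hodd
  have hpos : 0 < (Finset.univ.filter (fun c : Ω => t • c = c)).card := hsodd.pos
  obtain ⟨c, hc⟩ := Finset.card_pos.1 hpos
  have hc' : t • c = c := (Finset.mem_filter.1 hc).2
  refine ⟨c, hc', ?_⟩
  intro c' hc2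
  by_contra hne
  have hc2' : c' ∈ Finset.univ.filter (fun c : Ω => t • c = c) :=
    Finset.mem_filter.2 ⟨Finset.mem_univ _, hc2⟩
  have h2 : 2 ≤ (Finset.univ.filter (fun c : Ω => t • c = c)).card := by
    have : ({c, c'} : Finset Ω) ⊆ Finset.univ.filter (fun c : Ω => t • c = c) := by
      intro x hx
      rcases Finset.mem_insert.1 hx with rfl | hx
      · exact hc
      · rw [Finset.mem_singleton] at hx
        rw [hx]; exact hc2'
    have h4 := Finset.card_le_card this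
    rw [Finset.card_pair (Ne.symm hne)] at h4
    exact h4
  have h3' : 3 ≤ (Finset.univ.filter (fun c : Ω => t • c = c)).card := by
    rcases hsodd with ⟨m, hm⟩
    omega
  have hpos2 : 0 < (((Finset.univ.filter (fun c : Ω => t • c = c)).erase c).erase c').card := by
    have hc2'' : c' ∈ (Finset.univ.filter (fun c : Ω => t • c = c)).erase c :=
      Finset.mem_erase.2 ⟨hne, hc2'⟩
    rw [Finset.card_erase_of_mem hc2'', Finset.card_erase_of_mem hc]
    omega
  obtain ⟨c'', hc''⟩ := Finset.card_pos.1 hpos2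
  obtain ⟨hne2, hc3⟩ := Finset.mem_erase.1 hc''
  obtain ⟨hne3, hc4⟩ := Finset.mem_erase.1 hc3
  have hc5 : t • c'' = c'' := (Finset.mem_filter.1 hc4).2
  have ht1 := h3 t c c' c'' (Ne.symm hne) (Ne.symm hne2) (Ne.symm hne3) hc' hc2 hc5
  rw [ht1, orderOf_one] at ht
  omega

variable {G Ω : Type*} [Group G] [Fintype G] [MulAction G Ω] [Fintype Ω]

/-- (A2) Involutions. -/
theorem A2_invol {a b : Ω} {Q : Subgroup G} (h : ZT a Q) (hab : a ≠ b) :
    Odd (Nat.card (Kab G a b)) ∧ 3 ≤ Nat.card (Kab G a b) ∧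
    Nat.card {t : G // orderOf t = 2} = Nat.card (Kab G a b) * (Nat.card Q + 1) ∧
    Nat.card {t : G // orderOf t = 2 ∧ t ∈ Q} = Nat.card (Kab G a b) ∧
    (∀ g : G, g • a = a → (∃ k : ℕ, g ^ (2 ^ k) = 1) → g ∈ Q) ∧
    (∀ s ∈ Q, ∀ t ∈ Q, orderOf s = 2 → orderOf t = 2 → ∃ k ∈ Kab G a b, k * s * k⁻¹ = t) ∧
    (∀ t ∈ Q, orderOf t = 2 → t ∈ Zs Q) := by
  classical
  obtain ⟨hfix, hcardΩ, hA1⟩ := A1_base h
  obtain ⟨hQK, hcardG, hKfpf⟩ := hA1 b hab
  have hZ := h.hZ
  obtain ⟨hfaith, h2t, h3, ⟨g₀, hg₀, a₀, b₀, hab₀, hga₀, hgb₀⟩, -⟩ := hZ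
  have hba : b ≠ a := Ne.symm hab
  have hQa : ∀ u ∈ Q, u • a = a := fun u hu => mem_stabilizer_iff.1 (h.Qle hu)
  have hKa : ∀ k ∈ Kab G a b, k • a = a := fun k hk => mem_stabilizer_iff.1 (Subgroup.mem_inf.1 hk).1
  have hKb : ∀ k ∈ Kab G a b, k • b = b := fun k hk => mem_stabilizer_iff.1 (Subgroup.mem_inf.1 hk).2
  -- `|Q| = 2 ^ m`, `m ≥ 1`
  have : Fact (Nat.Prime 2) := ⟨Nat.prime_two⟩
  obtain ⟨m, hm⟩ := IsPGroup.iff_card.1 h.two
  have hm1 : 1 ≤ m := by
    rcases Nat.eq_zero_or_pos m with h0 | h0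
    · exfalso
      rw [h0, pow_zero] at hm
      obtain ⟨u, hu, v, hv, huv⟩ := h.nonab
      have hsub : Subsingleton Q := (Nat.card_eq_one_iff_unique.1 hm).1
      have e1 : (⟨u, hu⟩ : Q) = 1 := Subsingleton.elim _ _
      have e2 : (⟨v, hv⟩ : Q) = 1 := Subsingleton.elim _ _
      have e1' : u = 1 := congrArg Subtype.val e1
      have e2' : v = 1 := congrArg Subtype.val e2
      apply huv
      rw [e1', e2']
    · exact h0
  have hNeven : Even (Nat.card Q) := by
    rw [hm]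
    exact (Nat.even_pow' (by omega)).2 even_two
  have hN2 : 2 ≤ Nat.card Q := by
    rw [hm]
    calc 2 = 2 ^ 1 := by norm_num
      _ ≤ 2 ^ m := Nat.pow_le_pow_right (by norm_num) hm1
  -- `d ∣ |Q| - 1`
  let p : SubMulAction (Kab G a b) Ω :=
    { carrier := {c | c ≠ a ∧ c ≠ b}
      smul_mem' := by
        intro k c hc
        constructor
        · intro hk
          apply hc.1
          have hk' : (k : G) • c = a := hk
          have h1 : c = (k : G)⁻¹ • a := eq_inv_smul_iff.2 hk'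
          rw [h1]
          exact hKa _ (inv_mem k.2)
        · intro hk
          apply hc.2
          have hk' : (k : G) • c = b := hk
          have h1 : c = (k : G)⁻¹ • b := eq_inv_smul_iff.2 hk'
          rw [h1]
          exact hKb _ (inv_mem k.2) }
  have hfree : ∀ (k : Kab G a b) (x : p), k • x = x → k = 1 := by
    intro k x hkx
    have hkx' : (k : G) • (x : Ω) = (x : Ω) := congrArg Subtype.val hkx
    have hx : (x : Ω) ≠ a ∧ (x : Ω) ≠ b := x.2
    have := h3 (k : G) a b (x : Ω) hab (Ne.symm hx.2) (Ne.symm hx.1) (hKa _ k.2) (hKb _ k.2) hkx'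
    exact Subtype.ext this
  have hdvd0 := A2_card_dvd_of_free hfree
  have hcardp : Nat.card p = Nat.card Q - 1 := by
    have e1 : Nat.card p = Fintype.card {c : Ω // c ≠ a ∧ c ≠ b} := by
      rw [← Nat.card_eq_fintype_card]; rfl
    rw [e1, Fintype.card_subtype]
    have e2 : Finset.univ.filter (fun c : Ω => c ≠ a ∧ c ≠ b) = (Finset.univ.erase a).erase b := by
      ext c
      simp only [Finset.mem_filter, Finset.mem_univ, true_and, Finset.mem_erase, and_true]
      tauto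
    rw [e2, Finset.card_erase_of_mem (Finset.mem_erase.2 ⟨hba, Finset.mem_univ _⟩),
      Finset.card_erase_of_mem (Finset.mem_univ _), Finset.card_univ, ← Nat.card_eq_fintype_card,
      hcardΩ]
    omega
  have hdvd : Nat.card (Kab G a b) ∣ Nat.card Q - 1 := hcardp ▸ hdvd0
  have hdodd : Odd (Nat.card (Kab G a b)) := by
    have hodd1 : Odd (Nat.card Q - 1) := by
      rcases hNeven with ⟨r, hr⟩
      exact ⟨r - 1, by omega⟩
    exact Odd.of_dvd_nat hodd1 hdvd
  -- `d > 1`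
  have hd2 : 2 ≤ Nat.card (Kab G a b) := by
    have h2t' := h2t
    rw [is_two_pretransitive_iff] at h2t'
    obtain ⟨x, hxa, hxb⟩ := h2t' hab₀ hab
    have hmem : x * g₀ * x⁻¹ ∈ Kab G a b := by
      refine Subgroup.mem_inf.2 ⟨?_, ?_⟩
      · rw [mem_stabilizer_iff, mul_smul, mul_smul, ← hxa, inv_smul_smul, hga₀]
      · rw [mem_stabilizer_iff, mul_smul, mul_smul, ← hxb, inv_smul_smul, hgb₀]
    have hne1 : x * g₀ * x⁻¹ ≠ 1 := by
      intro h1
      apply hg₀
      have : g₀ = x⁻¹ * (x * g₀ * x⁻¹) * x := by group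
      rw [this, h1]; group
    have : Nontrivial (Kab G a b) := ⟨⟨⟨_, hmem⟩, 1, fun h1 => hne1 (congrArg Subtype.val h1)⟩⟩
    exact Finite.one_lt_card
  have hd3 : 3 ≤ Nat.card (Kab G a b) := by
    rcases hdodd with ⟨r, hr⟩
    omega
  -- `2 d < |Q| - 1`
  have hlt : 2 * Nat.card (Kab G a b) < Nat.card Q - 1 := by
    by_contra hnot
    push Not at hnot
    have hnorm : (Q.subgroupOf (stabilizer G a)).Normal := by
      refine ⟨fun n hn g => ?_⟩
      rw [Subgroup.mem_subgroupOf] at hn ⊢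
      have := h.Qnorm (g : G) g.2 (n : G) hn
      simpa using this
    have hd : Fintype.card Ω - 2 ≤ 2 * Nat.card (Kab G a b) := by
      rw [← Nat.card_eq_fintype_card, hcardΩ]
      omega
    obtain ⟨hcomm, -⟩ := Cfsg.Agent.S0738.result h.hZ hab hd Q h.Qle hnorm h.reg
    obtain ⟨u, hu, v, hv, huv⟩ := h.nonab
    apply huv
    have := hcomm.is_comm.comm (⟨u, hu⟩ : Q) ⟨v, hv⟩
    exact congrArg Subtype.val this
  -- the number of involutions
  have hinv : Nat.card {t : G // orderOf t = 2} = Nat.card (Kab G a b) * (Nat.card Q + 1) := by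
    have := h.simple
    have hh : Fintype.card Ω = Nat.card Q + 1 := by rw [← Nat.card_eq_fintype_card, hcardΩ]
    obtain ⟨-, hnum⟩ := Cfsg.Agent.S0882.result h.hZ hab (Nat.card Q) (Nat.card (Kab G a b)) hh rfl
      hdodd hlt
    rw [if_pos hNeven] at hnum
    exact hnum
  -- conjugation preserves orders
  have hconj : ∀ g x : G, orderOf (g * x * g⁻¹) = orderOf x := by
    intro g x
    exact orderOf_injective (MulAut.conj g).toMonoidHom (MulAut.conj g).injective x
  -- `Q ∩ K = 1`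
  have hQK1 : ∀ x ∈ Q, x ∈ Kab G a b → x = 1 := by
    intro x hxQ hxK
    by_contra hx1
    exact hba (hfix x hxQ hx1 b (hKb x hxK))
  -- (v) 2-elements of `G_a` lie in `Q`
  have h2elt : ∀ g : G, g • a = a → (∃ k : ℕ, g ^ (2 ^ k) = 1) → g ∈ Q := by
    intro g hga ⟨j, hj⟩
    obtain ⟨u, hu, k, hk, rfl⟩ := hQK g (mem_stabilizer_iff.2 hga)
    have hkS : k ∈ stabilizer G a := (Subgroup.mem_inf.1 hk).1
    have hpow : ∀ r : ℕ, ∃ u' ∈ Q, (u * k) ^ r = u' * k ^ r := by
      intro r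
      induction r with
      | zero => exact ⟨1, one_mem _, by simp⟩
      | succ r ih =>
        obtain ⟨u', hu', hr⟩ := ih
        refine ⟨u' * (k ^ r * u * (k ^ r)⁻¹), mul_mem hu' (h.Qnorm _ (pow_mem hkS r) u hu), ?_⟩
        rw [pow_succ, hr, pow_succ]
        group
    obtain ⟨u', hu', hr⟩ := hpow (2 ^ j)
    rw [hj] at hr
    have hk2 : k ^ (2 ^ j) = u'⁻¹ := by
      have : u'⁻¹ * 1 = u'⁻¹ * (u' * k ^ 2 ^ j) := by rw [hr]
      rw [mul_one, inv_mul_cancel_left] at this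
      exact this.symm
    have hk3 : k ^ (2 ^ j) = 1 := hQK1 _ (hk2 ▸ inv_mem hu') (pow_mem hk _)
    have hk4 : k ^ Nat.card (Kab G a b) = 1 := by
      have := pow_card_eq_one' (G := Kab G a b) (x := ⟨k, hk⟩)
      exact congrArg Subtype.val this
    have hk1 : k = 1 := by
      have h1 := orderOf_dvd_of_pow_eq_one hk3
      have h2 := orderOf_dvd_of_pow_eq_one hk4
      have hcop : Nat.Coprime (2 ^ j) (Nat.card (Kab G a b)) :=
        Nat.Coprime.pow_left j (Nat.coprime_two_left.2 hdodd)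
      have := Nat.dvd_gcd h1 h2
      rw [hcop.gcd_eq_one, Nat.dvd_one] at this
      exact orderOf_eq_one_iff.1 this
    rw [hk1, mul_one]
    exact hu
  -- (vi) counting the involutions of `Q`
  have hoddΩ : Odd (Nat.card Ω) := by
    rw [hcardΩ]
    exact hNeven.add_one
  have hEU : ∀ t : G, orderOf t = 2 → ∃! c : Ω, t • c = c := fun t ht =>
    A2_existsUnique_fixed h3 hoddΩ ht
  have htr : IsPretransitive G Ω := by
    have := h2t
    exact isPretransitive_of_is_two_pretransitive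
  have hex : ∀ c : Ω, ∃ g : G, g • a = c := fun c => exists_smul_eq G a c
  choose gc hgc using hex
  have hgci : ∀ c : Ω, (gc c)⁻¹ • c = a := fun c => inv_smul_eq_iff.2 (hgc c).symm
  have e1 : {p : G × Ω // orderOf p.1 = 2 ∧ p.1 • p.2 = p.2} ≃ {t : G // orderOf t = 2} := by
    refine Equiv.ofBijective (fun p => ⟨p.1.1, p.2.1⟩) ⟨?_, ?_⟩
    · rintro ⟨⟨t, c⟩, ht, htc⟩ ⟨⟨t', c'⟩, ht', htc'⟩ hp
      have ht1 : t = t' := congrArg Subtype.val hp
      subst ht1
      obtain ⟨c₀, -, hc₀⟩ := hEU t ht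
      have : c = c' := (hc₀ c htc).trans (hc₀ c' htc').symm
      subst this
      rfl
    · rintro ⟨t, ht⟩
      obtain ⟨c, hc, -⟩ := hEU t ht
      exact ⟨⟨(t, c), ht, hc⟩, rfl⟩
  have e2 : {p : G × Ω // orderOf p.1 = 2 ∧ p.1 • p.2 = p.2} ≃
      Ω × {t : G // orderOf t = 2 ∧ t • a = a} := by
    refine ⟨fun p => (p.1.2, ⟨(gc p.1.2)⁻¹ * p.1.1 * gc p.1.2, ?_, ?_⟩),
      fun q => ⟨(gc q.1 * q.2.1 * (gc q.1)⁻¹, q.1), ?_, ?_⟩, ?_, ?_⟩
    · have := hconj (gc p.1.2)⁻¹ p.1.1
      rw [inv_inv] at this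
      rw [this]
      exact p.2.1
    · rw [mul_smul, mul_smul, hgc, p.2.2, hgci]
    · show orderOf (gc q.1 * q.2.1 * (gc q.1)⁻¹) = 2
      rw [hconj]
      exact q.2.2.1
    · show (gc q.1 * q.2.1 * (gc q.1)⁻¹) • q.1 = q.1
      rw [mul_smul, mul_smul, hgci, q.2.2.2, hgc]
    · rintro ⟨⟨t, c⟩, ht, htc⟩
      apply Subtype.ext
      show (gc c * ((gc c)⁻¹ * t * gc c) * (gc c)⁻¹, c) = (t, c)
      congr 1
      group
    · rintro ⟨c, ⟨s, hs, hsa⟩⟩
      show (c, (⟨(gc c)⁻¹ * (gc c * s * (gc c)⁻¹) * gc c, _⟩ :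
        {t : G // orderOf t = 2 ∧ t • a = a})) = (c, ⟨s, hs, hsa⟩)
      congr 1
      apply Subtype.ext
      show (gc c)⁻¹ * (gc c * s * (gc c)⁻¹) * gc c = s
      group
  have e3 : {t : G // orderOf t = 2 ∧ t • a = a} ≃ {t : G // orderOf t = 2 ∧ t ∈ Q} := by
    refine Equiv.subtypeEquivRight (fun t => ?_)
    constructor
    · rintro ⟨ht, hta⟩
      refine ⟨ht, h2elt t hta ⟨1, ?_⟩⟩
      rw [pow_one, ← ht]
      exact pow_orderOf_eq_one t
    · rintro ⟨ht, htQ⟩
      exact ⟨ht, hQa t htQ⟩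
  have hcardJ : Nat.card {t : G // orderOf t = 2 ∧ t ∈ Q} = Nat.card (Kab G a b) := by
    have h1 : Nat.card {t : G // orderOf t = 2} =
        Nat.card Ω * Nat.card {t : G // orderOf t = 2 ∧ t ∈ Q} := by
      rw [← Nat.card_congr e1, Nat.card_congr e2, Nat.card_prod, Nat.card_congr e3]
    rw [hinv, hcardΩ, mul_comm] at h1
    exact (Nat.eq_of_mul_eq_mul_left (by omega) h1).symm
  -- (vii) `K` is transitive on the involutions of `Q`
  have hKtrans : ∀ s ∈ Q, ∀ t ∈ Q, orderOf s = 2 → orderOf t = 2 →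
      ∃ k ∈ Kab G a b, k * s * k⁻¹ = t := by
    intro s hs t ht hs2 ht2
    have hs1 : s ≠ 1 := by
      rintro rfl
      rw [orderOf_one] at hs2
      omega
    let f : Kab G a b → {t : G // orderOf t = 2 ∧ t ∈ Q} := fun k =>
      ⟨(k : G) * s * (k : G)⁻¹, by rw [hconj]; exact hs2,
        h.Qnorm _ (Subgroup.mem_inf.1 k.2).1 s hs⟩
    have hf : Function.Injective f := by
      intro k k' hkk
      have h1 : (k : G) * s * (k : G)⁻¹ = (k' : G) * s * (k' : G)⁻¹ := congrArg Subtype.val hkk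
      have h2 : ((k' : G)⁻¹ * (k : G)) * s * ((k' : G)⁻¹ * (k : G))⁻¹ = s := by
        calc ((k' : G)⁻¹ * (k : G)) * s * ((k' : G)⁻¹ * (k : G))⁻¹
            = (k' : G)⁻¹ * ((k : G) * s * (k : G)⁻¹) * (k' : G) := by group
          _ = s := by rw [h1]; group
      have h3' : (k' : G)⁻¹ * (k : G) = 1 := by
        by_contra hne
        exact hs1 (hKfpf _ (mul_mem (inv_mem k'.2) k.2) hne s hs h2)
      exact Subtype.ext (inv_mul_eq_one.1 h3').symm
    have hbij := hf.bijective_of_nat_card_le (le_of_eq hcardJ)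
    obtain ⟨k, hk⟩ := hbij.2 ⟨t, ht2, ht⟩
    exact ⟨k, k.2, congrArg Subtype.val hk⟩
  -- (viii) the involutions of `Q` are central in `Q`
  have hcentral : ∀ t ∈ Q, orderOf t = 2 → t ∈ Zs Q := by
    intro t ht ht2
    have hQnt : Nontrivial Q := by
      rw [← Finite.one_lt_card_iff_nontrivial]
      omega
    have hcnt : Nontrivial (Subgroup.center Q) := h.two.center_nontrivial
    have hcp : IsPGroup 2 (Subgroup.center Q) := h.two.to_subgroup _
    obtain ⟨r, hr0, hr⟩ := hcp.nontrivial_iff_card.1 hcnt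
    have h2dvd : 2 ∣ Nat.card (Subgroup.center Q) := by
      rw [hr]
      exact dvd_pow_self 2 (by omega)
    obtain ⟨x, hx⟩ := exists_prime_orderOf_dvd_card' (G := Subgroup.center Q) 2 h2dvd
    have hz2 : orderOf (((x : Q) : G)) = 2 := by
      rw [Subgroup.orderOf_coe, Subgroup.orderOf_coe]
      exact hx
    have hzQ : ((x : Q) : G) ∈ Q := (x : Q).2
    have hzc : ∀ v ∈ Q, v * ((x : Q) : G) = ((x : Q) : G) * v := by
      intro v hv
      have := Subgroup.mem_center_iff.1 x.2 ⟨v, hv⟩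
      exact congrArg Subtype.val this
    obtain ⟨k, hk, hkt⟩ := hKtrans _ hzQ t ht hz2 ht2
    rw [mem_Zs]
    refine ⟨ht, fun v hv => ?_⟩
    have hkS : k⁻¹ ∈ stabilizer G a := inv_mem (Subgroup.mem_inf.1 hk).1
    have hv' : k⁻¹ * v * k ∈ Q := by
      have := h.Qnorm k⁻¹ hkS v hv
      rwa [inv_inv] at this
    have h1 := hzc _ hv'
    rw [← hkt]
    calc v * (k * ((x : Q) : G) * k⁻¹) = k * ((k⁻¹ * v * k) * ((x : Q) : G)) * k⁻¹ := by group
      _ = k * (((x : Q) : G) * (k⁻¹ * v * k)) * k⁻¹ := by rw [h1]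
      _ = k * ((x : Q) : G) * k⁻¹ * v := by group
  exact ⟨hdodd, hd3, hinv, hcardJ, h2elt, hKtrans, hcentral⟩

end Cfsg.Agent.Helper41.SzOrd
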