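import Mathlib
import Cfsg.Agent.Helper41.SolGeneric

set_option autoImplicit false
set_option linter.style.haveILetI false

/-!
# Solvability of local subgroups: generic lemmas
-/

namespace Cfsg.Agent.Helper41.SzSol

open Cfsg.Agent.Helper41.Sol

section Generic

variable {G : Type*} [Group G]

/-- the normalizer of a cyclic subgroup with commutative centralizer is solvable -/
theorem isSolvable_normalizer_of_isCyclic (U : Subgroup G) [hU : IsCyclic U]
    (hcomm : ∀ a b : G, a ∈ Subgroup.centralizer (U : Set G) →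
      b ∈ Subgroup.centralizer (U : Set G) → a * b = b * a) :
    Group.IsSolvable ↥(Subgroup.normalizer (U : Set G)) := by
  let φ := U.normalizerMonoidHom
  letI : CommGroup (MulAut U) :=
    (hU.mulAutMulEquiv U).toMonoidHom.commGroupOfInjective (hU.mulAutMulEquiv U).injective
  haveI : Group.IsSolvable (MulAut U) := inferInstance
  haveI : Group.IsSolvable ↥((Subgroup.centralizer (U : Set G)).subgroupOf
      (Subgroup.normalizer (U : Set G))) := by
    apply Group.isSolvable_of_comm
    rintro ⟨a, ha⟩ ⟨b, hb⟩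
    rw [Subgroup.mem_subgroupOf] at ha hb
    apply Subtype.ext
    apply Subtype.ext
    exact hcomm _ _ ha hb
  exact Group.isSolvable_of_ker_le_range
    ((Subgroup.centralizer (U : Set G)).subgroupOf (Subgroup.normalizer (U : Set G))).subtype φ
    (by rw [Subgroup.normalizerMonoidHom_ker, Subgroup.range_subtype])

/-- a group with a normal solvable subgroup and commutative quotient (stated by commutators) -/
theorem isSolvable_of_commutator_mem (B Q : Subgroup G) (hQB : Q ≤ B)
    (hnorm : ∀ b ∈ B, ∀ z ∈ Q, b * z * b⁻¹ ∈ Q) [hQ : Group.IsSolvable ↥Q]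
    (hcomm : ∀ a ∈ B, ∀ b ∈ B, a * b * a⁻¹ * b⁻¹ ∈ Q) : Group.IsSolvable ↥B := by
  set Q' := Q.subgroupOf B with hQ'
  haveI : Q'.Normal := by
    constructor
    intro n hn g
    rw [hQ', Subgroup.mem_subgroupOf] at hn ⊢
    have := hnorm g.1 g.2 n.1 hn
    simpa using this
  haveI : Group.IsSolvable ↥Q' :=
    Group.isSolvable_of_isSolvable_injective (f := (Subgroup.subgroupOfEquivOfLe hQB).toMonoidHom)
      (Subgroup.subgroupOfEquivOfLe hQB).injective
  haveI : Group.IsSolvable (↥B ⧸ Q') := by
    apply Group.isSolvable_of_comm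
    intro a b
    obtain ⟨a, rfl⟩ := QuotientGroup.mk'_surjective Q' a
    obtain ⟨b, rfl⟩ := QuotientGroup.mk'_surjective Q' b
    rw [← map_mul, ← map_mul]
    apply (QuotientGroup.eq).2
    rw [hQ', Subgroup.mem_subgroupOf]
    have h := hcomm a⁻¹.1 a⁻¹.2 b⁻¹.1 b⁻¹.2
    have e : (((a * b)⁻¹ * (b * a) : ↥B) : G) = (a⁻¹.1 * b⁻¹.1 * (a⁻¹.1)⁻¹ * (b⁻¹.1)⁻¹)⁻¹ := by
      simp only [Subgroup.coe_mul, Subgroup.coe_inv]
      group
    rw [e]
    exact Subgroup.inv_mem _ h
  exact Group.isSolvable_of_ker_le_range Q'.subtype (QuotientGroup.mk' Q')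
    (by rw [QuotientGroup.ker_mk', Subgroup.range_subtype])

/-- an element acting on a commutative subgroup without fixed points, whose square centralizes
it, inverts it -/
theorem inverts_of_fixedPointFree (U : Subgroup G) (hU : ∀ a ∈ U, ∀ b ∈ U, a * b = b * a)
    (x : G) (hxU : ∀ u ∈ U, x * u * x⁻¹ ∈ U) (hx2 : ∀ u ∈ U, x * x * u = u * (x * x))
    (hfix : ∀ u ∈ U, x * u = u * x → u = 1) : ∀ u ∈ U, x * u * x⁻¹ = u⁻¹ := by
  intro u hu
  have hv : u * (x * u * x⁻¹) ∈ U := Subgroup.mul_mem _ hu (hxU u hu)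
  have h1 : x * (u * (x * u * x⁻¹)) = (u * (x * u * x⁻¹)) * x := by
    have e1 : x * (u * (x * u * x⁻¹)) = (x * u * x⁻¹) * (x * x * u) * x⁻¹ := by group
    rw [e1, hx2 u hu]
    have e2 : x * u * x⁻¹ * (u * (x * x)) * x⁻¹ = ((x * u * x⁻¹) * u) * x := by group
    rw [e2, hU _ (hxU u hu) _ hu]
  have := hfix _ hv h1
  exact (eq_inv_of_mul_eq_one_right this)

/-- the solubilizer when every proper subgroup containing `x` lies in one solvable subgroup -/
theorem card_sol_eq_card (x : G) (N : Subgroup G) [Group.IsSolvable ↥N] (hx : x ∈ N)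
    (h : ∀ y : G, Group.IsSolvable ↥(Subgroup.closure ({x, y} : Set G)) → y ∈ N) :
    Nat.card {y : G // Group.IsSolvable ↥(Subgroup.closure ({x, y} : Set G))} = Nat.card N := by
  apply Nat.card_congr
  apply Equiv.subtypeEquivRight
  intro y
  constructor
  · exact h y
  · intro hy
    apply isSolvable_of_le (K := N)
    rw [Subgroup.closure_le]
    intro z hz
    simp only [Set.mem_insert_iff, Set.mem_singleton_iff] at hz
    rcases hz with rfl | rfl
    · exact hx
    · exact hy

end Generic

end Cfsg.Agent.Helper41.SzSol
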