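import Mathlib
import Cfsg.Agent.Helper41.SzSolA
import Cfsg.Agent.Helper6.Sub15

set_option autoImplicit false
set_option linter.style.haveILetI false

/-!
# Suzuki groups `Sz(2^n)`, `n` prime: proper subgroups are local and solvable
-/

namespace Cfsg.Agent.Helper41.SzSol

open Cfsg.Agent.Helper41.Sol Cfsg.Agent.Helper6

variable {F : Type*} [Field F] [Fintype F] {m : ℕ}

/-- the standard Sylow `2`-subgroup -/
noncomputable def sylQ (hm : 1 ≤ m) (hF : Fintype.card F = 2 ^ (2 * m + 1)) :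
    Sylow 2 (Cfsg.Sz F m) :=
  haveI : Fact (Nat.Prime 2) := ⟨Nat.prime_two⟩
  haveI : Finite (Cfsg.Sz F m) := inferInstance
  (IsPGroup.of_card (n := 2 * (2 * m + 1))
    (by rw [card_szQ, hF, ← pow_mul, mul_comm] : Nat.card (szQ hm hF) = 2 ^ (2 * (2 * m + 1)))).toSylow
    (szQ_index_odd hm hF)

theorem coe_sylQ (hm : 1 ≤ m) (hF : Fintype.card F = 2 ^ (2 * m + 1)) :
    ((sylQ hm hF : Sylow 2 (Cfsg.Sz F m)) : Subgroup (Cfsg.Sz F m)) = szQ hm hF := rfl

/-- the Borel subgroup is solvable -/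
theorem isSolvable_szB (hm : 1 ≤ m) (hF : Fintype.card F = 2 ^ (2 * m + 1)) :
    Group.IsSolvable ↥(szB F m) := by
  haveI : Fact (Nat.Prime 2) := ⟨Nat.prime_two⟩
  haveI : Finite (Cfsg.Sz F m) := inferInstance
  have hQp : IsPGroup 2 (szQ hm hF) := by
    apply IsPGroup.of_card (n := 2 * (2 * m + 1))
    rw [card_szQ, hF, ← pow_mul, mul_comm]
  haveI : Group.IsNilpotent ↥(szQ hm hF) := hQp.isNilpotent
  haveI : Group.IsSolvable ↥(szQ hm hF) := inferInstance
  have hnorm := normalizer_szQ hm hF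
  apply isSolvable_of_commutator_mem (szB F m) (szQ hm hF) (szQ_le_szB hm hF)
  · intro b hb z hz
    rw [← hnorm] at hb
    exact (Subgroup.mem_normalizer_iff.1 hb z).1 hz
  · intro a ha b hb
    obtain ⟨a₁, a₂, t, rfl⟩ := (mem_szB_iff_exists hm hF a).1 ha
    obtain ⟨b₁, b₂, s, rfl⟩ := (mem_szB_iff_exists hm hF b).1 hb
    -- push everything to the quotient by the normal subgroup `szQ` of `szB`
    have hQn : ∀ g ∈ szB F m, ∀ z ∈ szQ hm hF, g * z * g⁻¹ ∈ szQ hm hF := by
      intro g hg z hz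
      rw [← hnorm] at hg
      exact (Subgroup.mem_normalizer_iff.1 hg z).1 hz
    have hU : ∀ c d : F, sU hF c d ∈ szQ hm hF := fun c d => (mem_szQ_iff hm hF _).2 ⟨c, d, rfl⟩
    -- write the commutator as a product of conjugates of translations
    set A := sU hF a₁ a₂ with hA
    set B' := sU hF b₁ b₂ with hB'
    set T := sD hF t with hT
    set S := sD hF s with hS
    have hTS : T * S = S * T := sD_comm hF t s
    have e : A * T * (B' * S) * (A * T)⁻¹ * (B' * S)⁻¹ =
        A * (T * B' * T⁻¹) * (T * S * T⁻¹ * S⁻¹) * (S * A⁻¹ * S⁻¹) * B'⁻¹ := by group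
    rw [e]
    have hTS' : T * S * T⁻¹ * S⁻¹ = 1 := by rw [hTS]; group
    rw [hTS', mul_one]
    have hTB : T ∈ szB F m := sD_mem_szB hm hF t
    have hSB : S ∈ szB F m := sD_mem_szB hm hF s
    refine Subgroup.mul_mem _ (Subgroup.mul_mem _ (Subgroup.mul_mem _ (hU _ _) ?_) ?_) ?_
    · exact hQn T hTB _ (hU _ _)
    · exact hQn S hSB _ (Subgroup.inv_mem _ (hU _ _))
    · exact Subgroup.inv_mem _ (hU _ _)

/-- every Sylow `2`-normalizer is a conjugate of the Borel subgroup -/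
theorem exists_normalizer_sylow_eq (hm : 1 ≤ m) (hF : Fintype.card F = 2 ^ (2 * m + 1))
    (P : Sylow 2 (Cfsg.Sz F m)) :
    ∃ k : Cfsg.Sz F m, (P : Subgroup (Cfsg.Sz F m)) = conjSub k (szQ hm hF) ∧
      Subgroup.normalizer ((P : Subgroup (Cfsg.Sz F m)) : Set (Cfsg.Sz F m)) =
        conjSub k (szB F m) := by
  haveI : Fact (Nat.Prime 2) := ⟨Nat.prime_two⟩
  haveI : Finite (Cfsg.Sz F m) := inferInstance
  obtain ⟨k, hk⟩ := MulAction.exists_smul_eq (Cfsg.Sz F m) (sylQ hm hF) P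
  have h1 : (P : Subgroup (Cfsg.Sz F m)) = conjSub k (szQ hm hF) := by
    rw [← hk, sylow_smul_eq_conjSub, coe_sylQ]
  refine ⟨k, h1, ?_⟩
  rw [h1]
  ext g
  rw [Subgroup.mem_normalizer_iff, mem_conjSub_iff, ← normalizer_szQ hm hF,
    Subgroup.mem_normalizer_iff]
  constructor
  · intro h z
    have := h (k * z * k⁻¹)
    rw [mem_conjSub_iff, mem_conjSub_iff] at this
    have e1 : k⁻¹ * (k * z * k⁻¹) * k = z := by group
    have e2 : k⁻¹ * (g * (k * z * k⁻¹) * g⁻¹) * k = k⁻¹ * g * k * z * (k⁻¹ * g * k)⁻¹ := by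
      group
    rw [e1, e2] at this
    exact this
  · intro h z
    have := h (k⁻¹ * z * k)
    rw [mem_conjSub_iff, mem_conjSub_iff]
    have e2 : k⁻¹ * g * k * (k⁻¹ * z * k) * (k⁻¹ * g * k)⁻¹ =
        k⁻¹ * (g * z * g⁻¹) * k := by group
    rw [e2] at this
    exact this


/-- Sylow `2`-normalizers are solvable -/
theorem isSolvable_normalizer_sylow (hm : 1 ≤ m) (hF : Fintype.card F = 2 ^ (2 * m + 1))
    (P : Sylow 2 (Cfsg.Sz F m)) :
    Group.IsSolvable ↥(Subgroup.normalizer ((P : Subgroup (Cfsg.Sz F m)) : Set (Cfsg.Sz F m))) := by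
  obtain ⟨k, -, hk⟩ := exists_normalizer_sylow_eq hm hF P
  rw [hk]
  haveI := isSolvable_szB hm hF
  unfold conjSub
  exact Group.isSolvable_of_surjective
    (f := (MulAut.conj k).toMonoidHom.subgroupMap (szB F m))
    (MonoidHom.subgroupMap_surjective _ _)

/-- normalizers of the cyclic tori are solvable -/
theorem isSolvable_normalizer_cent (hm : 1 ≤ m) (hF : Fintype.card F = 2 ^ (2 * m + 1))
    {u : Cfsg.Sz F m} (hu : IsSS hm hF u) :
    Group.IsSolvable ↥(Subgroup.normalizer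
      ((Subgroup.centralizer ({u} : Set (Cfsg.Sz F m)) : Subgroup (Cfsg.Sz F m)) :
        Set (Cfsg.Sz F m))) := by
  haveI := (ss_cent_cyclic hm hF hu).1
  apply isSolvable_normalizer_of_isCyclic
  intro a b ha hb
  have hu' : u ∈ Subgroup.centralizer ({u} : Set (Cfsg.Sz F m)) :=
    Subgroup.mem_centralizer_singleton_iff.2 rfl
  have ha' : a ∈ Subgroup.centralizer ({u} : Set (Cfsg.Sz F m)) := by
    rw [Subgroup.mem_centralizer_singleton_iff]
    exact (Subgroup.mem_centralizer_iff.1 ha u hu').symm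
  have hb' : b ∈ Subgroup.centralizer ({u} : Set (Cfsg.Sz F m)) := by
    rw [Subgroup.mem_centralizer_singleton_iff]
    exact (Subgroup.mem_centralizer_iff.1 hb u hu').symm
  exact ss_cent_comm hm hF hu ha' hb'

/-- the Suzuki group is not solvable -/
theorem not_isSolvable_Sz (hm : 1 ≤ m) (hF : Fintype.card F = 2 ^ (2 * m + 1)) :
    ¬ Group.IsSolvable (Cfsg.Sz F m) := by
  intro hs
  haveI := sz_simple hm hF
  have hcomm := (IsSimpleGroup.comm_iff_isSolvable (G := Cfsg.Sz F m)).2 hs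
  -- a translation of order four does not commute with the Weyl element
  have h1 := hcomm (sU hF 1 0) (sU hF 0 1)
  have h2 : ∀ z : Cfsg.Sz F m, z ∈ szB F m := by
    intro z
    have hz := hcomm z (sU hF 0 1)
    have := centralizer_sU_le hm hF (a := 0) (b := 1) (by simp) z hz
    exact szQ_le_szB hm hF this
  exact szB_ne_top hF (Subgroup.eq_top_iff' _ |>.2 h2)

/-- the pair lemma: two elements generating a proper subgroup lie in a common local subgroup -/
theorem sz_pair_cases (hm : 1 ≤ m) (hF : Fintype.card F = 2 ^ (2 * m + 1))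
    (hp : (2 * m + 1).Prime) (x y : Cfsg.Sz F m)
    (hne : Subgroup.closure ({x, y} : Set (Cfsg.Sz F m)) ≠ ⊤) :
    (∃ P : Sylow 2 (Cfsg.Sz F m),
      x ∈ Subgroup.normalizer ((P : Subgroup (Cfsg.Sz F m)) : Set (Cfsg.Sz F m)) ∧
      y ∈ Subgroup.normalizer ((P : Subgroup (Cfsg.Sz F m)) : Set (Cfsg.Sz F m))) ∨
    (∃ u : Cfsg.Sz F m, IsSS hm hF u ∧
      x ∈ Subgroup.normalizer ((Subgroup.centralizer ({u} : Set (Cfsg.Sz F m)) :
        Subgroup (Cfsg.Sz F m)) : Set (Cfsg.Sz F m)) ∧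
      y ∈ Subgroup.normalizer ((Subgroup.centralizer ({u} : Set (Cfsg.Sz F m)) :
        Subgroup (Cfsg.Sz F m)) : Set (Cfsg.Sz F m))) := by
  haveI : Finite (Cfsg.Sz F m) := inferInstance
  have hx : x ∈ Subgroup.closure ({x, y} : Set (Cfsg.Sz F m)) :=
    Subgroup.subset_closure (by simp)
  have hy : y ∈ Subgroup.closure ({x, y} : Set (Cfsg.Sz F m)) :=
    Subgroup.subset_closure (by simp)
  rcases sub_main hm hF _ hne with ⟨P, hP⟩ | ⟨U, hUc, hUcard, hU⟩ |
    ⟨K, _, _, k, hk1, hkm, hK, hdvd, -⟩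
  · exact Or.inl ⟨P, hP hx, hP hy⟩
  · right
    haveI := hUc
    obtain ⟨g, hg⟩ := IsCyclic.exists_generator (α := U)
    have hq : 8 ≤ 2 ^ (2 * m + 1) := by
      calc 8 = 2 ^ 3 := by norm_num
        _ ≤ 2 ^ (2 * m + 1) := Nat.pow_le_pow_right (by norm_num) (by omega)
    obtain ⟨-, -, -, h5, h5'⟩ := sz_tori_numbers hm hF
    have hcard1 : 1 < Nat.card U := by
      simp only [Set.mem_insert_iff, Set.mem_singleton_iff] at hUcard
      rcases hUcard with h | h | h <;> omega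
    have hodd : ¬ 2 ∣ Nat.card U := by
      simp only [Set.mem_insert_iff, Set.mem_singleton_iff] at hUcard
      have hr : 2 ∣ 2 ^ (m + 1) := dvd_pow_self 2 (by omega)
      have hq2 : 2 ∣ 2 ^ (2 * m + 1) := dvd_pow_self 2 (by omega)
      have hle : 2 ^ (m + 1) ≤ 2 ^ (2 * m + 1) := Nat.pow_le_pow_right (by norm_num) (by omega)
      rcases hUcard with h | h | h <;> rw [h] <;> omega
    have hg1 : (g : Cfsg.Sz F m) ≠ 1 := by
      intro h
      have hg' : g = 1 := Subtype.ext h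
      have : Nat.card U = 1 := by
        rw [Nat.card_eq_one_iff_unique]
        refine ⟨⟨fun a b => ?_⟩, ⟨1⟩⟩
        have ha := hg a
        have hb := hg b
        rw [hg', Subgroup.zpowers_one_eq_bot, Subgroup.mem_bot] at ha hb
        rw [ha, hb]
      omega
    have hss : IsSS hm hF (g : Cfsg.Sz F m) :=
      ⟨hg1, not_conjInto_szQ_of_odd hm hF U hodd g.2⟩
    have hUle : U ≤ Subgroup.centralizer ({(g : Cfsg.Sz F m)} : Set (Cfsg.Sz F m)) := by
      intro z hz
      rw [Subgroup.mem_centralizer_singleton_iff]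
      exact comm_of_isCyclic U hz g.2
    have hself : (g : Cfsg.Sz F m) ∈ Subgroup.centralizer ({(g : Cfsg.Sz F m)} : Set (Cfsg.Sz F m)) :=
      Subgroup.mem_centralizer_singleton_iff.2 rfl
    have hN : ∀ z ∈ Subgroup.normalizer (U : Set (Cfsg.Sz F m)),
        z ∈ Subgroup.normalizer ((Subgroup.centralizer ({(g : Cfsg.Sz F m)} : Set (Cfsg.Sz F m)) :
          Subgroup (Cfsg.Sz F m)) : Set (Cfsg.Sz F m)) := by
      intro z hz
      apply ss_cent_TI hm hF hss z g hself hg1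
      exact hUle ((Subgroup.mem_normalizer_iff.1 hz g).1 g.2)
    exact ⟨g, hss, hN _ (hU hx), hN _ (hU hy)⟩
  · exfalso
    rcases (Nat.dvd_prime hp).1 hdvd with h | h <;> omega

/-- solvable two-generator subgroups are proper -/
theorem closure_ne_top_of_isSolvable (hm : 1 ≤ m) (hF : Fintype.card F = 2 ^ (2 * m + 1))
    (x y : Cfsg.Sz F m)
    (hs : Group.IsSolvable ↥(Subgroup.closure ({x, y} : Set (Cfsg.Sz F m)))) :
    Subgroup.closure ({x, y} : Set (Cfsg.Sz F m)) ≠ ⊤ := by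
  intro htop
  apply not_isSolvable_Sz hm hF
  rw [htop] at hs
  exact Group.isSolvable_of_surjective (f := (Subgroup.topEquiv (G := Cfsg.Sz F m)).toMonoidHom)
    Subgroup.topEquiv.surjective

end Cfsg.Agent.Helper41.SzSol
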