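import Mathlib
import Cfsg.Agent.Helper41.SzSolB

set_option autoImplicit false
set_option linter.style.haveILetI false

/-!
# Suzuki groups: solvable pairs, and the solubilizer of an element without fixed points
-/

namespace Cfsg.Agent.Helper41.SzSol

open Cfsg.Agent.Helper41.Sol Cfsg.Agent.Helper6

variable {F : Type*} [Field F] [Fintype F] {m : ℕ}

/-- the normalizer of a cyclic torus, abbreviated -/
abbrev torN (u : Cfsg.Sz F m) : Subgroup (Cfsg.Sz F m) :=
  Subgroup.normalizer ((Subgroup.centralizer ({u} : Set (Cfsg.Sz F m)) :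
    Subgroup (Cfsg.Sz F m)) : Set (Cfsg.Sz F m))

/-- solvable pairs are the pairs in a common local subgroup -/
theorem sz_sol_iff (hm : 1 ≤ m) (hF : Fintype.card F = 2 ^ (2 * m + 1))
    (hp : (2 * m + 1).Prime) (x y : Cfsg.Sz F m) :
    Group.IsSolvable ↥(Subgroup.closure ({x, y} : Set (Cfsg.Sz F m))) ↔
      (∃ k : Cfsg.Sz F m, x ∈ conjSub k (szB F m) ∧ y ∈ conjSub k (szB F m)) ∨
      (∃ u : Cfsg.Sz F m, IsSS hm hF u ∧ x ∈ torN u ∧ y ∈ torN u) := by
  constructor
  · intro hs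
    rcases sz_pair_cases hm hF hp x y (closure_ne_top_of_isSolvable hm hF x y hs) with
      ⟨P, hx, hy⟩ | ⟨u, hu, hx, hy⟩
    · obtain ⟨k, -, hk⟩ := exists_normalizer_sylow_eq hm hF P
      rw [hk] at hx hy
      exact Or.inl ⟨k, hx, hy⟩
    · exact Or.inr ⟨u, hu, hx, hy⟩
  · rintro (⟨k, hx, hy⟩ | ⟨u, hu, hx, hy⟩)
    · haveI : Group.IsSolvable ↥(conjSub k (szB F m)) := by
        haveI := isSolvable_szB hm hF
        unfold conjSub
        exact Group.isSolvable_of_surjective
          (f := (MulAut.conj k).toMonoidHom.subgroupMap (szB F m))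
          (MonoidHom.subgroupMap_surjective _ _)
      apply isSolvable_of_le (K := conjSub k (szB F m))
      rw [Subgroup.closure_le]
      intro z hz
      simp only [Set.mem_insert_iff, Set.mem_singleton_iff] at hz
      rcases hz with rfl | rfl
      · exact hx
      · exact hy
    · haveI := isSolvable_normalizer_cent hm hF hu
      apply isSolvable_of_le (K := torN u)
      rw [Subgroup.closure_le]
      intro z hz
      simp only [Set.mem_insert_iff, Set.mem_singleton_iff] at hz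
      rcases hz with rfl | rfl
      · exact hx
      · exact hy

/-- an element of a conjugate of the Borel subgroup has order dividing `q² (q - 1)` -/
theorem orderOf_dvd_of_mem_conj_szB (hm : 1 ≤ m) (hF : Fintype.card F = 2 ^ (2 * m + 1))
    {k x : Cfsg.Sz F m} (hx : x ∈ conjSub k (szB F m)) :
    orderOf x ∣ (Fintype.card F) ^ 2 * (Fintype.card F - 1) := by
  have h := orderOf_dvd_natCard (⟨x, hx⟩ : conjSub k (szB F m))
  rw [Subgroup.orderOf_mk, card_conjSub, card_szB hm hF] at h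
  exact h

/-- elements without fixed points lie in no Borel subgroup -/
theorem not_mem_conj_szB_of_isFpf (hm : 1 ≤ m) (hF : Fintype.card F = 2 ^ (2 * m + 1))
    {k x : Cfsg.Sz F m} (hx : IsFpf hm hF x) : x ∉ conjSub k (szB F m) := by
  intro hxB
  have hd := orderOf_dvd_of_mem_conj_szB hm hF hxB
  have h1 : orderOf x ≠ 1 := fun h => hx.1 (orderOf_eq_one_iff.1 h)
  obtain ⟨l, hl, hlx⟩ := Nat.exists_prime_and_dvd h1
  obtain ⟨hl2, hlq⟩ := isFpf_prime_dvd hm hF hx hl hlx
  obtain ⟨-, h3, h4⟩ := prime_dvd_sq_add_one hF hl hlq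
  rcases (Nat.Prime.dvd_mul hl).1 (dvd_trans hlx hd) with h | h
  · exact h4 (hl.dvd_of_dvd_pow h)
  · exact h3 h

/-- an element without fixed points has odd order -/
theorem isFpf_orderOf_odd (hm : 1 ≤ m) (hF : Fintype.card F = 2 ^ (2 * m + 1))
    {x : Cfsg.Sz F m} (hx : IsFpf hm hF x) : ¬ 2 ∣ orderOf x := by
  intro h
  exact (isFpf_prime_dvd hm hF hx Nat.prime_two h).1 rfl

theorem isFpf_isSS (hm : 1 ≤ m) (hF : Fintype.card F = 2 ^ (2 * m + 1))
    {x : Cfsg.Sz F m} (hx : IsFpf hm hF x) : IsSS hm hF x := ⟨hx.1, hx.2.1⟩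

/-- the solubilizer of an element without fixed points is the normalizer of its torus -/
theorem card_sol_fpf_eq (hm : 1 ≤ m) (hF : Fintype.card F = 2 ^ (2 * m + 1))
    (hp : (2 * m + 1).Prime) {x : Cfsg.Sz F m} (hx : IsFpf hm hF x) :
    Nat.card {y : Cfsg.Sz F m //
      Group.IsSolvable ↥(Subgroup.closure ({x, y} : Set (Cfsg.Sz F m)))} =
      Nat.card (torN x) := by
  haveI := isSolvable_normalizer_cent hm hF (isFpf_isSS hm hF hx)
  apply card_sol_eq_card x (torN x)
  · exact Subgroup.le_normalizer (Subgroup.mem_centralizer_singleton_iff.2 rfl)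
  · intro y hy
    rcases (sz_sol_iff hm hF hp x y).1 hy with ⟨k, hxk, -⟩ | ⟨u, hu, hxu, hyu⟩
    · exact absurd hxk (not_mem_conj_szB_of_isFpf hm hF hx)
    · have hxc := ss_mem_cent_of_odd hm hF hu hxu (isFpf_orderOf_odd hm hF hx)
      have he := ss_cent_eq hm hF hu hxc hx.1
      show y ∈ Subgroup.normalizer _
      rw [he]
      exact hyu

/-- the normalizer of the torus of an element without fixed points -/
theorem card_torN_fpf (hm : 1 ≤ m) (hF : Fintype.card F = 2 ^ (2 * m + 1))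
    {x : Cfsg.Sz F m} (hx : IsFpf hm hF x) :
    Nat.card (torN x) = 4 * Nat.card (Subgroup.centralizer ({x} : Set (Cfsg.Sz F m))) := by
  obtain ⟨p₁, p₂, x₁, x₂, hp₁, hq₁, hx₁, hp₂, hq₂, hx₂, -, -, hN₁, hN₂, hcover, -⟩ :=
    sz_tori hm hF
  -- transport along a conjugation
  have key : ∀ (p : ℕ) (z : Cfsg.Sz F m), p.Prime → p ∣ (Fintype.card F) ^ 2 + 1 →
      orderOf z = p → Nat.card (torN z) =
        4 * Nat.card (Subgroup.centralizer ({z} : Set (Cfsg.Sz F m))) →
      ConjInto (Subgroup.centralizer ({z} : Set (Cfsg.Sz F m))) x →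
      Nat.card (torN x) = 4 * Nat.card (Subgroup.centralizer ({x} : Set (Cfsg.Sz F m))) := by
    intro p z hp hq hz hN ⟨hx1, k, hk⟩
    have hne : k * x * k⁻¹ ≠ 1 := by rw [Ne, conj_eq_one_iff]; exact hx1
    have hc : Subgroup.centralizer ({k * x * k⁻¹} : Set (Cfsg.Sz F m)) =
        Subgroup.centralizer ({z} : Set (Cfsg.Sz F m)) := cent_eq hm hF hp hq hz hk hne
    rw [← card_centralizer_conj k x, hc, ← hN]
    -- the normalizers are conjugate
    have hcc : ∀ g : Cfsg.Sz F m, g ∈ Subgroup.centralizer ({x} : Set (Cfsg.Sz F m)) ↔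
        k * g * k⁻¹ ∈ Subgroup.centralizer ({z} : Set (Cfsg.Sz F m)) := by
      intro g
      rw [← hc, Subgroup.mem_centralizer_singleton_iff, Subgroup.mem_centralizer_singleton_iff]
      constructor
      · intro h
        calc k * g * k⁻¹ * (k * x * k⁻¹) = k * (g * x) * k⁻¹ := by group
          _ = k * (x * g) * k⁻¹ := by rw [h]
          _ = _ := by group
      · intro h
        calc g * x = k⁻¹ * (k * g * k⁻¹ * (k * x * k⁻¹)) * k := by group
          _ = k⁻¹ * ((k * x * k⁻¹) * (k * g * k⁻¹)) * k := by rw [h]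
          _ = _ := by group
    apply Nat.card_congr
    refine ⟨fun g => ⟨k * g.1 * k⁻¹, ?_⟩, fun g => ⟨k⁻¹ * g.1 * k, ?_⟩, ?_, ?_⟩
    · have hg := g.2
      rw [Subgroup.mem_normalizer_iff] at hg ⊢
      intro h
      have := hg (k⁻¹ * h * k)
      rw [hcc, hcc] at this
      have e1 : k * (k⁻¹ * h * k) * k⁻¹ = h := by group
      have e2 : k * (g.1 * (k⁻¹ * h * k) * g.1⁻¹) * k⁻¹ = k * g.1 * k⁻¹ * h * (k * g.1 * k⁻¹)⁻¹ := by
        group
      rw [e1, e2] at this
      exact this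
    · have hg := g.2
      rw [Subgroup.mem_normalizer_iff] at hg ⊢
      intro h
      have := hg (k * h * k⁻¹)
      rw [hcc, hcc]
      have e2 : k * (k⁻¹ * g.1 * k * h * (k⁻¹ * g.1 * k)⁻¹) * k⁻¹ =
          g.1 * (k * h * k⁻¹) * g.1⁻¹ := by group
      rw [e2]
      exact this
    · intro g
      apply Subtype.ext
      show k⁻¹ * (k * g.1 * k⁻¹) * k = g.1
      group
    · intro g
      apply Subtype.ext
      show k * (k⁻¹ * g.1 * k) * k⁻¹ = g.1
      group
  rcases hcover x hx with h | h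
  · exact key p₁ x₁ hp₁ hq₁ hx₁ hN₁ h
  · exact key p₂ x₂ hp₂ hq₂ hx₂ hN₂ h

/-- the solubilizer of a non-identity element of order dividing `q ± r + 1` -/
theorem card_sol_fpf (hm : 1 ≤ m) (hF : Fintype.card F = 2 ^ (2 * m + 1))
    (hp : (2 * m + 1).Prime) {x : Cfsg.Sz F m} (hx1 : x ≠ 1) (n : ℕ)
    (hn : n = 2 ^ (2 * m + 1) + 2 ^ (m + 1) + 1 ∨ n = 2 ^ (2 * m + 1) - 2 ^ (m + 1) + 1)
    (hxn : orderOf x ∣ n) :
    Nat.card {y : Cfsg.Sz F m //
      Group.IsSolvable ↥(Subgroup.closure ({x, y} : Set (Cfsg.Sz F m)))} = 4 * n := by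
  haveI : Finite (Cfsg.Sz F m) := inferInstance
  obtain ⟨hd1, hd2, hcop, h5, h5'⟩ := sz_tori_numbers hm hF
  have hnq : n ∣ (Fintype.card F) ^ 2 + 1 := by
    rcases hn with rfl | rfl
    · exact hd1
    · exact hd2
  have hzc : Nat.card (Subgroup.zpowers x) = orderOf x := Nat.card_zpowers x
  have hodd : ¬ 2 ∣ orderOf x := by
    intro h
    have h2 : 2 ∣ (Fintype.card F) ^ 2 + 1 := dvd_trans h (dvd_trans hxn hnq)
    exact (prime_dvd_sq_add_one hF Nat.prime_two h2).1 rfl
  have hfpf : IsFpf hm hF x := by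
    refine ⟨hx1, ?_, ?_⟩
    · exact not_conjInto_szQ_of_odd hm hF (Subgroup.zpowers x) (by rw [hzc]; exact hodd)
        (Subgroup.mem_zpowers x)
    · exact not_conjInto_szK_of_card hF (Subgroup.zpowers x)
        (by rw [hzc]; exact dvd_trans hxn hnq) (Subgroup.mem_zpowers x)
  rw [card_sol_fpf_eq hm hF hp hfpf, card_torN_fpf hm hF hfpf]
  congr 1
  obtain ⟨-, hc⟩ := isFpf_cent hm hF hfpf
  have hxc : orderOf x ∣ Nat.card (Subgroup.centralizer ({x} : Set (Cfsg.Sz F m))) := by
    have := orderOf_dvd_natCard (⟨x, Subgroup.mem_centralizer_singleton_iff.2 rfl⟩ :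
      Subgroup.centralizer ({x} : Set (Cfsg.Sz F m)))
    rwa [Subgroup.orderOf_mk] at this
  have hne1 : orderOf x ≠ 1 := fun h => hx1 (orderOf_eq_one_iff.1 h)
  have hself : ∀ a b : ℕ, Nat.Coprime a b → orderOf x ∣ a → orderOf x ∣ b → False := by
    intro a b hab ha hb
    have := Nat.dvd_gcd ha hb
    rw [hab.gcd_eq_one] at this
    exact hne1 (Nat.dvd_one.1 this)
  rcases hn with rfl | rfl <;> rcases hc with hc | hc
  · exact hc
  · exfalso; rw [hc] at hxc; exact hself _ _ hcop hxn hxc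
  · exfalso; rw [hc] at hxc; exact hself _ _ hcop hxc hxn
  · exact hc

end Cfsg.Agent.Helper41.SzSol
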