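import Mathlib
import Cfsg.Agent.Helper41.SzSolC

set_option autoImplicit false
set_option linter.style.haveILetI false

/-!
# Suzuki groups: the solubilizer of an element with two fixed points
-/

namespace Cfsg.Agent.Helper41.SzSol

open Cfsg.Agent.Helper41.Sol Cfsg.Agent.Helper6

variable {F : Type*} [Field F] [Fintype F] {m : ℕ}

/-- the conjugates of the Borel subgroup are the point stabilizers -/
theorem mem_conj_szB_iff (k y : Cfsg.Sz F m) :
    y ∈ conjSub k (szB F m) ↔ y • (k • ovPt F m none) = k • ovPt F m none := by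
  rw [mem_conjSub_iff, mem_szB_iff', mul_smul, mul_smul, inv_smul_eq_iff]

/-- membership in the torus by the two fixed points -/
theorem mem_szK_iff_fix (hm : 1 ≤ m) (hF : Fintype.card F = 2 ^ (2 * m + 1)) (y : Cfsg.Sz F m) :
    y ∈ szK hF ↔ y • ovPt F m none = ovPt F m none ∧
      y • ovPt F m (some (0, 0)) = ovPt F m (some (0, 0)) := by
  constructor
  · rintro ⟨s, rfl⟩
    refine ⟨sD_smul_none hF s, ?_⟩
    rw [sD_smul_some, mul_zero, mul_zero]
  · rintro ⟨h1, h2⟩
    obtain ⟨s, hs⟩ := two_point_stab hm hF y.2 h1 h2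
    exact ⟨s, Subtype.ext hs⟩

/-- the centralizer of a non-trivial torus element -/
theorem centralizer_sD (hm : 1 ≤ m) (hF : Fintype.card F = 2 ^ (2 * m + 1)) {t : Fˣ}
    (ht : t ≠ 1) : Subgroup.centralizer ({sD hF t} : Set (Cfsg.Sz F m)) = szK hF := by
  ext z
  rw [Subgroup.mem_centralizer_singleton_iff]
  constructor
  · intro h
    exact centralizer_sD_le hm hF ht z h
  · rintro ⟨s, rfl⟩
    exact sD_comm hF s t

/-- the order of a torus element is odd -/
theorem orderOf_sD_odd (hF : Fintype.card F = 2 ^ (2 * m + 1)) (t : Fˣ) :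
    ¬ 2 ∣ orderOf (sD hF t) := by
  intro h
  have h1 : sD hF t ^ (Fintype.card F - 1) = 1 := by
    classical
    rw [← sD_pow, ← Fintype.card_units, pow_card_eq_one, sD_one]
  have h2 := orderOf_dvd_of_pow_eq_one h1
  exact card_F_sub_one_odd hF (dvd_trans h h2)

/-- the solubilizer of a non-trivial torus element, as a set -/
theorem sz_sol_sD_iff (hm : 1 ≤ m) (hF : Fintype.card F = 2 ^ (2 * m + 1))
    (hp : (2 * m + 1).Prime) {t : Fˣ} (ht : t ≠ 1) (y : Cfsg.Sz F m) :
    Group.IsSolvable ↥(Subgroup.closure ({sD hF t, y} : Set (Cfsg.Sz F m))) ↔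
      (y • ovPt F m none = ovPt F m none ∨
        y • ovPt F m (some (0, 0)) = ovPt F m (some (0, 0))) ∨ sW hF * y ∈ szK hF := by
  have hss : IsSS hm hF (sD hF t) := by
    have h1 : sD hF t ≠ 1 := by
      intro h
      apply ht
      apply sD_inj hF
      rw [h, sD_one]
    refine ⟨h1, ?_⟩
    intro hQ
    have h4 := orderOf_dvd_of_pow_eq_one (conjInto_szQ_pow_four hm hF hQ)
    have hodd := orderOf_sD_odd hF t
    have hcop : Nat.Coprime 4 (orderOf (sD hF t)) := by
      have : Nat.Coprime 2 (orderOf (sD hF t)) :=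
        (Nat.Prime.coprime_iff_not_dvd Nat.prime_two).2 hodd
      exact Nat.Coprime.pow_left 2 this
    have h5 : orderOf (sD hF t) ∣ 1 := by
      have := Nat.dvd_gcd h4 (dvd_refl _)
      rwa [hcop.gcd_eq_one] at this
    exact h1 (orderOf_eq_one_iff.1 (Nat.dvd_one.1 h5))
  have hself : sD hF t ∈ torN (sD hF t) :=
    Subgroup.le_normalizer (Subgroup.mem_centralizer_singleton_iff.2 rfl)
  have hfix0 : sD hF t • ovPt F m (some ((0 : F), (0 : F))) = ovPt F m (some (0, 0)) := by
    rw [sD_smul_some, mul_zero, mul_zero]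
  rw [sz_sol_iff hm hF hp]
  constructor
  · rintro (⟨k, hxk, hyk⟩ | ⟨u, hu, hxu, hyu⟩)
    · left
      rw [mem_conj_szB_iff] at hxk hyk
      obtain ⟨o, ho⟩ := exists_smul_eq_ovPt k none
      rw [ho] at hxk hyk
      rcases sD_fix_imp hF ht o hxk with rfl | rfl
      · exact Or.inl hyk
      · exact Or.inr hyk
    · have hxc := ss_mem_cent_of_odd hm hF hu hxu (orderOf_sD_odd hF t)
      have he := ss_cent_eq hm hF hu hxc hss.1
      have hy' : y ∈ torN (sD hF t) := by
        show y ∈ Subgroup.normalizer _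
        rw [he]
        exact hyu
      have hy'' : y ∈ Subgroup.normalizer ((szK hF : Subgroup (Cfsg.Sz F m)) :
          Set (Cfsg.Sz F m)) := by
        rw [← centralizer_sD hm hF ht]
        exact hy'
      rcases (mem_normalizer_szK_iff hm hF y).1 hy'' with h | h
      · left
        left
        exact ((mem_szK_iff_fix hm hF y).1 h).1
      · right
        exact h
  · rintro ((h | h) | h)
    · left
      refine ⟨1, ?_, ?_⟩
      · rw [mem_conj_szB_iff, one_smul]
        exact sD_smul_none hF t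
      · rw [mem_conj_szB_iff, one_smul]
        exact h
    · left
      refine ⟨sW hF, ?_, ?_⟩
      · rw [mem_conj_szB_iff, sW_smul_none]
        exact hfix0
      · rw [mem_conj_szB_iff, sW_smul_none]
        exact h
    · right
      refine ⟨sD hF t, hss, hself, ?_⟩
      show y ∈ Subgroup.normalizer _
      rw [centralizer_sD hm hF ht]
      exact (mem_normalizer_szK_iff hm hF y).2 (Or.inr h)

/-- the solubilizer of a non-trivial torus element -/
theorem card_sol_sD (hm : 1 ≤ m) (hF : Fintype.card F = 2 ^ (2 * m + 1))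
    (hp : (2 * m + 1).Prime) {t : Fˣ} (ht : t ≠ 1) :
    Nat.card {y : Cfsg.Sz F m //
      Group.IsSolvable ↥(Subgroup.closure ({sD hF t, y} : Set (Cfsg.Sz F m)))} =
      2 * (Fintype.card F) ^ 2 * (Fintype.card F - 1) := by
  haveI : Finite (Cfsg.Sz F m) := inferInstance
  set P₁ : Cfsg.Sz F m → Prop := fun y => y • ovPt F m none = ovPt F m none with hP₁
  set P₂ : Cfsg.Sz F m → Prop :=
    fun y => y • ovPt F m (some ((0 : F), (0 : F))) = ovPt F m (some (0, 0)) with hP₂
  set P₃ : Cfsg.Sz F m → Prop := fun y => sW hF * y ∈ szK hF with hP₃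
  have hcongr : Nat.card {y : Cfsg.Sz F m //
      Group.IsSolvable ↥(Subgroup.closure ({sD hF t, y} : Set (Cfsg.Sz F m)))} =
      Nat.card {y : Cfsg.Sz F m // (P₁ y ∨ P₂ y) ∨ P₃ y} :=
    Nat.card_congr (Equiv.subtypeEquivRight (fun y => sz_sol_sD_iff hm hF hp ht y))
  rw [hcongr]
  -- the third set is disjoint from the first two
  have h3 : ∀ y, P₃ y → ¬ (P₁ y ∨ P₂ y) := by
    rintro y ⟨s, hs⟩
    have hy : y = sW hF * sD hF s := by
      rw [← hs, ← mul_assoc, sW_mul_self, one_mul]
    rintro (h | h)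
    · have h' : y • ovPt F m none = ovPt F m none := h
      rw [hy, mul_smul, sD_smul_none, sW_smul_none] at h'
      exact (Option.some_ne_none _) (ovPt_injective h')
    · have h' : y • ovPt F m (some ((0 : F), (0 : F))) = ovPt F m (some (0, 0)) := h
      rw [hy, mul_smul, sD_smul_some, mul_zero, mul_zero, sW_smul_zero] at h'
      exact (Option.some_ne_none _) (ovPt_injective h').symm
  have e1 := card_subtype_add_eq (fun y => P₁ y ∨ P₂ y) P₃ (fun y => (P₁ y ∨ P₂ y) ∨ P₃ y)
    (fun y h => Or.inl h) (fun y h => Or.inr h) (fun y h h' => h3 y h' h) (fun y h => h)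
  have e2 := card_subtype_add_eq P₁ (fun y => P₂ y ∧ ¬ P₁ y) (fun y => P₁ y ∨ P₂ y)
    (fun y h => Or.inl h) (fun y h => Or.inr h.1) (fun y h h' => h'.2 h)
    (fun y h => by
      by_cases h1 : P₁ y
      · exact Or.inl h1
      · exact Or.inr ⟨h.resolve_left h1, h1⟩)
  have e3 := card_subtype_add_eq (fun y => P₂ y ∧ P₁ y) (fun y => P₂ y ∧ ¬ P₁ y) P₂
    (fun y h => h.1) (fun y h => h.1) (fun y h h' => h'.2 h.2)
    (fun y h => by
      by_cases h1 : P₁ y
      · exact Or.inl ⟨h, h1⟩
      · exact Or.inr ⟨h, h1⟩)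
  -- the four cardinalities
  have c1 : Nat.card {y // P₁ y} = (Fintype.card F) ^ 2 * (Fintype.card F - 1) := by
    rw [← card_szB hm hF]
    rfl
  have c2 : Nat.card {y // P₂ y} = (Fintype.card F) ^ 2 * (Fintype.card F - 1) := by
    rw [← card_szB hm hF, ← card_conjSub (sW hF) (szB F m)]
    apply Nat.card_congr
    apply Equiv.subtypeEquivRight
    intro y
    rw [mem_conj_szB_iff, sW_smul_none]
  have c12 : Nat.card {y // P₂ y ∧ P₁ y} = Fintype.card F - 1 := by
    rw [← card_szK hF]
    apply Nat.card_congr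
    apply Equiv.subtypeEquivRight
    intro y
    rw [mem_szK_iff_fix hm hF]
    exact And.comm
  have c3 : Nat.card {y // P₃ y} = Fintype.card F - 1 := by
    rw [← card_szK hF]
    apply Nat.card_congr
    refine ⟨fun y => ⟨sW hF * y.1, y.2⟩, fun z => ⟨sW hF * z.1, ?_⟩, ?_, ?_⟩
    · show sW hF * (sW hF * z.1) ∈ szK hF
      rw [← mul_assoc, sW_mul_self, one_mul]
      exact z.2
    · intro y
      apply Subtype.ext
      show sW hF * (sW hF * y.1) = y.1
      rw [← mul_assoc, sW_mul_self, one_mul]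
    · intro z
      apply Subtype.ext
      show sW hF * (sW hF * z.1) = z.1
      rw [← mul_assoc, sW_mul_self, one_mul]
  rw [← e1, ← e2, c1, c3]
  rw [c12, c2] at e3
  have hq : 1 ≤ Fintype.card F := Fintype.card_pos
  have hle : Fintype.card F - 1 ≤ (Fintype.card F) ^ 2 * (Fintype.card F - 1) :=
    Nat.le_mul_of_pos_left _ (by positivity)
  have e4 : 2 * (Fintype.card F) ^ 2 * (Fintype.card F - 1) =
      (Fintype.card F) ^ 2 * (Fintype.card F - 1) + (Fintype.card F) ^ 2 * (Fintype.card F - 1) := by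
    ring
  omega

/-- the solubilizer of a non-identity element of order dividing `q - 1` -/
theorem card_sol_split (hm : 1 ≤ m) (hF : Fintype.card F = 2 ^ (2 * m + 1))
    (hp : (2 * m + 1).Prime) {x : Cfsg.Sz F m} (hx1 : x ≠ 1)
    (hx : orderOf x ∣ Fintype.card F - 1) :
    Nat.card {y : Cfsg.Sz F m //
      Group.IsSolvable ↥(Subgroup.closure ({x, y} : Set (Cfsg.Sz F m)))} =
      2 * (Fintype.card F) ^ 2 * (Fintype.card F - 1) := by
  haveI : Finite (Cfsg.Sz F m) := inferInstance
  have hzc : Nat.card (Subgroup.zpowers x) = orderOf x := Nat.card_zpowers x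
  have hodd : ¬ 2 ∣ orderOf x := fun h => card_F_sub_one_odd hF (dvd_trans h hx)
  have hss : IsSS hm hF x :=
    ⟨hx1, not_conjInto_szQ_of_odd hm hF (Subgroup.zpowers x) (by rw [hzc]; exact hodd)
      (Subgroup.mem_zpowers x)⟩
  have hK : ConjInto (szK hF) x := by
    rcases isSS_cases hm hF hss with h | h
    · exact h
    · exfalso
      have h1 : orderOf x ≠ 1 := fun h' => hx1 (orderOf_eq_one_iff.1 h')
      obtain ⟨l, hl, hlx⟩ := Nat.exists_prime_and_dvd h1
      obtain ⟨-, hlq⟩ := isFpf_prime_dvd hm hF h hl hlx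
      exact (prime_dvd_sq_add_one hF hl hlq).2.1 (dvd_trans hlx hx)
  obtain ⟨-, k, s, hs⟩ := hK
  have hs1 : s ≠ 1 := by
    rintro rfl
    rw [sD_one] at hs
    exact hx1 (conj_eq_one_iff.1 hs)
  rw [card_sol_congr (MulAut.conj k) x, MulAut.conj_apply, hs]
  exact card_sol_sD hm hF hp hs1

end Cfsg.Agent.Helper41.SzSol
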