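import Mathlib
import Cfsg.Agent.Helper41.SzSolD

set_option autoImplicit false
set_option linter.style.haveILetI false

/-!
# Suzuki groups: the structure of the normalizer of a cyclic torus without fixed points
-/

namespace Cfsg.Agent.Helper41.SzSol

open Cfsg.Agent.Helper41.Sol Cfsg.Agent.Helper6

variable {F : Type*} [Field F] [Fintype F] {m : ℕ}

/-- the centralizer of an element, abbreviated -/
abbrev cen (u : Cfsg.Sz F m) : Subgroup (Cfsg.Sz F m) :=
  Subgroup.centralizer ({u} : Set (Cfsg.Sz F m))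

theorem self_mem_cen (u : Cfsg.Sz F m) : u ∈ cen u :=
  Subgroup.mem_centralizer_singleton_iff.2 rfl

theorem cen_le_torN (u : Cfsg.Sz F m) : cen u ≤ torN u := Subgroup.le_normalizer

section torus

variable (hm : 1 ≤ m) (hF : Fintype.card F = 2 ^ (2 * m + 1)) {u : Cfsg.Sz F m}

/-- non-identity elements of the torus have no fixed points -/
theorem fpf_of_mem_cen (hu : IsFpf hm hF u) {v : Cfsg.Sz F m} (hv : v ∈ cen u) (hv1 : v ≠ 1) :
    IsFpf hm hF v := by
  obtain ⟨l, x, hl, hlq, hx, hux⟩ := isFpf_exists_singer hm hF hu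
  have he : cen u = cen x := cent_eq hm hF hl hlq hx hux hu.1
  rw [he] at hv
  exact cent_isFpf hm hF hl hlq hx hv hv1

theorem cen_eq_of_mem (hu : IsFpf hm hF u) {v : Cfsg.Sz F m} (hv : v ∈ cen u) (hv1 : v ≠ 1) :
    cen v = cen u :=
  ss_cent_eq hm hF (isFpf_isSS hm hF hu) hv hv1

theorem cen_comm (hu : IsFpf hm hF u) {a b : Cfsg.Sz F m} (ha : a ∈ cen u) (hb : b ∈ cen u) :
    a * b = b * a :=
  ss_cent_comm hm hF (isFpf_isSS hm hF hu) ha hb

/-- the torus has odd order -/
theorem card_cen_odd (hu : IsFpf hm hF u) : ¬ 2 ∣ Nat.card (cen u) := by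
  obtain ⟨-, hc⟩ := isFpf_cent hm hF hu
  have hr : 2 ∣ 2 ^ (m + 1) := dvd_pow_self 2 (by omega)
  have hq2 : 2 ∣ 2 ^ (2 * m + 1) := dvd_pow_self 2 (by omega)
  have hle : 2 ^ (m + 1) ≤ 2 ^ (2 * m + 1) := Nat.pow_le_pow_right (by norm_num) (by omega)
  rcases hc with h | h <;> rw [h] <;> omega

theorem orderOf_odd_of_mem_cen (hu : IsFpf hm hF u) {v : Cfsg.Sz F m} (hv : v ∈ cen u) :
    ¬ 2 ∣ orderOf v := by
  intro h
  apply card_cen_odd hm hF hu
  have h2 := orderOf_dvd_natCard (⟨v, hv⟩ : cen u)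
  rw [Subgroup.orderOf_mk] at h2
  exact dvd_trans h h2

/-- `2`-elements of the torus are trivial -/
theorem eq_one_of_pow_four_cen (hu : IsFpf hm hF u) {v : Cfsg.Sz F m} (hv : v ∈ cen u)
    (h : v ^ 4 = 1) : v = 1 := by
  have h1 := orderOf_dvd_of_pow_eq_one h
  have hodd := orderOf_odd_of_mem_cen hm hF hu hv
  have hcop : Nat.Coprime 4 (orderOf v) := by
    have : Nat.Coprime 2 (orderOf v) := (Nat.Prime.coprime_iff_not_dvd Nat.prime_two).2 hodd
    exact Nat.Coprime.pow_left 2 this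
  have h5 : orderOf v ∣ 1 := by
    have := Nat.dvd_gcd h1 (dvd_refl _)
    rwa [hcop.gcd_eq_one] at this
  exact orderOf_eq_one_iff.1 (Nat.dvd_one.1 h5)

theorem eq_one_of_sq_cen (hu : IsFpf hm hF u) {v : Cfsg.Sz F m} (hv : v ∈ cen u)
    (h : v * v = 1) : v = 1 := by
  apply eq_one_of_pow_four_cen hm hF hu hv
  have : v ^ 4 = (v * v) * (v * v) := by
    simp only [pow_succ, pow_zero, one_mul, mul_assoc]
  rw [this, h, one_mul]

/-- square roots in the torus -/
theorem exists_sqrt_cen (hu : IsFpf hm hF u) {v : Cfsg.Sz F m} (hv : v ∈ cen u) :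
    ∃ w ∈ cen u, w * w = v := by
  have hodd := orderOf_odd_of_mem_cen hm hF hu hv
  obtain ⟨k, hk⟩ : ∃ k, orderOf v + 1 = 2 * k := by
    have : orderOf v % 2 = 1 := by omega
    exact ⟨(orderOf v + 1) / 2, by omega⟩
  refine ⟨v ^ k, Subgroup.pow_mem _ hv k, ?_⟩
  rw [← pow_add, ← two_mul, ← hk, pow_succ, pow_orderOf_eq_one, one_mul]

/-- an element commuting with a non-identity element of the torus lies in the torus -/
theorem mem_cen_of_commute (hu : IsFpf hm hF u) {g v : Cfsg.Sz F m} (hv : v ∈ cen u)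
    (hv1 : v ≠ 1) (hg : g * v = v * g) : g ∈ cen u := by
  rw [← cen_eq_of_mem hm hF hu hv hv1]
  exact Subgroup.mem_centralizer_singleton_iff.2 hg

/-- elements of the normalizer outside the torus have order dividing four -/
theorem pow_four_eq_one_of_not_mem (hu : IsFpf hm hF u) {g : Cfsg.Sz F m} (hg : g ∈ torN u)
    (hgU : g ∉ cen u) : g ^ 4 = 1 := by
  by_contra h
  apply hgU
  have h4 : g ^ 4 ∈ cen u := ss_normalizer_pow_four hm hF (isFpf_isSS hm hF hu) hg
  apply mem_cen_of_commute hm hF hu h4 h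
  exact (pow_mul_comm' g 4).symm

theorem sq_eq_one_of_sq_mem (hu : IsFpf hm hF u) {g : Cfsg.Sz F m}
    (hgU : g ∉ cen u) (h2 : g * g ∈ cen u) : g * g = 1 := by
  by_contra h
  apply hgU
  apply mem_cen_of_commute hm hF hu h2 h
  group

/-- involutions of the normalizer invert the torus -/
theorem inverts_cen (hu : IsFpf hm hF u) {t : Cfsg.Sz F m} (ht : t ∈ torN u) (ht2 : t * t = 1)
    (ht1 : t ≠ 1) : ∀ v ∈ cen u, t * v * t⁻¹ = v⁻¹ := by
  have htU : t ∉ cen u := fun h => ht1 (eq_one_of_sq_cen hm hF hu h ht2)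
  apply inverts_of_fixedPointFree (cen u) (fun a ha b hb => cen_comm hm hF hu ha hb) t
  · intro v hv
    exact (Subgroup.mem_normalizer_iff.1 ht v).1 hv
  · intro v _
    rw [ht2, one_mul, mul_one]
  · intro v hv hc
    by_contra hv1
    exact htU (mem_cen_of_commute hm hF hu hv hv1 hc)

/-- the product of two involutions of the normalizer lies in the torus -/
theorem invol_mul_mem_cen (hu : IsFpf hm hF u) {t t' : Cfsg.Sz F m} (ht : t ∈ torN u)
    (ht2 : t * t = 1) (ht1 : t ≠ 1) (ht' : t' ∈ torN u) (ht2' : t' * t' = 1) (ht1' : t' ≠ 1) :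
    t * t' ∈ cen u := by
  rw [Subgroup.mem_centralizer_singleton_iff]
  have h1 := inverts_cen hm hF hu ht ht2 ht1 u⁻¹ (Subgroup.inv_mem _ (self_mem_cen u))
  have h2 := inverts_cen hm hF hu ht' ht2' ht1' u (self_mem_cen u)
  rw [inv_inv] at h1
  have e : t * t' * u = t * (t' * u * t'⁻¹) * t⁻¹ * (t * t') := by group
  rw [e, h2, h1]

/-- an involution times an element of the torus is an involution -/
theorem invol_mul_sq (hu : IsFpf hm hF u) {t : Cfsg.Sz F m} (ht : t ∈ torN u)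
    (ht2 : t * t = 1) (ht1 : t ≠ 1) {v : Cfsg.Sz F m} (hv : v ∈ cen u) :
    (t * v) * (t * v) = 1 := by
  have h1 := inverts_cen hm hF hu ht ht2 ht1 v hv
  have hti : t⁻¹ = t := inv_eq_of_mul_eq_one_left ht2
  rw [hti] at h1
  calc t * v * (t * v) = (t * v * t) * v := by group
    _ = 1 := by rw [h1, inv_mul_cancel]

/-- the normalizer contains an involution -/
theorem exists_invol (hu : IsFpf hm hF u) : ∃ t ∈ torN u, t * t = 1 ∧ t ≠ 1 := by
  haveI : Finite (Cfsg.Sz F m) := inferInstance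
  haveI : Fact (Nat.Prime 2) := ⟨Nat.prime_two⟩
  have hd : 2 ∣ Nat.card (torN u) := by
    rw [card_torN_fpf hm hF hu]
    exact ⟨2 * Nat.card (cen u), by ring⟩
  obtain ⟨t, ht⟩ := exists_prime_orderOf_dvd_card' 2 hd
  refine ⟨t.1, t.2, ?_, ?_⟩
  · have h1 : t ^ 2 = 1 := by rw [← ht]; exact pow_orderOf_eq_one t
    have h2 : (t : Cfsg.Sz F m) ^ 2 = 1 := by
      have := congrArg Subtype.val h1
      simpa using this
    rw [← pow_two]
    exact h2
  · intro h
    have : t = 1 := Subtype.ext h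
    rw [this, orderOf_one] at ht
    norm_num at ht

/-- the number of involutions of the normalizer -/
theorem card_invol (hu : IsFpf hm hF u) :
    Nat.card {g : Cfsg.Sz F m // g ∈ torN u ∧ g * g = 1 ∧ g ≠ 1} = Nat.card (cen u) := by
  obtain ⟨t, ht, ht2, ht1⟩ := exists_invol hm hF hu
  have htU : t ∉ cen u := fun h => ht1 (eq_one_of_sq_cen hm hF hu h ht2)
  have hti : t⁻¹ = t := inv_eq_of_mul_eq_one_left ht2
  symm
  apply Nat.card_congr
  refine ⟨fun v => ⟨t * v.1, ?_, ?_, ?_⟩, fun g => ⟨t * g.1, ?_⟩, ?_, ?_⟩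
  · exact Subgroup.mul_mem _ ht (cen_le_torN u v.2)
  · exact invol_mul_sq hm hF hu ht ht2 ht1 v.2
  · intro h
    apply htU
    have : t = (v.1 : Cfsg.Sz F m)⁻¹ := eq_inv_of_mul_eq_one_left h
    rw [this]
    exact Subgroup.inv_mem _ v.2
  · exact invol_mul_mem_cen hm hF hu ht ht2 ht1 g.2.1 g.2.2.1 g.2.2.2
  · intro v
    apply Subtype.ext
    show t * (t * v.1) = v.1
    rw [← mul_assoc, ht2, one_mul]
  · intro g
    apply Subtype.ext
    show t * (t * g.1) = g.1
    rw [← mul_assoc, ht2, one_mul]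

/-- elements of order four are outside the torus -/
theorem not_mem_cen_of_orderOf_four (hu : IsFpf hm hF u) {g : Cfsg.Sz F m} (hg : orderOf g = 4) :
    g ∉ cen u := by
  intro h
  have h4 : g ^ 4 = 1 := by
    have := pow_orderOf_eq_one g
    rwa [hg] at this
  have := eq_one_of_pow_four_cen hm hF hu h h4
  rw [this, orderOf_one] at hg
  norm_num at hg

theorem orderOf_eq_four_of (g : Cfsg.Sz F m) (h4 : g ^ 4 = 1) (h2 : g * g ≠ 1) : orderOf g = 4 := by
  have hd := orderOf_dvd_of_pow_eq_one h4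
  have hdiv : orderOf g ∈ Nat.divisors 4 := by
    rw [Nat.mem_divisors]; exact ⟨hd, by norm_num⟩
  have h4d : Nat.divisors 4 = {1, 2, 4} := by decide
  rw [h4d] at hdiv
  simp only [Finset.mem_insert, Finset.mem_singleton] at hdiv
  rcases hdiv with h | h | h
  · exfalso
    apply h2
    rw [orderOf_eq_one_iff.1 h, one_mul]
  · exfalso
    apply h2
    rw [← pow_two, ← h]
    exact pow_orderOf_eq_one g
  · exact h

/-- the number of elements of order four of the normalizer -/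
theorem card_order_four (hu : IsFpf hm hF u) :
    Nat.card {g : Cfsg.Sz F m // g ∈ torN u ∧ orderOf g = 4} = 2 * Nat.card (cen u) := by
  haveI : Finite (Cfsg.Sz F m) := inferInstance
  have e1 := card_subtype_add_eq (fun g : Cfsg.Sz F m => g ∈ cen u)
    (fun g => g ∈ torN u ∧ g ∉ cen u) (fun g => g ∈ torN u)
    (fun g h => cen_le_torN u h) (fun g h => h.1) (fun g h h' => h'.2 h)
    (fun g h => by
      by_cases h1 : g ∈ cen u
      · exact Or.inl h1
      · exact Or.inr ⟨h, h1⟩)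
  have e2 := card_subtype_add_eq (fun g : Cfsg.Sz F m => g ∈ torN u ∧ g * g = 1 ∧ g ≠ 1)
    (fun g => g ∈ torN u ∧ orderOf g = 4) (fun g => g ∈ torN u ∧ g ∉ cen u)
    (fun g h => ⟨h.1, fun hc => h.2.2 (eq_one_of_sq_cen hm hF hu hc h.2.1)⟩)
    (fun g h => ⟨h.1, not_mem_cen_of_orderOf_four hm hF hu h.2⟩)
    (fun g h h' => by
      have h2 : g ^ 2 = 1 := by rw [pow_two]; exact h.2.1
      have := orderOf_dvd_of_pow_eq_one h2
      rw [h'.2] at this
      norm_num at this)
    (fun g h => by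
      by_cases h2 : g * g = 1
      · left
        refine ⟨h.1, h2, ?_⟩
        rintro rfl
        exact h.2 (Subgroup.one_mem _)
      · right
        exact ⟨h.1, orderOf_eq_four_of g (pow_four_eq_one_of_not_mem hm hF hu h.1 h.2) h2⟩)
  have c1 : Nat.card {g : Cfsg.Sz F m // g ∈ torN u} = 4 * Nat.card (cen u) :=
    card_torN_fpf hm hF hu
  have c2 : Nat.card {g : Cfsg.Sz F m // g ∈ cen u} = Nat.card (cen u) := rfl
  rw [card_invol hm hF hu] at e2
  rw [c1, c2] at e1
  omega

/-- powers of an element of order four in the torus are trivial -/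
theorem zpow_eq_one_of_mem_cen (hu : IsFpf hm hF u) {x : Cfsg.Sz F m} (hx4 : orderOf x = 4)
    {k : ℤ} (h : x ^ k ∈ cen u) : x ^ k = 1 := by
  apply eq_one_of_pow_four_cen hm hF hu h
  have h4 : x ^ 4 = 1 := by
    have := pow_orderOf_eq_one x
    rwa [hx4] at this
  rw [← zpow_natCast, ← zpow_mul, mul_comm, zpow_mul, zpow_natCast, h4, one_zpow]

/-- the coset decomposition of the normalizer with respect to an element of order four -/
theorem exists_pow_mul (hu : IsFpf hm hF u) {x : Cfsg.Sz F m} (hx : x ∈ torN u)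
    (hx4 : orderOf x = 4) {g : Cfsg.Sz F m} (hg : g ∈ torN u) :
    ∃ i : Fin 4, ∃ v ∈ cen u, g = x ^ (i : ℕ) * v := by
  haveI : Finite (Cfsg.Sz F m) := inferInstance
  let f : Fin 4 × cen u → torN u := fun p =>
    ⟨x ^ (p.1 : ℕ) * p.2.1, Subgroup.mul_mem _ (Subgroup.pow_mem _ hx _) (cen_le_torN u p.2.2)⟩
  have hinj : Function.Injective f := by
    rintro ⟨i, v⟩ ⟨j, w⟩ h
    have h1 : x ^ (i : ℕ) * v.1 = x ^ (j : ℕ) * w.1 := congrArg Subtype.val h
    have h2 : x ^ ((j : ℤ) - (i : ℤ)) = v.1 * w.1⁻¹ := by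
      rw [zpow_sub, zpow_natCast, zpow_natCast]
      have : v.1 = (x ^ (i : ℕ))⁻¹ * (x ^ (j : ℕ) * w.1) := by rw [← h1]; group
      rw [this]
      have hc : x ^ (j : ℕ) * (x ^ (i : ℕ))⁻¹ = (x ^ (i : ℕ))⁻¹ * x ^ (j : ℕ) := by
        rw [← zpow_natCast, ← zpow_natCast, ← zpow_neg, ← zpow_add, ← zpow_add, add_comm]
      rw [hc]
      group
    have h3 : x ^ ((j : ℤ) - (i : ℤ)) ∈ cen u := by
      rw [h2]
      exact Subgroup.mul_mem _ v.2 (Subgroup.inv_mem _ w.2)
    have h4 := zpow_eq_one_of_mem_cen hm hF hu hx4 h3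
    have h5 := orderOf_dvd_iff_zpow_eq_one.2 h4
    rw [hx4] at h5
    have hi := i.2
    have hj := j.2
    have hij : (i : ℕ) = j := by
      obtain ⟨c, hc⟩ := h5
      push_cast at hc
      omega
    have hij' : i = j := Fin.ext hij
    subst hij'
    have h6 : v.1 = w.1 := mul_left_cancel h1
    have h7 : v = w := Subtype.ext h6
    rw [h7]
  have hcard : Nat.card (Fin 4 × cen u) = Nat.card (torN u) := by
    rw [Nat.card_prod, Nat.card_fin, card_torN_fpf hm hF hu]
  have hbij : Function.Bijective f :=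
    (Nat.bijective_iff_injective_and_card f).2 ⟨hinj, hcard⟩
  obtain ⟨⟨i, v⟩, hiv⟩ := hbij.2 ⟨g, hg⟩
  refine ⟨i, v.1, v.2, ?_⟩
  exact (congrArg Subtype.val hiv).symm

end torus

end Cfsg.Agent.Helper41.SzSol
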