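import Mathlib
import Cfsg.Agent.Helper41.SzSolA

set_option autoImplicit false
set_option linter.style.haveILetI false

/-!
# Generic counting lemmas: conjugates of a subgroup with trivial intersections
-/

namespace Cfsg.Agent.Helper41.SzSol

section Generic

variable {G : Type*} [Group G]

/-- counting the elements with a class-invariant property that are conjugate into a subgroup
with the trivial intersection property -/
theorem card_conj_pred_mul [Finite G] (A : Subgroup G) (P : G → Prop)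
    (hP : ∀ g x, P (g * x * g⁻¹) ↔ P x) (hP1 : ∀ x, P x → x ≠ 1)
    (hTI : ∀ g : G, ∀ x ∈ A, x ≠ 1 → g * x * g⁻¹ ∈ A → g ∈ Subgroup.normalizer (A : Set G)) :
    Nat.card {x : G // P x ∧ ∃ g : G, g * x * g⁻¹ ∈ A} *
        Nat.card (Subgroup.normalizer (A : Set G)) =
      Nat.card G * Nat.card {a : G // a ∈ A ∧ P a} := by
  classical
  -- the set of pairs
  let T := {p : G × G // P p.2 ∧ p.1 * p.2 * p.1⁻¹ ∈ A}
  have e1 : T ≃ G × {a : G // a ∈ A ∧ P a} :=
    { toFun := fun p => (p.1.1, ⟨p.1.1 * p.1.2 * p.1.1⁻¹, p.2.2, (hP _ _).2 p.2.1⟩)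
      invFun := fun q => ⟨(q.1, q.1⁻¹ * q.2.1 * q.1), by
        refine ⟨?_, ?_⟩
        · have := (hP q.1⁻¹ q.2.1).2 q.2.2.2
          rwa [inv_inv] at this
        · have e : q.1 * (q.1⁻¹ * q.2.1 * q.1) * q.1⁻¹ = q.2.1 := by group
          show q.1 * (q.1⁻¹ * q.2.1 * q.1) * q.1⁻¹ ∈ A
          rw [e]
          exact q.2.2.1⟩
      left_inv := by
        rintro ⟨⟨g, x⟩, h⟩
        apply Subtype.ext
        show (g, g⁻¹ * (g * x * g⁻¹) * g) = (g, x)
        congr 1
        group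
      right_inv := by
        rintro ⟨g, ⟨a, h⟩⟩
        show (g, (⟨g * (g⁻¹ * a * g) * g⁻¹, _⟩ : {a : G // a ∈ A ∧ P a})) = (g, ⟨a, h⟩)
        congr 1
        apply Subtype.ext
        show g * (g⁻¹ * a * g) * g⁻¹ = a
        group }
  -- a chosen conjugating element
  have hex : ∀ x : {x : G // P x ∧ ∃ g : G, g * x * g⁻¹ ∈ A}, ∃ g : G, g * x.1 * g⁻¹ ∈ A :=
    fun x => x.2.2
  choose g₀ hg₀ using hex
  have e2 : T ≃ {x : G // P x ∧ ∃ g : G, g * x * g⁻¹ ∈ A} × Subgroup.normalizer (A : Set G) :=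
    { toFun := fun p => (⟨p.1.2, p.2.1, p.1.1, p.2.2⟩,
        ⟨p.1.1 * (g₀ ⟨p.1.2, p.2.1, p.1.1, p.2.2⟩)⁻¹, by
          set x : {x : G // P x ∧ ∃ g : G, g * x * g⁻¹ ∈ A} := ⟨p.1.2, p.2.1, p.1.1, p.2.2⟩ with hx
          apply hTI _ (g₀ x * x.1 * (g₀ x)⁻¹) (hg₀ x)
          · rw [Ne, conj_eq_one_iff]
            exact hP1 _ x.2.1
          · have e : p.1.1 * (g₀ x)⁻¹ * (g₀ x * x.1 * (g₀ x)⁻¹) * (p.1.1 * (g₀ x)⁻¹)⁻¹ =
                p.1.1 * x.1 * p.1.1⁻¹ := by group
            rw [e]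
            exact p.2.2⟩)
      invFun := fun q => ⟨(q.2.1 * g₀ q.1, q.1.1), q.1.2.1, by
        have e : q.2.1 * g₀ q.1 * q.1.1 * (q.2.1 * g₀ q.1)⁻¹ =
            q.2.1 * (g₀ q.1 * q.1.1 * (g₀ q.1)⁻¹) * q.2.1⁻¹ := by group
        show q.2.1 * g₀ q.1 * q.1.1 * (q.2.1 * g₀ q.1)⁻¹ ∈ A
        rw [e]
        exact (Subgroup.mem_normalizer_iff.1 q.2.2 _).1 (hg₀ q.1)⟩
      left_inv := by
        rintro ⟨⟨g, x⟩, h⟩
        apply Subtype.ext
        show (g * (g₀ ⟨x, h.1, g, h.2⟩)⁻¹ * g₀ ⟨x, h.1, g, h.2⟩, x) = (g, x)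
        congr 1
        group
      right_inv := by
        rintro ⟨⟨x, hx⟩, ⟨n, hn⟩⟩
        show ((⟨x, _⟩ : {x : G // P x ∧ ∃ g : G, g * x * g⁻¹ ∈ A}),
          (⟨n * g₀ ⟨x, hx⟩ * (g₀ ⟨x, _⟩)⁻¹, _⟩ : Subgroup.normalizer (A : Set G))) =
          (⟨x, hx⟩, ⟨n, hn⟩)
        congr 1
        apply Subtype.ext
        show n * g₀ ⟨x, hx⟩ * (g₀ ⟨x, hx⟩)⁻¹ = n
        group }
  have c1 := Nat.card_congr e1
  have c2 := Nat.card_congr e2
  rw [Nat.card_prod] at c1 c2
  rw [← c1, ← c2]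

/-- conjugation and the normalizer of a centralizer -/
theorem conj_mem_normalizer_centralizer_iff (g v y : G) :
    g * y * g⁻¹ ∈ Subgroup.normalizer
        ((Subgroup.centralizer ({g * v * g⁻¹} : Set G) : Subgroup G) : Set G) ↔
      y ∈ Subgroup.normalizer ((Subgroup.centralizer ({v} : Set G) : Subgroup G) : Set G) := by
  have hcc : ∀ z : G, z ∈ Subgroup.centralizer ({v} : Set G) ↔
      g * z * g⁻¹ ∈ Subgroup.centralizer ({g * v * g⁻¹} : Set G) := by
    intro z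
    rw [Subgroup.mem_centralizer_singleton_iff, Subgroup.mem_centralizer_singleton_iff]
    constructor
    · intro h
      calc g * z * g⁻¹ * (g * v * g⁻¹) = g * (z * v) * g⁻¹ := by group
        _ = g * (v * z) * g⁻¹ := by rw [h]
        _ = _ := by group
    · intro h
      calc z * v = g⁻¹ * (g * z * g⁻¹ * (g * v * g⁻¹)) * g := by group
        _ = g⁻¹ * ((g * v * g⁻¹) * (g * z * g⁻¹)) * g := by rw [h]
        _ = _ := by group
  rw [Subgroup.mem_normalizer_iff, Subgroup.mem_normalizer_iff]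
  constructor
  · intro hg h
    have := hg (g * h * g⁻¹)
    rw [hcc, hcc]
    have e2 : g * y * g⁻¹ * (g * h * g⁻¹) * (g * y * g⁻¹)⁻¹ = g * (y * h * y⁻¹) * g⁻¹ := by group
    rw [e2] at this
    exact this
  · intro hg h
    have := hg (g⁻¹ * h * g)
    rw [hcc, hcc] at this
    have e1 : g * (g⁻¹ * h * g) * g⁻¹ = h := by group
    have e2 : g * (y * (g⁻¹ * h * g) * y⁻¹) * g⁻¹ = g * y * g⁻¹ * h * (g * y * g⁻¹)⁻¹ := by
      group
    rw [e1, e2] at this
    exact this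

/-- a sigma type with fibres of constant cardinality -/
theorem card_sigma_const {α : Type*} [Finite α] {β : α → Type*} [∀ a, Finite (β a)] (c : ℕ)
    (h : ∀ a, Nat.card (β a) = c) : Nat.card (Σ a, β a) = Nat.card α * c := by
  classical
  haveI : Fintype α := Fintype.ofFinite α
  rw [Nat.card_sigma]
  simp only [h, Finset.sum_const, Finset.card_univ, smul_eq_mul, Nat.card_eq_fintype_card]

/-- counting pairs by the first coordinate when the fibres have constant cardinality -/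
theorem card_pairs_fst {α β : Type*} [Finite α] [Finite β] (R : α → β → Prop) (P : α → Prop)
    (c : ℕ) (h : ∀ a, P a → Nat.card {b : β // R a b} = c) :
    Nat.card {p : α × β // P p.1 ∧ R p.1 p.2} = Nat.card {a : α // P a} * c := by
  have e : {p : α × β // P p.1 ∧ R p.1 p.2} ≃ Σ a : {a : α // P a}, {b : β // R a.1 b} :=
    { toFun := fun p => ⟨⟨p.1.1, p.2.1⟩, ⟨p.1.2, p.2.2⟩⟩
      invFun := fun s => ⟨(s.1.1, s.2.1), s.1.2, s.2.2⟩
      left_inv := fun p => rfl
      right_inv := fun s => rfl }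
  rw [Nat.card_congr e]
  exact card_sigma_const c (fun a => h a.1 a.2)

/-- counting pairs by the second coordinate when the fibres have constant cardinality -/
theorem card_pairs_snd {α β : Type*} [Finite α] [Finite β] (R : α → β → Prop) (P : β → Prop)
    (c : ℕ) (h : ∀ b, P b → Nat.card {a : α // R a b} = c) :
    Nat.card {p : α × β // P p.2 ∧ R p.1 p.2} = Nat.card {b : β // P b} * c := by
  have e : {p : α × β // P p.2 ∧ R p.1 p.2} ≃ Σ b : {b : β // P b}, {a : α // R a b.1} :=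
    { toFun := fun p => ⟨⟨p.1.2, p.2.1⟩, ⟨p.1.1, p.2.2⟩⟩
      invFun := fun s => ⟨(s.2.1, s.1.1), s.1.2, s.2.2⟩
      left_inv := fun p => rfl
      right_inv := fun s => rfl }
  rw [Nat.card_congr e]
  exact card_sigma_const c (fun b => h b.1 b.2)

end Generic

end Cfsg.Agent.Helper41.SzSol
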