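import Mathlib
import Cfsg.Agent.Helper41.SzSolE
import Cfsg.Agent.Helper41.SzSolF

set_option autoImplicit false
set_option linter.style.haveILetI false

/-!
# Suzuki groups: counting `2`-elements
-/

namespace Cfsg.Agent.Helper41.SzSol

open Cfsg.Agent.Helper41.Sol Cfsg.Agent.Helper6

variable {F : Type*} [Field F] [Fintype F] {m : ℕ}

theorem sU_mem_szQ (hm : 1 ≤ m) (hF : Fintype.card F = 2 ^ (2 * m + 1)) (a b : F) :
    sU hF a b ∈ szQ hm hF := (mem_szQ_iff hm hF _).2 ⟨a, b, rfl⟩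

theorem sU_pow_four (hm : 1 ≤ m) (hF : Fintype.card F = 2 ^ (2 * m + 1)) (a b : F) :
    sU hF a b ^ 4 = 1 := by
  have : sU hF a b ^ 4 = (sU hF a b * sU hF a b) * (sU hF a b * sU hF a b) := by
    simp only [pow_succ, pow_zero, one_mul, mul_assoc]
  rw [this, sU_sq hm hF, sU_sq hm hF, zero_pow (by positivity), zero_mul, sU_zero hm hF]

/-- the translations of order four -/
theorem orderOf_sU_eq_four_iff (hm : 1 ≤ m) (hF : Fintype.card F = 2 ^ (2 * m + 1)) (a b : F) :
    orderOf (sU hF a b) = 4 ↔ a ≠ 0 := by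
  constructor
  · intro h ha
    subst ha
    have h2 : sU hF 0 b ^ 2 = 1 := by
      rw [pow_two, sU_sq hm hF, zero_pow (by positivity), zero_mul, sU_zero hm hF]
    have := orderOf_dvd_of_pow_eq_one h2
    rw [h] at this
    norm_num at this
  · intro ha
    apply orderOf_eq_four_of _ (sU_pow_four hm hF a b)
    rw [sU_sq hm hF, Ne, sU_eq_one_iff hm hF]
    rintro ⟨-, h⟩
    exact mul_ne_zero (pow_ne_zero _ ha) ha h

theorem card_ne_zero_F : Nat.card {a : F // a ≠ 0} = Fintype.card F - 1 := by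
  classical
  rw [← Nat.card_congr (unitsEquivNeZero (G₀ := F)), Nat.card_units, Nat.card_eq_fintype_card]

/-- the number of translations of order four -/
theorem card_szQ_order_four (hm : 1 ≤ m) (hF : Fintype.card F = 2 ^ (2 * m + 1)) :
    Nat.card {g : Cfsg.Sz F m // g ∈ szQ hm hF ∧ orderOf g = 4} =
      Fintype.card F * (Fintype.card F - 1) := by
  let f : {a : F // a ≠ 0} × F → {g : Cfsg.Sz F m // g ∈ szQ hm hF ∧ orderOf g = 4} :=
    fun p => ⟨sU hF p.1.1 p.2, sU_mem_szQ hm hF _ _, (orderOf_sU_eq_four_iff hm hF _ _).2 p.1.2⟩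
  have hbij : Function.Bijective f := by
    constructor
    · rintro ⟨⟨a, ha⟩, b⟩ ⟨⟨c, hc⟩, d⟩ h
      have h1 : sU hF a b = sU hF c d := congrArg Subtype.val h
      obtain ⟨rfl, rfl⟩ := sU_inj hF h1
      rfl
    · rintro ⟨g, hg, hg4⟩
      obtain ⟨a, b, rfl⟩ := (mem_szQ_iff hm hF g).1 hg
      exact ⟨(⟨a, (orderOf_sU_eq_four_iff hm hF a b).1 hg4⟩, b), rfl⟩
  rw [← Nat.card_congr (Equiv.ofBijective f hbij), Nat.card_prod, card_ne_zero_F,
    Nat.card_eq_fintype_card, mul_comm]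

/-- the number of translations of order two -/
theorem card_szQ_order_two (hm : 1 ≤ m) (hF : Fintype.card F = 2 ^ (2 * m + 1)) :
    Nat.card {g : Cfsg.Sz F m // g ∈ szQ hm hF ∧ orderOf g = 2} = Fintype.card F - 1 := by
  let f : {a : F // a ≠ 0} → {g : Cfsg.Sz F m // g ∈ szQ hm hF ∧ orderOf g = 2} :=
    fun p => ⟨sU hF 0 p.1, sU_mem_szQ hm hF _ _, (orderOf_sU_eq_two_iff hm hF _ _).2 ⟨rfl, p.2⟩⟩
  have hbij : Function.Bijective f := by
    constructor
    · rintro ⟨a, ha⟩ ⟨c, hc⟩ h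
      have h1 : sU hF 0 a = sU hF 0 c := congrArg Subtype.val h
      obtain ⟨-, rfl⟩ := sU_inj hF h1
      rfl
    · rintro ⟨g, hg, hg2⟩
      obtain ⟨a, b, rfl⟩ := (mem_szQ_iff hm hF g).1 hg
      obtain ⟨rfl, hb⟩ := (orderOf_sU_eq_two_iff hm hF a b).1 hg2
      exact ⟨⟨b, hb⟩, rfl⟩
  rw [← Nat.card_congr (Equiv.ofBijective f hbij), card_ne_zero_F]

/-- `2`-elements are conjugate into the translation group -/
theorem exists_conj_mem_szQ (hm : 1 ≤ m) (hF : Fintype.card F = 2 ^ (2 * m + 1))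
    {x : Cfsg.Sz F m} (hx : x ^ 4 = 1) : ∃ g : Cfsg.Sz F m, g * x * g⁻¹ ∈ szQ hm hF := by
  haveI : Finite (Cfsg.Sz F m) := inferInstance
  haveI : Fact (Nat.Prime 2) := ⟨Nat.prime_two⟩
  by_cases hx1 : x = 1
  · exact ⟨1, by rw [hx1]; simp⟩
  have hp : IsPGroup 2 (Subgroup.zpowers x) := by
    intro g
    refine ⟨2, ?_⟩
    obtain ⟨k, hk⟩ := Subgroup.mem_zpowers_iff.1 g.2
    apply Subtype.ext
    rw [Subgroup.coe_pow, ← hk, Subgroup.coe_one]
    norm_num
    rw [← zpow_natCast, ← zpow_mul, mul_comm, zpow_mul, zpow_natCast, hx, one_zpow]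
  obtain ⟨P, hP⟩ := hp.exists_le_sylow
  have hc : ConjInto (szQ hm hF) x :=
    (conjInto_szQ_iff hm hF x).2 ⟨hx1, P, hP (Subgroup.mem_zpowers x)⟩
  exact hc.2

/-- the number of elements of order four -/
theorem card_order_four_mul (hm : 1 ≤ m) (hF : Fintype.card F = 2 ^ (2 * m + 1)) :
    Nat.card {x : Cfsg.Sz F m // orderOf x = 4} * Fintype.card F = Nat.card (Cfsg.Sz F m) := by
  haveI : Finite (Cfsg.Sz F m) := inferInstance
  have h := card_conj_pred_mul (szQ hm hF) (fun x : Cfsg.Sz F m => orderOf x = 4)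
    (fun g x => by rw [orderOf_conj'])
    (fun x hx h1 => by rw [h1, orderOf_one] at hx; norm_num at hx)
    (fun g x hx hx1 hg => szQ_TI hm hF g x hx hx1 hg)
  rw [normalizer_szQ hm hF, card_szB hm hF] at h
  have e1 : Nat.card {x : Cfsg.Sz F m // orderOf x = 4 ∧ ∃ g : Cfsg.Sz F m,
      g * x * g⁻¹ ∈ szQ hm hF} = Nat.card {x : Cfsg.Sz F m // orderOf x = 4} := by
    apply Nat.card_congr
    apply Equiv.subtypeEquivRight
    intro x
    constructor
    · exact fun h => h.1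
    · intro h4
      refine ⟨h4, exists_conj_mem_szQ hm hF ?_⟩
      have := pow_orderOf_eq_one x
      rwa [h4] at this
  rw [e1, card_szQ_order_four hm hF] at h
  have hq : 2 ≤ Fintype.card F := by
    rw [hF]
    calc 2 = 2 ^ 1 := by norm_num
      _ ≤ 2 ^ (2 * m + 1) := Nat.pow_le_pow_right (by norm_num) (by omega)
  have hpos : 0 < Fintype.card F * (Fintype.card F - 1) :=
    Nat.mul_pos (by omega) (by omega)
  apply Nat.eq_of_mul_eq_mul_right hpos
  calc Nat.card {x : Cfsg.Sz F m // orderOf x = 4} * Fintype.card F *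
        (Fintype.card F * (Fintype.card F - 1)) =
      Nat.card {x : Cfsg.Sz F m // orderOf x = 4} *
        ((Fintype.card F) ^ 2 * (Fintype.card F - 1)) := by ring
    _ = _ := h

/-- the number of involutions -/
theorem card_order_two_mul (hm : 1 ≤ m) (hF : Fintype.card F = 2 ^ (2 * m + 1)) :
    Nat.card {x : Cfsg.Sz F m // orderOf x = 2} * (Fintype.card F) ^ 2 =
      Nat.card (Cfsg.Sz F m) := by
  haveI : Finite (Cfsg.Sz F m) := inferInstance
  have h := card_conj_pred_mul (szQ hm hF) (fun x : Cfsg.Sz F m => orderOf x = 2)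
    (fun g x => by rw [orderOf_conj'])
    (fun x hx h1 => by rw [h1, orderOf_one] at hx; norm_num at hx)
    (fun g x hx hx1 hg => szQ_TI hm hF g x hx hx1 hg)
  rw [normalizer_szQ hm hF, card_szB hm hF] at h
  have e1 : Nat.card {x : Cfsg.Sz F m // orderOf x = 2 ∧ ∃ g : Cfsg.Sz F m,
      g * x * g⁻¹ ∈ szQ hm hF} = Nat.card {x : Cfsg.Sz F m // orderOf x = 2} := by
    apply Nat.card_congr
    apply Equiv.subtypeEquivRight
    intro x
    constructor
    · exact fun h => h.1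
    · intro h2
      exact ⟨h2, (conjInto_szQ_of_orderOf_two hm hF h2).2⟩
  rw [e1, card_szQ_order_two hm hF] at h
  have hq : 2 ≤ Fintype.card F := by
    rw [hF]
    calc 2 = 2 ^ 1 := by norm_num
      _ ≤ 2 ^ (2 * m + 1) := Nat.pow_le_pow_right (by norm_num) (by omega)
  have hpos : 0 < Fintype.card F - 1 := by omega
  apply Nat.eq_of_mul_eq_mul_right hpos
  rw [mul_assoc, h]

end Cfsg.Agent.Helper41.SzSol
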