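import Mathlib
import Cfsg.Agent.Helper41.SzSolG
import Cfsg.Agent.Helper6.Sz51

set_option autoImplicit false
set_option linter.style.haveILetI false

/-!
# Suzuki groups: the tori normalized by an element of order four
-/

namespace Cfsg.Agent.Helper41.SzSol

open Cfsg.Agent.Helper41.Sol Cfsg.Agent.Helper6

variable {F : Type*} [Field F] [Fintype F] {m : ℕ}

/-- the number of elements without fixed points whose torus is normalized by `y` -/
noncomputable def hcount (hm : 1 ≤ m) (hF : Fintype.card F = 2 ^ (2 * m + 1))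
    (y : Cfsg.Sz F m) : ℕ :=
  Nat.card {v : Cfsg.Sz F m // IsFpf hm hF v ∧ y ∈ torN v}

theorem hcount_conj (hm : 1 ≤ m) (hF : Fintype.card F = 2 ^ (2 * m + 1))
    (g y : Cfsg.Sz F m) : hcount hm hF (g * y * g⁻¹) = hcount hm hF y := by
  unfold hcount
  symm
  apply Nat.card_congr
  refine ⟨fun v => ⟨g * v.1 * g⁻¹, (isFpf_conj_iff hm hF g v.1).2 v.2.1,
      (conj_mem_normalizer_centralizer_iff g v.1 y).2 v.2.2⟩,
    fun v => ⟨g⁻¹ * v.1 * g, ?_, ?_⟩, ?_, ?_⟩
  · have := (isFpf_conj_iff hm hF g⁻¹ v.1).2 v.2.1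
    rwa [inv_inv] at this
  · have h := v.2.2
    have e : v.1 = g * (g⁻¹ * v.1 * g) * g⁻¹ := by group
    rw [e] at h
    exact (conj_mem_normalizer_centralizer_iff g _ y).1 h
  · intro v
    apply Subtype.ext
    show g⁻¹ * (g * v.1 * g⁻¹) * g = v.1
    group
  · intro v
    apply Subtype.ext
    show g * (g⁻¹ * v.1 * g) * g⁻¹ = v.1
    group

theorem hcount_inv (hm : 1 ≤ m) (hF : Fintype.card F = 2 ^ (2 * m + 1))
    (y : Cfsg.Sz F m) : hcount hm hF y⁻¹ = hcount hm hF y := by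
  unfold hcount
  apply Nat.card_congr
  apply Equiv.subtypeEquivRight
  intro v
  rw [Subgroup.inv_mem_iff]

/-- the image of the Artin map and its coset -/
theorem artin_range_or (hF : Fintype.card F = 2 ^ (2 * m + 1)) (b : F) :
    b ∈ (artinHom hF).range ∨ b + 1 ∈ (artinHom hF).range := by
  have h2 : (2 : F) = 0 := two_eq_zero_of_card hF
  set H := (artinHom hF).range with hH
  have hidx : H.index = 2 := by
    have h1 := AddSubgroup.card_mul_index H
    have h3 := card_artinHom_range hF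
    rw [Nat.card_eq_fintype_card (α := F)] at h1
    have hpos : 0 < Nat.card H := Nat.card_pos
    have : Nat.card H * H.index = Nat.card H * 2 := by rw [h1, ← h3]; ring
    exact Nat.eq_of_mul_eq_mul_left hpos this
  obtain ⟨a, ha⟩ := AddSubgroup.index_eq_two_iff.1 hidx
  have h1H : (1 : F) ∉ H := by
    rintro ⟨x, hx⟩
    exact no_sol_artin hF x hx
  have haH : a ∉ H := by
    intro h
    rcases ha 0 with ⟨h0, h0'⟩ | ⟨h0, h0'⟩
    · exact h0' H.zero_mem
    · rw [zero_add] at h0'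
      exact h0' h
  have h1a : 1 + a ∈ H := by
    rcases ha 1 with ⟨h0, -⟩ | ⟨h0, -⟩
    · exact h0
    · exact absurd h0 h1H
  by_cases hb : b ∈ H
  · exact Or.inl hb
  · right
    have hba : b + a ∈ H := by
      rcases ha b with ⟨h0, -⟩ | ⟨h0, -⟩
      · exact h0
      · exact absurd h0 hb
    have e : b + 1 = (b + a) + (1 + a) := by linear_combination (-a) * h2
    rw [e]
    exact H.add_mem hba h1a

/-- conjugating a translation by a translation -/
theorem sU_conj_sU_one (hm : 1 ≤ m) (hF : Fintype.card F = 2 ^ (2 * m + 1)) (c b : F) :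
    sU hF c 0 * sU hF 1 b * (sU hF c 0)⁻¹ = sU hF 1 (b + (c ^ (2 ^ (m + 1)) + c)) := by
  have h2 : (2 : F) = 0 := two_eq_zero_of_card hF
  rw [sU_inv hm hF, sU_mul hm hF, sU_mul hm hF, add_pow_sigma hF, one_pow]
  congr 1
  · linear_combination c * h2
  · linear_combination (c ^ (2 ^ (m + 1)) * c) * h2

/-- every element of order four is conjugate to a fixed one or to its inverse -/
theorem order_four_conj (hm : 1 ≤ m) (hF : Fintype.card F = 2 ^ (2 * m + 1))
    {y : Cfsg.Sz F m} (hy : orderOf y = 4) :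
    ∃ g : Cfsg.Sz F m, y = g * sU hF 1 0 * g⁻¹ ∨ y = g * (sU hF 1 0)⁻¹ * g⁻¹ := by
  have h2 : (2 : F) = 0 := two_eq_zero_of_card hF
  have hy4 : y ^ 4 = 1 := by
    have := pow_orderOf_eq_one y
    rwa [hy] at this
  obtain ⟨g₁, hg₁⟩ := exists_conj_mem_szQ hm hF hy4
  obtain ⟨a, b, hab⟩ := (mem_szQ_iff hm hF _).1 hg₁
  have ha : a ≠ 0 := by
    rw [← orderOf_sU_eq_four_iff hm hF a b, ← hab, orderOf_conj', hy]
  set s : Fˣ := (Units.mk0 a ha)⁻¹ with hs
  have hsa : (s : F) * a = 1 := by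
    rw [hs, Units.val_inv_eq_inv_val, Units.val_mk0, inv_mul_cancel₀ ha]
  have h1 : sD hF s * (g₁ * y * g₁⁻¹) * (sD hF s)⁻¹ =
      sU hF 1 ((s : F) ^ (2 ^ (m + 1) + 1) * b) := by
    rw [hab, sD_conj_sU hm hF, hsa]
  set b' := (s : F) ^ (2 ^ (m + 1) + 1) * b with hb'
  have hyb : y = (sD hF s * g₁)⁻¹ * sU hF 1 b' * (sD hF s * g₁) := by
    rw [← h1]; group
  rcases artin_range_or hF b' with ⟨c, hc⟩ | ⟨c, hc⟩
  · rw [artinHom_apply] at hc
    have h3 : sU hF 1 b' = sU hF c 0 * sU hF 1 0 * (sU hF c 0)⁻¹ := by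
      rw [sU_conj_sU_one hm hF, zero_add, hc]
    refine ⟨(sD hF s * g₁)⁻¹ * sU hF c 0, Or.inl ?_⟩
    rw [hyb, h3]
    group
  · rw [artinHom_apply] at hc
    have hinv : (sU hF (1 : F) 0)⁻¹ = sU hF 1 1 := by
      rw [sU_inv hm hF, one_pow, mul_one, zero_add]
    have h3 : sU hF 1 b' = sU hF c 0 * (sU hF 1 0)⁻¹ * (sU hF c 0)⁻¹ := by
      rw [hinv, sU_conj_sU_one hm hF, hc]
      congr 1
      linear_combination (-1 : F) * h2
    refine ⟨(sD hF s * g₁)⁻¹ * sU hF c 0, Or.inr ?_⟩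
    rw [hyb, h3]
    group

/-- the count is the same for all elements of order four -/
theorem hcount_eq_of_order_four (hm : 1 ≤ m) (hF : Fintype.card F = 2 ^ (2 * m + 1))
    {y : Cfsg.Sz F m} (hy : orderOf y = 4) : hcount hm hF y = hcount hm hF (sU hF 1 0) := by
  obtain ⟨g, h | h⟩ := order_four_conj hm hF hy
  · rw [h, hcount_conj]
  · rw [h, hcount_conj, hcount_inv]

end Cfsg.Agent.Helper41.SzSol
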