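import Mathlib
import Cfsg.Agent.Helper41.SzSolH

set_option autoImplicit false
set_option linter.style.haveILetI false

/-!
# Suzuki groups: an element of order four normalizes tori with `q²` non-identity elements
-/

namespace Cfsg.Agent.Helper41.SzSol

open Cfsg.Agent.Helper41.Sol Cfsg.Agent.Helper6

variable {F : Type*} [Field F] [Fintype F] {m : ℕ}

/-- the global double count -/
theorem hcount_order_four (hm : 1 ≤ m) (hF : Fintype.card F = 2 ^ (2 * m + 1))
    {y : Cfsg.Sz F m} (hy : orderOf y = 4) : hcount hm hF y = (Fintype.card F) ^ 2 := by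
  haveI : Finite (Cfsg.Sz F m) := inferInstance
  rw [hcount_eq_of_order_four hm hF hy]
  set c := hcount hm hF (sU hF 1 0) with hc
  obtain ⟨p₁, p₂, x₁, x₂, hp₁, hq₁, hx₁, hp₂, hq₂, hx₂, hn₁, hn₂, hN₁, hN₂, hcover, hdisj⟩ :=
    sz_tori hm hF
  -- the relation
  set R : Cfsg.Sz F m → Cfsg.Sz F m → Prop := fun a b => orderOf a = 4 ∧ a ∈ torN b with hR
  -- counting by the first coordinate
  have hfst : Nat.card {p : Cfsg.Sz F m × Cfsg.Sz F m //
      orderOf p.1 = 4 ∧ (IsFpf hm hF p.2 ∧ p.1 ∈ torN p.2)} =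
      Nat.card {a : Cfsg.Sz F m // orderOf a = 4} * c :=
    card_pairs_fst (fun a b : Cfsg.Sz F m => IsFpf hm hF b ∧ a ∈ torN b)
      (fun a => orderOf a = 4) c (fun a ha => hcount_eq_of_order_four hm hF ha)
  -- counting by the second coordinate, for each of the two classes of tori
  have hsnd : ∀ (p : ℕ) (x : Cfsg.Sz F m), p.Prime → p ∣ (Fintype.card F) ^ 2 + 1 →
      orderOf x = p → Nat.card (torN x) = 4 * Nat.card (cen x) →
      2 * Nat.card {p : Cfsg.Sz F m × Cfsg.Sz F m // ConjInto (cen x) p.2 ∧ R p.1 p.2} =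
        Nat.card (Cfsg.Sz F m) * (Nat.card (cen x) - 1) := by
    intro p x hp hq hx hN
    have h1 := card_pairs_snd R (fun b => ConjInto (cen x) b) (2 * Nat.card (cen x)) (by
      intro b hb
      have hbf : IsFpf hm hF b := cent_conjInto_isFpf hm hF hp hq hx hb
      obtain ⟨hb1, k, hk⟩ := hb
      have hne : k * b * k⁻¹ ≠ 1 := by rw [Ne, conj_eq_one_iff]; exact hb1
      have hcb : cen (k * b * k⁻¹) = cen x := cent_eq hm hF hp hq hx hk hne
      have hcard : Nat.card (cen b) = Nat.card (cen x) := by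
        rw [← hcb]
        exact (card_centralizer_conj k b).symm
      rw [← hcard, ← card_order_four hm hF hbf]
      apply Nat.card_congr
      apply Equiv.subtypeEquivRight
      intro a
      exact And.comm)
    have h2 := card_conj_union_mul (cen x)
      (fun g y hy hy1 hg => cent_TI hm hF hp hq hx g y hy hy1 hg)
    have h2' : Nat.card {b : Cfsg.Sz F m // ConjInto (cen x) b} * Nat.card (torN x) =
        Nat.card (Cfsg.Sz F m) * (Nat.card (cen x) - 1) := h2
    rw [h1, ← h2', hN]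
    ring
  have h1 := hsnd p₁ x₁ hp₁ hq₁ hx₁ hN₁
  have h2 := hsnd p₂ x₂ hp₂ hq₂ hx₂ hN₂
  -- the two classes cover the elements without fixed points
  have hsplit := card_subtype_add_eq
    (fun p : Cfsg.Sz F m × Cfsg.Sz F m => ConjInto (cen x₁) p.2 ∧ R p.1 p.2)
    (fun p : Cfsg.Sz F m × Cfsg.Sz F m => ConjInto (cen x₂) p.2 ∧ R p.1 p.2)
    (fun p : Cfsg.Sz F m × Cfsg.Sz F m => orderOf p.1 = 4 ∧ (IsFpf hm hF p.2 ∧ p.1 ∈ torN p.2))
    (fun p h => ⟨h.2.1, cent_conjInto_isFpf hm hF hp₁ hq₁ hx₁ h.1, h.2.2⟩)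
    (fun p h => ⟨h.2.1, cent_conjInto_isFpf hm hF hp₂ hq₂ hx₂ h.1, h.2.2⟩)
    (fun p h h' => hdisj p.2 h.1 h'.1)
    (fun p h => by
      rcases hcover p.2 h.2.1 with h' | h'
      · exact Or.inl ⟨h', h.1, h.2.2⟩
      · exact Or.inr ⟨h', h.1, h.2.2⟩)
  rw [hfst] at hsplit
  -- arithmetic
  have h4 := card_order_four_mul hm hF
  rw [show Nat.card (cen x₁) = 2 ^ (2 * m + 1) + 2 ^ (m + 1) + 1 from hn₁] at h1
  rw [show Nat.card (cen x₂) = 2 ^ (2 * m + 1) - 2 ^ (m + 1) + 1 from hn₂] at h2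
  have hle : 2 ^ (m + 1) ≤ 2 ^ (2 * m + 1) := Nat.pow_le_pow_right (by norm_num) (by omega)
  rw [← hF] at h1 h2 hle
  set q := Fintype.card F with hq
  set N4 := Nat.card {a : Cfsg.Sz F m // orderOf a = 4} with hN4
  set r := 2 ^ (m + 1) with hr
  have hGpos : 0 < Nat.card (Cfsg.Sz F m) := Nat.card_pos
  have hN4pos : 0 < N4 := by
    rcases Nat.eq_zero_or_pos N4 with h | h
    · rw [h, zero_mul] at h4; omega
    · exact h
  have e1 : q + r + 1 - 1 = q + r := by omega
  have e2 : q - r + 1 - 1 = q - r := by omega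
  rw [e1] at h1
  rw [e2] at h2
  have hsum : 2 * (N4 * c) = Nat.card (Cfsg.Sz F m) * (2 * q) := by
    rw [← hsplit, mul_add, h1, h2, ← mul_add]
    congr 1
    omega
  rw [← h4] at hsum
  have hfin : N4 * c = N4 * q ^ 2 := by
    have : 2 * (N4 * c) = 2 * (N4 * q ^ 2) := by rw [hsum]; ring
    exact Nat.eq_of_mul_eq_mul_left (by norm_num) this
  exact Nat.eq_of_mul_eq_mul_left hN4pos hfin

end Cfsg.Agent.Helper41.SzSol
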