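import Mathlib
import Cfsg.Agent.Helper41.SzSolI

set_option autoImplicit false
set_option linter.style.haveILetI false

/-!
# Suzuki groups: the solubilizer of an element of order four
-/

namespace Cfsg.Agent.Helper41.SzSol

open Cfsg.Agent.Helper41.Sol Cfsg.Agent.Helper6

variable {F : Type*} [Field F] [Fintype F] {m : ℕ}

theorem conjSub_one {G : Type*} [Group G] (A : Subgroup G) : conjSub 1 A = A := by
  ext x
  rw [mem_conjSub_iff]
  simp

theorem not_mem_szB_of_isFpf (hm : 1 ≤ m) (hF : Fintype.card F = 2 ^ (2 * m + 1))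
    {x : Cfsg.Sz F m} (hx : IsFpf hm hF x) : x ∉ szB F m := by
  have := not_mem_conj_szB_of_isFpf hm hF (k := 1) hx
  rwa [conjSub_one] at this

/-- `2`-elements of the Borel subgroup are translations -/
theorem mem_szQ_of_pow_four (hm : 1 ≤ m) (hF : Fintype.card F = 2 ^ (2 * m + 1))
    {z : Cfsg.Sz F m} (hz : z ∈ szB F m) (hz4 : z ^ 4 = 1) : z ∈ szQ hm hF := by
  by_cases h2 : z * z = 1
  · by_cases h1 : z = 1
    · rw [h1]; exact Subgroup.one_mem _
    · apply mem_szQ_of_orderOf_two hm hF _ hz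
      haveI : Fact (Nat.Prime 2) := ⟨Nat.prime_two⟩
      rw [orderOf_eq_prime_iff]
      exact ⟨by rw [pow_two]; exact h2, h1⟩
  · have ho : orderOf (z * z) = 2 := by
      haveI : Fact (Nat.Prime 2) := ⟨Nat.prime_two⟩
      rw [orderOf_eq_prime_iff]
      refine ⟨?_, h2⟩
      rw [← hz4]
      simp only [pow_succ, pow_zero, one_mul, mul_assoc]
    have hzz : z * z ∈ szQ hm hF :=
      mem_szQ_of_orderOf_two hm hF ho (Subgroup.mul_mem _ hz hz)
    apply cent_le_szQ_of_mem hm hF hzz h2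
    group

/-- a conjugate of the Borel subgroup containing a non-trivial translation of `2`-power order -/
theorem conj_szB_eq_of_mem (hm : 1 ≤ m) (hF : Fintype.card F = 2 ^ (2 * m + 1))
    {x k : Cfsg.Sz F m} (hx : x ∈ szQ hm hF) (hx1 : x ≠ 1) (hx4 : x ^ 4 = 1)
    (hk : x ∈ conjSub k (szB F m)) : k ∈ szB F m := by
  rw [mem_conjSub_iff] at hk
  have h4 : (k⁻¹ * x * k) ^ 4 = 1 := by
    have e : (k⁻¹ * x * k) ^ 4 = k⁻¹ * x ^ 4 * k := by
      simp only [pow_succ, pow_zero, one_mul]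
      group
    rw [e, hx4]
    group
  have h1 := mem_szQ_of_pow_four hm hF hk h4
  have h2 := szQ_TI hm hF k⁻¹ x hx hx1 (by rwa [inv_inv])
  rw [normalizer_szQ hm hF] at h2
  have := Subgroup.inv_mem _ h2
  rwa [inv_inv] at this

/-- the normalizer of a conjugate -/
theorem mem_normalizer_conjSub_iff {G : Type*} [Group G] (k : G) (A : Subgroup G) (x : G) :
    x ∈ Subgroup.normalizer ((conjSub k A : Subgroup G) : Set G) ↔
      k⁻¹ * x * k ∈ Subgroup.normalizer (A : Set G) := by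
  rw [Subgroup.mem_normalizer_iff, Subgroup.mem_normalizer_iff]
  constructor
  · intro h z
    have := h (k * z * k⁻¹)
    rw [mem_conjSub_iff, mem_conjSub_iff] at this
    have e1 : k⁻¹ * (k * z * k⁻¹) * k = z := by group
    have e2 : k⁻¹ * (x * (k * z * k⁻¹) * x⁻¹) * k = k⁻¹ * x * k * z * (k⁻¹ * x * k)⁻¹ := by
      group
    rw [e1, e2] at this
    exact this
  · intro h z
    have := h (k⁻¹ * z * k)
    rw [mem_conjSub_iff, mem_conjSub_iff]
    have e2 : k⁻¹ * x * k * (k⁻¹ * z * k) * (k⁻¹ * x * k)⁻¹ =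
        k⁻¹ * (x * z * x⁻¹) * k := by group
    rw [e2] at this
    exact this

/-- elements of the normalizer of a split torus: in the torus, or involutions -/
theorem torN_split_cases (hm : 1 ≤ m) (hF : Fintype.card F = 2 ^ (2 * m + 1))
    {u x : Cfsg.Sz F m} (hu1 : u ≠ 1) {k : Cfsg.Sz F m} (hk : k * u * k⁻¹ ∈ szK hF)
    (hx : x ∈ torN u) : x ∈ cen u ∨ (x * x = 1 ∧ ∀ v ∈ cen u, x * v * x⁻¹ = v⁻¹) := by
  have hc : cen u = conjSub k⁻¹ (szK hF) := cent_of_conj_szK hm hF hu1 hk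
  have hx' : x ∈ Subgroup.normalizer ((conjSub k⁻¹ (szK hF) : Subgroup (Cfsg.Sz F m)) :
      Set (Cfsg.Sz F m)) := by
    rw [← hc]; exact hx
  rw [mem_normalizer_conjSub_iff, inv_inv] at hx'
  rcases (mem_normalizer_szK_iff hm hF _).1 hx' with h | ⟨s, hs⟩
  · left
    rw [hc, mem_conjSub_iff, inv_inv]
    exact h
  · right
    have hxs : k * x * k⁻¹ = sW hF * sD hF s := by
      rw [← hs, ← mul_assoc, sW_mul_self, one_mul]
    have hsq : (sW hF * sD hF s) * (sW hF * sD hF s) = 1 := by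
      rw [sW_mul_sD]
      calc sD hF s⁻¹ * sW hF * (sD hF s⁻¹ * sW hF) =
          sD hF s⁻¹ * (sW hF * sD hF s⁻¹) * sW hF := by group
        _ = 1 := by
          rw [sW_mul_sD, inv_inv]
          calc sD hF s⁻¹ * (sD hF s * sW hF) * sW hF =
              (sD hF s⁻¹ * sD hF s) * (sW hF * sW hF) := by group
            _ = 1 := by rw [sW_mul_self, ← sD_mul, inv_mul_cancel, sD_one, one_mul]
    constructor
    · have e : x * x = k⁻¹ * ((k * x * k⁻¹) * (k * x * k⁻¹)) * k := by group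
      rw [e, hxs, hsq]
      group
    · intro v hv
      rw [hc, mem_conjSub_iff, inv_inv] at hv
      obtain ⟨r, hr⟩ := hv
      have hinv : (sW hF * sD hF s)⁻¹ = sW hF * sD hF s := inv_eq_of_mul_eq_one_left hsq
      have e1 : (sW hF * sD hF s) * sD hF r * (sW hF * sD hF s)⁻¹ = (sD hF r)⁻¹ := by
        rw [hinv]
        calc sW hF * sD hF s * sD hF r * (sW hF * sD hF s) =
            sW hF * (sD hF s * sD hF r) * sW hF * sD hF s := by group
          _ = sW hF * sD hF (s * r) * sW hF * sD hF s := by rw [sD_mul]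
          _ = sD hF (s * r)⁻¹ * (sW hF * sW hF) * sD hF s := by rw [sW_mul_sD]; group
          _ = (sD hF r)⁻¹ := by
            rw [sW_mul_self, mul_one, ← sD_mul, sD_inv]
            congr 1
            rw [mul_inv_rev, mul_assoc, inv_mul_cancel, mul_one]
      have e2 : x * v * x⁻¹ = k⁻¹ * ((k * x * k⁻¹) * (k * v * k⁻¹) * (k * x * k⁻¹)⁻¹) * k := by
        group
      rw [e2, hxs, hr, e1, ← hr]
      group

/-- the solubilizer of a translation of order four, as a set -/
theorem sz_sol_order_four_iff (hm : 1 ≤ m) (hF : Fintype.card F = 2 ^ (2 * m + 1))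
    (hp : (2 * m + 1).Prime) {x : Cfsg.Sz F m} (hxQ : x ∈ szQ hm hF) (hx4 : orderOf x = 4)
    (y : Cfsg.Sz F m) :
    Group.IsSolvable ↥(Subgroup.closure ({x, y} : Set (Cfsg.Sz F m))) ↔
      y ∈ szB F m ∨ (y ∉ szB F m ∧ ∃ v, IsFpf hm hF v ∧ x ∈ torN v ∧ y ∈ torN v) := by
  have hx1 : x ≠ 1 := by
    rintro rfl
    rw [orderOf_one] at hx4
    norm_num at hx4
  have hxp : x ^ 4 = 1 := by
    have := pow_orderOf_eq_one x
    rwa [hx4] at this
  have hxx : x * x ≠ 1 := by
    intro h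
    have h2 : x ^ 2 = 1 := by rw [pow_two]; exact h
    have := orderOf_dvd_of_pow_eq_one h2
    rw [hx4] at this
    norm_num at this
  rw [sz_sol_iff hm hF hp]
  constructor
  · rintro (⟨k, hxk, hyk⟩ | ⟨u, hu, hxu, hyu⟩)
    · left
      have hkB := conj_szB_eq_of_mem hm hF hxQ hx1 hxp hxk
      rw [mem_conjSub_iff] at hyk
      have : y = k * (k⁻¹ * y * k) * k⁻¹ := by group
      rw [this]
      exact Subgroup.mul_mem _ (Subgroup.mul_mem _ hkB hyk) (Subgroup.inv_mem _ hkB)
    · by_cases hyB : y ∈ szB F m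
      · exact Or.inl hyB
      right
      refine ⟨hyB, ?_⟩
      rcases isSS_cases hm hF hu with ⟨hu1, k, hk⟩ | hf
      · exfalso
        rcases torN_split_cases hm hF hu1 hk hxu with h | ⟨h, -⟩
        · have hxc := ss_cent_cyclic hm hF hu
          have h2 := orderOf_dvd_natCard (⟨x, h⟩ : cen u)
          rw [Subgroup.orderOf_mk, hx4] at h2
          have hcard : Nat.card (cen u) = Fintype.card F - 1 := by
            show Nat.card (Subgroup.centralizer ({u} : Set (Cfsg.Sz F m))) = _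
            rw [cent_of_conj_szK hm hF hu1 hk, card_conjSub, card_szK]
          rw [hcard] at h2
          exact card_F_sub_one_odd hF (dvd_trans (by norm_num) h2)
        · exact hxx h
      · exact ⟨u, hf, hxu, hyu⟩
  · rintro (h | ⟨-, v, hv, hxv, hyv⟩)
    · left
      refine ⟨1, ?_, ?_⟩
      · rw [conjSub_one]; exact szQ_le_szB hm hF hxQ
      · rw [conjSub_one]; exact h
    · right
      exact ⟨v, isFpf_isSS hm hF hv, hxv, hyv⟩

/-- the part of the solubilizer outside the Borel subgroup -/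
theorem card_sol_order_four_out (hm : 1 ≤ m) (hF : Fintype.card F = 2 ^ (2 * m + 1))
    {x : Cfsg.Sz F m} (hxQ : x ∈ szQ hm hF) (hx4 : orderOf x = 4) :
    Nat.card {y : Cfsg.Sz F m // y ∉ szB F m ∧ ∃ v, IsFpf hm hF v ∧ x ∈ torN v ∧ y ∈ torN v} =
      4 * (Fintype.card F) ^ 2 := by
  haveI : Finite (Cfsg.Sz F m) := inferInstance
  rw [← hcount_order_four hm hF hx4]
  unfold hcount
  have hxB : ∀ i : ℕ, x ^ i ∈ szB F m := fun i =>
    Subgroup.pow_mem _ (szQ_le_szB hm hF hxQ) i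
  let f : Fin 4 × {v : Cfsg.Sz F m // IsFpf hm hF v ∧ x ∈ torN v} →
      {y : Cfsg.Sz F m // y ∉ szB F m ∧ ∃ v, IsFpf hm hF v ∧ x ∈ torN v ∧ y ∈ torN v} :=
    fun p => ⟨x ^ (p.1 : ℕ) * p.2.1, by
      refine ⟨?_, p.2.1, p.2.2.1, p.2.2.2, ?_⟩
      · intro h
        apply not_mem_szB_of_isFpf hm hF p.2.2.1
        have e : p.2.1 = (x ^ (p.1 : ℕ))⁻¹ * (x ^ (p.1 : ℕ) * p.2.1) := by group
        rw [e]
        exact Subgroup.mul_mem _ (Subgroup.inv_mem _ (hxB _)) h
      · exact Subgroup.mul_mem _ (Subgroup.pow_mem _ p.2.2.2 _)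
          (cen_le_torN _ (self_mem_cen _))⟩
  have hbij : Function.Bijective f := by
    constructor
    · rintro ⟨i, ⟨v, hv, hxv⟩⟩ ⟨j, ⟨w, hw, hxw⟩⟩ h
      have h1 : x ^ (i : ℕ) * v = x ^ (j : ℕ) * w := congrArg Subtype.val h
      -- `w` lies in the torus of `v`
      have hwv : w ∈ torN v := by
        have e : w = (x ^ (j : ℕ))⁻¹ * (x ^ (i : ℕ) * v) := by rw [h1]; group
        rw [e]
        exact Subgroup.mul_mem _ (Subgroup.inv_mem _ (Subgroup.pow_mem _ hxv _))
          (Subgroup.mul_mem _ (Subgroup.pow_mem _ hxv _) (cen_le_torN _ (self_mem_cen _)))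
      have hwc : w ∈ cen v :=
        ss_mem_cent_of_odd hm hF (isFpf_isSS hm hF hv) hwv (isFpf_orderOf_odd hm hF hw)
      have h2 : x ^ ((j : ℤ) - (i : ℤ)) = v * w⁻¹ := by
        rw [zpow_sub, zpow_natCast, zpow_natCast]
        have : v = (x ^ (i : ℕ))⁻¹ * (x ^ (j : ℕ) * w) := by rw [← h1]; group
        rw [this]
        have hc : x ^ (j : ℕ) * (x ^ (i : ℕ))⁻¹ = (x ^ (i : ℕ))⁻¹ * x ^ (j : ℕ) := by
          rw [← zpow_natCast, ← zpow_natCast, ← zpow_neg, ← zpow_add, ← zpow_add, add_comm]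
        rw [hc]
        group
      have h3 : x ^ ((j : ℤ) - (i : ℤ)) ∈ cen v := by
        rw [h2]
        exact Subgroup.mul_mem _ (self_mem_cen v) (Subgroup.inv_mem _ hwc)
      have h4 := zpow_eq_one_of_mem_cen hm hF hv hx4 h3
      have h5 := orderOf_dvd_iff_zpow_eq_one.2 h4
      rw [hx4] at h5
      have hi := i.2
      have hj := j.2
      have hij : (i : ℕ) = j := by
        obtain ⟨c, hc⟩ := h5
        push_cast at hc
        omega
      have hij' : i = j := Fin.ext hij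
      subst hij'
      have h6 : v = w := mul_left_cancel h1
      subst h6
      rfl
    · rintro ⟨y, hyB, u, hu, hxu, hyu⟩
      obtain ⟨i, v, hv, hy⟩ := exists_pow_mul hm hF hu hxu hx4 hyu
      have hv1 : v ≠ 1 := by
        rintro rfl
        apply hyB
        rw [hy, mul_one]
        exact hxB _
      have hvf := fpf_of_mem_cen hm hF hu hv hv1
      have hcv := cen_eq_of_mem hm hF hu hv hv1
      have hxv : x ∈ torN v := by
        show x ∈ Subgroup.normalizer _
        rw [show Subgroup.centralizer ({v} : Set (Cfsg.Sz F m)) = Subgroup.centralizer {u} from hcv]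
        exact hxu
      refine ⟨(i, ⟨v, hvf, hxv⟩), ?_⟩
      apply Subtype.ext
      exact hy.symm
  rw [← Nat.card_congr (Equiv.ofBijective f hbij), Nat.card_prod, Nat.card_fin]

/-- the solubilizer of an element of order four -/
theorem card_sol_order_four (hm : 1 ≤ m) (hF : Fintype.card F = 2 ^ (2 * m + 1))
    (hp : (2 * m + 1).Prime) {x : Cfsg.Sz F m} (hx4 : orderOf x = 4) :
    Nat.card {y : Cfsg.Sz F m //
      Group.IsSolvable ↥(Subgroup.closure ({x, y} : Set (Cfsg.Sz F m)))} =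
      (Fintype.card F) ^ 2 * (Fintype.card F + 3) := by
  haveI : Finite (Cfsg.Sz F m) := inferInstance
  have hxp : x ^ 4 = 1 := by
    have := pow_orderOf_eq_one x
    rwa [hx4] at this
  obtain ⟨k, hk⟩ := exists_conj_mem_szQ hm hF hxp
  rw [card_sol_congr (MulAut.conj k) x, MulAut.conj_apply]
  have hk4 : orderOf (k * x * k⁻¹) = 4 := by rw [orderOf_conj', hx4]
  set x' := k * x * k⁻¹ with hx'
  have hcongr : Nat.card {y : Cfsg.Sz F m //
      Group.IsSolvable ↥(Subgroup.closure ({x', y} : Set (Cfsg.Sz F m)))} =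
      Nat.card {y : Cfsg.Sz F m // y ∈ szB F m ∨
        (y ∉ szB F m ∧ ∃ v, IsFpf hm hF v ∧ x' ∈ torN v ∧ y ∈ torN v)} :=
    Nat.card_congr (Equiv.subtypeEquivRight (fun y => sz_sol_order_four_iff hm hF hp hk hk4 y))
  rw [hcongr]
  have e := card_subtype_add_eq (fun y : Cfsg.Sz F m => y ∈ szB F m)
    (fun y => y ∉ szB F m ∧ ∃ v, IsFpf hm hF v ∧ x' ∈ torN v ∧ y ∈ torN v)
    (fun y => y ∈ szB F m ∨ (y ∉ szB F m ∧ ∃ v, IsFpf hm hF v ∧ x' ∈ torN v ∧ y ∈ torN v))
    (fun y h => Or.inl h) (fun y h => Or.inr h) (fun y h h' => h'.1 h) (fun y h => h)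
  rw [← e, card_sol_order_four_out hm hF hk hk4]
  have c1 : Nat.card {y : Cfsg.Sz F m // y ∈ szB F m} =
      (Fintype.card F) ^ 2 * (Fintype.card F - 1) := card_szB hm hF
  rw [c1]
  have hq : 1 ≤ Fintype.card F := Fintype.card_pos
  obtain ⟨q, hq'⟩ : ∃ q, Fintype.card F = q + 1 := ⟨Fintype.card F - 1, by omega⟩
  rw [hq', Nat.add_sub_cancel]
  ring

end Cfsg.Agent.Helper41.SzSol
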