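import Mathlib
import Cfsg.Agent.Helper41.SzSolJ

set_option autoImplicit false
set_option linter.style.haveILetI false

/-!
# Suzuki groups: the solubilizer of an involution, as a set
-/

namespace Cfsg.Agent.Helper41.SzSol

open Cfsg.Agent.Helper41.Sol Cfsg.Agent.Helper6

variable {F : Type*} [Field F] [Fintype F] {m : ℕ}

/-- the involutions of the translation group are central in it -/
theorem sU_zero_comm (hm : 1 ≤ m) (hF : Fintype.card F = 2 ^ (2 * m + 1)) (β a b : F) :
    sU hF 0 β * sU hF a b = sU hF a b * sU hF 0 β := by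
  rw [sU_mul hm hF, sU_mul hm hF, zero_pow (by positivity)]
  congr 1
  · ring
  · ring

theorem sU_zero_sq (hm : 1 ≤ m) (hF : Fintype.card F = 2 ^ (2 * m + 1)) (β : F) :
    sU hF 0 β * sU hF 0 β = 1 := by
  rw [sU_sq hm hF, zero_pow (by positivity), zero_mul, sU_zero hm hF]

theorem sU_zero_inv (hm : 1 ≤ m) (hF : Fintype.card F = 2 ^ (2 * m + 1)) (β : F) :
    (sU hF 0 β)⁻¹ = sU hF 0 β := inv_eq_of_mul_eq_one_left (sU_zero_sq hm hF β)

theorem sU_zero_ne_one (hm : 1 ≤ m) (hF : Fintype.card F = 2 ^ (2 * m + 1)) {β : F}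
    (hβ : β ≠ 0) : sU hF 0 β ≠ 1 := by
  rw [Ne, sU_eq_one_iff hm hF]
  exact fun h => hβ h.2

/-- the square roots of the identity in the translation group -/
theorem sq_eq_one_iff_of_mem_szQ (hm : 1 ≤ m) (hF : Fintype.card F = 2 ^ (2 * m + 1))
    {y : Cfsg.Sz F m} (hy : y ∈ szQ hm hF) : y * y = 1 ↔ ∃ b : F, y = sU hF 0 b := by
  obtain ⟨a, b, rfl⟩ := (mem_szQ_iff hm hF y).1 hy
  constructor
  · intro h
    rw [sU_sq hm hF, sU_eq_one_iff hm hF] at h
    have ha : a = 0 := by
      by_contra ha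
      exact mul_ne_zero (pow_ne_zero _ ha) ha h.2
    exact ⟨b, by rw [ha]⟩
  · rintro ⟨b', h⟩
    rw [h, sU_zero_sq hm hF]

/-- an element of the Borel subgroup whose square is a translation is a translation -/
theorem mem_szQ_of_sq_mem (hm : 1 ≤ m) (hF : Fintype.card F = 2 ^ (2 * m + 1))
    {z : Cfsg.Sz F m} (hz : z ∈ szB F m) (hzz : z * z ∈ szQ hm hF) : z ∈ szQ hm hF := by
  by_cases h2 : z * z = 1
  · apply mem_szQ_of_pow_four hm hF hz
    have : z ^ 4 = (z * z) * (z * z) := by
      simp only [pow_succ, pow_zero, one_mul, mul_assoc]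
    rw [this, h2, one_mul]
  · apply cent_le_szQ_of_mem hm hF hzz h2
    group

section invol

variable (hm : 1 ≤ m) (hF : Fintype.card F = 2 ^ (2 * m + 1)) {β : F}

include hm hF

/-- an element of the Borel subgroup inverted by a central involution is an involution -/
theorem sq_eq_one_of_inverted (hβ : β ≠ 0) {y : Cfsg.Sz F m} (hy : y ∈ szB F m)
    (hinv : sU hF 0 β * y * (sU hF 0 β)⁻¹ = y⁻¹) : y * y = 1 := by
  set t := sU hF 0 β with ht
  have htQ : t ∈ szQ hm hF := sU_mem_szQ hm hF 0 β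
  have h1 : y * t⁻¹ * y⁻¹ ∈ szQ hm hF :=
    conj_mem_szQ_of_mem_szB hm hF hy (Subgroup.inv_mem _ htQ)
  have h2 : (y * y)⁻¹ ∈ szQ hm hF := by
    have e : (y * y)⁻¹ = t * (y * t⁻¹ * y⁻¹) := by
      calc (y * y)⁻¹ = y⁻¹ * y⁻¹ := by group
        _ = (t * y * t⁻¹) * y⁻¹ := by rw [hinv]
        _ = _ := by group
    rw [e]
    exact Subgroup.mul_mem _ htQ h1
  have h3 : y * y ∈ szQ hm hF := by
    have := Subgroup.inv_mem _ h2
    rwa [inv_inv] at this
  have hyQ := mem_szQ_of_sq_mem hm hF hy h3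
  obtain ⟨a, b, rfl⟩ := (mem_szQ_iff hm hF y).1 hyQ
  have h4 : t * sU hF a b * t⁻¹ = sU hF a b := by
    rw [ht, sU_zero_comm hm hF]
    group
  rw [h4] at hinv
  calc sU hF a b * sU hF a b = sU hF a b * (sU hF a b)⁻¹ := by rw [← hinv]
    _ = 1 := mul_inv_cancel _

/-- an element of order four is not inverted -/
theorem not_inverted_of_orderOf_four {t y : Cfsg.Sz F m} (hy : orderOf y = 4)
    (hinv : t * y * t⁻¹ = y⁻¹) : False := by
  have hy1 : y ≠ 1 := by
    rintro rfl
    rw [orderOf_one] at hy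
    norm_num at hy
  have hy4 : y ^ 4 = 1 := by
    have := pow_orderOf_eq_one y
    rwa [hy] at this
  obtain ⟨k, hk⟩ := exists_conj_mem_szQ hm hF hy4
  obtain ⟨-, P, hP⟩ := (conjInto_szQ_iff hm hF y).1 ⟨hy1, k, hk⟩
  have h := (sz_real_two_elements hm hF P y hP hy1).1 (isConj_iff.2 ⟨t, hinv⟩)
  rw [hy] at h
  norm_num at h

/-- the solubilizer of an involution of the translation group, as a set -/
theorem sz_sol_invol_iff (hp : (2 * m + 1).Prime) (hβ : β ≠ 0) (y : Cfsg.Sz F m) :
    Group.IsSolvable ↥(Subgroup.closure ({sU hF 0 β, y} : Set (Cfsg.Sz F m))) ↔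
      y ∈ szB F m ∨ ((y ∉ szB F m ∧ y * y = 1) ∨
        ((y * y ≠ 1 ∧ sU hF 0 β * y * (sU hF 0 β)⁻¹ = y⁻¹) ∨
        (y ∉ szB F m ∧ orderOf y = 4 ∧
          ∃ v, IsFpf hm hF v ∧ sU hF 0 β ∈ torN v ∧ y ∈ torN v))) := by
  set t := sU hF 0 β with ht
  have htQ : t ∈ szQ hm hF := sU_mem_szQ hm hF 0 β
  have ht1 : t ≠ 1 := sU_zero_ne_one hm hF hβ
  have ht2 : t * t = 1 := sU_zero_sq hm hF β
  have ht4 : t ^ 4 = 1 := sU_pow_four hm hF 0 β
  constructor
  · intro hs
    by_cases hyB : y ∈ szB F m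
    · exact Or.inl hyB
    right
    rcases (sz_sol_iff hm hF hp t y).1 hs with ⟨k, hxk, hyk⟩ | ⟨u, hu, hxu, hyu⟩
    · exfalso
      apply hyB
      have hkB := conj_szB_eq_of_mem hm hF htQ ht1 ht4 hxk
      rw [mem_conjSub_iff] at hyk
      have : y = k * (k⁻¹ * y * k) * k⁻¹ := by group
      rw [this]
      exact Subgroup.mul_mem _ (Subgroup.mul_mem _ hkB hyk) (Subgroup.inv_mem _ hkB)
    · have hy1 : y ≠ 1 := by
        rintro rfl
        exact hyB (Subgroup.one_mem _)
      rcases isSS_cases hm hF hu with ⟨hu1, k, hk⟩ | hf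
      · -- a split torus
        have hcard : Nat.card (cen u) = Fintype.card F - 1 := by
          show Nat.card (Subgroup.centralizer ({u} : Set (Cfsg.Sz F m))) = _
          rw [cent_of_conj_szK hm hF hu1 hk, card_conjSub, card_szK]
        have hoddc : ∀ z ∈ cen u, z * z = 1 → z = 1 := by
          intro z hz hzz
          have h2 := orderOf_dvd_natCard (⟨z, hz⟩ : cen u)
          rw [Subgroup.orderOf_mk, hcard] at h2
          have h3 : orderOf z ∣ 2 := orderOf_dvd_of_pow_eq_one (by rw [pow_two]; exact hzz)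
          have hodd := card_F_sub_one_odd hF
          rcases (Nat.dvd_prime Nat.prime_two).1 h3 with h | h
          · exact orderOf_eq_one_iff.1 h
          · exact absurd (h ▸ h2) hodd
        rcases torN_split_cases hm hF hu1 hk hxu with h | ⟨-, hinv⟩
        · exact absurd (hoddc t h ht2) ht1
        · rcases torN_split_cases hm hF hu1 hk hyu with h | ⟨h, -⟩
          · right; left
            exact ⟨fun hyy => hy1 (hoddc y h hyy), hinv y h⟩
          · left
            exact ⟨hyB, h⟩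
      · -- a torus without fixed points
        have hinv := inverts_cen hm hF hf hxu ht2 ht1
        by_cases hyc : y ∈ cen u
        · right; left
          exact ⟨fun hyy => hy1 (eq_one_of_sq_cen hm hF hf hyc hyy), hinv y hyc⟩
        · by_cases hyy : y * y = 1
          · left
            exact ⟨hyB, hyy⟩
          · right; right
            exact ⟨hyB, orderOf_eq_four_of y (pow_four_eq_one_of_not_mem hm hF hf hyu hyc) hyy,
              u, hf, hxu, hyu⟩
  · rintro (h | ⟨-, h⟩ | ⟨-, h⟩ | ⟨-, -, v, hv, hxv, hyv⟩)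
    · rw [sz_sol_iff hm hF hp]
      left
      refine ⟨1, ?_, ?_⟩
      · rw [conjSub_one]; exact szQ_le_szB hm hF htQ
      · rw [conjSub_one]; exact h
    · exact isSolvable_closure_of_involutions ht2 h
    · exact isSolvable_closure_of_invert' h
    · rw [sz_sol_iff hm hF hp]
      right
      exact ⟨v, isFpf_isSS hm hF hv, hxv, hyv⟩

end invol

end Cfsg.Agent.Helper41.SzSol
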