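import Mathlib
import Cfsg.Agent.Helper41.SzSolK

set_option autoImplicit false
set_option linter.style.haveILetI false

/-!
# Suzuki groups: the solubilizer of an involution, the count
-/

namespace Cfsg.Agent.Helper41.SzSol

open Cfsg.Agent.Helper41.Sol Cfsg.Agent.Helper6

variable {F : Type*} [Field F] [Fintype F] {m : ℕ}

/-- the elements inverted by an involution correspond to the square roots of the identity -/
theorem card_inverted {G : Type*} [Group G] {t : G} (ht : t * t = 1) :
    Nat.card {y : G // t * y * t⁻¹ = y⁻¹} = Nat.card {z : G // z * z = 1} := by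
  have hti : t⁻¹ = t := inv_eq_of_mul_eq_one_left ht
  apply Nat.card_congr
  refine ⟨fun y => ⟨t * y.1, ?_⟩, fun z => ⟨t * z.1, ?_⟩, ?_, ?_⟩
  · obtain ⟨y, hy⟩ := y
    show t * y * (t * y) = 1
    rw [hti] at hy
    calc t * y * (t * y) = (t * y * t) * y := by group
      _ = 1 := by rw [hy, inv_mul_cancel]
  · obtain ⟨z, hz⟩ := z
    show t * (t * z) * t⁻¹ = (t * z)⁻¹
    have hzi : z⁻¹ = z := inv_eq_of_mul_eq_one_left hz
    rw [hti, mul_inv_rev, hti, hzi]
    calc t * (t * z) * t = (t * t) * z * t := by group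
      _ = z * t := by rw [ht, one_mul]
  · intro y
    apply Subtype.ext
    show t * (t * y.1) = y.1
    rw [← mul_assoc, ht, one_mul]
  · intro z
    apply Subtype.ext
    show t * (t * z.1) = z.1
    rw [← mul_assoc, ht, one_mul]

section counts

variable (hm : 1 ≤ m) (hF : Fintype.card F = 2 ^ (2 * m + 1))

include hm hF

/-- the square roots of the identity in the translation group -/
theorem card_szQ_sq_one :
    Nat.card {y : Cfsg.Sz F m // y ∈ szQ hm hF ∧ y * y = 1} = Fintype.card F := by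
  let f : F → {y : Cfsg.Sz F m // y ∈ szQ hm hF ∧ y * y = 1} :=
    fun b => ⟨sU hF 0 b, sU_mem_szQ hm hF 0 b, sU_zero_sq hm hF b⟩
  have hbij : Function.Bijective f := by
    constructor
    · intro b b' h
      have h1 : sU hF 0 b = sU hF 0 b' := congrArg Subtype.val h
      exact (sU_inj hF h1).2
    · rintro ⟨y, hy, hyy⟩
      obtain ⟨b, hb⟩ := (sq_eq_one_iff_of_mem_szQ hm hF hy).1 hyy
      exact ⟨b, Subtype.ext hb.symm⟩
  rw [← Nat.card_congr (Equiv.ofBijective f hbij), Nat.card_eq_fintype_card]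

theorem card_szB_sq_one :
    Nat.card {y : Cfsg.Sz F m // y ∈ szB F m ∧ y * y = 1} = Fintype.card F := by
  rw [← card_szQ_sq_one hm hF]
  apply Nat.card_congr
  apply Equiv.subtypeEquivRight
  intro y
  constructor
  · rintro ⟨h1, h2⟩
    refine ⟨mem_szQ_of_pow_four hm hF h1 ?_, h2⟩
    have : y ^ 4 = (y * y) * (y * y) := by
      simp only [pow_succ, pow_zero, one_mul, mul_assoc]
    rw [this, h2, one_mul]
  · rintro ⟨h1, h2⟩
    exact ⟨szQ_le_szB hm hF h1, h2⟩

theorem card_comm_sq_one {β : F} (hβ : β ≠ 0) :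
    Nat.card {y : Cfsg.Sz F m // y * y = 1 ∧ sU hF 0 β * y * (sU hF 0 β)⁻¹ = y⁻¹} =
      Fintype.card F := by
  rw [← card_szQ_sq_one hm hF]
  apply Nat.card_congr
  apply Equiv.subtypeEquivRight
  intro y
  constructor
  · rintro ⟨h1, h2⟩
    refine ⟨?_, h1⟩
    have hyi : y⁻¹ = y := inv_eq_of_mul_eq_one_left h1
    rw [hyi] at h2
    apply cent_le_szQ_of_mem hm hF (sU_mem_szQ hm hF 0 β) (sU_zero_ne_one hm hF hβ)
    calc y * sU hF 0 β = (sU hF 0 β * y * (sU hF 0 β)⁻¹) * sU hF 0 β := by rw [h2]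
      _ = sU hF 0 β * y := by group
  · rintro ⟨h1, h2⟩
    refine ⟨h2, ?_⟩
    obtain ⟨b, rfl⟩ := (sq_eq_one_iff_of_mem_szQ hm hF h1).1 h2
    rw [sU_zero_comm hm hF, sU_zero_inv hm hF b]
    group

omit hm hF in
/-- the square roots of the identity -/
theorem card_sq_one :
    Nat.card {y : Cfsg.Sz F m // y * y = 1} = 1 + Nat.card {y : Cfsg.Sz F m // orderOf y = 2} := by
  haveI : Finite (Cfsg.Sz F m) := inferInstance
  have e := card_subtype_add_eq (fun y : Cfsg.Sz F m => y = 1) (fun y => orderOf y = 2)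
    (fun y => y * y = 1) (fun y h => by rw [h, one_mul])
    (fun y h => by
      have := pow_orderOf_eq_one y
      rwa [h, pow_two] at this)
    (fun y h h' => by rw [h, orderOf_one] at h'; norm_num at h')
    (fun y h => by
      by_cases h1 : y = 1
      · exact Or.inl h1
      · right
        haveI : Fact (Nat.Prime 2) := ⟨Nat.prime_two⟩
        rw [orderOf_eq_prime_iff]
        exact ⟨by rw [pow_two]; exact h, h1⟩)
  rw [← e]
  congr 1
  rw [Nat.card_eq_one_iff_unique]
  exact ⟨⟨fun a b => Subtype.ext (by rw [a.2, b.2])⟩, ⟨⟨1, rfl⟩⟩⟩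

/-- the square roots of an involution of the translation group -/
theorem card_sqrt {β : F} (hβ : β ≠ 0) :
    Nat.card {w : Cfsg.Sz F m // w * w = sU hF 0 β} = Fintype.card F := by
  obtain ⟨a₀, ha₀⟩ := exists_pow_sigma_mul hF β
  let f : F → {w : Cfsg.Sz F m // w * w = sU hF 0 β} :=
    fun b => ⟨sU hF a₀ b, by rw [sU_sq hm hF, ha₀]⟩
  have hbij : Function.Bijective f := by
    constructor
    · intro b b' h
      have h1 : sU hF a₀ b = sU hF a₀ b' := congrArg Subtype.val h
      exact (sU_inj hF h1).2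
    · rintro ⟨w, hw⟩
      have hwQ : w ∈ szQ hm hF := by
        apply cent_le_szQ_of_mem hm hF (sU_mem_szQ hm hF 0 β) (sU_zero_ne_one hm hF hβ)
        rw [← hw]
        group
      obtain ⟨a, b, rfl⟩ := (mem_szQ_iff hm hF w).1 hwQ
      rw [sU_sq hm hF] at hw
      have h1 := (sU_inj hF hw).2
      have h2 : a = a₀ := by
        apply pow_sigma_succ_injective hF
        show a ^ (2 ^ (m + 1) + 1) = a₀ ^ (2 ^ (m + 1) + 1)
        rw [pow_succ a, pow_succ a₀, h1, ha₀]
      exact ⟨b, Subtype.ext (show sU hF a₀ b = sU hF a b from by rw [h2])⟩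
  rw [← Nat.card_congr (Equiv.ofBijective f hbij), Nat.card_eq_fintype_card]

end counts

end Cfsg.Agent.Helper41.SzSol
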