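import Mathlib
import Cfsg.Agent.Helper41.SzSolL

set_option autoImplicit false
set_option linter.style.haveILetI false

/-!
# Suzuki groups: the solubilizer of an involution
-/

namespace Cfsg.Agent.Helper41.SzSol

open Cfsg.Agent.Helper41.Sol Cfsg.Agent.Helper6

variable {F : Type*} [Field F] [Fintype F] {m : ℕ}

section invol

variable (hm : 1 ≤ m) (hF : Fintype.card F = 2 ^ (2 * m + 1)) {β : F}

include hm hF

/-- the elements of order four outside the Borel subgroup in the solubilizer of an involution -/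
theorem card_sol_invol_four (hβ : β ≠ 0) :
    Nat.card {y : Cfsg.Sz F m // y ∉ szB F m ∧ orderOf y = 4 ∧
      ∃ v, IsFpf hm hF v ∧ sU hF 0 β ∈ torN v ∧ y ∈ torN v} =
      Fintype.card F * (Fintype.card F) ^ 2 := by
  haveI : Finite (Cfsg.Sz F m) := inferInstance
  set t := sU hF 0 β with ht
  have htQ : t ∈ szQ hm hF := sU_mem_szQ hm hF 0 β
  have ht1 : t ≠ 1 := sU_zero_ne_one hm hF hβ
  have ht2 : t * t = 1 := sU_zero_sq hm hF β
  have hti : t⁻¹ = t := sU_zero_inv hm hF β
  -- square roots of `t` have order four and are translations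
  have hw4 : ∀ w : Cfsg.Sz F m, w * w = t → orderOf w = 4 := by
    intro w hw
    apply orderOf_eq_four_of
    · have : w ^ 4 = (w * w) * (w * w) := by
        simp only [pow_succ, pow_zero, one_mul, mul_assoc]
      rw [this, hw, ht2]
    · rw [hw]; exact ht1
  have hwQ : ∀ w : Cfsg.Sz F m, w * w = t → w ∈ szQ hm hF := by
    intro w hw
    apply cent_le_szQ_of_mem hm hF htQ ht1
    rw [← hw]
    group
  -- the pairs
  have hpairs : Nat.card {p : Cfsg.Sz F m × Cfsg.Sz F m //
      p.1 * p.1 = t ∧ (IsFpf hm hF p.2 ∧ p.1 ∈ torN p.2)} =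
      Fintype.card F * (Fintype.card F) ^ 2 := by
    rw [card_pairs_fst (fun w v : Cfsg.Sz F m => IsFpf hm hF v ∧ w ∈ torN v)
      (fun w => w * w = t) ((Fintype.card F) ^ 2)
      (fun w hw => hcount_order_four hm hF (hw4 w hw)), card_sqrt hm hF hβ]
  rw [← hpairs]
  symm
  let f : {p : Cfsg.Sz F m × Cfsg.Sz F m //
      p.1 * p.1 = t ∧ (IsFpf hm hF p.2 ∧ p.1 ∈ torN p.2)} →
      {y : Cfsg.Sz F m // y ∉ szB F m ∧ orderOf y = 4 ∧
        ∃ v, IsFpf hm hF v ∧ t ∈ torN v ∧ y ∈ torN v} :=
    fun p => ⟨p.1.2 * p.1.1 * p.1.2⁻¹, by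
      obtain ⟨⟨w, v⟩, hw, hv, hwv⟩ := p
      have hvN : v ∈ torN v := cen_le_torN v (self_mem_cen v)
      refine ⟨?_, ?_, v, hv, ?_, ?_⟩
      · intro hB
        have h4 : (v * w * v⁻¹) ^ 4 = 1 := by
          have := pow_orderOf_eq_one (v * w * v⁻¹)
          rwa [orderOf_conj', hw4 w hw] at this
        have hQ := mem_szQ_of_pow_four hm hF hB h4
        have hw1 : w ≠ 1 := by
          rintro rfl
          rw [one_mul] at hw
          exact ht1 hw.symm
        have := szQ_TI hm hF v w (hwQ w hw) hw1 hQ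
        rw [normalizer_szQ hm hF] at this
        exact not_mem_szB_of_isFpf hm hF hv this
      · show orderOf (v * w * v⁻¹) = 4
        rw [orderOf_conj', hw4 w hw]
      · rw [← hw]
        exact Subgroup.mul_mem _ hwv hwv
      · exact Subgroup.mul_mem _ (Subgroup.mul_mem _ hvN hwv) (Subgroup.inv_mem _ hvN)⟩
  have hbij : Function.Bijective f := by
    constructor
    · rintro ⟨⟨w, v⟩, hw, hv, hwv⟩ ⟨⟨w', v'⟩, hw', hv', hwv'⟩ h
      have h1 : v * w * v⁻¹ = v' * w' * v'⁻¹ := congrArg Subtype.val h
      -- squares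
      have htv : t ∈ torN v := by rw [← hw]; exact Subgroup.mul_mem _ hwv hwv
      have htv' : t ∈ torN v' := by rw [← hw']; exact Subgroup.mul_mem _ hwv' hwv'
      have hi := inverts_cen hm hF hv htv ht2 ht1 v (self_mem_cen v)
      have hi' := inverts_cen hm hF hv' htv' ht2 ht1 v' (self_mem_cen v')
      rw [hti] at hi hi'
      have hsq : ∀ (a b : Cfsg.Sz F m), b * b = t → t * a * t = a⁻¹ →
          (a * b * a⁻¹) * (a * b * a⁻¹) = a * a * t := by
        intro a b hb ha
        have ha' : t * a⁻¹ * t = a := by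
          have : t * a⁻¹ * t = (t * a * t)⁻¹ := by
            rw [mul_inv_rev, mul_inv_rev, hti]
            group
          rw [this, ha, inv_inv]
        calc a * b * a⁻¹ * (a * b * a⁻¹) = a * (b * b) * a⁻¹ := by group
          _ = a * t * a⁻¹ := by rw [hb]
          _ = a * (t * a⁻¹ * t) * t := by
            have : a * (t * a⁻¹ * t) * t = a * t * a⁻¹ * (t * t) := by group
            rw [this, ht2, mul_one]
          _ = a * a * t := by rw [ha']
      have h2 : v * v * t = v' * v' * t := by
        rw [← hsq v w hw hi, ← hsq v' w' hw' hi', h1]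
      have h3 : v * v = v' * v' := mul_right_cancel h2
      have hvv : v * v ∈ cen v := Subgroup.mul_mem _ (self_mem_cen v) (self_mem_cen v)
      have hvv1 : v * v ≠ 1 := fun h => hv.1 (eq_one_of_sq_cen hm hF hv (self_mem_cen v) h)
      have hvv' : v' * v' ∈ cen v' := Subgroup.mul_mem _ (self_mem_cen v') (self_mem_cen v')
      have hvv1' : v' * v' ≠ 1 :=
        fun h => hv'.1 (eq_one_of_sq_cen hm hF hv' (self_mem_cen v') h)
      have hc1 := cen_eq_of_mem hm hF hv hvv hvv1
      have hc2 := cen_eq_of_mem hm hF hv' hvv' hvv1'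
      rw [← h3, hc1] at hc2
      have hv'c : v' ∈ cen v := by rw [hc2]; exact self_mem_cen v'
      have hcomm : v * v' = v' * v := cen_comm hm hF hv (self_mem_cen v) hv'c
      have h5 : (v⁻¹ * v') * (v⁻¹ * v') = 1 := by
        have hcomm' : v' * v⁻¹ = v⁻¹ * v' := by
          calc v' * v⁻¹ = v⁻¹ * (v * v') * v⁻¹ := by group
            _ = v⁻¹ * (v' * v) * v⁻¹ := by rw [hcomm]
            _ = v⁻¹ * v' := by group
        calc v⁻¹ * v' * (v⁻¹ * v') = v⁻¹ * (v' * v⁻¹) * v' := by group
          _ = v⁻¹ * (v⁻¹ * v') * v' := by rw [hcomm']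
          _ = (v * v)⁻¹ * (v' * v') := by group
          _ = 1 := by rw [h3, inv_mul_cancel]
      have h6 : v⁻¹ * v' = 1 :=
        eq_one_of_sq_cen hm hF hv
          (Subgroup.mul_mem _ (Subgroup.inv_mem _ (self_mem_cen v)) hv'c) h5
      have h7 : v' = v := by
        calc v' = v * (v⁻¹ * v') := by group
          _ = v := by rw [h6, mul_one]
      subst h7
      have h8 : w = w' := by
        have : w = v'⁻¹ * (v' * w * v'⁻¹) * v' := by group
        rw [this, h1]
        group
      subst h8
      rfl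
    · rintro ⟨y, hyB, hy4, u, hu, htu, hyu⟩
      have hyc : y ∉ cen u := not_mem_cen_of_orderOf_four hm hF hu hy4
      have hy4' : y ^ 4 = 1 := by
        have := pow_orderOf_eq_one y
        rwa [hy4] at this
      set t' := y * y with ht'
      have ht'2 : t' * t' = 1 := by
        rw [ht', ← hy4']
        simp only [pow_succ, pow_zero, one_mul, mul_assoc]
      have ht'1 : t' ≠ 1 := by
        intro h
        have h2 : y ^ 2 = 1 := by rw [pow_two]; exact h
        have := orderOf_dvd_of_pow_eq_one h2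
        rw [hy4] at this
        norm_num at this
      have ht'u : t' ∈ torN u := Subgroup.mul_mem _ hyu hyu
      have hv₀ : t' * t ∈ cen u := invol_mul_mem_cen hm hF hu ht'u ht'2 ht'1 htu ht2 ht1
      obtain ⟨v, hvc, hvv⟩ := exists_sqrt_cen hm hF hu hv₀
      have hv1 : v ≠ 1 := by
        rintro rfl
        rw [one_mul] at hvv
        apply hyB
        apply szQ_le_szB hm hF
        apply cent_le_szQ_of_mem hm hF htQ ht1
        have htt : t' = t := by
          have : t' = t⁻¹ := eq_inv_of_mul_eq_one_left hvv.symm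
          rw [this, hti]
        rw [← htt, ht']
        group
      have hvf := fpf_of_mem_cen hm hF hu hvc hv1
      have hcv : Subgroup.centralizer ({v} : Set (Cfsg.Sz F m)) = Subgroup.centralizer {u} :=
        cen_eq_of_mem hm hF hu hvc hv1
      have hvu : v ∈ torN u := cen_le_torN u hvc
      have hi := inverts_cen hm hF hu ht'u ht'2 ht'1 v hvc
      have hti' : t'⁻¹ = t' := inv_eq_of_mul_eq_one_left ht'2
      rw [hti'] at hi
      have hww : (v⁻¹ * y * v) * (v⁻¹ * y * v) = t := by
        calc v⁻¹ * y * v * (v⁻¹ * y * v) = v⁻¹ * t' * v := by rw [ht']; group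
          _ = v⁻¹ * (t' * v * t') * t' := by
            have : v⁻¹ * (t' * v * t') * t' = v⁻¹ * t' * v * (t' * t') := by group
            rw [this, ht'2, mul_one]
          _ = (v * v)⁻¹ * t' := by rw [hi]; group
          _ = t := by
            rw [hvv, mul_inv_rev, hti, hti', mul_assoc, ht'2, mul_one]
      have hwu : v⁻¹ * y * v ∈ torN u :=
        Subgroup.mul_mem _ (Subgroup.mul_mem _ (Subgroup.inv_mem _ hvu) hyu) hvu
      have hwv : v⁻¹ * y * v ∈ torN v := by
        show _ ∈ Subgroup.normalizer _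
        rw [hcv]
        exact hwu
      refine ⟨⟨(v⁻¹ * y * v, v), hww, hvf, hwv⟩, ?_⟩
      apply Subtype.ext
      show v * (v⁻¹ * y * v) * v⁻¹ = y
      group
  exact Nat.card_congr (Equiv.ofBijective f hbij)

end invol

end Cfsg.Agent.Helper41.SzSol
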