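import Mathlib
import Cfsg.Agent.Helper41.SzSolM

set_option autoImplicit false
set_option linter.style.haveILetI false

/-!
# Suzuki groups: the size of the solubilizer of an involution
-/

namespace Cfsg.Agent.Helper41.SzSol

open Cfsg.Agent.Helper41.Sol Cfsg.Agent.Helper6

variable {F : Type*} [Field F] [Fintype F] {m : ℕ}

/-- the solubilizer of an involution of the translation group -/
theorem card_sol_sU_zero (hm : 1 ≤ m) (hF : Fintype.card F = 2 ^ (2 * m + 1))
    (hp : (2 * m + 1).Prime) {β : F} (hβ : β ≠ 0) :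
    Nat.card {y : Cfsg.Sz F m //
      Group.IsSolvable ↥(Subgroup.closure ({sU hF 0 β, y} : Set (Cfsg.Sz F m)))} =
      (Fintype.card F) ^ 2 * (4 * Fintype.card F - 3) := by
  haveI : Finite (Cfsg.Sz F m) := inferInstance
  set t := sU hF 0 β with ht
  set PA : Cfsg.Sz F m → Prop := fun y => y ∈ szB F m with hPA
  set PI : Cfsg.Sz F m → Prop := fun y => y ∉ szB F m ∧ y * y = 1 with hPI
  set PII : Cfsg.Sz F m → Prop := fun y => y * y ≠ 1 ∧ t * y * t⁻¹ = y⁻¹ with hPII
  set PIII : Cfsg.Sz F m → Prop := fun y => y ∉ szB F m ∧ orderOf y = 4 ∧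
    ∃ v, IsFpf hm hF v ∧ t ∈ torN v ∧ y ∈ torN v with hPIII
  have hcongr : Nat.card {y : Cfsg.Sz F m //
      Group.IsSolvable ↥(Subgroup.closure ({t, y} : Set (Cfsg.Sz F m)))} =
      Nat.card {y : Cfsg.Sz F m // PA y ∨ (PI y ∨ (PII y ∨ PIII y))} :=
    Nat.card_congr (Equiv.subtypeEquivRight (fun y => sz_sol_invol_iff hm hF hp hβ y))
  rw [hcongr]
  have e1 := card_subtype_add_eq PA (fun y => PI y ∨ (PII y ∨ PIII y))
    (fun y => PA y ∨ (PI y ∨ (PII y ∨ PIII y)))
    (fun y h => Or.inl h) (fun y h => Or.inr h)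
    (fun y h h' => by
      rcases h' with h' | h' | h'
      · exact h'.1 h
      · exact h'.1 (sq_eq_one_of_inverted hm hF hβ h h'.2)
      · exact h'.1 h)
    (fun y h => h)
  have e2 := card_subtype_add_eq PI (fun y => PII y ∨ PIII y)
    (fun y => PI y ∨ (PII y ∨ PIII y))
    (fun y h => Or.inl h) (fun y h => Or.inr h)
    (fun y h h' => by
      rcases h' with h' | h'
      · exact h'.1 h.2
      · have h2 : y ^ 2 = 1 := by rw [pow_two]; exact h.2
        have := orderOf_dvd_of_pow_eq_one h2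
        rw [h'.2.1] at this
        norm_num at this)
    (fun y h => h)
  have e3 := card_subtype_add_eq PII PIII (fun y => PII y ∨ PIII y)
    (fun y h => Or.inl h) (fun y h => Or.inr h)
    (fun y h h' => not_inverted_of_orderOf_four hm hF h'.2.1 h.2)
    (fun y h => h)
  have e4 := card_subtype_add_eq (fun y : Cfsg.Sz F m => y ∈ szB F m ∧ y * y = 1) PI
    (fun y => y * y = 1)
    (fun y h => h.2) (fun y h => h.2) (fun y h h' => h'.1 h.1)
    (fun y h => by
      by_cases hB : y ∈ szB F m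
      · exact Or.inl ⟨hB, h⟩
      · exact Or.inr ⟨hB, h⟩)
  have e5 := card_subtype_add_eq
    (fun y : Cfsg.Sz F m => y * y = 1 ∧ t * y * t⁻¹ = y⁻¹) PII
    (fun y => t * y * t⁻¹ = y⁻¹)
    (fun y h => h.2) (fun y h => h.2) (fun y h h' => h'.1 h.1)
    (fun y h => by
      by_cases hyy : y * y = 1
      · exact Or.inl ⟨hyy, h⟩
      · exact Or.inr ⟨hyy, h⟩)
  have c1 : Nat.card {y : Cfsg.Sz F m // PA y} =
      (Fintype.card F) ^ 2 * (Fintype.card F - 1) := card_szB hm hF
  have c4 := card_sol_invol_four hm hF hβ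
  have c5 := card_inverted (sU_zero_sq hm hF β)
  have c6 := card_szB_sq_one hm hF
  have c7 := card_comm_sq_one hm hF hβ
  have c8 := card_sq_one (F := F) (m := m)
  have c9 := card_order_two_mul hm hF
  rw [card_Sz hm hF] at c9
  rw [← e1, ← e2, ← e3, c1]
  rw [c6] at e4
  rw [c7, c5] at e5
  rw [show Nat.card {y : Cfsg.Sz F m // PIII y} = Fintype.card F * (Fintype.card F) ^ 2 from c4]
  rw [c8] at e4 e5
  set inv := Nat.card {y : Cfsg.Sz F m // orderOf y = 2} with hinv
  set I := Nat.card {y : Cfsg.Sz F m // PI y} with hI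
  set II := Nat.card {y : Cfsg.Sz F m // PII y} with hII
  have hq : 1 ≤ Fintype.card F := Fintype.card_pos
  obtain ⟨k, hk⟩ : ∃ k, Fintype.card F = k + 1 := ⟨Fintype.card F - 1, by omega⟩
  rw [hk] at c9 e4 e5 ⊢
  rw [Nat.add_sub_cancel] at c9 ⊢
  have hinv' : inv = ((k + 1) ^ 2 + 1) * k := by
    have hpos : 0 < (k + 1) ^ 2 := by positivity
    apply Nat.eq_of_mul_eq_mul_right hpos
    rw [c9]
    ring
  have hI' : I = (k + 1) ^ 2 * k := by
    have h1 : I + k = (k + 1) ^ 2 * k + k := by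
      have : I + k = inv := by omega
      rw [this, hinv']
      ring
    omega
  have hII' : II = (k + 1) ^ 2 * k := by
    have h1 : II + k = (k + 1) ^ 2 * k + k := by
      have : II + k = inv := by omega
      rw [this, hinv']
      ring
    omega
  rw [hI', hII']
  have e : 4 * (k + 1) - 3 = 4 * k + 1 := by omega
  rw [e]
  ring

/-- the solubilizer of an involution -/
theorem card_sol_order_two (hm : 1 ≤ m) (hF : Fintype.card F = 2 ^ (2 * m + 1))
    (hp : (2 * m + 1).Prime) {x : Cfsg.Sz F m} (hx2 : orderOf x = 2) :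
    Nat.card {y : Cfsg.Sz F m //
      Group.IsSolvable ↥(Subgroup.closure ({x, y} : Set (Cfsg.Sz F m)))} =
      (Fintype.card F) ^ 2 * (4 * Fintype.card F - 3) := by
  obtain ⟨-, k, hk⟩ := conjInto_szQ_of_orderOf_two hm hF hx2
  obtain ⟨a, b, hab⟩ := (mem_szQ_iff hm hF _).1 hk
  have ho : orderOf (sU hF a b) = 2 := by rw [← hab, orderOf_conj', hx2]
  obtain ⟨rfl, hb⟩ := (orderOf_sU_eq_two_iff hm hF a b).1 ho
  rw [card_sol_congr (MulAut.conj k) x, MulAut.conj_apply, hab]
  exact card_sol_sU_zero hm hF hp hb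

end Cfsg.Agent.Helper41.SzSol
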