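import Cfsg.Agent.Helper41.SL2TorusSum
import Cfsg.Agent.Helper15.ConjChar
import Cfsg.Agent.Helper15.IndChar

set_option autoImplicit false
set_option linter.unusedSectionVars false
set_option linter.unusedVariables false

/-!
# Non-split tori of `SL₂(q)`, `q` odd, and characters induced from them

* `torus_structure`: a cyclic subgroup of order `q + 1` is the centralizer of an elliptic element.
* `indFun_central_mul`: an induced function transforms under a central element of the subgroup.
* `indFun_torus_of_upper`: a function induced from a non-split torus vanishes at the non-scalar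
  upper triangular elements.
* `indFun_torus_apply`: the value `f c + f c⁻¹` at the non-scalar elements of the torus.
-/

namespace Cfsg.Agent.Helper41

open Matrix Cfsg Cfsg.Agent.Helper39 Cfsg.Agent.Helper42
open scoped ComplexConjugate

section general

variable {G : Type*} [Group G] [Fintype G]

/-- Induced functions and central elements of the subgroup. -/
theorem indFun_central_mul (H : Subgroup G) (z : G) (hzH : z ∈ H) (hz : ∀ g, z * g = g * z)
    (f : H → ℂ) (e : ℂ) (hf : ∀ h : H, f (⟨z, hzH⟩ * h) = e * f h) (g : G) :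
    indFun H f (z * g) = e * indFun H f g := by
  rw [Cfsg.Agent.Helper15.indFun_apply, Cfsg.Agent.Helper15.indFun_apply, ← mul_assoc,
    mul_comm e, mul_assoc]
  congr 1
  rw [Finset.mul_sum]
  apply Finset.sum_congr rfl
  intro x _
  have hconj : x⁻¹ * (z * g) * x = z * (x⁻¹ * g * x) := by
    rw [← mul_assoc, ← hz x⁻¹, mul_assoc, mul_assoc, mul_assoc]
  rw [hconj]
  by_cases hy : x⁻¹ * g * x ∈ H
  · rw [Cfsg.Agent.Helper15.extendByZero_of_mem H f hy,
      Cfsg.Agent.Helper15.extendByZero_of_mem H f (H.mul_mem hzH hy)]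
    exact hf ⟨_, hy⟩
  · have hy' : z * (x⁻¹ * g * x) ∉ H := by
      intro h
      apply hy
      have := H.mul_mem (H.inv_mem hzH) h
      rwa [inv_mul_cancel_left] at this
    rw [Cfsg.Agent.Helper15.extendByZero_of_not_mem H f hy,
      Cfsg.Agent.Helper15.extendByZero_of_not_mem H f hy', mul_zero]

end general

section sl2

variable {F : Type*} [Field F] [Fintype F] [DecidableEq F]

local notation "SL2F" => Matrix.SpecialLinearGroup (Fin 2) F
local notation "M2F" => Matrix (Fin 2) (Fin 2) F

/-- An eigenvalue gives a root of the characteristic polynomial. -/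
theorem rootCount_trace_ne_zero_of_eigen (g : SL2F) (c : F) (v : Fin 2 → F) (hv : v ≠ 0)
    (hgv : (g : M2F).mulVec v = c • v) : rootCount ((g : M2F).trace) ≠ 0 := by
  have hdet : ((g : M2F) - c • (1 : M2F)).det = 0 := by
    apply Matrix.exists_mulVec_eq_zero_iff.mp
    refine ⟨v, hv, ?_⟩
    rw [Matrix.sub_mulVec, hgv, Matrix.smul_mulVec, Matrix.one_mulVec, sub_self]
  have hg := g.det_coe
  rw [Matrix.det_fin_two] at hdet hg
  simp only [Matrix.sub_apply, Matrix.smul_apply, Matrix.one_apply_eq, smul_eq_mul, mul_one,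
    Matrix.one_apply_ne (show (0 : Fin 2) ≠ 1 by decide),
    Matrix.one_apply_ne (show (1 : Fin 2) ≠ 0 by decide), mul_zero, sub_zero] at hdet
  unfold rootCount
  intro h0
  rw [Finset.card_eq_zero, Finset.filter_eq_empty_iff] at h0
  apply h0 (Finset.mem_univ (-c))
  rw [Matrix.trace_fin_two]
  linear_combination hdet - hg

/-- An upper triangular element has an eigenvalue. -/
theorem rootCount_trace_ne_zero_of_upper (g : SL2F) (h10 : (g : M2F) 1 0 = 0) :
    rootCount ((g : M2F).trace) ≠ 0 := by
  apply rootCount_trace_ne_zero_of_eigen g ((g : M2F) 0 0) ![1, 0]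
  · intro h
    have := congrFun h 0
    simp at this
  · funext i
    fin_cases i
    · simp [Matrix.mulVec, dotProduct, Fin.sum_univ_two]
    · simp [Matrix.mulVec, dotProduct, Fin.sum_univ_two, h10]

/-- An element whose trace has no root has no eigenvector. -/
theorem no_eigen_of_rootCount_eq_zero (g : SL2F) (h0 : rootCount ((g : M2F).trace) = 0) :
    ∀ (c : F) (v : Fin 2 → F), v ≠ 0 → (g : M2F).mulVec v ≠ c • v :=
  fun c v hv h => rootCount_trace_ne_zero_of_eigen g c v hv h h0

theorem trace_conj_inv_mul (x g : SL2F) :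
    ((x⁻¹ * g * x : SL2F) : M2F).trace = (g : M2F).trace := by
  have := sl2_trace_conj x⁻¹ g
  rwa [inv_inv] at this

/-- A cyclic subgroup of order `q + 1` is a non-split torus. -/
theorem torus_structure (hodd : Odd (Fintype.card F)) (C : Subgroup SL2F) [hC : IsCyclic C]
    (hcard : Nat.card C = Fintype.card F + 1) :
    ∃ g₀ : SL2F, rootCount ((g₀ : M2F).trace) = 0 ∧
      C = Subgroup.centralizer ({g₀} : Set SL2F) := by
  have h2 : (2 : F) ≠ 0 := Ring.two_ne_zero (ringChar_ne_two_of_odd hodd)
  have hq3 : 3 ≤ Fintype.card F := by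
    have h1 : 1 < Fintype.card F := Fintype.one_lt_card
    obtain ⟨j, hj⟩ := hodd
    omega
  obtain ⟨c₀, hc₀⟩ := IsCyclic.exists_generator (α := C)
  have hord : orderOf c₀ = Fintype.card F + 1 := by
    rw [orderOf_eq_card_of_forall_mem_zpowers hc₀, hcard]
  refine ⟨(c₀ : SL2F), ?_⟩
  have hle : C ≤ Subgroup.centralizer ({(c₀ : SL2F)} : Set SL2F) := by
    intro x hx
    obtain ⟨k, hk⟩ := hc₀ ⟨x, hx⟩
    have hk' : (c₀ : SL2F) ^ k = x := by
      have := congrArg Subtype.val hk
      simpa using this
    rw [Subgroup.mem_centralizer_singleton_iff, ← hk']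
    exact ((Commute.refl (c₀ : SL2F)).zpow_left k).eq
  have hns : IsNonScalarSL (c₀ : SL2F) := by
    intro h
    have hsq : c₀ ^ 2 = 1 := by
      apply Subtype.ext
      rw [Subgroup.coe_pow, Subgroup.coe_one]
      rcases eq_one_or_zSL (c₀ : SL2F) h.1 h.2.1 h.2.2 with h' | h'
      · rw [h', one_pow]
      · rw [h', pow_two]
        apply sl2_ext
        · rw [zSL_mul_apply, zSL_00]; simp
        · rw [zSL_mul_apply, zSL_01]; simp
        · rw [zSL_mul_apply, zSL_10]; simp
        · rw [zSL_mul_apply, zSL_11]; simp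
    have := orderOf_dvd_of_pow_eq_one hsq
    rw [hord] at this
    have := Nat.le_of_dvd (by norm_num) this
    omega
  by_cases ht : ((c₀ : SL2F) : M2F).trace ^ 2 = 4
  · exfalso
    have h4 := card_centralizer_of_trace_sq_eq_four hodd (c₀ : SL2F) hns ht
    have hdvd := Subgroup.card_dvd_of_le hle
    rw [h4, hcard] at hdvd
    have hdvd2 : Fintype.card F + 1 ∣ 2 * (Fintype.card F + 1) - 2 * Fintype.card F :=
      Nat.dvd_sub (Dvd.intro_left 2 rfl) hdvd
    have h5 : 2 * (Fintype.card F + 1) - 2 * Fintype.card F = 2 := by omega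
    rw [h5] at hdvd2
    have := Nat.le_of_dvd (by norm_num) hdvd2
    omega
  · have hadd := Cfsg.Agent.S0809.card_centralizer_add_rootCount h2 (Nat.odd_iff.mp hodd)
      (c₀ : SL2F) ht
    have hle' := Subgroup.card_le_of_le hle
    refine ⟨by omega, ?_⟩
    exact Subgroup.eq_of_le_of_card_ge hle (by omega)

/-- A function induced from a non-split torus vanishes at the non-scalar upper triangular
elements. -/
theorem indFun_torus_of_upper (hodd : Odd (Fintype.card F)) (g₀ : SL2F)
    (hg₀ : rootCount ((g₀ : M2F).trace) = 0)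
    (f : Subgroup.centralizer ({g₀} : Set SL2F) → ℂ) (g : SL2F)
    (h10 : (g : M2F) 1 0 = 0) (hns : IsNonScalarSL g) :
    indFun (Subgroup.centralizer ({g₀} : Set SL2F)) f g = 0 := by
  rw [Cfsg.Agent.Helper15.indFun_apply]
  rw [Finset.sum_eq_zero, mul_zero]
  intro x _
  apply Cfsg.Agent.Helper15.extendByZero_of_not_mem
  intro hmem
  have hns' : IsNonScalarSL (x⁻¹ * g * x) := by
    apply isNonScalarSL_of_ne
    · intro h
      apply hns
      have hg1 : g = 1 := by
        have := congrArg (fun y => x * y * x⁻¹) h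
        simpa [mul_assoc] using this
      rw [hg1]
      simp
    · intro h
      apply hns
      have hgz : g = zSL := by
        have := congrArg (fun y => x * y * x⁻¹) h
        simp only [mul_assoc, mul_inv_cancel, mul_one, mul_inv_cancel_left] at this
        rw [this, ← mul_assoc, ← zSL_comm, mul_assoc, mul_inv_cancel, mul_one]
      rw [hgz]
      exact ⟨zSL_01, zSL_10, by rw [zSL_00, zSL_11]⟩
  have h0 := rootCount_trace_eq_zero_of_mem_centralizer hodd g₀ _ hg₀ hmem hns'
  rw [trace_conj_inv_mul] at h0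
  exact rootCount_trace_ne_zero_of_upper g h10 h0

/-- The value of a function induced from a non-split torus at a non-scalar element of the
torus. -/
theorem indFun_torus_apply (hodd : Odd (Fintype.card F)) (g₀ : SL2F)
    (hg₀ : rootCount ((g₀ : M2F).trace) = 0)
    (f : Subgroup.centralizer ({g₀} : Set SL2F) → ℂ)
    (c : Subgroup.centralizer ({g₀} : Set SL2F)) (hns : IsNonScalarSL (c : SL2F)) :
    indFun (Subgroup.centralizer ({g₀} : Set SL2F)) f c = f c + f c⁻¹ := by
  classical
  have h2 : (2 : F) ≠ 0 := Ring.two_ne_zero (ringChar_ne_two_of_odd hodd)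
  have ht₀ := sq_ne_four_of_rootCount_eq_zero _ hg₀
  have hg₀ns := not_scalar_of_trace_sq_ne_four (g₀ : M2F) g₀.det_coe ht₀
  have hrc := rootCount_trace_eq_zero_of_mem_centralizer hodd g₀ c hg₀ c.2 hns
  have htc := sq_ne_four_of_rootCount_eq_zero _ hrc
  have hcard₀ := Cfsg.Agent.S2429.card_centralizer_of_rootCount_eq_zero h2 (Nat.odd_iff.mp hodd)
    g₀ hg₀
  have hcardc := Cfsg.Agent.S2429.card_centralizer_of_rootCount_eq_zero h2 (Nat.odd_iff.mp hodd)
    (c : SL2F) hrc
  obtain ⟨w, hw⟩ := sl2_exists_conj_eq_inv (Nat.odd_iff.mp hodd) h2 (c : SL2F) htc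
  -- c ≠ c⁻¹
  have hcne : (c : SL2F) ≠ (c : SL2F)⁻¹ := by
    intro h
    have hcc : (c : SL2F) * (c : SL2F) = 1 := by
      nth_rewrite 2 [h]
      exact mul_inv_cancel _
    have h00 := congrArg (fun y : SL2F => (y : M2F) 0 0) hcc
    have h01 := congrArg (fun y : SL2F => (y : M2F) 0 1) hcc
    have h10 := congrArg (fun y : SL2F => (y : M2F) 1 0) hcc
    simp only [sl2_mul_00, sl2_mul_01, sl2_mul_10, Matrix.SpecialLinearGroup.coe_one,
      Matrix.one_apply_eq, Matrix.one_apply_ne (show (0 : Fin 2) ≠ 1 by decide),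
      Matrix.one_apply_ne (show (1 : Fin 2) ≠ 0 by decide)] at h00 h01 h10
    have hdet := (c : SL2F).det_coe
    rw [Matrix.det_fin_two] at hdet
    by_cases hs : ((c : SL2F) : M2F) 0 0 + ((c : SL2F) : M2F) 1 1 = 0
    · apply h2
      have hd : ((c : SL2F) : M2F) 1 1 = -((c : SL2F) : M2F) 0 0 := by linear_combination hs
      rw [hd] at hdet
      linear_combination -h00 - hdet
    · apply hns
      have hb : ((c : SL2F) : M2F) 0 1 = 0 := by
        have : ((c : SL2F) : M2F) 0 1 * (((c : SL2F) : M2F) 0 0 + ((c : SL2F) : M2F) 1 1) = 0 := by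
          linear_combination h01
        rcases mul_eq_zero.mp this with h' | h'
        · exact h'
        · exact absurd h' hs
      have hc' : ((c : SL2F) : M2F) 1 0 = 0 := by
        have : ((c : SL2F) : M2F) 1 0 * (((c : SL2F) : M2F) 0 0 + ((c : SL2F) : M2F) 1 1) = 0 := by
          linear_combination h10
        rcases mul_eq_zero.mp this with h' | h'
        · exact h'
        · exact absurd h' hs
      refine ⟨hb, hc', ?_⟩
      rw [hb, zero_mul, add_zero] at h00
      rw [hb, zero_mul, sub_zero] at hdet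
      have ha0 : ((c : SL2F) : M2F) 0 0 ≠ 0 := by
        intro h0
        rw [h0, zero_mul] at h00
        exact zero_ne_one h00
      have : ((c : SL2F) : M2F) 0 0 * (((c : SL2F) : M2F) 0 0 - ((c : SL2F) : M2F) 1 1) = 0 := by
        linear_combination h00 - hdet
      rcases mul_eq_zero.mp this with h' | h'
      · exact absurd h' ha0
      · exact sub_eq_zero.mp h'
  -- the two fibres
  have hterm : ∀ x : SL2F, extendByZero (Subgroup.centralizer ({g₀} : Set SL2F)) f
      (x⁻¹ * (c : SL2F) * x) =
      (if x⁻¹ * (c : SL2F) * x = (c : SL2F) then f c else 0) +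
      (if x⁻¹ * (c : SL2F) * x = (c : SL2F)⁻¹ then f c⁻¹ else 0) := by
    intro x
    by_cases hmem : x⁻¹ * (c : SL2F) * x ∈ Subgroup.centralizer ({g₀} : Set SL2F)
    · have hcomm := sl2_centralizer_comm g₀ _ _ hg₀ns hmem c.2
      have hmem' : x⁻¹ * (c : SL2F) * x ∈ Subgroup.centralizer ({(c : SL2F)} : Set SL2F) := by
        rw [Subgroup.mem_centralizer_singleton_iff]
        exact hcomm
      rcases eq_or_eq_inv_of_mem_centralizer_of_trace_eq h2 (c : SL2F) _
        (trace_conj_inv_mul x (c : SL2F)) htc hmem' with h | h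
      · rw [if_pos h, if_neg (by rw [h]; exact hcne), add_zero,
          Cfsg.Agent.Helper15.extendByZero_of_mem _ f hmem]
        congr 1
        exact Subtype.ext h
      · rw [if_neg (by rw [h]; exact hcne.symm), if_pos h, zero_add,
          Cfsg.Agent.Helper15.extendByZero_of_mem _ f hmem]
        congr 1
        exact Subtype.ext h
    · rw [Cfsg.Agent.Helper15.extendByZero_of_not_mem _ f hmem, if_neg, if_neg, add_zero]
      · intro h
        apply hmem
        rw [h]
        exact (Subgroup.centralizer ({g₀} : Set SL2F)).inv_mem c.2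
      · intro h
        apply hmem
        rw [h]
        exact c.2
  rw [Cfsg.Agent.Helper15.indFun_apply]
  simp only [hterm]
  rw [Finset.sum_add_distrib, ← Finset.sum_filter, ← Finset.sum_filter, Finset.sum_const,
    Finset.sum_const]
  have hS1 : (Finset.univ.filter (fun x : SL2F => x⁻¹ * (c : SL2F) * x = (c : SL2F))).card =
      Fintype.card F + 1 := by
    rw [← hcardc, Nat.card_eq_fintype_card, Fintype.card_subtype]
    congr 1
    ext x
    simp only [Finset.mem_filter, Finset.mem_univ, true_and]
    rw [Subgroup.mem_centralizer_singleton_iff]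
    constructor
    · intro h
      have := congrArg (fun y => x * y) h
      simp only [mul_assoc, mul_inv_cancel_left] at this
      exact this.symm
    · intro h
      rw [mul_assoc, ← h, inv_mul_cancel_left]
  have hS2 : (Finset.univ.filter (fun x : SL2F => x⁻¹ * (c : SL2F) * x = (c : SL2F)⁻¹)).card =
      Fintype.card F + 1 := by
    rw [← hS1]
    apply Finset.card_bij (fun x _ => x * w)
    · intro x hx
      rw [Finset.mem_filter] at hx ⊢
      refine ⟨Finset.mem_univ _, ?_⟩
      have e1 : (x * w)⁻¹ * (c : SL2F) * (x * w) = w⁻¹ * (x⁻¹ * (c : SL2F) * x) * w := by group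
      rw [e1, hx.2, ← hw]
      group
    · intro x _ y _ h
      exact mul_right_cancel h
    · intro y hy
      rw [Finset.mem_filter] at hy
      refine ⟨y * w⁻¹, ?_, by group⟩
      rw [Finset.mem_filter]
      refine ⟨Finset.mem_univ _, ?_⟩
      have e2 : (y * w⁻¹)⁻¹ * (c : SL2F) * (y * w⁻¹) = w * (y⁻¹ * (c : SL2F) * y) * w⁻¹ := by
        group
      rw [e2, hy.2, hw]
  rw [hS1, hS2, hcard₀]
  have hq1 : ((Fintype.card F + 1 : ℕ) : ℂ) ≠ 0 := by
    exact_mod_cast Nat.succ_ne_zero (Fintype.card F)
  simp only [nsmul_eq_mul]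
  rw [← mul_add, ← mul_assoc, inv_mul_cancel₀ hq1, one_mul]

end sl2

end Cfsg.Agent.Helper41
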