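import Cfsg.Agent.Helper66.PD2BL

/-!
# (B2) for S4707 (helper61): the sum of the exceptional characters at a nonidentity element of `P`
-/

set_option autoImplicit false
set_option linter.unusedSectionVars false
set_option linter.unusedVariables false
set_option linter.style.haveILetI false

namespace Cfsg.Agent.Helper41.TwoP

open Cfsg MulAction Cfsg.Agent.Helper66.PD2 Cfsg.Agent.Helper66.BL
open scoped ComplexConjugate

/-- (B2) -/
theorem sum_Y_apply {G : Type*} [Group G] [Finite G] {p : ℕ} [Fact p.Prime] {M : Ideal AlgInt}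
    {P : Sylow p G} {m : ℕ} {X Y : Set (IrrCharacter G)} {a : IrrCharacter G → ℤ} {d δ : ℤ}
    {ζ : ((P : Subgroup G) →* ℂˣ) → IrrCharacter G}
    (D : BLData M P m X Y a d δ ζ) (hab : IsMulCommutative P) (y : G)
    (hy : y ∈ (P : Subgroup G)) (hy1 : y ≠ 1) :
    ∑ᶠ η ∈ Y, (η : G → ℂ) y = (Nat.card Y : ℂ) * (d : ℂ) - (δ : ℂ) := by
  classical
  letI : CommGroup (P : Subgroup G) :=
    { (inferInstance : Group (P : Subgroup G)) with mul_comm := mul_comm' }
  haveI : Fintype (P : Subgroup G) := Fintype.ofFinite _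
  haveI : Finite ((P : Subgroup G) →* ℂˣ) := finite_hom
  haveI : Fintype ((P : Subgroup G) →* ℂˣ) := Fintype.ofFinite _
  haveI : Finite (IrrCharacter G) := Helper79.irr_finite'
  have hYfin : Y.Finite := Set.toFinite Y
  set y' : (P : Subgroup G) := ⟨y, hy⟩ with hy'
  have hy'1 : y' ≠ 1 := fun h => hy1 (congrArg Subtype.val h)
  set s : Finset ((P : Subgroup G) →* ℂˣ) := Finset.univ.erase 1 with hs
  -- the value of each exceptional character
  have hval : ∀ η ∈ hYfin.toFinset, (η : G → ℂ) y =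
      (d : ℂ) + (δ : ℂ) * ∑ ψ' ∈ s with ζ ψ' = η, ((ψ' y' : ℂˣ) : ℂ) := by
    intro η hη
    rw [Set.Finite.mem_toFinset] at hη
    obtain ⟨ψ, hψ, rfl⟩ := D.zeta_surj η hη
    have h := D.valY ψ hψ y y' (isPPart_self P hy) hy1
    rw [h]
    congr 2
    have hset : {ψ' : (P : Subgroup G) →* ℂˣ | Orb (P : Subgroup G) ψ ψ'} =
        ((s.filter fun ψ' => ζ ψ' = ζ ψ : Finset ((P : Subgroup G) →* ℂˣ)) :
          Set ((P : Subgroup G) →* ℂˣ)) := by
      ext ψ'
      simp only [Set.mem_ofPred_eq, Finset.coe_filter, hs, Finset.mem_erase, Finset.mem_univ,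
        and_true]
      constructor
      · intro h
        have h1 := orb_ne_one _ hψ h
        exact ⟨h1, (D.zeta_iff ψ ψ' hψ h1).mpr h⟩
      · rintro ⟨h1, h3⟩
        exact (D.zeta_iff ψ ψ' hψ h1).mp h3
    rw [hset, finsum_mem_coe_finset]
  rw [finsum_mem_eq_finite_toFinset_sum _ hYfin, Finset.sum_congr rfl hval,
    Finset.sum_add_distrib, ← Finset.mul_sum, Finset.sum_const, nsmul_eq_mul]
  have hmaps : ∀ ψ' ∈ s, ζ ψ' ∈ hYfin.toFinset := by
    intro ψ' hψ'
    rw [Set.Finite.mem_toFinset]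
    exact D.zeta_mem ψ' (Finset.ne_of_mem_erase hψ')
  rw [Finset.sum_fiberwise_of_maps_to hmaps, hs,
    Finset.sum_erase_eq_sub (Finset.mem_univ _), sum_over_hom_of_ne hy'1]
  have hcard : hYfin.toFinset.card = Nat.card Y := by
    rw [Nat.card_coe_set_eq, Set.ncard_eq_toFinset_card Y hYfin]
  rw [hcard]
  rw [MonoidHom.one_apply, Units.val_one]
  ring

end Cfsg.Agent.Helper41.TwoP
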