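-- helper41: piece (X) XFER of helper39 S3663 (#9233): the order of `SU_3(4)` and the transfer of `PSU_3(4)` over
-- any field with 16 elements to the concrete group `G0 = SU 3 GF16 4`.
import Mathlib
import Cfsg.Agent.Helper39.U34.Defs
import Cfsg.Agent.Helper45.SUCard

set_option autoImplicit false

namespace Cfsg.Agent.Helper41.U34X

open Cfsg.Agent.Helper39.U34

theorem card_SU34 {F : Type*} [Field F] [Fintype F] (hF : Fintype.card F = 16) :
    Nat.card (Cfsg.SU 3 F 4) = 62400 := by
  have h := Cfsg.Agent.Helper45.GU.card_SU (F := F) (q := 4) (by rw [hF]; norm_num) 3 (by norm_num)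
  have e0 : Even 0 := by decide
  have e1 : ¬ Even 1 := by decide
  have e2 : Even 2 := by decide
  rw [Finset.prod_range_succ, Finset.prod_range_succ, Finset.prod_range_succ, Finset.prod_range_zero] at h
  simp only [e0, e1, e2, if_true, if_false] at h
  norm_num at h
  omega

theorem card_G0 : Nat.card G0 = 62400 := card_SU34 GF16.card_eq

theorem center_SU34 {F : Type*} [Field F] [Fintype F] (hF : Fintype.card F = 16) :
    Subgroup.center (Cfsg.SU 3 F 4) = ⊥ := by
  apply Subgroup.eq_bot_of_card_eq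
  rw [Cfsg.Agent.Helper45.GU.card_center_SU (F := F) (q := 4) (by rw [hF]; norm_num) 3 (by norm_num)]
  norm_num

theorem hermForm_comp {F F' : Type*} [Field F] [Field F'] (e : F →+* F') (n q : ℕ) (u v : Fin n → F) :
    Cfsg.hermForm n F' q (e ∘ u) (e ∘ v) = e (Cfsg.hermForm n F q u v) := by
  unfold Cfsg.hermForm
  rw [map_sum]
  refine Finset.sum_congr rfl fun i _ => ?_
  rw [map_mul, map_pow]
  rfl

theorem map_mem_SU {F F' : Type*} [Field F] [Field F'] (e : F ≃+* F') (n q : ℕ)
    (g : Matrix.SpecialLinearGroup (Fin n) F) (hg : g ∈ Cfsg.SU n F q) :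
    Matrix.SpecialLinearGroup.map (e : F →+* F') g ∈ Cfsg.SU n F' q := by
  intro u v
  have hu : u = (e : F →+* F') ∘ (e.symm ∘ u) := by
    funext i
    simp
  have hv : v = (e : F →+* F') ∘ (e.symm ∘ v) := by
    funext i
    simp
  have key : ∀ w : Fin n → F, (Cfsg.slToMat n F' (Matrix.SpecialLinearGroup.map (e : F →+* F') g)).mulVec
      ((e : F →+* F') ∘ w) = (e : F →+* F') ∘ ((Cfsg.slToMat n F g).mulVec w) := by
    intro w
    funext i
    have := RingHom.map_mulVec (e : F →+* F') (g : Matrix (Fin n) (Fin n) F) w i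
    rw [Function.comp_apply]
    exact this.symm
  rw [hu, hv, key, key, hermForm_comp, hermForm_comp, hg]

theorem map_injective {F F' : Type*} [Field F] [Field F'] (e : F ≃+* F') (n : ℕ) :
    Function.Injective (Matrix.SpecialLinearGroup.map (n := Fin n) (e : F →+* F')) := by
  intro g h hgh
  apply Subtype.ext
  ext i j
  have := congrArg (fun x : Matrix.SpecialLinearGroup (Fin n) F' => (x : Matrix (Fin n) (Fin n) F') i j) hgh
  simp only [Matrix.SpecialLinearGroup.map_apply_coe, RingHom.mapMatrix_apply, Matrix.map_apply] at this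
  exact e.injective this

theorem psu_equiv {F : Type*} [Field F] [Fintype F] (hF : Fintype.card F = 16) :
    Nonempty (Cfsg.PSU 3 F 4 ≃* G0) := by
  let e : F ≃+* GF16 := FiniteField.ringEquivOfCardEq (by rw [hF, GF16.card_eq])
  let φ : ↥(Cfsg.SU 3 F 4) →* G0 :=
    MonoidHom.codRestrict
      ((Matrix.SpecialLinearGroup.map (e : F →+* GF16)).comp (Cfsg.SU 3 F 4).subtype)
      (Cfsg.SU 3 GF16 4) (fun g => map_mem_SU e 3 4 g.1 g.2)
  have hinj : Function.Injective φ := by
    intro a b hab
    have h1 := congrArg (fun g : G0 => (g : Matrix.SpecialLinearGroup (Fin 3) GF16)) hab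
    exact Subtype.ext (map_injective e 3 h1)
  have hcardF : Nat.card ↥(Cfsg.SU 3 F 4) = 62400 := card_SU34 hF
  have : Finite ↥(Cfsg.SU 3 F 4) := Nat.finite_of_card_ne_zero (by rw [hcardF]; norm_num)
  have : Finite G0 := Nat.finite_of_card_ne_zero (by rw [card_G0]; norm_num)
  have hbij : Function.Bijective φ :=
    hinj.bijective_of_nat_card_le (by rw [card_G0, hcardF])
  have e1 : Cfsg.PSU 3 F 4 ≃* ↥(Cfsg.SU 3 F 4) :=
    (QuotientGroup.quotientMulEquivOfEq (center_SU34 hF)).trans (QuotientGroup.quotientBot)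
  exact ⟨e1.trans (MulEquiv.ofBijective φ hbij)⟩

end Cfsg.Agent.Helper41.U34X
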