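import Mathlib
import Cfsg.Agent.Helper88.U3O.Defs
import Cfsg.Agent.Helper13.UGen1
import Cfsg.Agent.Helper45.GUCard

/-!
helper41, leaf (UZ) of helper88's farm #14345 (S2786, `PSU₃(q)`, `q` odd): the centre of the upper unitriangular
subgroup of the hyperbolic model of `SU₃`.
-/

set_option autoImplicit false

namespace Cfsg.Agent.Helper41.U3O

open Matrix Polynomial Cfsg.Agent.Helper84.RU3 Cfsg.Agent.Helper86.RU3 Cfsg.Agent.Helper45.GU
  Cfsg.Agent.S2587 Cfsg.Agent.Helper38.Cov2 Cfsg.Agent.Helper97.U3E Cfsg.Agent.Helper88.U3O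

variable {F : Type*} [Field F]

/-- the unitarity condition on `uM bar a b` -/
theorem cond_of_isUn_uM (bar : F →+* F) {a b : F} (h : IsUn bar (uM bar a b)) :
    b + bar b + a * bar a = 0 := by
  unfold IsUn uM Jm at h
  have h22 := congrFun (congrFun h 2) 2
  simp [Matrix.mul_apply, Fin.sum_univ_three] at h22
  linear_combination h22

/-- (UZ) the centre of the upper unitriangular subgroup (any `q`). -/
theorem center_UJ [Fintype F] (q : ℕ) (hF : Fintype.card F = q ^ 2)
    (bar : F →+* F) (hbar : ∀ x, bar x = x ^ q) (g : SUJ bar) (hg : g ∈ UJ bar)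
    (hc : ∀ x ∈ UJ bar, g * x = x * g) : ∃ b : F, b + bar b = 0 ∧ mt bar g = uM bar 0 b := by
  have hb : ∀ x, bar (bar x) = x := by
    intro x
    rw [hbar, hbar]
    exact Cfsg.Agent.Helper13.frob_frob hF x
  obtain ⟨a, b, hab⟩ := hg
  have hcond : b + bar b + a * bar a = 0 := by
    apply cond_of_isUn_uM bar
    rw [← hab]
    exact isUn_mt bar g
  -- the commutation with `uE a' b'`
  have key : ∀ a' b' : F, b' + bar b' + a' * bar a' = 0 → bar a * a' = bar a' * a := by
    intro a' b' h'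
    have hx : uE bar hb a' b' h' ∈ UJ bar := ⟨a', b', mt_uE bar hb a' b' h'⟩
    have h1 := congrArg (mt bar) (hc _ hx)
    rw [mt_mul, mt_mul, hab, mt_uE, uM_mul, uM_mul] at h1
    have h2 := (uM_injective bar h1).2
    linear_combination -h2
  -- `a' = 1`
  have hfix1 : (-1 : F) ^ q = -1 := by
    rw [← hbar, map_neg, map_one]
  obtain ⟨b₁, hb₁⟩ := Cfsg.Agent.Helper13.exists_trace_eq_of_fixed hF hfix1
  have h1 : bar a = a := by
    have := key 1 b₁ (by rw [hbar b₁, map_one, mul_one, hb₁]; ring)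
    rw [mul_one, map_one, one_mul] at this
    exact this
  -- `a' = s`, `bar s ≠ s`
  have hne : ∃ s : F, bar s ≠ s := by
    by_contra hcon
    push Not at hcon
    exact bar_ne_id hF bar hbar (RingHom.ext hcon)
  obtain ⟨s, hs⟩ := hne
  have hfix2 : (-(s * bar s)) ^ q = -(s * bar s) := by
    rw [← hbar, map_neg, map_mul, hb, mul_comm]
  obtain ⟨b₂, hb₂⟩ := Cfsg.Agent.Helper13.exists_trace_eq_of_fixed hF hfix2
  have h2 := key s b₂ (by rw [hbar b₂, hb₂]; ring)
  rw [h1] at h2
  have ha : a = 0 := by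
    have h3 : a * (s - bar s) = 0 := by linear_combination h2
    rcases mul_eq_zero.mp h3 with h | h
    · exact h
    · exact absurd (sub_eq_zero.mp h).symm hs
  refine ⟨b, ?_, ?_⟩
  · rw [ha] at hcond
    linear_combination hcond
  · rw [hab, ha]

end Cfsg.Agent.Helper41.U3O
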