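-- helper41: piece (G2) of helper44's S6001 (#9295): the standard group `R0 = {i^k • pw v}` is unitary.
import Mathlib
import Cfsg.Agent.Helper44.U4Defs
import Cfsg.Agent.S2677

set_option autoImplicit false
set_option linter.unusedSectionVars false
set_option linter.unusedSimpArgs false
open scoped MatrixGroups

namespace Cfsg.Agent.Helper41.U4

open Matrix Cfsg.Agent.Helper99.P4 Cfsg.Geo Cfsg.Agent.Helper44.U4

variable {F : Type*} [Field F]

theorem mX1_transpose : (mX1 : Matrix (Fin 4) (Fin 4) F)ᵀ = mX1 := by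
  ext i j; fin_cases i <;> fin_cases j <;> simp [mX1]
theorem mZ1_transpose : (mZ1 : Matrix (Fin 4) (Fin 4) F)ᵀ = mZ1 := by
  ext i j; fin_cases i <;> fin_cases j <;> simp [mZ1]
theorem mX2_transpose : (mX2 : Matrix (Fin 4) (Fin 4) F)ᵀ = mX2 := by
  ext i j; fin_cases i <;> fin_cases j <;> simp [mX2]
theorem mZ2_transpose : (mZ2 : Matrix (Fin 4) (Fin 4) F)ᵀ = mZ2 := by
  ext i j; fin_cases i <;> fin_cases j <;> simp [mZ2]

theorem mX1_map (f : F →+* F) : (mX1 : Matrix (Fin 4) (Fin 4) F).map f = mX1 := by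
  ext i j; fin_cases i <;> fin_cases j <;> simp [mX1]
theorem mZ1_map (f : F →+* F) : (mZ1 : Matrix (Fin 4) (Fin 4) F).map f = mZ1 := by
  ext i j; fin_cases i <;> fin_cases j <;> simp [mZ1]
theorem mX2_map (f : F →+* F) : (mX2 : Matrix (Fin 4) (Fin 4) F).map f = mX2 := by
  ext i j; fin_cases i <;> fin_cases j <;> simp [mX2]
theorem mZ2_map (f : F →+* F) : (mZ2 : Matrix (Fin 4) (Fin 4) F).map f = mZ2 := by
  ext i j; fin_cases i <;> fin_cases j <;> simp [mZ2]

/-- Pauli words have entries `0, ±1`, so are fixed by every ring endomorphism -/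
theorem pw_map (f : F →+* F) (v : V4) : (pw v : Matrix (Fin 4) (Fin 4) F).map f = pw v := by
  have h : f.mapMatrix (pw v : Matrix (Fin 4) (Fin 4) F) = pw v := by
    unfold pw
    simp only [map_mul, map_pow, RingHom.mapMatrix_apply, mX1_map, mZ1_map, mX2_map, mZ2_map]
  exact h

theorem pow_mul_pow_self {M : Type*} [Monoid M] (a : M) (h : a * a = 1) (n : ℕ) : a ^ n * a ^ n = 1 := by
  rw [← (Commute.refl a).mul_pow, h, one_pow]

theorem tele4 {M : Type*} [Monoid M] (A B C D : M) (hA : A * A = 1) (hB : B * B = 1) (hC : C * C = 1)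
    (hD : D * D = 1) : (A * B * C * D) * (D * C * B * A) = 1 := by
  have h : (A * B * C * D) * (D * C * B * A) = A * (B * (C * (D * D) * C) * B) * A := by
    simp only [mul_assoc]
  rw [h, hD, mul_one, hC, mul_one, hB, mul_one, hA]

/-- the transpose of a Pauli word is its inverse -/
theorem pw_transpose_mul (v : V4) : (pw v : Matrix (Fin 4) (Fin 4) F)ᵀ * pw v = 1 := by
  have ht : (pw v : Matrix (Fin 4) (Fin 4) F)ᵀ =
      mZ2 ^ v.2.2.2.val * mX2 ^ v.2.2.1.val * mZ1 ^ v.2.1.val * mX1 ^ v.1.val := by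
    unfold pw
    simp only [Matrix.transpose_mul, Matrix.transpose_pow, mX1_transpose, mZ1_transpose, mX2_transpose,
      mZ2_transpose, Matrix.mul_assoc]
  rw [ht]
  unfold pw
  exact tele4 _ _ _ _ (pow_mul_pow_self _ mZ2_sq _) (pow_mul_pow_self _ mX2_sq _)
    (pow_mul_pow_self _ mZ1_sq _) (pow_mul_pow_self _ mX1_sq _)

theorem pw_transpose (v : V4) : (pw v : Matrix (Fin 4) (Fin 4) F)ᵀ = (sg (eps v v) : F) • pw v := by
  calc (pw v : Matrix (Fin 4) (Fin 4) F)ᵀ = (pw v)ᵀ * (pw v * ((sg (eps v v) : F) • pw v)) := by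
        rw [pw_mul_inv, Matrix.mul_one]
    _ = (sg (eps v v) : F) • pw v := by rw [← Matrix.mul_assoc, pw_transpose_mul, Matrix.one_mul]

/-- (G2) the standard group is unitary -/
theorem R0_le_GU {p : ℕ} (bar : F →+* F) (hbar : ∀ x, bar x = x ^ p) {i : F} (hi : i ^ 2 = -1)
    (hbi : bar i = -i) : R0 i hi ≤ Cfsg.GU 4 F p := by
  intro g hg
  obtain ⟨k, v, hgv⟩ := hg
  rw [Cfsg.Agent.S2677.mem_GU_iff_matrix 4 bar hbar g, hgv, Matrix.transpose_smul,
    Matrix.map_smul' (⇑bar) (i ^ k) (pw v) (map_mul bar), pw_map, Matrix.smul_mul, Matrix.mul_smul,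
    pw_transpose_mul, smul_smul, map_pow, hbi, ← mul_pow]
  have h1 : i * -i = 1 := by
    have : i * -i = -(i ^ 2) := by ring
    rw [this, hi, neg_neg]
  rw [h1, one_pow, one_smul]

end Cfsg.Agent.Helper41.U4
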