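-- helper41: piece (G3) of helper44's S6001 (#9295): a matrix conjugating the standard group `R0` into `GU_4`
-- can be rescaled to a unitary matrix.
import Mathlib
import Cfsg.Agent.Helper44.U4Defs
import Cfsg.Agent.S2677
import Cfsg.Agent.Helper41.U4G2

set_option autoImplicit false
set_option linter.unusedSectionVars false
set_option linter.unusedSimpArgs false
open scoped MatrixGroups

namespace Cfsg.Agent.Helper41.U4

open Matrix Cfsg.Agent.Helper99.P4 Cfsg.Geo Cfsg.Agent.Helper44.U4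

variable {F : Type*} [Field F]

/-- (G3) a conjugating matrix can be taken unitary.  `hU4` is helper99's (U4) `scalar_of_commute`. -/
theorem exists_unitary_conj {p : ℕ} (bar : F →+* F) (hbar : ∀ x, bar x = x ^ p)
    (hinv : ∀ a, bar (bar a) = a) (hnorm : ∀ c : F, bar c = c → ∃ μ : F, μ * bar μ = c)
    (hU4 : ∀ M : Matrix (Fin 4) (Fin 4) F, (∀ v : V4, M * pw v = pw v * M) → ∃ c : F, M = c • 1)
    {i : F} (hi : i ^ 2 = -1) (hR0U : R0 i hi ≤ Cfsg.GU 4 F p) (P : GL (Fin 4) F)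
    (hP : (R0 i hi).map (MulAut.conj P).toMonoidHom ≤ Cfsg.GU 4 F p) :
    ∃ P' : GL (Fin 4) F, P' ∈ Cfsg.GU 4 F p ∧ ∀ g : GL (Fin 4) F, P' * g * P'⁻¹ = P * g * P⁻¹ := by
  -- notation
  obtain ⟨pm, hpm⟩ : ∃ pm : Matrix (Fin 4) (Fin 4) F, pm = (P : Matrix (Fin 4) (Fin 4) F) := ⟨_, rfl⟩
  obtain ⟨pi, hpi⟩ : ∃ pi : Matrix (Fin 4) (Fin 4) F, pi = ((P⁻¹ : GL (Fin 4) F) : Matrix (Fin 4) (Fin 4) F) :=
    ⟨_, rfl⟩
  have hpp : pm * pi = 1 := by
    rw [hpm, hpi, ← Units.val_mul, mul_inv_cancel, Units.val_one]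
  have hpp' : pi * pm = 1 := by
    rw [hpm, hpi, ← Units.val_mul, inv_mul_cancel, Units.val_one]
  obtain ⟨M, hM⟩ : ∃ M : Matrix (Fin 4) (Fin 4) F, M = pmᵀ * pm.map bar := ⟨_, rfl⟩
  -- `M` commutes with the Pauli words
  have hcomm : ∀ v : V4, M * pw v = pw v * M := by
    intro v
    have hmem : P * pwG v * P⁻¹ ∈ Cfsg.GU 4 F p := by
      apply hP
      exact ⟨pwG v, pwG_mem_R0 hi v, rfl⟩
    rw [Cfsg.Agent.S2677.mem_GU_iff_matrix 4 bar hbar] at hmem
    have hval : ((P * pwG v * P⁻¹ : GL (Fin 4) F) : Matrix (Fin 4) (Fin 4) F) = pm * pw v * pi := by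
      rw [Units.val_mul, Units.val_mul, pwG_val, hpm, hpi]
    rw [hval] at hmem
    -- `t * pm = pm * w`
    have htp : pm * pw v * pi * pm = pm * pw v := by
      rw [Matrix.mul_assoc, hpp', Matrix.mul_one]
    have h1 : (pm * pw v)ᵀ * (pm * pw v).map bar = M := by
      calc (pm * pw v)ᵀ * (pm * pw v).map bar
          = (pm * pw v * pi * pm)ᵀ * (pm * pw v * pi * pm).map bar := by rw [htp]
        _ = pmᵀ * ((pm * pw v * pi)ᵀ * (pm * pw v * pi).map bar) * pm.map bar := by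
            rw [Matrix.transpose_mul, Matrix.map_mul]
            simp only [Matrix.mul_assoc]
        _ = M := by rw [hmem, Matrix.mul_one, hM]
    have h2 : (pm * pw v)ᵀ * (pm * pw v).map bar = (pw v)ᵀ * M * pw v := by
      rw [Matrix.transpose_mul, Matrix.map_mul, pw_map, hM]
      simp only [Matrix.mul_assoc]
    have h3 : (pw v)ᵀ * M * pw v = M := by rw [← h2, h1]
    have hw : pw v * (pw v : Matrix (Fin 4) (Fin 4) F)ᵀ = 1 := mul_eq_one_comm.mp (pw_transpose_mul v)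
    have h4 : (pw v)ᵀ * M = M * (pw v)ᵀ := by
      calc (pw v)ᵀ * M = (pw v)ᵀ * M * (pw v * (pw v)ᵀ) := by rw [hw, Matrix.mul_one]
        _ = ((pw v)ᵀ * M * pw v) * (pw v)ᵀ := by simp only [Matrix.mul_assoc]
        _ = M * (pw v)ᵀ := by rw [h3]
    rw [pw_transpose, Matrix.smul_mul, Matrix.mul_smul] at h4
    have h5 := congrArg (fun X => (sg (eps v v) : F) • X) h4
    simp only [smul_smul, sg_mul_self, one_smul] at h5
    exact h5.symm
  obtain ⟨c, hc⟩ := hU4 M hcomm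
  -- `bar c = c`
  have hMbar : M.map bar = Mᵀ := by
    rw [hM, Matrix.map_mul, Matrix.transpose_mul, Matrix.transpose_transpose, Matrix.transpose_map]
    congr 1
    ext a b
    simp [hinv]
  have hbc : bar c = c := by
    have h := congrFun (congrFun hMbar 0) 0
    rw [hc] at h
    simpa using h
  -- `c ≠ 0`
  have hdet : pm.det ≠ 0 := by
    intro h0
    have := congrArg Matrix.det hpp
    rw [Matrix.det_mul, h0, zero_mul, Matrix.det_one] at this
    exact zero_ne_one this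
  have hc0 : c ≠ 0 := by
    intro h0
    have h1 : M.det = pm.det * bar pm.det := by
      rw [hM, Matrix.det_mul, Matrix.det_transpose, RingHom.map_det, RingHom.mapMatrix_apply]
    rw [hc, h0, zero_smul, Matrix.det_zero] at h1
    have h2 : bar pm.det ≠ 0 := by
      intro hb
      apply hdet
      rw [← hinv pm.det, hb, map_zero]
    exact mul_ne_zero hdet h2 h1.symm
  obtain ⟨μ, hμ⟩ := hnorm c hbc
  have hμ0 : μ ≠ 0 := by
    intro h0
    apply hc0
    rw [← hμ, h0, zero_mul]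
  have hbμ0 : bar μ ≠ 0 := by
    intro h0
    apply hc0
    rw [← hμ, h0, mul_zero]
  -- the rescaled matrix
  have hu1 : (μ⁻¹ • pm) * (μ • pi) = 1 := by
    rw [Matrix.smul_mul, Matrix.mul_smul, smul_smul, hpp, inv_mul_cancel₀ hμ0, one_smul]
  have hu2 : (μ • pi) * (μ⁻¹ • pm) = 1 := by
    rw [Matrix.smul_mul, Matrix.mul_smul, smul_smul, hpp', mul_inv_cancel₀ hμ0, one_smul]
  refine ⟨⟨μ⁻¹ • pm, μ • pi, hu1, hu2⟩, ?_, ?_⟩
  · rw [Cfsg.Agent.S2677.mem_GU_iff_matrix 4 bar hbar]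
    show (μ⁻¹ • pm)ᵀ * (μ⁻¹ • pm).map bar = 1
    rw [Matrix.transpose_smul, Matrix.map_smul' (⇑bar) μ⁻¹ pm (map_mul bar), Matrix.smul_mul, Matrix.mul_smul,
      smul_smul, ← hM, hc, smul_smul, map_inv₀]
    have : μ⁻¹ * (bar μ)⁻¹ * c = 1 := by
      rw [← hμ]
      field_simp
    rw [this, one_smul]
  · intro g
    apply Units.ext
    show (μ⁻¹ • pm) * (g : Matrix (Fin 4) (Fin 4) F) * (μ • pi) = (P * g * P⁻¹ : GL (Fin 4) F).val
    rw [Units.val_mul, Units.val_mul, ← hpm, ← hpi, Matrix.smul_mul, Matrix.smul_mul, Matrix.mul_smul, smul_smul,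
      inv_mul_cancel₀ hμ0, one_smul]

end Cfsg.Agent.Helper41.U4
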