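import Mathlib
import Cfsg.Agent.Helper99.UNdDefs
import Cfsg.Agent.Helper43.JordanGL

/-!
# (EP) of #7815 for helper99 (S5954): unipotent unitary elements with small Jordan blocks are
elements of "order `p`" (helper41)
-/

set_option autoImplicit false

namespace Cfsg.Agent.Helper41.UNdEP

open Matrix Polynomial
open Cfsg.Agent.Helper99.UNd

variable {F : Type*} [Field F]

/-- (EP) unipotent unitary elements with small Jordan blocks are elements of "order `p`" -/
theorem isElt_of_unip (p : ℕ) [Fact p.Prime] [CharP F p] {q n : ℕ} (g : GL (Fin n) F)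
    (hg : IsUM n q (g : Matrix (Fin n) (Fin n) F)) (hu : Cfsg.Agent.Helper43.SS.IsUnip g)
    (hle : ∀ a ∈ Cfsg.Agent.Helper43.SS.jtype g, a ≤ p)
    (hne : ∃ a ∈ Cfsg.Agent.Helper43.SS.jtype g, 1 < a) :
    IsElt n q p (g : Matrix (Fin n) (Fin n) F) := by
  have hJ := Cfsg.Agent.Helper43.SS.jtype_spec g hu
  have hsum := hJ.sum_eq
  obtain ⟨a, ha, ha1⟩ := hne
  have hn : 0 < n := by
    have := List.single_le_sum (fun x _ => Nat.zero_le x) a ha
    omega
  have : Nonempty (Fin n) := ⟨⟨0, hn⟩⟩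
  have : NeZero n := ⟨hn.ne'⟩
  have hNp : Cfsg.Agent.Helper43.SS.nilPart g ^ p = 0 := (hJ.pow_eq_zero_iff p).mpr hle
  have hgp : (g : Matrix (Fin n) (Fin n) F) ^ p = 1 := by
    have h1 : ((g : Matrix (Fin n) (Fin n) F) - 1) ^ p = (g : Matrix (Fin n) (Fin n) F) ^ p - 1 ^ p :=
      sub_pow_char_of_commute p (Commute.one_right _)
    rw [one_pow] at h1
    have h2 : ((g : Matrix (Fin n) (Fin n) F) - 1) ^ p = 0 := hNp
    rw [h2] at h1
    exact (sub_eq_zero.mp h1.symm)
  refine ⟨hg, ?_, ⟨1, by rw [hgp, one_smul]⟩, ?_⟩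
  · have hd : (g : Matrix (Fin n) (Fin n) F).det ^ p = 1 := by
      rw [← Matrix.det_pow, hgp, Matrix.det_one]
    apply frobenius_inj F p
    rw [frobenius_def, frobenius_def, hd, one_pow]
  · intro z hz
    have hN : Cfsg.Agent.Helper43.SS.nilPart g = (z - 1) • (1 : Matrix (Fin n) (Fin n) F) := by
      show (g : Matrix (Fin n) (Fin n) F) - 1 = _
      rw [hz, sub_smul, one_smul]
    have hz1 : (z - 1) ^ p = 0 := by
      have h3 := hNp
      rw [hN, _root_.smul_pow, one_pow] at h3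
      have h4 := congrFun (congrFun h3 ⟨0, hn⟩) ⟨0, hn⟩
      simpa using h4
    have hz0 : z - 1 = 0 := pow_eq_zero_iff (Fact.out : p.Prime).ne_zero |>.mp hz1
    have hN1 : Cfsg.Agent.Helper43.SS.nilPart g ^ 1 = 0 := by
      rw [pow_one, hN, hz0, zero_smul]
    have := (hJ.pow_eq_zero_iff 1).mp hN1 a ha
    omega

end Cfsg.Agent.Helper41.UNdEP
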