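import Mathlib
import Cfsg.Agent.Helper99.UNdDefs
import Cfsg.Agent.Helper43.SSPrime

/-!
# (PF) of #7815 for helper99 (S5954): irreducible factors of the characteristic polynomial of a
matrix with `A ^ r = z` (helper41)
-/

set_option autoImplicit false

namespace Cfsg.Agent.Helper41.UNdPF

open Matrix Polynomial
open Cfsg.Agent.Helper99.UNd

variable {F : Type*} [Field F]

/-- (PF) irreducible factors of the characteristic polynomial of a matrix with `A ^ r = z` -/
theorem dvd_of_dvd_charpoly_of_pow {n r : ℕ} (z : F) (hz : z ≠ 0) (hrF : (r : F) ≠ 0)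
    (A : Matrix (Fin n) (Fin n) F) (hA : A ^ r = z • (1 : Matrix (Fin n) (Fin n) F))
    (P : F[X]) (hPm : P.Monic) (hPi : Irreducible P) (hP : P ∣ A.charpoly) :
    P ∣ (X ^ r - C z : F[X]) := by
  refine Cfsg.Agent.Helper43.SS.dvd_of_dvd_charpoly A _ ?_ ?_ P hPm hPi hP
  · exact (Polynomial.separable_X_pow_sub_C z hrF hz).squarefree
  · rw [map_sub, map_pow, aeval_X, aeval_C, hA, Algebra.algebraMap_eq_smul_one, sub_self]

end Cfsg.Agent.Helper41.UNdPF
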