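import Mathlib
import Cfsg.Agent.Helper38.VL.Defs

/-!
helper41, leaf (LA5) of helper38's farm #13454 for S3777 (Vaughan-Lee): vectors outside a hyperplane.
-/

set_option autoImplicit false

namespace Cfsg.Agent.Helper41.VL

/-- a non-zero functional to a field is surjective -/
theorem dual_surjective_of_ne_zero {p : ℕ} [Fact p.Prime] {V : Type*} [AddCommGroup V]
    [Module (ZMod p) V] (α₀ : Module.Dual (ZMod p) V) (hα₀ : α₀ ≠ 0) : Function.Surjective α₀ := by
  have h : ∃ v, α₀ v ≠ 0 := by
    by_contra hcon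
    push Not at hcon
    exact hα₀ (LinearMap.ext hcon)
  obtain ⟨v, hv⟩ := h
  intro c
  refine ⟨(c * (α₀ v)⁻¹) • v, ?_⟩
  rw [map_smul, smul_eq_mul, mul_assoc, inv_mul_cancel₀ hv, mul_one]

/-- the kernel of a non-zero functional has index `p` -/
theorem card_ker_mul {p : ℕ} [Fact p.Prime] {V : Type*} [AddCommGroup V]
    [Module (ZMod p) V] [Finite V] (α₀ : Module.Dual (ZMod p) V) (hα₀ : α₀ ≠ 0) :
    Nat.card {v : V // α₀ v = 0} * p = Nat.card V := by
  have h1 := AddSubgroup.card_mul_index (α₀.toAddMonoidHom.ker)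
  have h2 : (α₀.toAddMonoidHom.ker).index = p := by
    rw [AddSubgroup.index_ker]
    have hs : Function.Surjective α₀.toAddMonoidHom := dual_surjective_of_ne_zero α₀ hα₀
    rw [AddMonoidHom.range_eq_top.mpr hs]
    rw [Nat.card_congr (AddSubgroup.topEquiv (G := ZMod p)).toEquiv, Nat.card_zmod]
  rw [h2] at h1
  rw [← h1]
  rfl

/-- the complement count in a finite type, for a predicate -/
theorem card_ne_add_card_eq {X : Type*} [Finite X] (P : X → Prop) :
    Nat.card {x : X // ¬ P x} + Nat.card {x : X // P x} = Nat.card X := by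
  classical
  have := Fintype.ofFinite X
  rw [Nat.card_eq_fintype_card, Nat.card_eq_fintype_card, Nat.card_eq_fintype_card]
  have h := Fintype.card_subtype_compl (fun x => P x)
  have h2 : Fintype.card {x // P x} ≤ Fintype.card X := Fintype.card_subtype_le _
  omega

/-- (LA5) vectors outside a hyperplane. -/
theorem card_not_ker {p : ℕ} [Fact p.Prime] {V : Type*} [AddCommGroup V]
    [Module (ZMod p) V] [Finite V] (α₀ : Module.Dual (ZMod p) V) (hα₀ : α₀ ≠ 0) :
    p * Nat.card {v : V // α₀ v ≠ 0} = (p - 1) * Nat.card V := by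
  have h1 := card_ker_mul α₀ hα₀
  have h2 := card_ne_add_card_eq (fun v : V => α₀ v = 0)
  have hp : 1 ≤ p := (Fact.out : p.Prime).one_lt.le
  obtain ⟨m, hm⟩ : ∃ m, p = m + 1 := ⟨p - 1, by omega⟩
  have e : Nat.card {v : V // α₀ v ≠ 0} = Nat.card {v : V // ¬ α₀ v = 0} := rfl
  rw [e]
  set a := Nat.card {v : V // ¬ α₀ v = 0} with ha
  set k := Nat.card {v : V // α₀ v = 0} with hk
  rw [← h1] at h2 ⊢
  have h3 : a = k * p - k := by omega
  rw [h3, hm, Nat.add_sub_cancel]
  have : k * (m + 1) - k = k * m := by rw [Nat.mul_succ, Nat.add_sub_cancel]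
  rw [this]
  ring

end Cfsg.Agent.Helper41.VL
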