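import Mathlib
import Cfsg.Agent.Helper43.XS.Defs

/-!
# (F5) of #8578 for helper43 (S6002): the five involutions `S₀,…,S₃,S₀S₁S₂S₃` pairwise anticommute
(helper41).  Also: the normal-ordering rewriting rules for words in a frame.
-/

set_option autoImplicit false
set_option linter.unusedSectionVars false
set_option linter.unusedVariables false
set_option linter.unusedSimpArgs false

namespace Cfsg.Agent.Helper41.XS

open Matrix Cfsg Cfsg.Geo
open Cfsg.Agent.Helper43.XS

variable {F : Type*} [Field F]

local notation "Mat" => Matrix (Fin 2 ⊕ Fin 2) (Fin 2 ⊕ Fin 2) F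
local notation "GLn" => GL (Fin 2 ⊕ Fin 2) F
local notation "Vec" => (Fin 2 ⊕ Fin 2 → F)

theorem frame_sq' {S : Fin 4 → GLn} (hS : IsFrame S) (i : Fin 4) (x : GLn) :
    S i * (S i * x) = x := by
  rw [← mul_assoc, hS.sq, one_mul]

theorem frame_swap' {S : Fin 4 → GLn} (hS : IsFrame S) (i j : Fin 4) (h : i ≠ j) (x : GLn) :
    S i * (S j * x) = -(S j * (S i * x)) := by
  rw [← mul_assoc, hS.anti i j h, neg_mul, mul_assoc]

/-- (F5) the five involutions `S₀,…,S₃,S₀S₁S₂S₃` pairwise anticommute -/
theorem five_of_frame {S : Fin 4 → GLn} (hS : IsFrame S) :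
    (∀ i : Fin 5, ext5 S i * ext5 S i = 1) ∧
      ∀ i j : Fin 5, i ≠ j → ext5 S i * ext5 S j = -(ext5 S j * ext5 S i) := by
  have s0 := hS.sq 0
  have s1 := hS.sq 1
  have s2 := hS.sq 2
  have s3 := hS.sq 3
  have s0' := frame_sq' hS 0
  have s1' := frame_sq' hS 1
  have s2' := frame_sq' hS 2
  have s3' := frame_sq' hS 3
  have h10 := hS.anti 1 0 (by decide)
  have h20 := hS.anti 2 0 (by decide)
  have h30 := hS.anti 3 0 (by decide)
  have h21 := hS.anti 2 1 (by decide)
  have h31 := hS.anti 3 1 (by decide)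
  have h32 := hS.anti 3 2 (by decide)
  have h10' := frame_swap' hS 1 0 (by decide)
  have h20' := frame_swap' hS 2 0 (by decide)
  have h30' := frame_swap' hS 3 0 (by decide)
  have h21' := frame_swap' hS 2 1 (by decide)
  have h31' := frame_swap' hS 3 1 (by decide)
  have h32' := frame_swap' hS 3 2 (by decide)
  have e0 := ext5_zero S
  have e1 := ext5_one S
  have e2 := ext5_two S
  have e3 := ext5_three S
  have e4 := ext5_four S
  constructor
  · intro i
    fin_cases i <;>
      simp only [Fin.zero_eta, Fin.mk_one, Fin.reduceFinMk, e0, e1, e2, e3, e4, S5, mul_assoc,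
        s0, s1, s2, s3, s0', s1', s2', s3', h10, h20, h30, h21, h31, h32,
        h10', h20', h30', h21', h31', h32', neg_mul, mul_neg, neg_neg, mul_one, one_mul]
  · intro i j hij
    fin_cases i <;> fin_cases j <;>
      first
      | exact absurd rfl hij
      | simp only [Fin.zero_eta, Fin.mk_one, Fin.reduceFinMk, e0, e1, e2, e3, e4, S5, mul_assoc,
          s0, s1, s2, s3, s0', s1', s2', s3', h10, h20, h30, h21, h31, h32,
          h10', h20', h30', h21', h31', h32', neg_mul, mul_neg, neg_neg, mul_one, one_mul]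

end Cfsg.Agent.Helper41.XS
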