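import Mathlib
import Cfsg.Agent.Helper43.XS.Defs
import Cfsg.Agent.Helper41.XSF5

/-!
# (L1) of #8578 for helper43 (S6002): the sixteen products of a frame are linearly independent
(helper41)
-/

set_option autoImplicit false
set_option linter.unusedSectionVars false
set_option linter.unusedVariables false
set_option linter.unusedSimpArgs false

namespace Cfsg.Agent.Helper41.XS

open Matrix Cfsg Cfsg.Geo
open Cfsg.Agent.Helper43.XS

variable {F : Type*} [Field F]

local notation "Mat" => Matrix (Fin 2 ⊕ Fin 2) (Fin 2 ⊕ Fin 2) F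
local notation "GLn" => GL (Fin 2 ⊕ Fin 2) F
local notation "Vec" => (Fin 2 ⊕ Fin 2 → F)

/-- the sign (`true` = `-1`) picked up by `S k` when it is moved through `prodW S w` -/
def sgnK : Fin 4 → (Fin 4 → Bool) → Bool
  | 0, w => xor (w 1) (xor (w 2) (w 3))
  | 1, w => xor (w 0) (xor (w 2) (w 3))
  | 2, w => xor (w 0) (xor (w 1) (w 3))
  | 3, w => xor (w 0) (xor (w 1) (w 2))

/-- distinct words have distinct sign patterns -/
theorem exists_sgnK_ne : ∀ w w' : Fin 4 → Bool, w ≠ w' → ∃ k, sgnK k w ≠ sgnK k w' := by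
  decide

/-- moving `S k` through `prodW S w` -/
theorem mul_prodW {S : Fin 4 → GLn} (hS : IsFrame S) (k : Fin 4) (w : Fin 4 → Bool) :
    S k * prodW S w = if sgnK k w then -(prodW S w * S k) else prodW S w * S k := by
  have s0 := hS.sq 0
  have s1 := hS.sq 1
  have s2 := hS.sq 2
  have s3 := hS.sq 3
  have s0' := frame_sq' hS 0
  have s1' := frame_sq' hS 1
  have s2' := frame_sq' hS 2
  have s3' := frame_sq' hS 3
  have h10 := hS.anti 1 0 (by decide)
  have h20 := hS.anti 2 0 (by decide)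
  have h30 := hS.anti 3 0 (by decide)
  have h21 := hS.anti 2 1 (by decide)
  have h31 := hS.anti 3 1 (by decide)
  have h32 := hS.anti 3 2 (by decide)
  have h10' := frame_swap' hS 1 0 (by decide)
  have h20' := frame_swap' hS 2 0 (by decide)
  have h30' := frame_swap' hS 3 0 (by decide)
  have h21' := frame_swap' hS 2 1 (by decide)
  have h31' := frame_swap' hS 3 1 (by decide)
  have h32' := frame_swap' hS 3 2 (by decide)
  obtain ⟨b0, hb0⟩ : ∃ b, w 0 = b := ⟨_, rfl⟩
  obtain ⟨b1, hb1⟩ : ∃ b, w 1 = b := ⟨_, rfl⟩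
  obtain ⟨b2, hb2⟩ : ∃ b, w 2 = b := ⟨_, rfl⟩
  obtain ⟨b3, hb3⟩ : ∃ b, w 3 = b := ⟨_, rfl⟩
  fin_cases k <;> rcases b0 <;> rcases b1 <;> rcases b2 <;> rcases b3 <;>
    simp only [Fin.zero_eta, Fin.mk_one, Fin.reduceFinMk, sgnK, prodW, hb0, hb1, hb2, hb3,
      Bool.xor_false, Bool.xor_true, Bool.false_xor, Bool.true_xor, Bool.not_true, Bool.not_false,
      Bool.false_eq_true, if_true, if_false, reduceIte, mul_assoc,
      s0, s1, s2, s3, s0', s1', s2', s3', h10, h20, h30, h21, h31, h32,
      h10', h20', h30', h21', h31', h32', neg_mul, mul_neg, neg_neg, mul_one, one_mul]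

/-- conjugating `prodW S w` by `S k` -/
theorem conj_prodW {S : Fin 4 → GLn} (hS : IsFrame S) (k : Fin 4) (w : Fin 4 → Bool) :
    S k * prodW S w * (S k)⁻¹ = if sgnK k w then -prodW S w else prodW S w := by
  rw [mul_prodW hS k w]
  split_ifs
  · rw [neg_mul, mul_assoc, mul_inv_cancel, mul_one]
  · rw [mul_assoc, mul_inv_cancel, mul_one]

/-- an element that is conjugate to its negative has trace zero -/
theorem trace_eq_zero_of_conj_neg (h2 : (2 : F) ≠ 0) (g x : GLn) (h : g * x * g⁻¹ = -x) :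
    Matrix.trace (x : Mat) = 0 := by
  have h1 : Matrix.trace ((g * x * g⁻¹ : GLn) : Mat) = Matrix.trace (x : Mat) := by
    rw [Units.val_mul, Units.val_mul]
    exact Matrix.trace_units_conj g (x : Mat)
  rw [h, val_neg_GL, Matrix.trace_neg] at h1
  have h3 : (2 : F) * Matrix.trace (x : Mat) = 0 := by
    rw [two_mul]
    nth_rewrite 1 [← h1]
    exact neg_add_cancel _
  rcases mul_eq_zero.mp h3 with h4 | h4
  · exact absurd h4 h2
  · exact h4

/-- the trace form separates the products -/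
theorem trace_prodW_mul_inv (h2 : (2 : F) ≠ 0) {S : Fin 4 → GLn} (hS : IsFrame S)
    (w w' : Fin 4 → Bool) (hne : w ≠ w') :
    Matrix.trace (((prodW S w * (prodW S w')⁻¹ : GLn)) : Mat) = 0 := by
  obtain ⟨k, hk⟩ := exists_sgnK_ne w w' hne
  apply trace_eq_zero_of_conj_neg h2 (S k)
  have h1 : S k * (prodW S w * (prodW S w')⁻¹) * (S k)⁻¹ =
      (S k * prodW S w * (S k)⁻¹) * (S k * prodW S w' * (S k)⁻¹)⁻¹ := by
    group
  rw [h1, conj_prodW hS k w, conj_prodW hS k w']
  rcases hb : sgnK k w <;> rcases hb' : sgnK k w' <;> rw [hb, hb'] at hk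
  · exact absurd rfl hk
  · simp only [Bool.false_eq_true, if_false, if_true, inv_neg, mul_neg]
  · simp only [Bool.false_eq_true, if_false, if_true, neg_mul]
  · exact absurd rfl hk

/-- (L1) the sixteen products are linearly independent -/
theorem prodW_linearIndependent (h2 : (2 : F) ≠ 0) {S : Fin 4 → GLn} (hS : IsFrame S) :
    LinearIndependent F (fun w : Fin 4 → Bool => ((prodW S w : GLn) : Mat)) := by
  rw [Fintype.linearIndependent_iff]
  intro c hsum w0
  have h4 : (4 : F) ≠ 0 := by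
    have : (4 : F) = 2 * 2 := by norm_num
    rw [this]; exact mul_ne_zero h2 h2
  have h1 : (∑ w : Fin 4 → Bool, c w • ((prodW S w : GLn) : Mat)) *
      (((prodW S w0)⁻¹ : GLn) : Mat) = 0 := by rw [hsum, zero_mul]
  rw [Finset.sum_mul] at h1
  have h3 := congrArg Matrix.trace h1
  rw [Matrix.trace_sum, Matrix.trace_zero] at h3
  rw [Finset.sum_eq_single w0] at h3
  · rw [Matrix.smul_mul, Matrix.trace_smul, ← Units.val_mul, mul_inv_cancel, Units.val_one,
      Matrix.trace_one, smul_eq_mul] at h3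
    have hcard : ((Fintype.card (Fin 2 ⊕ Fin 2) : ℕ) : F) = 4 := by
      simp
    rw [hcard] at h3
    rcases mul_eq_zero.mp h3 with h5 | h5
    · exact h5
    · exact absurd h5 h4
  · intro w _ hw
    rw [Matrix.smul_mul, Matrix.trace_smul, ← Units.val_mul, trace_prodW_mul_inv h2 hS w w0 hw,
      smul_zero]
  · intro h; exact absurd (Finset.mem_univ w0) h

end Cfsg.Agent.Helper41.XS
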