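import Mathlib
import Cfsg.Agent.Helper43.XS.Defs
import Cfsg.Agent.Helper41.XSL1

/-!
# (L1c) of #8578 for helper43 (S6002): a matrix commuting with a frame is a scalar (helper41)
-/

set_option autoImplicit false
set_option linter.unusedSectionVars false
set_option linter.unusedVariables false

namespace Cfsg.Agent.Helper41.XS

open Matrix Cfsg Cfsg.Geo
open Cfsg.Agent.Helper43.XS

variable {F : Type*} [Field F]

local notation "Mat" => Matrix (Fin 2 ⊕ Fin 2) (Fin 2 ⊕ Fin 2) F
local notation "GLn" => GL (Fin 2 ⊕ Fin 2) F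
local notation "Vec" => (Fin 2 ⊕ Fin 2 → F)

/-- the sixteen products span the matrix algebra -/
theorem span_prodW_eq_top (h2 : (2 : F) ≠ 0) {S : Fin 4 → GLn} (hS : IsFrame S) :
    Submodule.span F (Set.range (fun w : Fin 4 → Bool => ((prodW S w : GLn) : Mat))) = ⊤ := by
  apply LinearIndependent.span_eq_top_of_card_eq_finrank' (prodW_linearIndependent h2 hS)
  rw [Module.finrank_matrix]
  simp

/-- a matrix commuting with a frame commutes with the sixteen products -/
theorem commute_prodW {S : Fin 4 → GLn} (M : Mat)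
    (hM : ∀ i, M * (S i : Mat) = (S i : Mat) * M) (w : Fin 4 → Bool) :
    M * ((prodW S w : GLn) : Mat) = ((prodW S w : GLn) : Mat) * M := by
  have hA : ∀ (i : Fin 4) (b : Bool), Commute M (((if b then S i else 1 : GLn)) : Mat) := by
    intro i b
    cases b
    · simp only [Bool.false_eq_true, if_false, Units.val_one]
      exact Commute.one_right M
    · simp only [if_true]
      exact hM i
  unfold prodW
  rw [Units.val_mul, Units.val_mul, Units.val_mul]
  exact (((hA 0 (w 0)).mul_right (hA 1 (w 1))).mul_right (hA 2 (w 2))).mul_right (hA 3 (w 3))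

/-- (L1c) a matrix commuting with a frame is a scalar -/
theorem scalar_of_commute_frame (h2 : (2 : F) ≠ 0) {S : Fin 4 → GLn} (hS : IsFrame S) (M : Mat)
    (hM : ∀ i, M * (S i : Mat) = (S i : Mat) * M) : ∃ c : F, M = c • (1 : Mat) := by
  have hall : ∀ N : Mat, M * N = N * M := by
    intro N
    have hN : N ∈ Submodule.span F
        (Set.range (fun w : Fin 4 → Bool => ((prodW S w : GLn) : Mat))) := by
      rw [span_prodW_eq_top h2 hS]; trivial
    induction hN using Submodule.span_induction with
    | mem x hx =>
      obtain ⟨w, rfl⟩ := hx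
      exact commute_prodW M hM w
    | zero => rw [mul_zero, zero_mul]
    | add x y _ _ hx hy => rw [mul_add, add_mul, hx, hy]
    | smul a x _ hx => rw [Matrix.mul_smul, Matrix.smul_mul, hx]
  have hmem : M ∈ Set.range (Matrix.scalar (Fin 2 ⊕ Fin 2)) := by
    rw [Matrix.mem_range_scalar_iff_commute_single']
    intro i j
    exact (hall _).symm
  obtain ⟨c, hc⟩ := hmem
  refine ⟨c, ?_⟩
  rw [← hc, Matrix.scalar_apply, Matrix.smul_one_eq_diagonal]

end Cfsg.Agent.Helper41.XS
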